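import Groth.Agent.H25.LocalLift
import Mathlib.RingTheory.RingHom.Unramified
import Mathlib.RingTheory.Kaehler.Basic
import Mathlib.AlgebraicGeometry.Morphisms.FormallyUnramified

set_option autoImplicit false
universe u
open CategoryTheory CategoryTheory.Limits AlgebraicGeometry TopologicalSpace TensorProduct

namespace Groth.Agent.H25

theorem lift_unique_of_formallyUnramified {R A B B' : Type*} [CommRing R] [CommRing A] [CommRing B]
    [CommRing B'] (s : R →+* A) (hs : s.FormallyUnramified) (φ : B' →+* B)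
    (hker : IsNilpotent (RingHom.ker φ))
    (c₁ c₂ : A →+* B') (h : φ.comp c₁ = φ.comp c₂) (h' : c₁.comp s = c₂.comp s) : c₁ = c₂ := by
  let := s.toAlgebra
  let := (c₁.comp s).toAlgebra
  have : Algebra.FormallyUnramified R A := hs
  let g₁ : A →ₐ[R] B' := ⟨c₁, fun r => rfl⟩
  let g₂ : A →ₐ[R] B' := ⟨c₂, fun r => (congrFun (congrArg DFunLike.coe h') r).symm⟩
  have := Algebra.FormallyUnramified.lift_unique_of_ringHom φ hker g₁ g₂ h
  ext z
  exact congrFun (congrArg DFunLike.coe this) z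

theorem formallyUnramified_of_lift_unique {R A : Type u} [CommRing R] [CommRing A] [IsLocalRing A]
    (s : R →+* A)
    (H : ∀ (B' : Type u) [CommRing B'] [IsLocalRing B'] (φ : B' →+* A), Function.Surjective φ →
      RingHom.ker φ ^ 2 = ⊥ → ∀ (b : R →+* B'), φ.comp b = s →
      ∀ c₁ c₂ : A →+* B', φ.comp c₁ = RingHom.id A → c₁.comp s = b →
        φ.comp c₂ = RingHom.id A → c₂.comp s = b → c₁ = c₂) : s.FormallyUnramified := by
  let := s.toAlgebra
  change Algebra.FormallyUnramified R A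
  let J : Ideal (A ⊗[R] A) := KaehlerDifferential.ideal R A
  let m : A ⊗[R] A →ₐ[R] A := Algebra.TensorProduct.lmul' R
  let B' := (A ⊗[R] A) ⧸ J ^ 2
  let φ : B' →+* A := Ideal.Quotient.lift (J ^ 2) m.toRingHom (fun a ha => by
    have : a ∈ J := Ideal.pow_le_self two_ne_zero ha
    exact this)
  have hφmk : ∀ t, φ (Ideal.Quotient.mk _ t) = m t := fun t => Ideal.Quotient.lift_mk _ _ _
  have hm : ∀ a b : A, m (a ⊗ₜ[R] b) = a * b := fun a b =>
    Algebra.TensorProduct.lmul'_apply_tmul a b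
  have hφs : Function.Surjective φ := by
    intro a
    exact ⟨Ideal.Quotient.mk _ (a ⊗ₜ 1), by rw [hφmk, hm, mul_one]⟩
  have hkerφ : RingHom.ker φ = J.map (Ideal.Quotient.mk (J ^ 2)) :=
    Ideal.ker_quotient_lift _ _
  have hker2 : RingHom.ker φ ^ 2 = ⊥ := by
    rw [hkerφ, ← Ideal.map_pow, Ideal.map_quotient_self]
  have hloc : IsLocalRing B' := isLocalRing_of_surjective_of_isNilpotent_ker φ hφs ⟨2, hker2⟩
  let c₁ : A →+* B' := (Ideal.Quotient.mk (J ^ 2)).comp
    (Algebra.TensorProduct.includeLeft : A →ₐ[R] A ⊗[R] A).toRingHom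
  let c₂ : A →+* B' := (Ideal.Quotient.mk (J ^ 2)).comp
    (Algebra.TensorProduct.includeRight : A →ₐ[R] A ⊗[R] A).toRingHom
  have h12 : c₁ = c₂ := by
    refine H B' φ hφs hker2 (c₁.comp s) ?_ c₁ c₂ ?_ rfl ?_ ?_
    · ext r
      change φ (Ideal.Quotient.mk _ ((s r) ⊗ₜ[R] (1 : A))) = s r
      rw [hφmk, hm, mul_one]
    · ext a
      change φ (Ideal.Quotient.mk _ (a ⊗ₜ[R] (1 : A))) = a
      rw [hφmk, hm, mul_one]
    · ext a
      change φ (Ideal.Quotient.mk _ ((1 : A) ⊗ₜ[R] a)) = a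
      rw [hφmk, hm, one_mul]
    · ext r
      simp only [c₁, c₂, RingHom.comp_apply]
      congr 1
      change (1 : A) ⊗ₜ[R] (algebraMap R A r) = (algebraMap R A r) ⊗ₜ[R] (1 : A)
      rw [Algebra.algebraMap_eq_smul_one, TensorProduct.tmul_smul, TensorProduct.smul_tmul']
  constructor
  have hD : ∀ a : A, KaehlerDifferential.D R A a = 0 := by
    intro a
    rw [KaehlerDifferential.D_apply]
    refine (Ideal.toCotangent_eq_zero (KaehlerDifferential.ideal R A) _).2 ?_
    have h1 : c₂ a = c₁ a := by rw [h12]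
    have h2 : Ideal.Quotient.mk (J ^ 2) ((1 : A) ⊗ₜ[R] a) =
        Ideal.Quotient.mk (J ^ 2) (a ⊗ₜ[R] (1 : A)) := h1
    rw [Ideal.Quotient.eq] at h2
    exact h2
  have htop : (⊤ : Submodule A Ω[A⁄R]) = ⊥ := by
    rw [← KaehlerDifferential.span_range_derivation, Submodule.span_eq_bot]
    rintro _ ⟨a, rfl⟩
    exact hD a
  exact (Submodule.subsingleton_iff A).1 (subsingleton_iff_bot_eq_top.1 htop.symm)

end Groth.Agent.H25

namespace Groth.Agent.H25
open AlgebraicGeometry

lemma formallyUnramified_stalkMap_iff {X Y : Scheme.{u}} {f : X ⟶ Y} {x : X} (U : Y.Opens)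
      (hU : IsAffineOpen U) (V : X.Opens) (hV : IsAffineOpen V) (hVU : V ≤ f ⁻¹ᵁ U)
      (hx : x ∈ V) :
    letI := (f.appLE U V hVU).hom.toAlgebra
    (f.stalkMap x).hom.FormallyUnramified ↔
      hV.primeIdealOf ⟨x, hx⟩ ∈ Algebra.unramifiedLocus Γ(Y, U) Γ(X, V) := by
  let := (f.appLE U V hVU).hom.toAlgebra
  let p := (hU.primeIdealOf ⟨f x, hVU hx⟩).asIdeal
  let q := (hV.primeIdealOf ⟨x, hx⟩).asIdeal
  have : q.LiesOver p :=
    ⟨congr($(IsAffineOpen.comap_primeIdealOf_appLE U hU V hV hVU hx).1).symm⟩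
  let := Localization.AtPrime.algebraOfLiesOver p q
  trans Algebra.FormallyUnramified (Localization.AtPrime p) (Localization.AtPrime q)
  · rw [← RingHom.formallyUnramified_algebraMap]
    exact RingHom.FormallyUnramified.respectsIso.arrow_mk_iso_iff
      (IsAffineOpen.arrowStalkMapIso f U hU V hV hVU hx)
  · constructor
    · intro h
      have : Algebra.FormallyUnramified Γ(Y, U) (Localization.AtPrime p) :=
        Algebra.FormallyUnramified.of_isLocalization p.primeCompl
      exact Algebra.FormallyUnramified.comp Γ(Y, U) (Localization.AtPrime p) _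
    · intro h
      have : Algebra.FormallyUnramified Γ(Y, U) (Localization.AtPrime q) := h
      exact Algebra.FormallyUnramified.of_restrictScalars Γ(Y, U) _ _

end Groth.Agent.H25

namespace Groth.Agent.H25
open AlgebraicGeometry

lemma formallyUnramified_of_stalkMap {X Y : Scheme.{u}} (f : X ⟶ Y)
    (H : ∀ x, (f.stalkMap x).hom.FormallyUnramified) : FormallyUnramified f :=
  HasRingHomProperty.of_stalkMap RingHom.FormallyUnramified.ofLocalizationPrime H

lemma formallyUnramified_stalkMap_ι_comp_iff {X Y : Scheme.{u}} (f : X ⟶ Y) (W : X.Opens)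
    (w : W.toScheme) :
    ((W.ι ≫ f).stalkMap w).hom.FormallyUnramified ↔
      (f.stalkMap (W.ι w)).hom.FormallyUnramified := by
  refine Iff.trans ?_ (RingHom.FormallyUnramified.respectsIso.cancel_right_isIso
    (f.stalkMap (W.ι w)) (W.ι.stalkMap w))
  rw [← CommRingCat.hom_comp, ← Scheme.Hom.stalkMap_comp]
  exact Iff.rfl

lemma exists_formallyUnramified_nhd_iff {X Y : Scheme.{u}} (f : X ⟶ Y) [LocallyOfFiniteType f]
    (x : X) :
    (∃ U : X.Opens, x ∈ U ∧ FormallyUnramified (U.ι ≫ f)) ↔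
      (f.stalkMap x).hom.FormallyUnramified := by
  constructor
  · rintro ⟨U, hxU, hU⟩
    have := FormallyUnramified.stalkMap (U.ι ≫ f) ⟨x, hxU⟩
    exact (formallyUnramified_stalkMap_ι_comp_iff f U ⟨x, hxU⟩).1 this
  · intro H
    obtain ⟨_, ⟨U, hU, rfl⟩, hxU, -⟩ :=
      Y.isBasis_affineOpens.exists_subset_of_mem_open (Set.mem_univ (f x)) isOpen_univ
    obtain ⟨_, ⟨V, hV, rfl⟩, hxV, hVU⟩ :=
      X.isBasis_affineOpens.exists_subset_of_mem_open hxU (U.2.preimage f.continuous)
    have hft := f.finiteType_appLE hU hV hVU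
    algebraize [(f.appLE U V hVU).hom]
    let L : (Spec Γ(X, V)).Opens := ⟨Algebra.unramifiedLocus Γ(Y, U) Γ(X, V),
      Algebra.isOpen_unramifiedLocus⟩
    refine ⟨hV.fromSpec ''ᵁ L, ?_, ?_⟩
    · refine ⟨hV.primeIdealOf ⟨x, hxV⟩, ?_, hV.fromSpec_primeIdealOf ⟨x, hxV⟩⟩
      exact (formallyUnramified_stalkMap_iff U hU V hV hVU hxV).1 H
    · apply formallyUnramified_of_stalkMap
      intro w
      rw [formallyUnramified_stalkMap_ι_comp_iff]
      obtain ⟨q, hqL, hqw⟩ := w.2
      have hwV : (hV.fromSpec ''ᵁ L).ι w ∈ V := by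
        change w.1 ∈ V
        rw [← hqw]
        have : hV.fromSpec q ∈ hV.fromSpec.opensRange := ⟨q, rfl⟩
        rwa [hV.opensRange_fromSpec] at this
      rw [formallyUnramified_stalkMap_iff U hU V hV hVU hwV]
      have : hV.primeIdealOf ⟨_, hwV⟩ = q := by
        apply hV.fromSpec.isOpenEmbedding.injective
        rw [hV.fromSpec_primeIdealOf]
        exact hqw.symm
      rw [this]
      exact hqL

end Groth.Agent.H25

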