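import Mathlib
import Groth.Agent.H7.EtaleFlat
import Groth.Agent.H7.LocalStd
import Groth.Agent.H25.LocalLiftUnram

set_option autoImplicit false
universe u
open scoped TensorProduct
open CategoryTheory CategoryTheory.Limits AlgebraicGeometry

namespace Groth.Agent.H25.EtaleAt

section ring

variable (R S : Type u) [CommRing R] [CommRing S] [Algebra R S]

/-- `S` finitely presented over `R`, flat and unramified at the prime `q`: then étale at `q`. -/
theorem isEtaleAt_of_flat_of_isUnramifiedAt [Algebra.FinitePresentation R S]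
    (q : Ideal S) [q.IsPrime] (hfl : Module.Flat R (Localization.AtPrime q))
    (hun : Algebra.IsUnramifiedAt R q) : Algebra.IsEtaleAt R q := by
  obtain ⟨f, hfq, P, φ, hφ⟩ :=
    Algebra.IsUnramifiedAt.exists_hasStandardEtaleSurjectionOn (R := R) q
  let Sq := Localization.AtPrime q
  have hfu : IsUnit (algebraMap S Sq f) :=
    IsLocalization.map_units Sq (⟨f, hfq⟩ : q.primeCompl)
  let l : Localization.Away f →+* Sq := IsLocalization.Away.lift f hfu
  have hl : ∀ s : S, l (algebraMap S (Localization.Away f) s) = algebraMap S Sq s :=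
    fun s => IsLocalization.Away.lift_eq f hfu s
  let ψ : P.Ring →+* Sq := l.comp (φ : P.Ring →+* Localization.Away f)
  letI aA : Algebra P.Ring Sq := ψ.toAlgebra
  have hψR : ∀ r : R, ψ (algebraMap R P.Ring r) = algebraMap R Sq r := by
    intro r
    change l (φ (algebraMap R P.Ring r)) = _
    rw [φ.commutes, IsScalarTower.algebraMap_apply R S (Localization.Away f), hl,
      ← IsScalarTower.algebraMap_apply]
  haveI tow : IsScalarTower R P.Ring Sq := IsScalarTower.of_algebraMap_eq fun r => (hψR r).symm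
  -- `Sq` is flat over the standard étale algebra
  haveI hflA : Module.Flat P.Ring Sq := Groth.Agent.H7.flat_of_flat_of_formallyUnramified (R := R) Sq
  -- every element of `S` comes from `P.Ring` up to a power of `f`
  have hlift : ∀ s : S, ∃ c : P.Ring, φ c = algebraMap S (Localization.Away f) s := fun s => hφ _
  -- the prime of `P.Ring`
  let q' : Ideal P.Ring := (IsLocalRing.maximalIdeal Sq).comap ψ
  haveI : q'.IsPrime := Ideal.comap_isPrime ψ _
  have hunit : ∀ b : P.Ring, b ∉ q' → IsUnit (ψ b) := by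
    intro b hb
    by_contra h
    exact hb ((IsLocalRing.mem_maximalIdeal _).mpr h)
  -- key: elements killed in `Sq` are killed by some element outside `q'`
  have hkey : ∀ a : P.Ring, ψ a = 0 → ∃ t : P.Ring, t ∉ q' ∧ t * a = 0 := by
    intro a ha
    have hrel : ∑ i : Fin 1, (fun _ => a) i • (fun _ => (1 : Sq)) i = 0 := by
      simp only [Finset.univ_unique, Finset.sum_singleton]
      rw [Algebra.smul_def, mul_one]
      exact ha
    obtain ⟨k, b, y, hy, hb⟩ := Module.Flat.iff_forall_isTrivialRelation.mp hflA hrel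
    have h1 : (1 : Sq) = ∑ j, b 0 j • y j := hy 0
    have h2 : ∃ j, IsUnit (b 0 j • y j) := by
      by_contra hcon
      rw [not_exists] at hcon
      have : (∑ j, b 0 j • y j) ∈ IsLocalRing.maximalIdeal Sq :=
        Ideal.sum_mem _ fun j _ => (IsLocalRing.mem_maximalIdeal _).mpr (hcon j)
      rw [← h1] at this
      exact (IsLocalRing.maximalIdeal.isMaximal Sq).ne_top ((Ideal.eq_top_iff_one _).mpr this)
    obtain ⟨j, hj⟩ := h2
    refine ⟨b 0 j, ?_, ?_⟩
    · intro hmem
      have hmem' : ψ (b 0 j) ∈ IsLocalRing.maximalIdeal Sq := hmem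
      rw [Algebra.smul_def] at hj
      exact (IsLocalRing.mem_maximalIdeal _).mp hmem' (isUnit_of_mul_isUnit_left hj)
    · have := hb j
      simp only [Finset.univ_unique, Finset.sum_singleton] at this
      rw [mul_comm]
      exact this
  -- `Sq` is the localization of `P.Ring` at `q'`
  haveI hloc : IsLocalization.AtPrime Sq q' := by
    refine ⟨fun b => hunit b.1 b.2, ?_, ?_⟩
    · intro z
      obtain ⟨⟨s₁, s₂⟩, hz⟩ := IsLocalization.surj q.primeCompl z
      obtain ⟨c₁, hc₁⟩ := hlift s₁
      obtain ⟨c₂, hc₂⟩ := hlift s₂.1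
      have hψ1 : ψ c₁ = algebraMap S Sq s₁ := by
        change l (φ c₁) = _; rw [hc₁, hl]
      have hψ2 : ψ c₂ = algebraMap S Sq s₂.1 := by
        change l (φ c₂) = _; rw [hc₂, hl]
      have hc₂q : c₂ ∉ q' := by
        intro hmem
        have hmem' : ψ c₂ ∈ IsLocalRing.maximalIdeal Sq := hmem
        rw [hψ2] at hmem'
        exact (IsLocalRing.mem_maximalIdeal _).mp hmem' (IsLocalization.map_units Sq s₂)
      refine ⟨(c₁, ⟨c₂, hc₂q⟩), ?_⟩
      change z * ψ c₂ = ψ c₁
      rw [hψ1, hψ2]
      exact hz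
    · intro a a' haa'
      have h0 : ψ (a - a') = 0 := by
        rw [map_sub]; exact sub_eq_zero.mpr haa'
      obtain ⟨t, ht, hta⟩ := hkey _ h0
      refine ⟨⟨t, ht⟩, ?_⟩
      change t * a = t * a'
      rw [mul_sub] at hta
      exact sub_eq_zero.mp hta
  haveI : Algebra.FormallyEtale P.Ring Sq := Algebra.FormallyEtale.of_isLocalization q'.primeCompl
  exact Algebra.FormallyEtale.comp R P.Ring Sq

end ring

section scheme

theorem flat_localization_of_flat_stalkMap {X Y : Scheme.{u}} {f : X ⟶ Y} {x : X} (U : Y.Opens)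
    (hU : IsAffineOpen U) (V : X.Opens) (hV : IsAffineOpen V) (hVU : V ≤ f ⁻¹ᵁ U)
    (hx : x ∈ V) (h : (f.stalkMap x).hom.Flat) :
    letI := (f.appLE U V hVU).hom.toAlgebra
    Module.Flat Γ(Y, U) (Localization.AtPrime (hV.primeIdealOf ⟨x, hx⟩).asIdeal) := by
  let _ := (f.appLE U V hVU).hom.toAlgebra
  let p := (hU.primeIdealOf ⟨f x, hVU hx⟩).asIdeal
  let q := (hV.primeIdealOf ⟨x, hx⟩).asIdeal
  have : q.LiesOver p :=
    ⟨congr($(IsAffineOpen.comap_primeIdealOf_appLE U hU V hV hVU hx).1).symm⟩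
  let _ := Localization.AtPrime.algebraOfLiesOver p q
  have h1 : Module.Flat (Localization.AtPrime p) (Localization.AtPrime q) := by
    have h2 : (algebraMap (Localization.AtPrime p) (Localization.AtPrime q)).Flat :=
      (RingHom.Flat.respectsIso.arrow_mk_iso_iff
        (IsAffineOpen.arrowStalkMapIso f U hU V hV hVU hx)).mp h
    exact h2
  exact Module.Flat.trans Γ(Y, U) (Localization.AtPrime p) (Localization.AtPrime q)

/-- a morphism locally of finite presentation whose stalk map at `x` is flat and formally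
unramified is étale on a neighbourhood of `x` -/
theorem exists_etale_nhd_of_stalkMap {X Y : Scheme.{u}} (f : X ⟶ Y) [LocallyOfFinitePresentation f]
    (x : X) (h1 : (f.stalkMap x).hom.Flat) (h2 : (f.stalkMap x).hom.FormallyUnramified) :
    ∃ U : X.Opens, x ∈ U ∧ Etale (U.ι ≫ f) := by
  obtain ⟨_, ⟨V, hV, rfl⟩, hxV, -⟩ :=
    Y.isBasis_affineOpens.exists_subset_of_mem_open (Set.mem_univ (f x)) isOpen_univ
  obtain ⟨_, ⟨W, hW, rfl⟩, hxW, hWV⟩ :=
    X.isBasis_affineOpens.exists_subset_of_mem_open (show x ∈ f ⁻¹ᵁ V from hxV)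
      (V.2.preimage f.continuous)
  have hfp := f.finitePresentation_appLE hV hW hWV
  algebraize [(f.appLE V W hWV).hom]
  let q := (hW.primeIdealOf ⟨x, hxW⟩).asIdeal
  have hfl : Module.Flat Γ(Y, V) (Localization.AtPrime q) :=
    flat_localization_of_flat_stalkMap V hV W hW hWV hxW h1
  have hun : Algebra.IsUnramifiedAt Γ(Y, V) q :=
    (Groth.Agent.H25.formallyUnramified_stalkMap_iff V hV W hW hWV hxW).mp h2
  have het : Algebra.IsEtaleAt Γ(Y, V) q := isEtaleAt_of_flat_of_isUnramifiedAt _ _ q hfl hun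
  obtain ⟨s, hsq, hs⟩ := Algebra.exists_etale_of_isEtaleAt (R := Γ(Y, V)) q
  let D : X.Opens := X.basicOpen s
  have hD : IsAffineOpen D := hW.basicOpen s
  have hDW : D ≤ W := X.basicOpen_le s
  have hxD : x ∈ D := (Groth.Agent.H7.mem_basicOpen_iff_notMem_primeIdealOf hW x hxW s).mpr hsq
  have hloc : IsLocalization.Away s Γ(X, D) := hW.isLocalization_basicOpen s
  have hDV : D ≤ f ⁻¹ᵁ V := hDW.trans hWV
  refine ⟨D, hxD, Groth.Agent.H7.etale_ι_comp_of_etale_appLE f V hV D hD hDV ?_⟩
  let e : Localization.Away s ≃ₐ[Γ(X, W)] Γ(X, D) :=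
    IsLocalization.algEquiv (Submonoid.powers s) (Localization.Away s) Γ(X, D)
  have hcomp : (f.appLE V D hDV).hom =
      e.toRingEquiv.toRingHom.comp (algebraMap Γ(Y, V) (Localization.Away s)) := by
    ext r
    change _ = e (algebraMap Γ(Y, V) (Localization.Away s) r)
    rw [IsScalarTower.algebraMap_apply Γ(Y, V) Γ(X, W) (Localization.Away s), e.commutes]
    change _ = (X.presheaf.map (homOfLE hDW).op).hom ((f.appLE V W hWV).hom r)
    rw [← CommRingCat.comp_apply, Scheme.Hom.appLE_map]
  rw [hcomp]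
  exact RingHom.Etale.respectsIso.1 _ e.toRingEquiv (RingHom.etale_algebraMap.mpr hs)

end scheme

end Groth.Agent.H25.EtaleAt
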