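import Mathlib

set_option autoImplicit false
universe u
open scoped TensorProduct
open TensorProduct

namespace Groth.Agent.H25.FlatBCpt

open Algebra in
/-- pointwise base change of flatness: if `A_q` is flat over `R` then `(T ⊗_R A)_Q` is flat over `T`
for every prime `Q` over `q`. -/
theorem flat_localization_of_isPushout {R A T A' : Type u} [CommRing R] [CommRing A] [CommRing T]
    [CommRing A'] [Algebra R A] [Algebra R T] [Algebra T A'] [Algebra A A'] [Algebra R A']
    [IsScalarTower R T A'] [IsScalarTower R A A'] [Algebra.IsPushout R T A A']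
    (Q : Ideal A') [Q.IsPrime] (q : Ideal A) [q.IsPrime] [Q.LiesOver q]
    [Module.Flat R (Localization.AtPrime q)] : Module.Flat T (Localization.AtPrime Q) := by
  let Aq := Localization.AtPrime q
  let A'S := Localization (algebraMapSubmonoid A' q.primeCompl)
  let A'Q := Localization.AtPrime Q
  have t1 : IsScalarTower R Aq A'S := .to₁₃₄ R A Aq A'S
  have hP1 : Algebra.IsPushout A A' Aq A'S := Algebra.isPushout_of_isLocalization q.primeCompl Aq A' A'S
  have hP1' : Algebra.IsPushout A Aq A' A'S := hP1.symm
  have hP0 : Algebra.IsPushout R A T A' := Algebra.IsPushout.symm inferInstance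
  have hP2 : Algebra.IsPushout R Aq T A'S := (Algebra.IsPushout.comp_iff (R := R) (S := A) (T := Aq)
    (R' := T) (S' := A') (T' := A'S)).mpr hP1'
  have hP3 : Algebra.IsPushout R T Aq A'S := hP2.symm
  have hflat1 : Module.Flat T A'S := Module.Flat.isBaseChange R T Aq A'S hP3.out
  let f : A'S →ₐ[A'] A'Q := IsLocalization.liftAlgHom (M := algebraMapSubmonoid A' q.primeCompl)
        (f := Algebra.ofId _ _) (by
      rintro ⟨_, x, hx, rfl⟩
      simpa using! IsLocalization.map_units (M := Q.primeCompl) A'Q ⟨algebraMap _ _ x,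
        by simp_all [Q.over_def q]⟩)
  algebraize [f.toRingHom]
  have : IsScalarTower T A'S A'Q := .to₁₃₄ _ A' _ _
  have : IsLocalization (algebraMapSubmonoid A'S Q.primeCompl) A'Q :=
    .isLocalization_of_submonoid_le _ _ (algebraMapSubmonoid A' q.primeCompl) _
    (by rintro _ ⟨x, hx, rfl⟩; simp_all [Q.over_def q])
  have hflat2 : Module.Flat A'S A'Q := IsLocalization.flat A'Q (algebraMapSubmonoid A'S Q.primeCompl)
  exact Module.Flat.trans T A'S A'Q

end Groth.Agent.H25.FlatBCpt
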