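import Mathlib
import Groth.Agent.H25.EtaleAt
import Groth.Agent.H25.FlatBCptRing

set_option autoImplicit false
universe u
open scoped TensorProduct
open CategoryTheory CategoryTheory.Limits AlgebraicGeometry

namespace Groth.Agent.H25.FlatBCpt
open Groth.Agent.H25

theorem flat_stalkMap_of_flat_localization {X Y : Scheme.{u}} {f : X ⟶ Y} {x : X} (U : Y.Opens)
    (hU : IsAffineOpen U) (V : X.Opens) (hV : IsAffineOpen V) (hVU : V ≤ f ⁻¹ᵁ U)
    (hx : x ∈ V)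
    (h : letI := (f.appLE U V hVU).hom.toAlgebra
      Module.Flat Γ(Y, U) (Localization.AtPrime (hV.primeIdealOf ⟨x, hx⟩).asIdeal)) :
    (f.stalkMap x).hom.Flat := by
  let _ := (f.appLE U V hVU).hom.toAlgebra
  let p := (hU.primeIdealOf ⟨f x, hVU hx⟩).asIdeal
  let q := (hV.primeIdealOf ⟨x, hx⟩).asIdeal
  have : q.LiesOver p :=
    ⟨congr($(IsAffineOpen.comap_primeIdealOf_appLE U hU V hV hVU hx).1).symm⟩
  let _ := Localization.AtPrime.algebraOfLiesOver p q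
  have h1 : Module.Flat (Localization.AtPrime p) (Localization.AtPrime q) := by
    rw [Module.flat_iff_of_isLocalization (S := (Localization.AtPrime p)) (p := p.primeCompl)]
    exact h
  have h2 : (algebraMap (Localization.AtPrime p) (Localization.AtPrime q)).Flat := h1
  exact (RingHom.Flat.respectsIso.arrow_mk_iso_iff
    (IsAffineOpen.arrowStalkMapIso f U hU V hV hVU hx)).mpr h2

/-- **pointwise base change of flatness**, scheme form -/
theorem flat_stalkMap_of_isPullback {X' X Y' Y : Scheme.{u}} {g' : X' ⟶ X}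
    {f' : X' ⟶ Y'} {f : X ⟶ Y} {g : Y' ⟶ Y} (H : IsPullback g' f' f g) (x' : X')
    (h : (f.stalkMap (g' x')).hom.Flat) : (f'.stalkMap x').hom.Flat := by
  have hfx : f (g' x') = g (f' x') := by
    rw [← Scheme.Hom.comp_apply, ← Scheme.Hom.comp_apply, H.w]
  obtain ⟨_, ⟨V, hV, rfl⟩, hyV, -⟩ :=
    Y.isBasis_affineOpens.exists_subset_of_mem_open (Set.mem_univ (f (g' x'))) isOpen_univ
  obtain ⟨_, ⟨V', hV', rfl⟩, hyV', hV'V⟩ :=
    Y'.isBasis_affineOpens.exists_subset_of_mem_open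
      (show f' x' ∈ g ⁻¹ᵁ V by change g (f' x') ∈ V; rw [← hfx]; exact hyV)
      (V.2.preimage g.continuous)
  obtain ⟨_, ⟨D, hD, rfl⟩, hxD, hDV⟩ :=
    X.isBasis_affineOpens.exists_subset_of_mem_open (show g' x' ∈ f ⁻¹ᵁ V from hyV)
      (V.2.preimage f.continuous)
  let U₂ : X'.Opens := g' ⁻¹ᵁ D ⊓ f' ⁻¹ᵁ V'
  have huU₂ : x' ∈ U₂ := ⟨hxD, hyV'⟩
  have hU₂ : IsAffineOpen U₂ := by
    have : IsAffine V := hV
    have : IsAffine V' := hV'
    have : IsAffine D := hD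
    exact .of_isIso (Scheme.Hom.isPullback_resLE H hV'V hDV rfl).isoPullback.hom
  have hpush := (isIso_pushoutSection_iff H hV'V hDV (UY := U₂) rfl).mp
    (isIso_pushoutSection_of_isAffineOpen H hV'V hDV rfl hV hV' hD)
  have e₃ : U₂ ≤ g' ⁻¹ᵁ D := inf_le_left
  have e₄ : U₂ ≤ f' ⁻¹ᵁ V' := inf_le_right
  letI aRT : Algebra Γ(Y, V) Γ(Y', V') := (g.appLE V V' hV'V).hom.toAlgebra
  letI aRA : Algebra Γ(Y, V) Γ(X, D) := (f.appLE V D hDV).hom.toAlgebra
  letI aTA' : Algebra Γ(Y', V') Γ(X', U₂) := (f'.appLE V' U₂ e₄).hom.toAlgebra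
  letI aAA' : Algebra Γ(X, D) Γ(X', U₂) := (g'.appLE D U₂ e₃).hom.toAlgebra
  letI aRA' : Algebra Γ(Y, V) Γ(X', U₂) :=
    ((g'.appLE D U₂ e₃).hom.comp (f.appLE V D hDV).hom).toAlgebra
  haveI t1 : IsScalarTower Γ(Y, V) Γ(X, D) Γ(X', U₂) := IsScalarTower.of_algebraMap_eq' rfl
  haveI t2 : IsScalarTower Γ(Y, V) Γ(Y', V') Γ(X', U₂) := by
    refine IsScalarTower.of_algebraMap_eq' ?_
    have := congrArg CommRingCat.Hom.hom hpush.w
    exact this
  haveI hP : Algebra.IsPushout Γ(Y, V) Γ(Y', V') Γ(X, D) Γ(X', U₂) :=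
    CommRingCat.isPushout_iff_isPushout.mp hpush.flip
  let Q : Ideal Γ(X', U₂) := (hU₂.primeIdealOf ⟨x', huU₂⟩).asIdeal
  let q : Ideal Γ(X, D) := (hD.primeIdealOf ⟨g' x', hxD⟩).asIdeal
  have hq : q = Q.comap (algebraMap Γ(X, D) Γ(X', U₂)) :=
    (congrArg PrimeSpectrum.asIdeal
      (IsAffineOpen.comap_primeIdealOf_appLE D hD U₂ hU₂ e₃ huU₂)).symm
  haveI : Q.LiesOver q := ⟨hq⟩
  haveI hflatR : Module.Flat Γ(Y, V) (Localization.AtPrime q) :=
    EtaleAt.flat_localization_of_flat_stalkMap V hV D hD hDV hxD h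
  have hT : Module.Flat Γ(Y', V') (Localization.AtPrime Q) :=
    flat_localization_of_isPushout (R := Γ(Y, V)) (A := Γ(X, D)) (T := Γ(Y', V'))
      (A' := Γ(X', U₂)) Q q
  exact flat_stalkMap_of_flat_localization V' hV' U₂ hU₂ e₄ huU₂ hT

end Groth.Agent.H25.FlatBCpt
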