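import Mathlib
import Groth.Agent.H25.LocalLiftUnram
import Groth.Agent.H40.FlatDesc

set_option autoImplicit false
universe u
open scoped TensorProduct
open KaehlerDifferential CategoryTheory CategoryTheory.Limits AlgebraicGeometry

namespace Groth.Agent.H25.UnramDescent

section ring

variable (R S R' S' : Type u) [CommRing R] [CommRing S] [CommRing R'] [CommRing S']
  [Algebra R S] [Algebra R R'] [Algebra S S'] [Algebra R' S'] [Algebra R S']
  [IsScalarTower R S S'] [IsScalarTower R R' S']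

/-- pointwise descent of unramifiedness along a flat base change -/
theorem isUnramifiedAt_of_isPushout [Algebra.IsPushout R R' S S'] [Module.Flat R R']
    (Q : Ideal S') [Q.IsPrime] (h : Algebra.IsUnramifiedAt R' Q) :
    Algebra.IsUnramifiedAt R (Q.under S) := by
  set q := Q.under S with hq
  let T := Localization.AtPrime Q
  let Sq := Localization.AtPrime q
  let _ := Localization.AtPrime.algebraOfLiesOver q Q
  -- flatness of S' over S
  have hflat : Module.Flat S S' := by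
    have hp : Algebra.IsPushout R S R' S' := Algebra.IsPushout.symm inferInstance
    exact Module.Flat.isBaseChange R S R' S' hp.out
  have : Module.Flat Sq T := inferInstance
  have : IsLocalHom (algebraMap Sq T) := inferInstance
  have : Module.FaithfullyFlat Sq T := Module.FaithfullyFlat.of_flat_of_isLocalHom
  -- Ω[T/R'] = 0
  have h0 : Subsingleton Ω[T⁄R'] := h.subsingleton_kaehlerDifferential
  have e1 : T ⊗[S'] Ω[S'⁄R'] ≃ₗ[T] Ω[T⁄R'] := tensorKaehlerEquivOfFormallyEtale R' S' T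
  have e2 : S' ⊗[S] Ω[S⁄R] ≃ₗ[S'] Ω[S'⁄R'] := tensorKaehlerEquiv R R' S S'
  have e3 : Sq ⊗[S] Ω[S⁄R] ≃ₗ[Sq] Ω[Sq⁄R] := tensorKaehlerEquivOfFormallyEtale R S Sq
  have h1 : Subsingleton (T ⊗[S'] Ω[S'⁄R']) := e1.toEquiv.subsingleton
  have h2 : Subsingleton (T ⊗[S'] (S' ⊗[S] Ω[S⁄R])) :=
    (TensorProduct.congr (LinearEquiv.refl S' T) e2).toEquiv.subsingleton
  have h3 : Subsingleton (T ⊗[S] Ω[S⁄R]) :=
    (TensorProduct.AlgebraTensorModule.cancelBaseChange S S' T T Ω[S⁄R]).symm.toEquiv.subsingleton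
  have h4 : Subsingleton (T ⊗[Sq] (Sq ⊗[S] Ω[S⁄R])) :=
    (TensorProduct.AlgebraTensorModule.cancelBaseChange S Sq T T Ω[S⁄R]).toEquiv.subsingleton
  have h5 : Subsingleton (T ⊗[Sq] Ω[Sq⁄R]) :=
    (TensorProduct.congr (LinearEquiv.refl Sq T) e3).symm.toEquiv.subsingleton
  exact ⟨Module.FaithfullyFlat.lTensor_reflects_triviality Sq T _⟩

theorem isUnramifiedAt_congr (q q' : Ideal S) [q.IsPrime] [q'.IsPrime] (e : q = q')
    (h : Algebra.IsUnramifiedAt R q) : Algebra.IsUnramifiedAt R q' := by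
  subst e
  exact h

end ring

section scheme

variable {X Y Y' : Scheme.{u}} (f : X ⟶ Y) (g : Y' ⟶ Y)

theorem formallyUnramified_stalkMap_of_pullback [Flat g] (u : ↥(pullback f g))
    (h : ((pullback.snd f g).stalkMap u).hom.FormallyUnramified) :
    (f.stalkMap (pullback.fst f g u)).hom.FormallyUnramified := by
  set p₁ := pullback.fst f g with hp₁
  set p₂ := pullback.snd f g with hp₂
  have hcond : f (p₁ u) = g (p₂ u) := by
    rw [← Scheme.Hom.comp_apply, ← Scheme.Hom.comp_apply, pullback.condition]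
  obtain ⟨_, ⟨V, hV, rfl⟩, hxV, -⟩ :=
    Y.isBasis_affineOpens.exists_subset_of_mem_open (Set.mem_univ (f (p₁ u))) isOpen_univ
  obtain ⟨_, ⟨V', hV', rfl⟩, hyV', hV'V⟩ :=
    Y'.isBasis_affineOpens.exists_subset_of_mem_open
      (show p₂ u ∈ g ⁻¹ᵁ V by change g (p₂ u) ∈ V; rw [← hcond]; exact hxV)
      (V.2.preimage g.continuous)
  obtain ⟨_, ⟨W, hW, rfl⟩, hxW, hWV⟩ :=
    X.isBasis_affineOpens.exists_subset_of_mem_open (show p₁ u ∈ f ⁻¹ᵁ V from hxV)
      (V.2.preimage f.continuous)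
  have H : IsPullback p₁ p₂ f g := IsPullback.of_hasPullback f g
  let UY : (pullback f g).Opens := p₁ ⁻¹ᵁ W ⊓ p₂ ⁻¹ᵁ V'
  have huUY : u ∈ UY := ⟨hxW, hyV'⟩
  have hUY : IsAffineOpen UY := by
    have : IsAffine V := hV
    have : IsAffine V' := hV'
    have : IsAffine W := hW
    exact .of_isIso (Scheme.Hom.isPullback_resLE H hV'V hWV rfl).isoPullback.hom
  have hpush := (isIso_pushoutSection_iff H hV'V hWV (UY := UY) rfl).mp
    (isIso_pushoutSection_of_isAffineOpen H hV'V hWV rfl hV hV' hW)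
  have e₁ : UY ≤ p₁ ⁻¹ᵁ W := inf_le_left
  have e₂ : UY ≤ p₂ ⁻¹ᵁ V' := inf_le_right
  -- the ring-level data
  letI aS : Algebra Γ(Y, V) Γ(X, W) := (f.appLE V W hWV).hom.toAlgebra
  letI aR' : Algebra Γ(Y, V) Γ(Y', V') := (g.appLE V V' hV'V).hom.toAlgebra
  letI aSS' : Algebra Γ(X, W) Γ(pullback f g, UY) := (p₁.appLE W UY e₁).hom.toAlgebra
  letI aR'S' : Algebra Γ(Y', V') Γ(pullback f g, UY) := (p₂.appLE V' UY e₂).hom.toAlgebra
  letI aRS' : Algebra Γ(Y, V) Γ(pullback f g, UY) :=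
    ((p₁.appLE W UY e₁).hom.comp (f.appLE V W hWV).hom).toAlgebra
  have t1 : IsScalarTower Γ(Y, V) Γ(X, W) Γ(pullback f g, UY) :=
    IsScalarTower.of_algebraMap_eq' rfl
  have t2 : IsScalarTower Γ(Y, V) Γ(Y', V') Γ(pullback f g, UY) := by
    refine IsScalarTower.of_algebraMap_eq' ?_
    have := congrArg CommRingCat.Hom.hom hpush.w
    exact this
  have hP : Algebra.IsPushout Γ(Y, V) Γ(Y', V') Γ(X, W) Γ(pullback f g, UY) :=
    CommRingCat.isPushout_iff_isPushout.mp hpush.flip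
  have hfl : Module.Flat Γ(Y, V) Γ(Y', V') :=
    HasRingHomProperty.appLE (P := @Flat) g inferInstance ⟨V, hV⟩ ⟨V', hV'⟩ hV'V
  -- the primes
  have hQ : Algebra.IsUnramifiedAt Γ(Y', V') (hUY.primeIdealOf ⟨u, huUY⟩).asIdeal :=
    (formallyUnramified_stalkMap_iff V' hV' UY hUY e₂ huUY).mp h
  have hq := isUnramifiedAt_of_isPushout Γ(Y, V) Γ(X, W) Γ(Y', V') Γ(pullback f g, UY)
    (hUY.primeIdealOf ⟨u, huUY⟩).asIdeal hQ
  have hcomap : (hUY.primeIdealOf ⟨u, huUY⟩).asIdeal.under Γ(X, W) =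
      (hW.primeIdealOf ⟨p₁ u, hxW⟩).asIdeal :=
    congrArg PrimeSpectrum.asIdeal (IsAffineOpen.comap_primeIdealOf_appLE W hW UY hUY e₁ huUY)
  refine (formallyUnramified_stalkMap_iff V hV W hW hWV hxW).mpr ?_
  change Algebra.IsUnramifiedAt Γ(Y, V) (hW.primeIdealOf ⟨p₁ u, hxW⟩).asIdeal
  exact isUnramifiedAt_congr _ _ _ _ hcomap hq

theorem flat_stalkMap_of_pullback [Flat g] (u : ↥(pullback f g))
    (h : ((pullback.snd f g).stalkMap u).hom.Flat) :
    (f.stalkMap (pullback.fst f g u)).hom.Flat := by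
  have key : ∀ k : pullback f g ⟶ Y, k = pullback.snd f g ≫ g → (k.stalkMap u).hom.Flat := by
    rintro k rfl
    rw [Scheme.Hom.stalkMap_comp]
    exact RingHom.Flat.comp (Flat.stalkMap g _) h
  have h1 := key (pullback.fst f g ≫ f) pullback.condition
  rw [Scheme.Hom.stalkMap_comp] at h1
  have : IsLocalHom ((pullback.fst f g).stalkMap u).hom := (pullback.fst f g).toLRSHom.prop u
  exact Groth.Agent.H40.ringHom_flat_of_comp _ _ (Flat.stalkMap (pullback.fst f g) u) h1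

section cover

variable {ι : Type*} (Y'' : ι → Scheme.{u}) (gg : ∀ a, Y'' a ⟶ Y) [∀ a, Flat (gg a)]
  (U : ∀ a, (pullback f (gg a)).Opens)
  (hcov : ∀ x : X, ∃ a, x ∈ (pullback.fst f (gg a)).base '' (U a : Set ↥(pullback f (gg a))))

include hcov

theorem formallyUnramified_of_cover
    (hU : ∀ a, FormallyUnramified ((U a).ι ≫ pullback.snd f (gg a))) : FormallyUnramified f := by
  apply formallyUnramified_of_stalkMap
  intro x
  obtain ⟨a, u, hu, rfl⟩ := hcov x
  apply formallyUnramified_stalkMap_of_pullback f (gg a) u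
  have := FormallyUnramified.stalkMap ((U a).ι ≫ pullback.snd f (gg a)) ⟨u, hu⟩
  exact (formallyUnramified_stalkMap_ι_comp_iff _ (U a) ⟨u, hu⟩).mp this

theorem flat_of_cover
    (hU : ∀ a, Flat ((U a).ι ≫ pullback.snd f (gg a))) : Flat f := by
  apply Flat.of_stalkMap
  intro x
  obtain ⟨a, u, hu, rfl⟩ := hcov x
  apply flat_stalkMap_of_pullback f (gg a) u
  have := Flat.stalkMap ((U a).ι ≫ pullback.snd f (gg a)) ⟨u, hu⟩
  rw [Scheme.Hom.stalkMap_comp] at this
  exact (RingHom.Flat.respectsIso.cancel_right_isIso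
    ((pullback.snd f (gg a)).stalkMap ((U a).ι ⟨u, hu⟩)) ((U a).ι.stalkMap ⟨u, hu⟩)).mp this

end cover

end scheme

end Groth.Agent.H25.UnramDescent
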