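import Mathlib
import Groth.Agent.H25.FlatBCpt
import Groth.Agent.H25.UnramDescent

set_option autoImplicit false
universe u
open CategoryTheory CategoryTheory.Limits AlgebraicGeometry

namespace Groth.Agent.H25.FlatBCpt2

theorem flat_stalkMap_of_isPullback_of_flat {F₂ F₁ X₁ X₀ : Scheme.{u}}
    {v : F₂ ⟶ F₁} {d' : F₂ ⟶ X₁} {d : F₁ ⟶ X₀} {u : X₁ ⟶ X₀}
    (h : IsPullback v d' d u) [Flat u] (x : F₂)
    (hd' : (d'.stalkMap x).hom.Flat) : (d.stalkMap (v.base x)).hom.Flat := by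
  have key : ∀ k : F₂ ⟶ X₀, k = d' ≫ u → (k.stalkMap x).hom.Flat := by
    rintro k rfl
    rw [Scheme.Hom.stalkMap_comp]
    exact RingHom.Flat.comp (Flat.stalkMap u _) hd'
  have h1 := key (v ≫ d) h.w
  rw [Scheme.Hom.stalkMap_comp] at h1
  have : IsLocalHom (v.stalkMap x).hom := v.toLRSHom.prop x
  have hv : (v.stalkMap x).hom.Flat :=
    FlatBCpt.flat_stalkMap_of_isPullback h.flip x (Flat.stalkMap u _)
  exact Groth.Agent.H40.ringHom_flat_of_comp _ _ hv h1

end Groth.Agent.H25.FlatBCpt2
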