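import Mathlib
import Groth.Agent.H25.EtaleAt
import Groth.Agent.H40.FlatDesc

set_option autoImplicit false
universe u
open scoped TensorProduct
open CategoryTheory CategoryTheory.Limits AlgebraicGeometry

namespace Groth.Agent.H25.EtaleStalk

section ring

theorem formallyEtale_respectsIso : RingHom.RespectsIso RingHom.FormallyEtale := by
  constructor
  · intro R S T _ _ _ f e hf
    algebraize [f, e.toRingHom.comp f]
    have : Algebra.FormallyEtale R S := hf
    let e' : S ≃ₐ[R] T := { e with commutes' := fun r => rfl }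
    exact Algebra.FormallyEtale.of_equiv e'
  · intro R S T _ _ _ f e hf
    algebraize [e.toRingHom, f, f.comp e.toRingHom]
    have : Algebra.FormallyEtale S T := hf
    let e' : R ≃ₐ[R] S := { e with commutes' := fun r => rfl }
    have : Algebra.FormallyEtale R S := Algebra.FormallyEtale.of_equiv e'
    exact Algebra.FormallyEtale.comp R S T

variable (R T M : Type u) [CommRing R] [CommRing T] [CommRing M] [Algebra R T] [Algebra T M]
  [Algebra R M] [IsScalarTower R T M]

theorem formallyUnramified_of_faithfullyFlat_formallyEtale [Algebra.FormallyEtale T M]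
    [Module.FaithfullyFlat T M] [Algebra.FormallyUnramified R M] : Algebra.FormallyUnramified R T := by
  have e := KaehlerDifferential.tensorKaehlerEquivOfFormallyEtale R T M
  have h1 : Subsingleton (M ⊗[T] Ω[T⁄R]) := e.toEquiv.subsingleton
  exact ⟨Module.FaithfullyFlat.lTensor_reflects_triviality T M _⟩

end ring

section scheme

variable {X Y : Scheme.{u}}

theorem formallyEtale_stalkMap_of_etale (k : X ⟶ Y) [Etale k] (x : X) :
    (k.stalkMap x).hom.FormallyEtale := by
  obtain ⟨_, ⟨V, hV, rfl⟩, hxV, -⟩ :=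
    Y.isBasis_affineOpens.exists_subset_of_mem_open (Set.mem_univ (k x)) isOpen_univ
  obtain ⟨_, ⟨W, hW, rfl⟩, hxW, hWV⟩ :=
    X.isBasis_affineOpens.exists_subset_of_mem_open (show x ∈ k ⁻¹ᵁ V from hxV)
      (V.2.preimage k.continuous)
  have het : (k.appLE V W hWV).hom.Etale := Etale.etale_appLE k hV hW hWV
  algebraize [(k.appLE V W hWV).hom]
  let p := (hV.primeIdealOf ⟨k x, hWV hxW⟩).asIdeal
  let q := (hW.primeIdealOf ⟨x, hxW⟩).asIdeal
  have : q.LiesOver p :=
    ⟨congr($(IsAffineOpen.comap_primeIdealOf_appLE V hV W hW hWV hxW).1).symm⟩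
  let _ := Localization.AtPrime.algebraOfLiesOver p q
  have h1 : Algebra.FormallyEtale Γ(Y, V) (Localization.AtPrime q) :=
    Algebra.FormallyEtale.comp Γ(Y, V) Γ(X, W) _
  have h2 : Algebra.FormallyEtale (Localization.AtPrime p) (Localization.AtPrime q) :=
    Algebra.FormallyEtale.localization_base p.primeCompl
  have h3 : (algebraMap (Localization.AtPrime p) (Localization.AtPrime q)).FormallyEtale :=
    RingHom.formallyEtale_algebraMap.mpr h2
  exact (formallyEtale_respectsIso.arrow_mk_iso_iff
    (IsAffineOpen.arrowStalkMapIso k V hV W hW hWV hxW)).mpr h3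

/-- Cancellation: if `h ≫ k` is locally of finite presentation and `k` is locally of finite type,
then `h` is locally of finite presentation. -/
theorem lfp_of_comp {A B C : Scheme.{u}} (h : A ⟶ B) (k : B ⟶ C)
    [hhk : LocallyOfFinitePresentation (h ≫ k)] [hk : LocallyOfFiniteType k] :
    LocallyOfFinitePresentation h := by
  rw [HasRingHomProperty.iff_exists_appLE (P := @LocallyOfFinitePresentation)
    (RingHom.finitePresentation_stableUnderComposition.stableUnderCompositionWithLocalizationAway
      RingHom.finitePresentation_holdsForLocalizationAway).left]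
  intro x
  obtain ⟨W, hW, hxW, -⟩ := TopologicalSpace.Opens.isBasis_iff_nbhd.mp C.isBasis_affineOpens
    (TopologicalSpace.Opens.mem_top (k (h x)))
  obtain ⟨V, hV, hxV, eV⟩ := TopologicalSpace.Opens.isBasis_iff_nbhd.mp B.isBasis_affineOpens
    (show h x ∈ k ⁻¹ᵁ W from hxW)
  obtain ⟨U, hU, hxU, eU⟩ := TopologicalSpace.Opens.isBasis_iff_nbhd.mp A.isBasis_affineOpens
    (show x ∈ h ⁻¹ᵁ V from hxV)
  refine ⟨⟨V, hV⟩, ⟨U, hU⟩, hxU, eU, ?_⟩
  have h1 : (k.appLE W V eV).hom.FiniteType :=
    HasRingHomProperty.appLE (P := @LocallyOfFiniteType) _ hk ⟨W, hW⟩ ⟨V, hV⟩ eV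
  have h2 := HasRingHomProperty.appLE (P := @LocallyOfFinitePresentation) _ hhk ⟨W, hW⟩ ⟨U, hU⟩
    (eU.trans ((TopologicalSpace.Opens.map h.base).map (homOfLE eV)).le)
  rw [← Scheme.Hom.appLE_comp_appLE h k W V U eV eU] at h2
  exact RingHom.FinitePresentation.of_comp_finiteType _ h2 h1

theorem formallyEtale_stalkMap_of_etale_nhd (k : X ⟶ Y) (x : X) (U : X.Opens) (hxU : x ∈ U)
    [Etale (U.ι ≫ k)] : (k.stalkMap x).hom.FormallyEtale := by
  have h1 := formallyEtale_stalkMap_of_etale (U.ι ≫ k) ⟨x, hxU⟩
  rw [Scheme.Hom.stalkMap_comp] at h1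
  exact (formallyEtale_respectsIso.cancel_right_isIso
    (k.stalkMap (U.ι ⟨x, hxU⟩)) (U.ι.stalkMap ⟨x, hxU⟩)).mp h1

/-- ring-hom version of descent of formal unramifiedness along a flat local formally étale map -/
theorem ringHom_formallyUnramified_of_comp {A B C : Type u} [CommRing A] [CommRing B] [CommRing C]
    (φ : A →+* B) (ψ : B →+* C) [IsLocalRing B] [IsLocalRing C] [IsLocalHom ψ]
    (hψ : ψ.Flat) (hψe : ψ.FormallyEtale) (hc : (ψ.comp φ).FormallyUnramified) :
    φ.FormallyUnramified := by
  let _ := φ.toAlgebra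
  let _ := ψ.toAlgebra
  let _ := (ψ.comp φ).toAlgebra
  have : IsScalarTower A B C := IsScalarTower.of_algebraMap_eq' rfl
  have : Module.Flat B C := hψ
  have : Algebra.FormallyEtale B C := hψe
  have : Algebra.FormallyUnramified A C := hc
  have : IsLocalHom (algebraMap B C) := ‹IsLocalHom ψ›
  have : Module.FaithfullyFlat B C := Module.FaithfullyFlat.of_flat_of_isLocalHom
  exact formallyUnramified_of_faithfullyFlat_formallyEtale A B C

/-- `g : X ⟶ Y` flat at `x`, `g ≫ f` formally unramified at `x` (both `f` and `g ≫ f` locally of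
finite presentation): then `g` is étale near `x` and `f` is formally unramified at `g x`. -/
theorem formallyUnramified_stalkMap_of_comp {S : Scheme.{u}} (g : X ⟶ Y) (f : Y ⟶ S)
    [LocallyOfFiniteType f] [LocallyOfFinitePresentation (g ≫ f)] (x : X)
    (hg : (g.stalkMap x).hom.Flat) (hh : ((g ≫ f).stalkMap x).hom.FormallyUnramified) :
    (f.stalkMap (g x)).hom.FormallyUnramified := by
  have hlfp : LocallyOfFinitePresentation g := lfp_of_comp g f
  rw [Scheme.Hom.stalkMap_comp] at hh
  have hgu : (g.stalkMap x).hom.FormallyUnramified :=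
    RingHom.FormallyUnramified.of_comp (f := (f.stalkMap (g x)).hom) hh
  obtain ⟨U, hxU, hU⟩ := Groth.Agent.H25.EtaleAt.exists_etale_nhd_of_stalkMap g x hg hgu
  have hge : (g.stalkMap x).hom.FormallyEtale := formallyEtale_stalkMap_of_etale_nhd g x U hxU
  have : IsLocalHom (g.stalkMap x).hom := g.toLRSHom.prop x
  exact ringHom_formallyUnramified_of_comp (f.stalkMap (g x)).hom (g.stalkMap x).hom hg hge hh

end scheme

end Groth.Agent.H25.EtaleStalk
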