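import Mathlib
import Groth.Prelude.Def_CInt
import Groth.Agent.Lead.RegularLocal4

set_option autoImplicit false
universe u

namespace Groth.Agent.H25.RegQuot
open IsLocalRing RingTheory.Sequence
open Groth.Agent.Lead

theorem isRegularLocalRing_of_quotient : ∀ (n : ℕ) (A : Type u) [CommRing A] [IsNoetherianRing A]
    [IsLocalRing A] (rs : List A), rs.length = n → IsRegular A rs →
    IsRegularLocalRing (A ⧸ Ideal.ofList rs) → IsRegularLocalRing A := by
  intro n
  induction n with
  | zero =>
    intro A _ _ _ rs hlen _ h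
    obtain rfl := List.length_eq_zero_iff.mp hlen
    have e : (A ⧸ Ideal.ofList ([] : List A)) ≃+* A :=
      (Ideal.quotEquivOfEq (by simp)).trans (RingEquiv.quotientBot A)
    exact IsRegularLocalRing.of_ringEquiv e
  | succ n ih =>
    intro A _ _ _ rs hlen hreg h
    obtain ⟨r, rs', rfl⟩ := List.exists_cons_of_length_eq_add_one hlen
    have hlen' : rs'.length = n := by simpa using hlen
    rw [RLR.isRegular_cons_iff_quotient] at hreg
    obtain ⟨hr, hrs'⟩ := hreg
    have hne : Ideal.ofList (r :: rs') ≠ ⊤ := by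
      intro htop
      have : Nontrivial (A ⧸ Ideal.ofList (r :: rs')) := inferInstance
      exact (Ideal.Quotient.nontrivial_iff.mp this) htop
    have hrm : r ∈ maximalIdeal A := by
      have h1 : r ∈ Ideal.ofList (r :: rs') := Ideal.subset_span (List.mem_cons_self)
      exact IsLocalRing.le_maximalIdeal hne h1
    have hne' : Ideal.span {r} ≠ ⊤ := by
      intro htop
      have : (1 : A) ∈ maximalIdeal A := by
        have h1 : (1 : A) ∈ Ideal.span {r} := by rw [htop]; trivial
        exact (Ideal.span_le.mpr (by simpa using hrm)) h1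
      exact (Ideal.ne_top_iff_one _).mp (maximalIdeal.isMaximal A).ne_top this
    have := RLR.isLocalRing_quotient A (Ideal.span {r}) hne'
    have e : (A ⧸ Ideal.ofList (r :: rs')) ≃+*
        ((A ⧸ Ideal.span {r}) ⧸ Ideal.ofList (rs'.map (Ideal.Quotient.mk (Ideal.span {r})))) :=
      (Ideal.quotEquivOfEq (Ideal.ofList_cons r rs')).trans
        ((DoubleQuot.quotQuotEquivQuotSup (Ideal.span {r}) (Ideal.ofList rs')).symm.trans
          (Ideal.quotEquivOfEq (Ideal.map_ofList _ _)))
    have h' : IsRegularLocalRing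
        ((A ⧸ Ideal.span {r}) ⧸ Ideal.ofList (rs'.map (Ideal.Quotient.mk (Ideal.span {r})))) :=
      IsRegularLocalRing.of_ringEquiv e
    have := ih (A ⧸ Ideal.span {r}) _ (by simpa using hlen') hrs' h'
    refine RLR.of_quotient_regular A r hrm ?_
    rw [mem_nonZeroDivisors_iff_right]
    intro z hz
    exact hr (by simpa [mul_comm] using hz)

theorem ofList_ofFn {A : Type u} [CommRing A] {c : ℕ} (f : Fin c → A) :
    Ideal.ofList (List.ofFn f) = Ideal.span (Set.range f) := by
  rw [Ideal.ofList]
  congr 1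
  ext a
  simp [List.mem_ofFn]

theorem isRegularIdeal_of_regular (A : Type u) [CommRing A] [IsRegularLocalRing A] (J : Ideal A)
    [IsRegularLocalRing (A ⧸ J)] : CInt.IsRegularIdeal J := by
  obtain ⟨d, hd, _⟩ := RLR.exists_ringKrullDim_eq A
  obtain ⟨x, c, hc, hx, hJ⟩ := RLR.exists_generators A d hd J
  have hreg := RLR.isRegular_ofFn A d hd x hx
  obtain ⟨e, rfl⟩ := Nat.exists_eq_add_of_le hc
  rw [List.ofFn_add] at hreg
  refine ⟨List.ofFn (fun i : Fin c => x (Fin.castLE hc i)), ?_, ?_⟩
  · have hw : IsWeaklyRegular A (List.ofFn fun i : Fin c => x (Fin.castAdd e i)) :=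
      ((isWeaklyRegular_append_iff A _ _).mp hreg.toIsWeaklyRegular).1
    refine (IsLocalRing.isRegular_iff_isWeaklyRegular_of_subset_maximalIdeal ?_).mpr hw
    intro r hr
    rw [List.mem_ofFn] at hr
    obtain ⟨i, rfl⟩ := hr
    rw [← hx]
    exact Ideal.subset_span ⟨_, rfl⟩
  · rw [hJ, ofList_ofFn]

end Groth.Agent.H25.RegQuot
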