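import Mathlib.RingTheory.LocalRing.ResidueField.Fiber
import Mathlib.RingTheory.Kaehler.TensorProduct
import Mathlib.RingTheory.Unramified.Locus
import Mathlib.RingTheory.LocalRing.Module
import Mathlib.AlgebraicGeometry.Fiber
import Mathlib.AlgebraicGeometry.Morphisms.FormallyUnramified
import Mathlib.AlgebraicGeometry.Morphisms.FiniteType

set_option autoImplicit false
universe u
open TensorProduct CategoryTheory CategoryTheory.Limits AlgebraicGeometry

/-! Fibrewise criterion for formally unramified morphisms (helper25). -/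

namespace Groth.Agent.H25

attribute [local instance] Algebra.TensorProduct.rightAlgebra in
theorem formallyUnramified_of_fiber {R S : Type u} [CommRing R] [CommRing S] [Algebra R S]
    [Algebra.FiniteType R S]
    (H : ∀ (p : Ideal R) [p.IsPrime], Algebra.FormallyUnramified p.ResidueField (p.Fiber S)) :
    Algebra.FormallyUnramified R S := by
  rw [Algebra.formallyUnramified_iff, ← Module.support_eq_empty_iff (R := S),
    Set.eq_empty_iff_forall_notMem]
  intro q
  rw [Module.mem_support_iff_nontrivial_residueField_tensorProduct,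
    not_nontrivial_iff_subsingleton]
  set p : Ideal R := q.asIdeal.comap (algebraMap R S) with hp
  have hpp : p.IsPrime := Ideal.comap_isPrime _ _
  have hH := H p
  rw [Algebra.formallyUnramified_iff] at hH
  have hF : Subsingleton (p.Fiber S ⊗[S] Ω[S⁄R]) :=
    (KaehlerDifferential.tensorKaehlerEquiv R p.ResidueField S (p.Fiber S)).subsingleton_congr.2 hH
  let f : p.ResidueField →ₐ[R] q.asIdeal.ResidueField :=
    Ideal.ResidueField.mapₐ p q.asIdeal (Algebra.ofId R S) rfl
  let φ : p.Fiber S →ₐ[R] q.asIdeal.ResidueField :=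
    Algebra.TensorProduct.lift f (IsScalarTower.toAlgHom R S _) (fun _ _ => Commute.all _ _)
  let φS : p.Fiber S →ₗ[S] q.asIdeal.ResidueField :=
    { toFun := φ
      map_add' := map_add φ
      map_smul' := by
        intro s x
        simp only [RingHom.id_apply]
        rw [Algebra.smul_def, Algebra.smul_def, map_mul]
        congr 1
        rw [Algebra.TensorProduct.right_algebraMap_apply]
        simp [φ] }
  have h1 : ∀ m : Ω[S⁄R], (1 : q.asIdeal.ResidueField) ⊗ₜ[S] m = 0 := by
    intro m
    have h := (LinearMap.rTensor (Ω[S⁄R]) φS) ((1 : p.Fiber S) ⊗ₜ[S] m)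
    have h0 : ((1 : p.Fiber S) ⊗ₜ[S] m) = 0 := Subsingleton.elim _ _
    have h2 : (LinearMap.rTensor (Ω[S⁄R]) φS) ((1 : p.Fiber S) ⊗ₜ[S] m) =
        (1 : q.asIdeal.ResidueField) ⊗ₜ[S] m := by
      rw [LinearMap.rTensor_tmul]
      congr 1
      exact map_one φ
    rw [← h2, h0, map_zero]
  refine ⟨fun a b => ?_⟩
  have hz : ∀ x : q.asIdeal.ResidueField ⊗[S] Ω[S⁄R], x = 0 := by
    intro x
    induction x using TensorProduct.induction_on with
    | zero => rfl
    | add x y hx hy => rw [hx, hy, add_zero]
    | tmul c m =>
      have : c ⊗ₜ[S] m = c • ((1 : q.asIdeal.ResidueField) ⊗ₜ[S] m) := by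
        rw [TensorProduct.smul_tmul', smul_eq_mul, mul_one]
      rw [this, h1, smul_zero]
  rw [hz a, hz b]

set_option backward.isDefEq.respectTransparency false in
/-- A morphism locally of finite type with formally unramified fibres is formally unramified. -/
lemma formallyUnramified_of_fiberToSpecResidueField {X Y : Scheme.{u}} (f : X ⟶ Y)
    [LocallyOfFiniteType f]
    (h : ∀ y, FormallyUnramified (f.fiberToSpecResidueField y)) :
    FormallyUnramified f := by
  wlog h : ∃ R, Y = Spec R
  · rw [IsZariskiLocalAtTarget.iff_of_openCover (P := @FormallyUnramified) Y.affineCover]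
    intro i
    dsimp [Scheme.Cover.pullbackHom]
    refine this _ (fun y ↦ ?_) ⟨_, rfl⟩
    apply MorphismProperty.of_isPullback
    · exact isPullback_fiberToSpecResidueField_of_isPullback (IsPullback.of_hasPullback _ _) _
    · infer_instance
  obtain ⟨R, rfl⟩ := h
  wlog h : ∃ S, X = Spec S generalizing f X
  · rw [IsZariskiLocalAtSource.iff_of_openCover (P := @FormallyUnramified) X.affineCover]
    intro i
    have _ (y) : FormallyUnramified (pullback.snd f ((Spec R).fromSpecResidueField y)) :=
      inferInstanceAs <| FormallyUnramified (f.fiberToSpecResidueField y)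
    refine this _ (fun y ↦ ?_) ⟨_, rfl⟩
    rw [Scheme.Hom.fiberToSpecResidueField, ← pullbackRightPullbackFstIso_inv_snd_snd]
    refine MorphismProperty.comp_mem _ _ _ inferInstance
      (MorphismProperty.comp_mem _ _ _ inferInstance inferInstance)
  obtain ⟨S, rfl⟩ := h
  obtain ⟨φ, rfl⟩ := Spec.map_surjective f
  simp only [HasRingHomProperty.Spec_iff] at *
  algebraize [φ.hom]
  refine formallyUnramified_of_fiber fun p hp ↦ ?_
  rw [← RingHom.formallyUnramified_algebraMap]
  rw [← CommRingCat.hom_ofHom (algebraMap p.ResidueField (p.Fiber ↑S)),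
    ← HasRingHomProperty.Spec_iff (P := @FormallyUnramified),
    ← MorphismProperty.arrow_mk_iso_iff (P := @FormallyUnramified)
    (Spec.fiberToSpecResidueFieldIso R S ⟨p, hp⟩)]
  exact h ⟨p, hp⟩

end Groth.Agent.H25
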