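import Mathlib
import Groth.Agent.S4366

set_option autoImplicit false
universe u
open CategoryTheory CategoryTheory.Limits AlgebraicGeometry TensorProduct

namespace Groth.Agent.H25.StalkBC

/-- the stalk of `Spec T` at `P` is the localization at `P` -/
noncomputable def specStalkEquiv (T : Type u) [CommRing T] (P : Spec (CommRingCat.of T)) :
    (Spec (CommRingCat.of T)).presheaf.stalk P ≃+* Localization.AtPrime P.asIdeal :=
  letI k : Algebra T ((Spec (CommRingCat.of T)).presheaf.stalk P) :=
    StructureSheaf.stalkAlgebra T P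
  haveI : IsLocalization.AtPrime ((Spec (CommRingCat.of T)).presheaf.stalk P) P.asIdeal :=
    StructureSheaf.IsLocalization.to_stalk T P
  (IsLocalization.algEquiv P.asIdeal.primeCompl
    ((Spec (CommRingCat.of T)).presheaf.stalk P) (Localization.AtPrime P.asIdeal)).toRingEquiv

section stalkHom

variable {R : Type u} [CommRing R] {X : Scheme.{u}}
  (p : X ⟶ Spec (CommRingCat.of R)) (x : X)

/-- the ring map `R → O_{X,x}` attached to `p : X ⟶ Spec R` -/
noncomputable def stalkHom : R →+* X.presheaf.stalk x :=
  (X.presheaf.germ ⊤ x trivial).hom.comp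
    ((p.appTop).hom.comp (Scheme.ΓSpecIso (CommRingCat.of R)).inv.hom)

lemma fromSpecStalk_comp :
    X.fromSpecStalk x ≫ p = Spec.map (CommRingCat.ofHom (stalkHom p x)) := by
  have h1 : p = X.toSpecΓ ≫ Spec.map p.appTop ≫ Spec.map (Scheme.ΓSpecIso (CommRingCat.of R)).inv := by
    rw [← Scheme.toSpecΓ_naturality_assoc, toSpecΓ_SpecMap_ΓSpecIso_inv, Category.comp_id]
  conv_lhs => rw [h1]
  rw [Scheme.fromSpecStalk_toSpecΓ_assoc, ← Spec.map_comp, ← Spec.map_comp]
  rfl

end stalkHom

section generic

variable {R : Type u} [CommRing R] {X : Scheme.{u}} (p : X ⟶ Spec (CommRingCat.of R))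
  (A : CommRingCat.{u}) [Algebra R A] (j : Spec A ⟶ X)
  (hj : j ≫ p = Spec.map (CommRingCat.ofHom (algebraMap R A)))
  (R' : Type u) [CommRing R'] [Algebra R R']

/-- `Spec A ×_X X'` -/
noncomputable abbrev W : Scheme.{u} :=
  pullback (pullback.fst p (Spec.map (CommRingCat.ofHom (algebraMap R R')))) j

/-- the projection `W ⟶ X'` -/
noncomputable abbrev toBC : W p A j R' ⟶ pullback p (Spec.map (CommRingCat.ofHom (algebraMap R R'))) :=
  pullback.fst _ _

/-- the projection `W ⟶ Spec A` -/
noncomputable abbrev toLoc : W p A j R' ⟶ Spec A :=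
  pullback.snd _ _

include hj in
theorem isPullback_W :
    IsPullback (toLoc p A j R')
      (toBC p A j R' ≫ pullback.snd p (Spec.map (CommRingCat.ofHom (algebraMap R R'))))
      (Spec.map (CommRingCat.ofHom (algebraMap R A)))
      (Spec.map (CommRingCat.ofHom (algebraMap R R'))) := by
  have hL : IsPullback (toBC p A j R') (toLoc p A j R')
      (pullback.fst p (Spec.map (CommRingCat.ofHom (algebraMap R R')))) j :=
    IsPullback.of_hasPullback _ _
  have hR : IsPullback (pullback.snd p (Spec.map (CommRingCat.ofHom (algebraMap R R'))))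
      (pullback.fst p (Spec.map (CommRingCat.ofHom (algebraMap R R'))))
      (Spec.map (CommRingCat.ofHom (algebraMap R R'))) p :=
    (IsPullback.of_hasPullback _ _).flip
  have := (hL.paste_horiz hR).flip
  rw [hj] at this
  exact this

/-- `W ≅ Spec (A ⊗_R R')` -/
noncomputable def isoSpec : W p A j R' ≅ Spec (CommRingCat.of (A ⊗[R] R')) :=
  (isPullback_W p A j hj R').isoPullback ≪≫ pullbackSpecIso R A R'

theorem isoSpec_hom_fst :
    (isoSpec p A j hj R').hom ≫
      Spec.map (CommRingCat.ofHom (Algebra.TensorProduct.includeLeftRingHom :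
        A →+* A ⊗[R] R')) = toLoc p A j R' := by
  rw [isoSpec, Iso.trans_hom, Category.assoc, pullbackSpecIso_hom_fst,
    IsPullback.isoPullback_hom_fst]

theorem toLoc_apply (w : W p A j R') :
    (toLoc p A j R' w).asIdeal = ((isoSpec p A j hj R').hom w).asIdeal.comap
      (Algebra.TensorProduct.includeLeftRingHom : A →+* A ⊗[R] R') := by
  rw [← isoSpec_hom_fst p A j hj R']
  rfl

omit [Algebra R A] in
theorem fst_toBC_apply (w : W p A j R') :
    pullback.fst p (Spec.map (CommRingCat.ofHom (algebraMap R R'))) (toBC p A j R' w) =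
      j (toLoc p A j R' w) := by
  rw [← Scheme.Hom.comp_apply, ← Scheme.Hom.comp_apply, pullback.condition]

/-- the stalk of `X'` at the image of `w` is the localization of `A ⊗_R R'` at the prime `w` -/
noncomputable def stalkEquiv (hiso : ∀ w, IsIso ((toBC p A j R').stalkMap w)) (w : W p A j R') :
    (pullback p (Spec.map (CommRingCat.ofHom (algebraMap R R')))).presheaf.stalk (toBC p A j R' w)
      ≃+* Localization.AtPrime ((isoSpec p A j hj R').hom w).asIdeal :=
  letI := hiso w
  let e1 := (asIso ((toBC p A j R').stalkMap w)).commRingCatIsoToRingEquiv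
  let e2 := (asIso ((isoSpec p A j hj R').hom.stalkMap w)).commRingCatIsoToRingEquiv
  e1.trans (e2.symm.trans (specStalkEquiv (A ⊗[R] R') ((isoSpec p A j hj R').hom w)))

include hj in
/-- **A**: points of `X'` over `j (closed point)` are primes of `A ⊗_R R'` over the maximal ideal -/
theorem exists_prime_of_point [IsLocalRing A]
    (hiso : ∀ w, IsIso ((toBC p A j R').stalkMap w))
    (x' : ↑(pullback p (Spec.map (CommRingCat.ofHom (algebraMap R R')))))
    (hx' : pullback.fst p (Spec.map (CommRingCat.ofHom (algebraMap R R'))) x' =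
      j (IsLocalRing.closedPoint A)) :
    ∃ (Q : Ideal (A ⊗[R] R')) (_ : Q.IsPrime),
      Q.comap (Algebra.TensorProduct.includeLeftRingHom : A →+* A ⊗[R] R') =
        IsLocalRing.maximalIdeal A ∧
      Nonempty ((pullback p (Spec.map (CommRingCat.ofHom (algebraMap R R')))).presheaf.stalk x'
        ≃+* Localization.AtPrime Q) := by
  obtain ⟨w, hw1, hw2⟩ := Scheme.Pullback.exists_preimage_pullback
    (f := pullback.fst p (Spec.map (CommRingCat.ofHom (algebraMap R R')))) (g := j)
    x' (IsLocalRing.closedPoint A) hx'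
  refine ⟨((isoSpec p A j hj R').hom w).asIdeal, inferInstance, ?_, ?_⟩
  · rw [← toLoc_apply p A j hj R' w]
    have : toLoc p A j R' w = IsLocalRing.closedPoint A := hw2
    rw [this]
    rfl
  · subst hw1
    exact ⟨stalkEquiv p A j hj R' hiso w⟩

include hj in
/-- **B**: primes of `A ⊗_R R'` over the maximal ideal are points of `X'` over `j (closed point)` -/
theorem exists_point_of_prime [IsLocalRing A]
    (hiso : ∀ w, IsIso ((toBC p A j R').stalkMap w))
    (Q : Ideal (A ⊗[R] R')) [Q.IsPrime]
    (hQ : Q.comap (Algebra.TensorProduct.includeLeftRingHom : A →+* A ⊗[R] R') =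
        IsLocalRing.maximalIdeal A) :
    ∃ x' : ↑(pullback p (Spec.map (CommRingCat.ofHom (algebraMap R R')))),
      pullback.fst p (Spec.map (CommRingCat.ofHom (algebraMap R R'))) x' =
        j (IsLocalRing.closedPoint A) ∧
      Nonempty ((pullback p (Spec.map (CommRingCat.ofHom (algebraMap R R')))).presheaf.stalk x'
        ≃+* Localization.AtPrime Q) := by
  let P : Spec (CommRingCat.of (A ⊗[R] R')) := ⟨Q, inferInstance⟩
  let w : W p A j R' := (isoSpec p A j hj R').inv P
  have hw : (isoSpec p A j hj R').hom w = P := by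
    change ((isoSpec p A j hj R').inv ≫ (isoSpec p A j hj R').hom) P = P
    rw [Iso.inv_hom_id]
    rfl
  refine ⟨toBC p A j R' w, ?_, ?_⟩
  · rw [fst_toBC_apply]
    congr 1
    apply PrimeSpectrum.ext
    rw [toLoc_apply p A j hj R' w, hw]
    exact hQ
  · have e := stalkEquiv p A j hj R' hiso w
    rw [hw] at e
    exact ⟨e⟩

end generic

section stalk

variable {R : Type u} [CommRing R] {X : Scheme.{u}} (p : X ⟶ Spec (CommRingCat.of R)) (x : X)
  [Algebra R (X.presheaf.stalk x)] (halg : algebraMap R (X.presheaf.stalk x) = stalkHom p x)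
  (R' : Type u) [CommRing R'] [Algebra R R']

include halg

theorem fromSpecStalk_comp' :
    X.fromSpecStalk x ≫ p = Spec.map (CommRingCat.ofHom (algebraMap R (X.presheaf.stalk x))) := by
  rw [halg, fromSpecStalk_comp]

/-- points of `X ×_R R'` over `x` are primes of `O_{X,x} ⊗_R R'` over the maximal ideal, and the
local ring is the localization. -/
theorem exists_prime_of_point_stalk
    (x' : ↑(pullback p (Spec.map (CommRingCat.ofHom (algebraMap R R')))))
    (hx' : pullback.fst p (Spec.map (CommRingCat.ofHom (algebraMap R R'))) x' = x) :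
    ∃ (Q : Ideal (X.presheaf.stalk x ⊗[R] R')) (_ : Q.IsPrime),
      Q.comap (Algebra.TensorProduct.includeLeftRingHom :
        X.presheaf.stalk x →+* X.presheaf.stalk x ⊗[R] R') =
        IsLocalRing.maximalIdeal (X.presheaf.stalk x) ∧
      Nonempty ((pullback p (Spec.map (CommRingCat.ofHom (algebraMap R R')))).presheaf.stalk x'
        ≃+* Localization.AtPrime Q) :=
  exists_prime_of_point p (X.presheaf.stalk x) (X.fromSpecStalk x) (fromSpecStalk_comp' p x halg) R'
    (fun w => Groth.Agent.S4366.result _ x w) x'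
    (by rw [hx']; exact (Scheme.fromSpecStalk_closedPoint).symm)

theorem exists_point_of_prime_stalk
    (Q : Ideal (X.presheaf.stalk x ⊗[R] R')) [Q.IsPrime]
    (hQ : Q.comap (Algebra.TensorProduct.includeLeftRingHom :
        X.presheaf.stalk x →+* X.presheaf.stalk x ⊗[R] R') =
        IsLocalRing.maximalIdeal (X.presheaf.stalk x)) :
    ∃ x' : ↑(pullback p (Spec.map (CommRingCat.ofHom (algebraMap R R')))),
      pullback.fst p (Spec.map (CommRingCat.ofHom (algebraMap R R'))) x' = x ∧
      Nonempty ((pullback p (Spec.map (CommRingCat.ofHom (algebraMap R R')))).presheaf.stalk x'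
        ≃+* Localization.AtPrime Q) := by
  obtain ⟨x', h1, h2⟩ := exists_point_of_prime p (X.presheaf.stalk x) (X.fromSpecStalk x)
    (fromSpecStalk_comp' p x halg) R' (fun w => Groth.Agent.S4366.result _ x w) Q hQ
  exact ⟨x', h1.trans Scheme.fromSpecStalk_closedPoint, h2⟩

end stalk

end Groth.Agent.H25.StalkBC
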