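import Mathlib
import Groth.Prelude.Def_Curv2
import Groth.Agent.H25.StalkBC
import Groth.Agent.H13.AlgClosedTensor
import Groth.Agent.H48.GeomRed
import Groth.Agent.H48.TensorNormal5
import Groth.Agent.H15.StalkLoc

set_option autoImplicit false
universe u
open CategoryTheory CategoryTheory.Limits AlgebraicGeometry TensorProduct
attribute [local instance] Curv2.stalkAlgebra

namespace Groth.Agent.H25.GeomRedAt

open Groth.Agent.H25.StalkBC

theorem stalkAlgebra_eq (k : Type u) [Field k] (X : Scheme.{u}) [X.Over (Spec (CommRingCat.of k))]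
    (x : X) : algebraMap k (X.presheaf.stalk x) = stalkHom (X ↘ Spec (CommRingCat.of k)) x := rfl

/-- reducedness transfers along ring isos -/
theorem isReduced_of_ringEquiv {A B : Type*} [CommRing A] [CommRing B] (e : A ≃+* B)
    [IsReduced B] : IsReduced A :=
  isReduced_of_injective e.toRingHom e.injective

variable (k : Type u) [Field k] (X : Scheme.{u}) [X.Over (Spec (CommRingCat.of k))] (x : X)

/-- if `k' ⊗ O_{X,x}` is reduced then all stalks of `X_{k'}` over `x` are reduced -/
theorem isReduced_stalk_of_tensor (k' : Type u) [Field k'] [Algebra k k']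
    [IsReduced (k' ⊗[k] X.presheaf.stalk x)] (x' : Curv2.bc k X k')
    (hx' : Curv2.bcFst k X k' x' = x) : IsReduced ((Curv2.bc k X k').presheaf.stalk x') := by
  obtain ⟨Q, hQ, -, ⟨e⟩⟩ := exists_prime_of_point_stalk (X ↘ Spec (CommRingCat.of k)) x
    (stalkAlgebra_eq k X x) k' x' hx'
  haveI : IsReduced (X.presheaf.stalk x ⊗[k] k') :=
    isReduced_of_ringEquiv (Algebra.TensorProduct.comm k (X.presheaf.stalk x) k').toRingEquiv
  exact isReduced_of_ringEquiv e

/-- for `k'/k` algebraic: if all stalks of `X_{k'}` over `x` are reduced then `k' ⊗ O_{X,x}` is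
reduced -/
theorem isReduced_tensor_of_stalks (k' : Type u) [Field k'] [Algebra k k']
    [Algebra.IsIntegral k k']
    (h : ∀ x' : Curv2.bc k X k', Curv2.bcFst k X k' x' = x →
      IsReduced ((Curv2.bc k X k').presheaf.stalk x')) :
    IsReduced (k' ⊗[k] X.presheaf.stalk x) := by
  suffices hT : IsReduced (X.presheaf.stalk x ⊗[k] k') from
    isReduced_of_ringEquiv
      (Algebra.TensorProduct.comm k k' (X.presheaf.stalk x)).toRingEquiv
  apply isReduced_ofLocalizationMaximal
  intro Q hQ
  have hmax : (Q.comap (algebraMap (X.presheaf.stalk x)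
      (X.presheaf.stalk x ⊗[k] k'))).IsMaximal :=
    Ideal.isMaximal_comap_of_isIntegral_of_isMaximal Q
  have hQ' : Q.comap (Algebra.TensorProduct.includeLeftRingHom :
      X.presheaf.stalk x →+* X.presheaf.stalk x ⊗[k] k') =
      IsLocalRing.maximalIdeal (X.presheaf.stalk x) := IsLocalRing.eq_maximalIdeal hmax
  obtain ⟨x', hx', ⟨e⟩⟩ := exists_point_of_prime_stalk (X ↘ Spec (CommRingCat.of k)) x
    (stalkAlgebra_eq k X x) k' Q hQ'
  haveI := h x' hx'
  exact isReduced_of_ringEquiv e.symm

theorem isGeomReducedAt_of_isGeometricallyReduced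
    [Algebra.IsGeometricallyReduced k (X.presheaf.stalk x)] : Curv2.IsGeomReducedAt k X x := by
  intro k' _ _ x' hx'
  haveI : IsReduced (k' ⊗[k] X.presheaf.stalk x) :=
    Groth.Agent.H13.isReduced_tensorProduct_of_isGeometricallyReduced k _ k'
  exact isReduced_stalk_of_tensor k X x k' x' hx'

theorem isGeometricallyReduced_of_isGeomReducedAt
    (h : Curv2.IsGeomReducedAt k X x) : Algebra.IsGeometricallyReduced k (X.presheaf.stalk x) := by
  rw [Algebra.isGeometricallyReduced_field_iff]
  exact isReduced_tensor_of_stalks k X x (AlgebraicClosure k) (fun x' hx' => h _ x' hx')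

/-- S1541 -/
theorem isGeomReducedAt_iff :
    Curv2.IsGeomReducedAt k X x ↔ Algebra.IsGeometricallyReduced k (X.presheaf.stalk x) :=
  ⟨isGeometricallyReduced_of_isGeomReducedAt k X x,
    fun _ => isGeomReducedAt_of_isGeometricallyReduced k X x⟩

/-- S1610 (no characteristic assumption needed) -/
theorem isGeomReducedAt_iff_purelyInseparable :
    Curv2.IsGeomReducedAt k X x ↔
      ∀ (k' : Type u) [Field k'] [Algebra k k'] [FiniteDimensional k k'] [IsPurelyInseparable k k']
        (x' : Curv2.bc k X k'), Curv2.bcFst k X k' x' = x →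
          IsReduced ((Curv2.bc k X k').presheaf.stalk x') := by
  refine ⟨fun h k' _ _ _ _ x' hx' => h k' x' hx', fun h => ?_⟩
  rw [isGeomReducedAt_iff]
  apply Groth.Agent.H48.GeomRed.isGeometricallyReduced_of_purelyInseparable
  intro k' _ _ _ _
  exact isReduced_tensor_of_stalks k X x k' (fun x' hx' => h k' x' hx')

/-- S1560 -/
theorem isGeomReducedAt_of_perfectField [PerfectField k] [IsReduced (X.presheaf.stalk x)] :
    Curv2.IsGeomReducedAt k X x := by
  rw [isGeomReducedAt_iff]
  apply Groth.Agent.H48.GeomRed.isGeometricallyReduced_of_purelyInseparable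
  intro k' _ _ _ _
  have : Algebra.IsSeparable k k' := Algebra.IsAlgebraic.isSeparable_of_perfectField
  exact Groth.Agent.H48.GeomRed.isReduced_tensor_of_separable k'

/-- S1542 -/
theorem isGeomReducedAt_of_specializes (x' : X) (h : x' ⤳ x)
    (hx : Curv2.IsGeomReducedAt k X x) : Curv2.IsGeomReducedAt k X x' := by
  rw [isGeomReducedAt_iff] at hx ⊢
  letI := (X.presheaf.stalkSpecializes h).hom.toAlgebra
  haveI := Groth.Agent.H15.StalkLoc.isLocalization_stalkSpecializes h
  haveI : IsScalarTower k (X.presheaf.stalk x) (X.presheaf.stalk x') := by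
    refine IsScalarTower.of_algebraMap_eq' ?_
    ext a
    change (X.presheaf.germ ⊤ x' trivial).hom _ =
      (X.presheaf.stalkSpecializes h).hom ((X.presheaf.germ ⊤ x trivial).hom _)
    rw [← CommRingCat.comp_apply, X.presheaf.germ_stalkSpecializes]
  exact Groth.Agent.H48.TensorNormal.isGeometricallyReduced_of_isLocalization k
    (X.presheaf.stalk x) (Groth.Agent.H15.StalkLoc.genPrime h).primeCompl (X.presheaf.stalk x')

end Groth.Agent.H25.GeomRedAt
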