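import Mathlib
import Groth.Prelude.Def_Curv2
import Groth.Prelude.Def_Found
import Groth.Agent.H25.StalkBC
import Groth.Agent.H25.GeomRedAt
import Groth.Agent.H14.GeomBC.Regular
import Groth.Agent.H26.ZariskiComplRegular

set_option autoImplicit false
universe u
open CategoryTheory CategoryTheory.Limits AlgebraicGeometry TensorProduct
attribute [local instance] Curv2.stalkAlgebra

namespace Groth.Agent.H25.GeomRegAt

open Groth.Agent.H25.StalkBC Groth.Agent.H25.GeomRedAt

variable (k : Type u) [Field k] (X : Scheme.{u}) [X.Over (Spec (CommRingCat.of k))] (x : X)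

/-- if `k' ⊗ O_{X,x}` is a regular ring then all stalks of `X_{k'}` over `x` are regular -/
theorem isRegularLocalRing_stalk_of_tensor (k' : Type u) [Field k'] [Algebra k k']
    [IsRegularRing (k' ⊗[k] X.presheaf.stalk x)] (x' : Curv2.bc k X k')
    (hx' : Curv2.bcFst k X k' x' = x) :
    IsRegularLocalRing ((Curv2.bc k X k').presheaf.stalk x') := by
  obtain ⟨Q, hQ, -, ⟨e⟩⟩ := exists_prime_of_point_stalk (X ↘ Spec (CommRingCat.of k)) x
    (stalkAlgebra_eq k X x) k' x' hx'
  haveI : IsRegularRing (X.presheaf.stalk x ⊗[k] k') :=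
    IsRegularRing.of_ringEquiv (Algebra.TensorProduct.comm k k' (X.presheaf.stalk x)).toRingEquiv
  exact IsRegularLocalRing.of_ringEquiv e.symm

/-- for `k'/k` algebraic with `k' ⊗ O_{X,x}` Noetherian: if all stalks of `X_{k'}` over `x` are
regular then `k' ⊗ O_{X,x}` is a regular ring -/
theorem isRegularRing_tensor_of_stalks (k' : Type u) [Field k'] [Algebra k k']
    [Algebra.IsIntegral k k'] [IsNoetherianRing (k' ⊗[k] X.presheaf.stalk x)]
    (h : ∀ x' : Curv2.bc k X k', Curv2.bcFst k X k' x' = x →
      IsRegularLocalRing ((Curv2.bc k X k').presheaf.stalk x')) :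
    IsRegularRing (k' ⊗[k] X.presheaf.stalk x) := by
  suffices hT : IsRegularRing (X.presheaf.stalk x ⊗[k] k') from
    IsRegularRing.of_ringEquiv (Algebra.TensorProduct.comm k (X.presheaf.stalk x) k').toRingEquiv
  haveI : IsNoetherianRing (X.presheaf.stalk x ⊗[k] k') :=
    isNoetherianRing_of_ringEquiv _
      (Algebra.TensorProduct.comm k k' (X.presheaf.stalk x)).toRingEquiv
  rw [isRegularRing_iff]
  intro P hP
  obtain ⟨Q, hQ, hPQ⟩ := Ideal.exists_le_maximal P hP.ne_top
  have hmax : (Q.comap (algebraMap (X.presheaf.stalk x)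
      (X.presheaf.stalk x ⊗[k] k'))).IsMaximal :=
    Ideal.isMaximal_comap_of_isIntegral_of_isMaximal Q
  have hQ' : Q.comap (Algebra.TensorProduct.includeLeftRingHom :
      X.presheaf.stalk x →+* X.presheaf.stalk x ⊗[k] k') =
      IsLocalRing.maximalIdeal (X.presheaf.stalk x) := IsLocalRing.eq_maximalIdeal hmax
  obtain ⟨x', hx', ⟨e⟩⟩ := exists_point_of_prime_stalk (X ↘ Spec (CommRingCat.of k)) x
    (stalkAlgebra_eq k X x) k' Q hQ'
  haveI := h x' hx'
  haveI : IsRegularLocalRing (Localization.AtPrime Q) := IsRegularLocalRing.of_ringEquiv e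
  exact Groth.Agent.H26.ZariskiCompl.isRegularLocalRing_localization_of_le Q P hPQ

theorem isGeomRegularAt_of_isGeometricallyRegular
    (h : CAlg.IsGeometricallyRegular k (X.presheaf.stalk x)) : Curv2.IsGeomRegularAt k X x := by
  intro k' _ _ hfg x' hx'
  haveI : Algebra.EssFiniteType k k' := IntermediateField.fg_top_iff.mp hfg
  haveI := Groth.Agent.H14.GeomBC.isRegularRing_tensor_of_isGeometricallyRegular k _ h k'
  exact isRegularLocalRing_stalk_of_tensor k X x k' x' hx'

theorem isNoetherianRing_tensor_of_finite [IsNoetherianRing (X.presheaf.stalk x)]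
    (k' : Type u) [Field k'] [Algebra k k'] [Module.Finite k k'] :
    IsNoetherianRing (k' ⊗[k] X.presheaf.stalk x) := by
  haveI : IsNoetherianRing (X.presheaf.stalk x ⊗[k] k') :=
    Algebra.FiniteType.isNoetherianRing (X.presheaf.stalk x) _
  exact isNoetherianRing_of_ringEquiv _
    (Algebra.TensorProduct.comm k (X.presheaf.stalk x) k').toRingEquiv

theorem isGeometricallyRegular_of_purelyInseparable [IsNoetherianRing (X.presheaf.stalk x)]
    (h : ∀ (k' : Type u) [Field k'] [Algebra k k'] [FiniteDimensional k k']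
      [IsPurelyInseparable k k'] (x' : Curv2.bc k X k'), Curv2.bcFst k X k' x' = x →
        IsRegularLocalRing ((Curv2.bc k X k').presheaf.stalk x')) :
    CAlg.IsGeometricallyRegular k (X.presheaf.stalk x) := by
  rw [(Groth.Agent.H14.GeomBC.isGeometricallyRegular_iff k _).1]
  intro k' _ _ hfin hpi
  haveI := hfin
  haveI := hpi
  haveI := isNoetherianRing_tensor_of_finite k X x k'
  exact isRegularRing_tensor_of_stalks k X x k' (h k')

theorem isGeomRegularAt_of_purelyInseparable [IsNoetherianRing (X.presheaf.stalk x)]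
    (h : ∀ (k' : Type u) [Field k'] [Algebra k k'] [FiniteDimensional k k']
      [IsPurelyInseparable k k'] (x' : Curv2.bc k X k'), Curv2.bcFst k X k' x' = x →
        IsRegularLocalRing ((Curv2.bc k X k').presheaf.stalk x')) :
    Curv2.IsGeomRegularAt k X x :=
  isGeomRegularAt_of_isGeometricallyRegular k X x
    (isGeometricallyRegular_of_purelyInseparable k X x h)

theorem purelyInseparable_of_isGeomRegularAt (h : Curv2.IsGeomRegularAt k X x)
    (k' : Type u) [Field k'] [Algebra k k'] [FiniteDimensional k k']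
    (x' : Curv2.bc k X k') (hx' : Curv2.bcFst k X k' x' = x) :
    IsRegularLocalRing ((Curv2.bc k X k').presheaf.stalk x') :=
  h k' (IntermediateField.fg_top_iff.mpr inferInstance) x' hx'

/-- S7606 -/
theorem tfae_geomRegularAt [IsNoetherianRing (X.presheaf.stalk x)] :
    (Curv2.IsGeomRegularAt k X x ↔
      ∀ (k' : Type u) [Field k'] [Algebra k k'] [FiniteDimensional k k'] [IsPurelyInseparable k k']
        (x' : ↥(Curv2.bc k X k')),
        Curv2.bcFst k X k' x' = x → IsRegularLocalRing ↥((Curv2.bc k X k').presheaf.stalk x')) ∧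
    ((∀ (k' : Type u) [Field k'] [Algebra k k'] [FiniteDimensional k k'] [IsPurelyInseparable k k']
        (x' : ↥(Curv2.bc k X k')),
        Curv2.bcFst k X k' x' = x → IsRegularLocalRing ↥((Curv2.bc k X k').presheaf.stalk x')) ↔
      CAlg.IsGeometricallyRegular k ↥(X.presheaf.stalk x)) := by
  refine ⟨⟨fun h k' _ _ _ _ x' hx' => purelyInseparable_of_isGeomRegularAt k X x h k' x' hx',
    fun h => isGeomRegularAt_of_purelyInseparable k X x h⟩,
    ⟨fun h => isGeometricallyRegular_of_purelyInseparable k X x h,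
    fun h k' _ _ _ _ x' hx' => purelyInseparable_of_isGeomRegularAt k X x
      (isGeomRegularAt_of_isGeometricallyRegular k X x h) k' x' hx'⟩⟩

end Groth.Agent.H25.GeomRegAt
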