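import Mathlib
import Groth.Agent.H7.EtaleFlat

set_option autoImplicit false
universe u
open scoped TensorProduct

namespace Groth.Agent.H25.FibreCrit

/-- Local Nakayama core: `P'` local, `P' → M'` surjective with finitely generated kernel `N`,
`M'` flat over `R`, and `N ≤ p P'` with `p P' ≤ 𝔪`. Then `N = 0`. -/
theorem ker_eq_bot_of_flat_of_le_map {R P' M' : Type*} [CommRing R] [CommRing P'] [CommRing M']
    [Algebra R P'] [Algebra P' M'] [Algebra R M'] [IsScalarTower R P' M'] [IsLocalRing P']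
    [Module.Flat R M'] (hsurj : Function.Surjective (algebraMap P' M'))
    (p : Ideal R) (hp : p.map (algebraMap R P') ≤ IsLocalRing.maximalIdeal P')
    (hfg : (RingHom.ker (algebraMap P' M')).FG)
    (hle : RingHom.ker (algebraMap P' M') ≤ p.map (algebraMap R P')) :
    RingHom.ker (algebraMap P' M') = ⊥ := by
  set N := RingHom.ker (algebraMap P' M') with hN
  refine Submodule.eq_bot_of_le_smul_of_le_jacobson_bot (p.map (algebraMap R P')) N hfg ?_ ?_
  · intro x hx
    have hx' : x ∈ Ideal.span (algebraMap R P' '' (p : Set R)) := hle hx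
    rw [Ideal.span, Submodule.mem_span_set'] at hx'
    obtain ⟨n, f, g, hfg'⟩ := hx'
    -- g i = algebraMap (a i), a i ∈ p
    choose a ha hag using fun i => (g i).2
    have hrel : ∑ i, a i • algebraMap P' M' (f i) = 0 := by
      have h0 : algebraMap P' M' x = 0 := hx
      rw [← hfg', map_sum] at h0
      rw [← h0]
      refine Finset.sum_congr rfl fun i _ => ?_
      rw [smul_eq_mul, map_mul, ← hag i, ← IsScalarTower.algebraMap_apply, Algebra.smul_def,
        mul_comm]
    obtain ⟨k, b, z, hz, hb⟩ := Module.Flat.iff_forall_isTrivialRelation.mp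
      (inferInstance : Module.Flat R M') hrel
    choose w hw using fun j => hsurj (z j)
    -- e i := f i - Σ_j b i j • w j ∈ N
    have he : ∀ i, f i - ∑ j, b i j • w j ∈ N := by
      intro i
      change algebraMap P' M' _ = 0
      rw [map_sub, map_sum, sub_eq_zero]
      refine (hz i).trans ?_
      refine Finset.sum_congr rfl fun j _ => ?_
      rw [Algebra.smul_def (b i j) (w j), map_mul, hw j, ← IsScalarTower.algebraMap_apply,
        Algebra.smul_def]
    have hx2 : x = ∑ i, algebraMap R P' (a i) * (f i - ∑ j, b i j • w j) := by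
      have h1 : ∑ i, algebraMap R P' (a i) * ∑ j, b i j • w j = 0 := by
        simp_rw [Finset.mul_sum]
        rw [Finset.sum_comm]
        refine Finset.sum_eq_zero fun j _ => ?_
        have := hb j
        have h2 : ∑ i, algebraMap R P' (a i) * b i j • w j =
            (∑ i, a i * b i j) • w j := by
          rw [Finset.sum_smul]
          refine Finset.sum_congr rfl fun i _ => ?_
          rw [Algebra.smul_def, Algebra.smul_def, map_mul, mul_assoc]
        rw [h2, this, zero_smul]
      simp_rw [mul_sub]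
      rw [Finset.sum_sub_distrib, h1, sub_zero, ← hfg']
      refine Finset.sum_congr rfl fun i _ => ?_
      rw [smul_eq_mul, ← hag i, mul_comm]
    rw [hx2]
    refine Submodule.sum_mem _ fun i _ => ?_
    rw [← smul_eq_mul]
    exact Submodule.smul_mem_smul (Ideal.mem_map_of_mem _ (ha i)) (he i)
  · rw [IsLocalRing.jacobson_eq_maximalIdeal ⊥ bot_ne_top]
    exact hp


/-- In a flat local algebra `M` over `T`, an element of `T` dying in `M` is killed by an element
of `T` which becomes a unit in `M`. -/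
theorem exists_isUnit_mul_eq_zero_of_flat {T M : Type*} [CommRing T] [CommRing M] [Algebra T M]
    [IsLocalRing M] [Module.Flat T M] (a : T) (ha : algebraMap T M a = 0) :
    ∃ t : T, IsUnit (algebraMap T M t) ∧ t * a = 0 := by
  have hrel : ∑ i : Fin 1, (fun _ => a) i • (fun _ => (1 : M)) i = 0 := by
    simp only [Finset.univ_unique, Finset.sum_singleton]
    rw [Algebra.smul_def, mul_one]
    exact ha
  obtain ⟨k, b, y, hy, hb⟩ := Module.Flat.iff_forall_isTrivialRelation.mp
    (inferInstance : Module.Flat T M) hrel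
  have h1 : (1 : M) = ∑ j, b 0 j • y j := hy 0
  have h2 : ∃ j, IsUnit (b 0 j • y j) := by
    by_contra hcon
    rw [not_exists] at hcon
    have : (∑ j, b 0 j • y j) ∈ IsLocalRing.maximalIdeal M :=
      Ideal.sum_mem _ fun j _ => (IsLocalRing.mem_maximalIdeal _).mpr (hcon j)
    rw [← h1] at this
    exact (IsLocalRing.maximalIdeal.isMaximal M).ne_top ((Ideal.eq_top_iff_one _).mpr this)
  obtain ⟨j, hj⟩ := h2
  refine ⟨b 0 j, ?_, ?_⟩
  · rw [Algebra.smul_def] at hj
    exact isUnit_of_mul_isUnit_left hj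
  · have := hb j
    simp only [Finset.univ_unique, Finset.sum_singleton] at this
    rw [mul_comm]
    exact this

/-- A field `K` over `R` with `R → K` surjective on stalks is the residue field of its kernel. -/
theorem exists_residueField_algEquiv {R K : Type*} [CommRing R] [CommRing K] [Algebra R K]
    (hK0 : IsField K) (hK1 : (algebraMap R K).SurjectiveOnStalks)
    [hp : (RingHom.ker (algebraMap R K)).IsPrime] :
    Nonempty ((RingHom.ker (algebraMap R K)).ResidueField ≃ₐ[R] K) := by
  have : IsDomain K := hK0.isDomain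
  set p := RingHom.ker (algebraMap R K) with hpdef
  have hunit : ∀ r : R, r ∉ p → IsUnit (algebraMap R K r) := by
    intro r hr
    obtain ⟨b, hb⟩ := hK0.mul_inv_cancel (a := algebraMap R K r) (fun h => hr h)
    exact IsUnit.of_mul_eq_one b hb
  let σ : p.ResidueField →ₐ[R] K := Ideal.ResidueField.liftₐ p (Algebra.ofId R K) le_rfl
    (fun r hr => hunit r hr)
  have hσ : Function.Bijective σ := by
    refine ⟨σ.toRingHom.injective, ?_⟩
    intro k
    obtain ⟨x, r, c, hc, hr, e⟩ := (RingHom.surjectiveOnStalks_iff_forall_ideal.mp hK1) ⊥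
      bot_ne_top k
    have hc0 : c ≠ 0 := fun h => hc (by rw [h]; exact Ideal.zero_mem _)
    have hr0 : algebraMap R K r ≠ 0 := fun h => hr (by rw [h]; exact Ideal.zero_mem _)
    have e' : algebraMap R K r * k = algebraMap R K x := by
      rw [mul_assoc] at e
      exact mul_left_cancel₀ hc0 e
    have hrp : r ∉ p := fun h => hr0 h
    have hr1 : algebraMap R p.ResidueField r ≠ 0 := by
      rw [ne_eq, Ideal.algebraMap_residueField_eq_zero]
      exact hrp
    refine ⟨algebraMap R p.ResidueField x * (algebraMap R p.ResidueField r)⁻¹, ?_⟩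
    have h3 : σ (algebraMap R p.ResidueField x * (algebraMap R p.ResidueField r)⁻¹) *
        algebraMap R K r = k * algebraMap R K r := by
      rw [← σ.commutes r, ← map_mul, inv_mul_cancel_right₀ hr1, σ.commutes, σ.commutes, ← e',
        mul_comm]
    exact mul_right_cancel₀ hr0 h3
  exact ⟨AlgEquiv.ofBijective σ hσ⟩


/-- the kernel of `S → κ(p) ⊗ S` -/
theorem exists_smul_mem_of_one_tmul_eq_zero {R S : Type*} [CommRing R] [CommRing S] [Algebra R S]
    (p : Ideal R) [p.IsPrime] (y : S) (hy : (1 : p.ResidueField) ⊗ₜ[R] y = 0) :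
    ∃ t : R, t ∉ p ∧ t • y ∈ p.map (algebraMap R S) := by
  letI : Algebra S (p.Fiber S) := Algebra.TensorProduct.rightAlgebra
  let M := Algebra.algebraMapSubmonoid S p.primeCompl
  let Sp := Localization M
  let E : p.Fiber S ≃ₐ[S] Sp ⧸ (p.map (algebraMap R S)).map (algebraMap S Sp) :=
    Ideal.Fiber.algEquivAux₁ p
  have h2 : E (algebraMap S (p.Fiber S) y) = 0 := by
    rw [show algebraMap S (p.Fiber S) y = 1 ⊗ₜ y from rfl, hy, map_zero]
  rw [E.commutes, IsScalarTower.algebraMap_apply S Sp, Ideal.Quotient.algebraMap_eq,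
    Ideal.Quotient.eq_zero_iff_mem, IsLocalization.mem_map_algebraMap_iff M] at h2
  obtain ⟨⟨⟨i, hi⟩, ⟨m, hm⟩⟩, h3⟩ := h2
  simp only at h3
  rw [← map_mul, IsLocalization.eq_iff_exists M] at h3
  obtain ⟨⟨m', hm'⟩, h4⟩ := h3
  obtain ⟨t₁, ht₁, rfl⟩ := hm
  obtain ⟨t₂, ht₂, rfl⟩ := hm'
  refine ⟨t₂ * t₁, p.primeCompl.mul_mem ht₂ ht₁, ?_⟩
  simp only at h4
  have : (t₂ * t₁) • y = algebraMap R S t₂ * i := by
    rw [← h4, Algebra.smul_def, map_mul]
    ring
  rw [this]
  exact Ideal.mul_mem_left _ _ hi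


/-- the kernel of `S → S ⊗ K` for a "residue field" `K` of `R` -/
theorem exists_smul_mem_of_tmul_one_eq_zero {R K S : Type*} [CommRing R] [CommRing K] [CommRing S]
    [Algebra R K] [Algebra R S] (hK0 : IsField K) (hK1 : (algebraMap R K).SurjectiveOnStalks)
    (y : S) (hy : y ⊗ₜ[R] (1 : K) = 0) :
    ∃ t : R, algebraMap R K t ≠ 0 ∧
      t • y ∈ (RingHom.ker (algebraMap R K)).map (algebraMap R S) := by
  have : IsDomain K := hK0.isDomain
  haveI hp : (RingHom.ker (algebraMap R K)).IsPrime := RingHom.ker_isPrime _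
  obtain ⟨e⟩ := exists_residueField_algEquiv hK0 hK1
  have h1 : (1 : (RingHom.ker (algebraMap R K)).ResidueField) ⊗ₜ[R] y = 0 := by
    have h2 := congrArg (Algebra.TensorProduct.map (AlgHom.id R S) e.symm.toAlgHom) hy
    have h3 := congrArg (Algebra.TensorProduct.comm R S _) h2
    simpa using h3
  obtain ⟨t, ht, h⟩ := exists_smul_mem_of_one_tmul_eq_zero _ y h1
  exact ⟨t, fun h0 => ht h0, h⟩

theorem algebraMap_compat {R A B K A_K B_K : Type*} [CommRing R] [CommRing A] [CommRing B]
    [CommRing K] [CommRing A_K] [CommRing B_K]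
    [Algebra R A] [Algebra A B] [Algebra R B] [IsScalarTower R A B]
    [Algebra R K] [Algebra K A_K] [Algebra A A_K] [Algebra R A_K] [IsScalarTower R K A_K]
    [IsScalarTower R A A_K] [Algebra A_K B_K] [Algebra B B_K] [Algebra A B_K]
    [IsScalarTower A A_K B_K] [IsScalarTower A B B_K] (r : R) :
    algebraMap B B_K (algebraMap R B r) =
      algebraMap A_K B_K (algebraMap K A_K (algebraMap R K r)) := by
  rw [IsScalarTower.algebraMap_apply R A B, ← IsScalarTower.algebraMap_apply A B B_K,
    IsScalarTower.algebraMap_apply A A_K B_K, ← IsScalarTower.algebraMap_apply R A A_K,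
    IsScalarTower.algebraMap_apply R K A_K]

section main

variable {R A B K A_K B_K P : Type u} [CommRing R] [CommRing A] [CommRing B] [CommRing K]
  [CommRing A_K] [CommRing B_K] [CommRing P]
  [Algebra R A] [Algebra A B] [Algebra R B] [IsScalarTower R A B]
  [Algebra R K] [Algebra K A_K] [Algebra A A_K] [Algebra R A_K] [IsScalarTower R K A_K]
  [IsScalarTower R A A_K] [Algebra.IsPushout R K A A_K]
  [Algebra A_K B_K] [Algebra B B_K] [Algebra A B_K] [IsScalarTower A A_K B_K]
  [IsScalarTower A B B_K]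
  [Algebra A P] [Algebra R P] [IsScalarTower R A P] [Algebra.Etale A P]

omit [Algebra R B] [IsScalarTower R A B] in
/-- the key step: elements of the kernel of `P → B` lie in `p P` locally at `q'` -/
theorem exists_smul_mul_mem_of_fibre (hK0 : IsField K) (hK1 : (algebraMap R K).SurjectiveOnStalks)
    (ψ : P →ₐ[A] B) (Q : Ideal B_K) [Q.IsPrime]
    (hflatK : Module.Flat A_K (Localization.AtPrime Q)) (c : P) (hc : ψ c = 0) :
    ∃ a : P, algebraMap B B_K (ψ a) ∉ Q ∧ ∃ t : R, algebraMap R K t ≠ 0 ∧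
      t • (a * c) ∈ (RingHom.ker (algebraMap R K)).map (algebraMap R P) := by
  have hKdom : IsDomain K := hK0.isDomain
  let T := A_K ⊗[A] P
  let θ : T →ₐ[A_K] B_K := Algebra.TensorProduct.lift (Algebra.ofId A_K B_K)
      ((IsScalarTower.toAlgHom A B B_K).comp ψ) (fun _ _ => Commute.all _ _)
  have hθ : ∀ (a : A_K) (c : P), θ (a ⊗ₜ c) = algebraMap A_K B_K a * algebraMap B B_K (ψ c) := by
    intro a c
    change Algebra.TensorProduct.lift (Algebra.ofId A_K B_K)
      ((IsScalarTower.toAlgHom A B B_K).comp ψ) (fun _ _ => Commute.all _ _) (a ⊗ₜ c) = _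
    rw [Algebra.TensorProduct.lift_tmul]
    rfl
  let BQ := Localization.AtPrime Q
  letI aT : Algebra T BQ := ((algebraMap B_K BQ).comp θ.toRingHom).toAlgebra
  have haT : ∀ x : T, algebraMap T BQ x = algebraMap B_K BQ (θ x) := fun _ => rfl
  haveI tow : IsScalarTower A_K T BQ := IsScalarTower.of_algebraMap_eq fun a => by
    rw [haT, θ.commutes, ← IsScalarTower.algebraMap_apply]
  haveI : Module.Flat T BQ :=
    Groth.Agent.H7.flat_of_flat_of_formallyUnramified (R := A_K) (T := T) BQ
  obtain ⟨u, hu1, huc⟩ := exists_isUnit_mul_eq_zero_of_flat (T := T) (M := BQ) (1 ⊗ₜ c)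
    (by rw [haT, hθ, hc, map_zero, mul_zero, map_zero])
  have huQ : θ u ∉ Q := by
    rw [haT] at hu1
    exact (IsLocalization.AtPrime.isUnit_to_map_iff BQ Q (θ u)).mp hu1
  let Φ : T ≃ₐ[K] K ⊗[R] P := Algebra.IsPushout.cancelBaseChangeAlg R K A A_K P
  let cm : K ⊗[R] P ≃ₐ[R] P ⊗[R] K := Algebra.TensorProduct.comm R K P
  let x : P ⊗[R] K := cm (Φ u)
  have hxc : x * (c ⊗ₜ 1) = 0 := by
    have h1 : cm (Φ (1 ⊗ₜ c)) = c ⊗ₜ 1 := by
      change Algebra.TensorProduct.comm R K P
        (Algebra.IsPushout.cancelBaseChangeAlg R K A A_K P (1 ⊗ₜ c)) = _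
      rw [Algebra.IsPushout.cancelBaseChangeAlg_tmul]
      rfl
    rw [← h1, ← map_mul, ← map_mul, huc, map_zero, map_zero]
  obtain ⟨t, r, a, hrt, e⟩ := RingHom.SurjectiveOnStalks.exists_mul_eq_tmul hK1 x ⊥
    Ideal.isPrime_bot
  have hrt0 : r • t ≠ 0 := fun h => hrt (by rw [h]; exact Ideal.zero_mem _)
  have ht0 : t ≠ 0 := fun h => hrt0 (by rw [h, smul_zero])
  obtain ⟨tinv, htinv⟩ := hK0.mul_inv_cancel ht0
  obtain ⟨rtinv, hrtinv⟩ := hK0.mul_inv_cancel hrt0
  -- the ring hom `P ⊗ K → B_K`
  let θ' : P ⊗[R] K →+* B_K :=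
    θ.toRingHom.comp ((Φ.symm : K ⊗[R] P →+* T).comp (cm.symm : P ⊗[R] K →+* K ⊗[R] P))
  have hθ' : ∀ (c' : P) (k : K), θ' (c' ⊗ₜ k) =
      algebraMap A_K B_K (algebraMap K A_K k) * algebraMap B B_K (ψ c') := by
    intro c' k
    change θ (Φ.symm (cm.symm (c' ⊗ₜ k))) = _
    rw [show cm.symm (c' ⊗ₜ[R] k) = k ⊗ₜ c' from rfl,
      Algebra.IsPushout.cancelBaseChangeAlg_symm_tmul, hθ]
  have hθ'x : θ' x = θ u := by
    change θ (Φ.symm (cm.symm (cm (Φ u)))) = _
    rw [AlgEquiv.symm_apply_apply, AlgEquiv.symm_apply_apply]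
  have hac : (a * c) ⊗ₜ[R] (1 : K) = 0 := by
    have h1 : (a * c) ⊗ₜ[R] t = 0 := by
      have : (a ⊗ₜ[R] t) * (c ⊗ₜ[R] (1 : K)) = 0 := by
        rw [← e, mul_assoc, hxc, mul_zero]
      rwa [Algebra.TensorProduct.tmul_mul_tmul, mul_one] at this
    have h2 : (a * c) ⊗ₜ[R] (1 : K) = ((a * c) ⊗ₜ[R] t) * (1 ⊗ₜ tinv) := by
      rw [Algebra.TensorProduct.tmul_mul_tmul, mul_one, htinv]
    rw [h2, h1, zero_mul]
  obtain ⟨t', ht', hmem⟩ := exists_smul_mem_of_tmul_one_eq_zero hK0 hK1 (a * c) hac
  refine ⟨a, ?_, t', ht', hmem⟩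
  intro hmemQ
  have h3 : θ' (a ⊗ₜ t) ∈ Q := by
    rw [hθ']
    exact Ideal.mul_mem_left _ _ hmemQ
  rw [← e, map_mul, hθ'x] at h3
  have h4 : θ' (1 ⊗ₜ (r • t)) ∈ Q := (Ideal.IsPrime.mem_or_mem inferInstance h3).resolve_right huQ
  have h5 : θ' (1 ⊗ₜ (r • t)) * θ' (1 ⊗ₜ rtinv) = 1 := by
    rw [← map_mul, Algebra.TensorProduct.tmul_mul_tmul, mul_one, hrtinv, ← map_one θ']
    rfl
  exact (Ideal.IsPrime.ne_top inferInstance) ((Ideal.eq_top_iff_one Q).mpr
    (h5 ▸ Ideal.mul_mem_right _ _ h4))

/-- **Fibrewise criterion for étaleness at a point** (ring form). -/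
theorem isEtaleAt_of_fibre (hK0 : IsField K) (hK1 : (algebraMap R K).SurjectiveOnStalks)
    (ψ : P →ₐ[A] B) (hψ : Function.Surjective ψ) (hker : (RingHom.ker ψ.toRingHom).FG)
    (Q : Ideal B_K) [Q.IsPrime] (q : Ideal B) [q.IsPrime]
    (hq : q = Q.comap (algebraMap B B_K))
    (hflatR : Module.Flat R (Localization.AtPrime q))
    (hflatK : Module.Flat A_K (Localization.AtPrime Q)) :
    Algebra.IsEtaleAt A q := by
  have hKdom : IsDomain K := hK0.isDomain
  set p : Ideal R := RingHom.ker (algebraMap R K) with hp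
  have hmemq : ∀ b : B, b ∈ q ↔ algebraMap B B_K b ∈ Q := by
    intro b; rw [hq]; rfl
  -- `q` lies over `p`
  have hRq : ∀ r : R, algebraMap R B r ∈ q ↔ r ∈ p := by
    intro r
    rw [hmemq, algebraMap_compat (A := A) (K := K) (A_K := A_K)]
    constructor
    · intro h
      by_contra hr
      obtain ⟨b, hb⟩ := hK0.mul_inv_cancel (a := algebraMap R K r) (fun h0 => hr h0)
      have h1 : algebraMap A_K B_K (algebraMap K A_K (algebraMap R K r)) *
          algebraMap A_K B_K (algebraMap K A_K b) = 1 := by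
        rw [← map_mul, ← map_mul, hb, map_one, map_one]
      exact (Ideal.IsPrime.ne_top inferInstance) ((Ideal.eq_top_iff_one Q).mpr
        (h1 ▸ Ideal.mul_mem_right _ _ h))
    · intro h
      have : algebraMap R K r = 0 := h
      rw [this, map_zero, map_zero]
      exact Ideal.zero_mem _
  let q' : Ideal P := q.comap ψ.toRingHom
  haveI : q'.IsPrime := Ideal.comap_isPrime _ _
  have hψR : ∀ r : R, ψ (algebraMap R P r) = algebraMap R B r := by
    intro r
    rw [IsScalarTower.algebraMap_apply R A P, ψ.commutes, ← IsScalarTower.algebraMap_apply]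
  let P' := Localization.AtPrime q'
  let Bq := Localization.AtPrime q
  let φ' : P' →+* Bq := Localization.localRingHom q' q ψ.toRingHom rfl
  letI aP'B : Algebra P' Bq := φ'.toAlgebra
  have hφ' : ∀ x : P', algebraMap P' Bq x = φ' x := fun _ => rfl
  have hφ'map : ∀ c : P, φ' (algebraMap P P' c) = algebraMap B Bq (ψ c) := fun c =>
    Localization.localRingHom_to_map q' q ψ.toRingHom rfl c
  haveI : IsScalarTower R P' Bq := IsScalarTower.of_algebraMap_eq fun r => by
    rw [hφ', IsScalarTower.algebraMap_apply R P P', hφ'map, hψR,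
      ← IsScalarTower.algebraMap_apply]
  have hsurj : Function.Surjective (algebraMap P' Bq) :=
    (RingHom.surjectiveOnStalks_of_surjective hψ).localRingHom_surjective q' q rfl
  have hp_le : p.map (algebraMap R P') ≤ IsLocalRing.maximalIdeal P' := by
    rw [Ideal.map_le_iff_le_comap]
    intro r hr
    change algebraMap R P' r ∈ IsLocalRing.maximalIdeal P'
    rw [IsScalarTower.algebraMap_apply R P P', IsLocalization.AtPrime.to_map_mem_maximal_iff P' q']
    change ψ (algebraMap R P r) ∈ q
    rw [hψR, hRq]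
    exact hr
  have hkerN : RingHom.ker (algebraMap P' Bq) =
      (RingHom.ker ψ.toRingHom).map (algebraMap P P') := by
    apply le_antisymm
    · intro x hx
      obtain ⟨c, s, rfl⟩ := IsLocalization.exists_mk'_eq q'.primeCompl x
      have hx' : φ' (IsLocalization.mk' P' c s) = 0 := hx
      rw [Localization.localRingHom_mk', IsLocalization.mk'_eq_zero_iff] at hx'
      obtain ⟨⟨m, hm⟩, hmc⟩ := hx'
      obtain ⟨m', rfl⟩ := hψ m
      rw [IsLocalization.mk'_mem_map_algebraMap_iff]
      refine ⟨m', hm, ?_⟩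
      change ψ (m' * c) = 0
      rw [map_mul]
      exact hmc
    · rw [Ideal.map_le_iff_le_comap]
      intro c hc
      change φ' (algebraMap P P' c) = 0
      rw [hφ'map, show ψ c = 0 from hc, map_zero]
  have hfg : (RingHom.ker (algebraMap P' Bq)).FG := by
    rw [hkerN]
    exact hker.map _
  have hle : RingHom.ker (algebraMap P' Bq) ≤ p.map (algebraMap R P') := by
    rw [hkerN, Ideal.map_le_iff_le_comap]
    intro c hc
    obtain ⟨a, haQ, t, ht, hmem⟩ := exists_smul_mul_mem_of_fibre (A_K := A_K) (B_K := B_K)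
      hK0 hK1 ψ Q hflatK c hc
    rw [Ideal.mem_comap]
    have h1 : algebraMap P P' (t • (a * c)) ∈ p.map (algebraMap R P') := by
      rw [IsScalarTower.algebraMap_eq R P P', ← Ideal.map_map]
      exact Ideal.mem_map_of_mem _ hmem
    have h2 : t • (a * c) = (algebraMap R P t * a) * c := by
      rw [Algebra.smul_def, mul_assoc]
    rw [h2, map_mul] at h1
    have h3 : IsUnit (algebraMap P P' (algebraMap R P t * a)) := by
      apply IsLocalization.map_units P' (⟨algebraMap R P t * a, ?_⟩ : q'.primeCompl)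
      change ¬ (ψ (algebraMap R P t * a) ∈ q)
      rw [map_mul, hψR]
      intro hmem'
      rcases Ideal.IsPrime.mem_or_mem inferInstance hmem' with h | h
      · exact ht ((hRq t).mp h)
      · exact haQ ((hmemq _).mp h)
    exact (Ideal.unit_mul_mem_iff_mem _ h3).mp h1
  have hbot := ker_eq_bot_of_flat_of_le_map (R := R) (P' := P') (M' := Bq) hsurj p hp_le hfg hle
  have hinj : Function.Injective (algebraMap P' Bq) :=
    (RingHom.injective_iff_ker_eq_bot _).mpr hbot
  let E : P' ≃ₐ[A] Bq := AlgEquiv.ofBijective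
    { toRingHom := φ'
      commutes' := fun a => by
        change φ' (algebraMap A P' a) = algebraMap A Bq a
        rw [IsScalarTower.algebraMap_apply A P P', hφ'map, ψ.commutes,
          ← IsScalarTower.algebraMap_apply] } ⟨hinj, hsurj⟩
  haveI : Algebra.FormallyEtale P P' := Algebra.FormallyEtale.of_isLocalization q'.primeCompl
  haveI : Algebra.FormallyEtale A P' := Algebra.FormallyEtale.comp A P P'
  exact Algebra.FormallyEtale.of_equiv E

end main

end Groth.Agent.H25.FibreCrit
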