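import Mathlib
import Groth.Prelude.Def_ega3

set_option autoImplicit false
universe u

namespace Groth.Agent.H25.FibreMap
open AlgebraicGeometry CategoryTheory CategoryTheory.Limits

/-- the fibre map `X_s ⟶ Y_s` is the base change of `f` along `Y_s ⟶ Y` -/
theorem isPullback_fiberMapOver {X Y S : Scheme.{u}} (f : X ⟶ Y) (h : X ⟶ S) (g : Y ⟶ S)
    (w : f ≫ g = h) (s : S) :
    IsPullback (h.fiberι s) (CohIII.fiberMapOver f h g w s) f (g.fiberι s) := by
  have hbig : IsPullback (h.fiberToSpecResidueField s) (h.fiberι s) (S.fromSpecResidueField s) h :=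
    (IsPullback.of_hasPullback h (S.fromSpecResidueField s)).flip
  have hright : IsPullback (g.fiberToSpecResidueField s) (g.fiberι s)
      (S.fromSpecResidueField s) g :=
    (IsPullback.of_hasPullback g (S.fromSpecResidueField s)).flip
  have h1 : CohIII.fiberMapOver f h g w s ≫ g.fiberToSpecResidueField s =
      h.fiberToSpecResidueField s :=
    (pullback.lift_snd _ _ _).trans (Category.comp_id _)
  have h2 : CohIII.fiberMapOver f h g w s ≫ g.fiberι s = h.fiberι s ≫ f :=
    pullback.lift_fst _ _ _
  subst w
  rw [← h1] at hbig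
  exact (IsPullback.of_right hbig h2 hright).flip

theorem formallyUnramified_stalkMap_congr {X Y : Scheme.{u}} (f : X ⟶ Y) {x y : X} (e : x = y) :
    (f.stalkMap x).hom.FormallyUnramified ↔ (f.stalkMap y).hom.FormallyUnramified := by
  subst e
  rfl

end Groth.Agent.H25.FibreMap
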