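import Mathlib
import Groth.Agent.H25.UnramFibre

set_option autoImplicit false
universe u
open CategoryTheory CategoryTheory.Limits AlgebraicGeometry

namespace Groth.Agent.H25.MonoFibre

theorem mono_of_fibres {X Y : Scheme.{u}} (f : X ⟶ Y) [LocallyOfFiniteType f]
    (h : ∀ y : Y, Mono (f.fiberToSpecResidueField y)) : Mono f := by
  -- fibres are formally unramified
  have hfib : ∀ y, FormallyUnramified (f.fiberToSpecResidueField y) := by
    intro y
    have := h y
    have : IsIso (pullback.diagonal (f.fiberToSpecResidueField y)) :=
      (pullback.isIso_diagonal_iff _).mpr inferInstance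
    infer_instance
  have hun : FormallyUnramified f := Groth.Agent.H25.formallyUnramified_of_fiberToSpecResidueField f hfib
  have hopen : IsOpenImmersion (pullback.diagonal f) := inferInstance
  -- the diagonal is surjective
  have hsurj : Function.Surjective (pullback.diagonal f) := by
    intro z
    set P := pullback f f
    set y : Y := (pullback.fst f f ≫ f) z with hy
    let ι := P.fromSpecResidueField z
    let κ : Spec (P.residueField z) ⟶ Spec (Y.residueField y) :=
      Spec.map ((pullback.fst f f ≫ f).residueFieldMap z)
    have hκ : κ ≫ Y.fromSpecResidueField y = ι ≫ pullback.fst f f ≫ f :=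
      Scheme.Hom.SpecMap_residueFieldMap_fromSpecResidueField _ z
    have hκ2 : κ ≫ Y.fromSpecResidueField y = ι ≫ pullback.snd f f ≫ f := by
      rw [hκ, pullback.condition]
    let b₁ : Spec (P.residueField z) ⟶ f.fiber y :=
      pullback.lift (ι ≫ pullback.fst f f) κ (by rw [Category.assoc, hκ])
    let b₂ : Spec (P.residueField z) ⟶ f.fiber y :=
      pullback.lift (ι ≫ pullback.snd f f) κ (by rw [Category.assoc, hκ2])
    have hb : b₁ = b₂ := by
      have := h y
      rw [← cancel_mono (f.fiberToSpecResidueField y)]
      exact (pullback.lift_snd _ _ _).trans (pullback.lift_snd _ _ _).symm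
    have ha : ι ≫ pullback.fst f f = ι ≫ pullback.snd f f := by
      have h1 : b₁ ≫ f.fiberι y = ι ≫ pullback.fst f f := pullback.lift_fst _ _ _
      have h2 : b₂ ≫ f.fiberι y = ι ≫ pullback.snd f f := pullback.lift_fst _ _ _
      rw [← h1, ← h2, hb]
    have hfac : (ι ≫ pullback.fst f f) ≫ pullback.diagonal f = ι := by
      apply pullback.hom_ext
      · rw [Category.assoc, pullback.diagonal_fst, Category.comp_id]
      · rw [Category.assoc, pullback.diagonal_snd, Category.comp_id, ha]
    obtain ⟨s⟩ : Nonempty (Spec (P.residueField z)) := inferInstance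
    refine ⟨(ι ≫ pullback.fst f f) s, ?_⟩
    rw [← Scheme.Hom.comp_apply, hfac]
    exact Scheme.fromSpecResidueField_apply z s
  have hepi : Epi (pullback.diagonal f).base := (TopCat.epi_iff_surjective _).mpr hsurj
  have hiso : IsIso (pullback.diagonal f) := IsOpenImmersion.isIso _
  exact (pullback.isIso_diagonal_iff f).mp hiso

end Groth.Agent.H25.MonoFibre
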