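import Mathlib
import Groth.Agent.H25.LocalLiftUnram
import Groth.Agent.H25.UnramDescent

set_option autoImplicit false
universe u
open scoped TensorProduct
open KaehlerDifferential CategoryTheory CategoryTheory.Limits AlgebraicGeometry

namespace Groth.Agent.H25.UnramBC

section ring

/-- tensoring a vector space with a field extension reflects and preserves nontriviality -/
theorem nontrivial_tensor_field_iff (K L V : Type*) [Field K] [Field L] [Algebra K L]
    [AddCommGroup V] [Module K V] : Nontrivial (L ⊗[K] V) ↔ Nontrivial V := by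
  constructor
  · intro h
    by_contra hV
    rw [not_nontrivial_iff_subsingleton] at hV
    have : Subsingleton (L ⊗[K] V) := inferInstance
    exact not_subsingleton _ this
  · intro h
    by_contra hV
    rw [not_nontrivial_iff_subsingleton] at hV
    have : Subsingleton V := Module.FaithfullyFlat.lTensor_reflects_triviality K L V
    exact not_subsingleton _ this

/-- support of a base-changed finite module -/
theorem mem_support_baseChange_iff (S S' M : Type*) [CommRing S] [CommRing S'] [Algebra S S']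
    [AddCommGroup M] [Module S M] [Module.Finite S M] (Q : PrimeSpectrum S') :
    Q ∈ Module.support S' (S' ⊗[S] M) ↔
      PrimeSpectrum.comap (algebraMap S S') Q ∈ Module.support S M := by
  rw [Module.mem_support_iff_nontrivial_residueField_tensorProduct,
    Module.mem_support_iff_nontrivial_residueField_tensorProduct]
  set q := PrimeSpectrum.comap (algebraMap S S') Q with hq
  let φ : q.asIdeal.ResidueField →ₐ[S] Q.asIdeal.ResidueField :=
    Ideal.ResidueField.mapₐ q.asIdeal Q.asIdeal (Algebra.ofId S S') rfl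
  let _ : Algebra q.asIdeal.ResidueField Q.asIdeal.ResidueField := φ.toRingHom.toAlgebra
  have : IsScalarTower S q.asIdeal.ResidueField Q.asIdeal.ResidueField :=
    IsScalarTower.of_algebraMap_eq fun r => (φ.commutes r).symm
  have e1 : Q.asIdeal.ResidueField ⊗[S'] (S' ⊗[S] M) ≃ₗ[Q.asIdeal.ResidueField]
      Q.asIdeal.ResidueField ⊗[S] M :=
    TensorProduct.AlgebraTensorModule.cancelBaseChange S S' Q.asIdeal.ResidueField
      Q.asIdeal.ResidueField M
  have e2 : Q.asIdeal.ResidueField ⊗[q.asIdeal.ResidueField] (q.asIdeal.ResidueField ⊗[S] M)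
      ≃ₗ[Q.asIdeal.ResidueField] Q.asIdeal.ResidueField ⊗[S] M :=
    TensorProduct.AlgebraTensorModule.cancelBaseChange S q.asIdeal.ResidueField
      Q.asIdeal.ResidueField Q.asIdeal.ResidueField M
  rw [e1.toEquiv.nontrivial_congr, ← e2.toEquiv.nontrivial_congr, nontrivial_tensor_field_iff]

variable (R S R' S' : Type u) [CommRing R] [CommRing S] [CommRing R'] [CommRing S']
  [Algebra R S] [Algebra R R'] [Algebra S S'] [Algebra R' S'] [Algebra R S']
  [IsScalarTower R S S'] [IsScalarTower R R' S']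

/-- pointwise unramifiedness commutes with arbitrary base change -/
theorem isUnramifiedAt_iff_of_isPushout [Algebra.IsPushout R R' S S'] [Algebra.EssFiniteType R S]
    (Q : Ideal S') [Q.IsPrime] :
    Algebra.IsUnramifiedAt R' Q ↔ Algebra.IsUnramifiedAt R (Q.under S) := by
  let Qp : PrimeSpectrum S' := ⟨Q, inferInstance⟩
  have h1 : Algebra.IsUnramifiedAt R' Q ↔ Qp ∈ Algebra.unramifiedLocus R' S' := Iff.rfl
  have h2 : Algebra.IsUnramifiedAt R (Q.under S) ↔
      PrimeSpectrum.comap (algebraMap S S') Qp ∈ Algebra.unramifiedLocus R S := Iff.rfl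
  rw [h1, h2, Algebra.unramifiedLocus_eq_compl_support, Algebra.unramifiedLocus_eq_compl_support,
    Set.mem_compl_iff, Set.mem_compl_iff, not_iff_not,
    ← (tensorKaehlerEquiv R R' S S').support_eq]
  exact mem_support_baseChange_iff S S' Ω[S⁄R] Qp

end ring

section scheme

open Groth.Agent.H25 Groth.Agent.H25.UnramDescent

variable {X' X Y' Y : Scheme.{u}} {p₁ : X' ⟶ X} {p₂ : X' ⟶ Y'} {f : X ⟶ Y} {g : Y' ⟶ Y}

/-- unramifiedness at a point commutes with arbitrary base change -/
theorem formallyUnramified_stalkMap_iff_of_isPullback (H : IsPullback p₁ p₂ f g)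
    [LocallyOfFiniteType f] (u : X') :
    (p₂.stalkMap u).hom.FormallyUnramified ↔ (f.stalkMap (p₁ u)).hom.FormallyUnramified := by
  have hcond : f (p₁ u) = g (p₂ u) := by
    rw [← Scheme.Hom.comp_apply, ← Scheme.Hom.comp_apply, H.w]
  obtain ⟨_, ⟨V, hV, rfl⟩, hxV, -⟩ :=
    Y.isBasis_affineOpens.exists_subset_of_mem_open (Set.mem_univ (f (p₁ u))) isOpen_univ
  obtain ⟨_, ⟨V', hV', rfl⟩, hyV', hV'V⟩ :=
    Y'.isBasis_affineOpens.exists_subset_of_mem_open
      (show p₂ u ∈ g ⁻¹ᵁ V by change g (p₂ u) ∈ V; rw [← hcond]; exact hxV)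
      (V.2.preimage g.continuous)
  obtain ⟨_, ⟨W, hW, rfl⟩, hxW, hWV⟩ :=
    X.isBasis_affineOpens.exists_subset_of_mem_open (show p₁ u ∈ f ⁻¹ᵁ V from hxV)
      (V.2.preimage f.continuous)
  let UY : X'.Opens := p₁ ⁻¹ᵁ W ⊓ p₂ ⁻¹ᵁ V'
  have huUY : u ∈ UY := ⟨hxW, hyV'⟩
  have hUY : IsAffineOpen UY := by
    have : IsAffine V := hV
    have : IsAffine V' := hV'
    have : IsAffine W := hW
    exact .of_isIso (Scheme.Hom.isPullback_resLE H hV'V hWV rfl).isoPullback.hom
  have hpush := (isIso_pushoutSection_iff H hV'V hWV (UY := UY) rfl).mp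
    (isIso_pushoutSection_of_isAffineOpen H hV'V hWV rfl hV hV' hW)
  have e₁ : UY ≤ p₁ ⁻¹ᵁ W := inf_le_left
  have e₂ : UY ≤ p₂ ⁻¹ᵁ V' := inf_le_right
  -- the ring-level data
  letI aS : Algebra Γ(Y, V) Γ(X, W) := (f.appLE V W hWV).hom.toAlgebra
  letI aR' : Algebra Γ(Y, V) Γ(Y', V') := (g.appLE V V' hV'V).hom.toAlgebra
  letI aSS' : Algebra Γ(X, W) Γ(X', UY) := (p₁.appLE W UY e₁).hom.toAlgebra
  letI aR'S' : Algebra Γ(Y', V') Γ(X', UY) := (p₂.appLE V' UY e₂).hom.toAlgebra
  letI aRS' : Algebra Γ(Y, V) Γ(X', UY) :=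
    ((p₁.appLE W UY e₁).hom.comp (f.appLE V W hWV).hom).toAlgebra
  have t1 : IsScalarTower Γ(Y, V) Γ(X, W) Γ(X', UY) :=
    IsScalarTower.of_algebraMap_eq' rfl
  have t2 : IsScalarTower Γ(Y, V) Γ(Y', V') Γ(X', UY) := by
    refine IsScalarTower.of_algebraMap_eq' ?_
    have := congrArg CommRingCat.Hom.hom hpush.w
    exact this
  have hP : Algebra.IsPushout Γ(Y, V) Γ(Y', V') Γ(X, W) Γ(X', UY) :=
    CommRingCat.isPushout_iff_isPushout.mp hpush.flip
  have hft : Algebra.FiniteType Γ(Y, V) Γ(X, W) := f.finiteType_appLE hV hW hWV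
  -- the primes
  have hcomap : (hUY.primeIdealOf ⟨u, huUY⟩).asIdeal.under Γ(X, W) =
      (hW.primeIdealOf ⟨p₁ u, hxW⟩).asIdeal :=
    congrArg PrimeSpectrum.asIdeal (IsAffineOpen.comap_primeIdealOf_appLE W hW UY hUY e₁ huUY)
  rw [formallyUnramified_stalkMap_iff V' hV' UY hUY e₂ huUY,
    formallyUnramified_stalkMap_iff V hV W hW hWV hxW]
  change Algebra.IsUnramifiedAt Γ(Y', V') (hUY.primeIdealOf ⟨u, huUY⟩).asIdeal ↔
    Algebra.IsUnramifiedAt Γ(Y, V) (hW.primeIdealOf ⟨p₁ u, hxW⟩).asIdeal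
  rw [isUnramifiedAt_iff_of_isPushout Γ(Y, V) Γ(X, W) Γ(Y', V') Γ(X', UY)]
  exact ⟨fun h => isUnramifiedAt_congr _ _ _ _ hcomap h,
    fun h => isUnramifiedAt_congr _ _ _ _ hcomap.symm h⟩

end scheme

end Groth.Agent.H25.UnramBC
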