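import Mathlib
import Groth.Agent.H25.FibreCrit
import Groth.Agent.H25.EtaleAt
import Groth.Agent.H25.EtaleStalk
import Groth.Agent.H25.UnramBC
import Groth.Agent.H25.FibreMap
import Groth.Agent.H25.MonoFibre

set_option autoImplicit false
universe u
open scoped TensorProduct
open CategoryTheory CategoryTheory.Limits AlgebraicGeometry

namespace Groth.Agent.H25.FibreEtale

/-- from étaleness at a prime of an affine chart to an étale neighbourhood -/
theorem exists_etale_nhd_of_isEtaleAt {X Y : Scheme.{u}} (f : X ⟶ Y)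
    [LocallyOfFinitePresentation f] (x : X) (V : Y.Opens) (hV : IsAffineOpen V) (W : X.Opens)
    (hW : IsAffineOpen W) (hWV : W ≤ f ⁻¹ᵁ V) (hxW : x ∈ W)
    (het : letI := (f.appLE V W hWV).hom.toAlgebra
      Algebra.IsEtaleAt Γ(Y, V) (hW.primeIdealOf ⟨x, hxW⟩).asIdeal) :
    ∃ U : X.Opens, x ∈ U ∧ Etale (U.ι ≫ f) := by
  have hfp := f.finitePresentation_appLE hV hW hWV
  algebraize [(f.appLE V W hWV).hom]
  let q := (hW.primeIdealOf ⟨x, hxW⟩).asIdeal
  have het' : Algebra.IsEtaleAt Γ(Y, V) q := het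
  obtain ⟨s, hsq, hs⟩ := Algebra.exists_etale_of_isEtaleAt (R := Γ(Y, V)) q
  let D : X.Opens := X.basicOpen s
  have hD : IsAffineOpen D := hW.basicOpen s
  have hDW : D ≤ W := X.basicOpen_le s
  have hxD : x ∈ D := (Groth.Agent.H7.mem_basicOpen_iff_notMem_primeIdealOf hW x hxW s).mpr hsq
  have hloc : IsLocalization.Away s Γ(X, D) := hW.isLocalization_basicOpen s
  have hDV : D ≤ f ⁻¹ᵁ V := hDW.trans hWV
  refine ⟨D, hxD, Groth.Agent.H7.etale_ι_comp_of_etale_appLE f V hV D hD hDV ?_⟩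
  let e : Localization.Away s ≃ₐ[Γ(X, W)] Γ(X, D) :=
    IsLocalization.algEquiv (Submonoid.powers s) (Localization.Away s) Γ(X, D)
  have hcomp : (f.appLE V D hDV).hom =
      e.toRingEquiv.toRingHom.comp (algebraMap Γ(Y, V) (Localization.Away s)) := by
    ext r
    change _ = e (algebraMap Γ(Y, V) (Localization.Away s) r)
    rw [IsScalarTower.algebraMap_apply Γ(Y, V) Γ(X, W) (Localization.Away s), e.commutes]
    change _ = (X.presheaf.map (homOfLE hDW).op).hom ((f.appLE V W hWV).hom r)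
    rw [← CommRingCat.comp_apply, Scheme.Hom.appLE_map]
  rw [hcomp]
  exact RingHom.Etale.respectsIso.1 _ e.toRingEquiv (RingHom.etale_algebraMap.mpr hs)

/-- local structure of a morphism at an unramified point -/
theorem exists_standardEtale_surjection {X Y : Scheme.{u}} (f : X ⟶ Y) [LocallyOfFiniteType f]
    (x : X) (hun : (f.stalkMap x).hom.FormallyUnramified) (V : Y.Opens) (hV : IsAffineOpen V)
    (hxV : f x ∈ V) :
    ∃ (D : X.Opens) (_ : IsAffineOpen D) (_ : x ∈ D) (hDV : D ≤ f ⁻¹ᵁ V)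
      (P : StandardEtalePair Γ(Y, V)) (ψ : P.Ring →+* Γ(X, D)), Function.Surjective ψ ∧
        ψ.comp (algebraMap Γ(Y, V) P.Ring) = (f.appLE V D hDV).hom := by
  obtain ⟨_, ⟨W, hW, rfl⟩, hxW, hWV⟩ :=
    X.isBasis_affineOpens.exists_subset_of_mem_open (show x ∈ f ⁻¹ᵁ V from hxV)
      (V.2.preimage f.continuous)
  have hft := f.finiteType_appLE hV hW hWV
  algebraize [(f.appLE V W hWV).hom]
  let q := (hW.primeIdealOf ⟨x, hxW⟩).asIdeal
  have hq : Algebra.IsUnramifiedAt Γ(Y, V) q :=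
    (Groth.Agent.H25.formallyUnramified_stalkMap_iff V hV W hW hWV hxW).mp hun
  obtain ⟨s, hsq, P, φ, hφ⟩ :=
    Algebra.IsUnramifiedAt.exists_hasStandardEtaleSurjectionOn (R := Γ(Y, V)) q
  let D : X.Opens := X.basicOpen s
  have hD : IsAffineOpen D := hW.basicOpen s
  have hDW : D ≤ W := X.basicOpen_le s
  have hxD : x ∈ D := (Groth.Agent.H7.mem_basicOpen_iff_notMem_primeIdealOf hW x hxW s).mpr hsq
  have hloc : IsLocalization.Away s Γ(X, D) := hW.isLocalization_basicOpen s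
  let e : Localization.Away s ≃ₐ[Γ(X, W)] Γ(X, D) :=
    IsLocalization.algEquiv (Submonoid.powers s) (Localization.Away s) Γ(X, D)
  let ψ : P.Ring →+* Γ(X, D) := (e : Localization.Away s →+* Γ(X, D)).comp (φ : P.Ring →+* _)
  have hψ : Function.Surjective ψ := e.surjective.comp hφ
  have hDV : D ≤ f ⁻¹ᵁ V := hDW.trans hWV
  refine ⟨D, hD, hxD, hDV, P, ψ, hψ, ?_⟩
  ext r
  change e (φ (algebraMap Γ(Y, V) P.Ring r)) = _
  rw [φ.commutes, IsScalarTower.algebraMap_apply Γ(Y, V) Γ(X, W) (Localization.Away s),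
    e.commutes]
  change (X.presheaf.map (homOfLE hDW).op).hom ((f.appLE V W hWV).hom r) = _
  rw [← CommRingCat.comp_apply, Scheme.Hom.appLE_map]

theorem appLE_congr_hom {X Y : Scheme.{u}} {k k' : X ⟶ Y} (hk : k = k') (V : Y.Opens)
    (U : X.Opens) (e : U ≤ k ⁻¹ᵁ V) : k.appLE V U e = k'.appLE V U (hk ▸ e) := by
  subst hk
  rfl

/-- **Fibrewise criterion for étaleness at a point**: `g : Y ⟶ S` and `f ≫ g` locally of finite
presentation, `X' = X ×_Y Y_s`, `f ≫ g` flat at `x = p₁ u`, and the fibre map `p₂ : X' ⟶ Y_s`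
flat and unramified at `u`. Then `f` is étale on a neighbourhood of `x`. -/
theorem exists_etale_nhd_of_fibre {X Y S X' : Scheme.{u}} (f : X ⟶ Y) (g : Y ⟶ S)
    [LocallyOfFinitePresentation g] [LocallyOfFinitePresentation (f ≫ g)] (s : S)
    {p₁ : X' ⟶ X} {p₂ : X' ⟶ g.fiber s} (H : IsPullback p₁ p₂ f (g.fiberι s)) (u : X')
    (hflat : ((f ≫ g).stalkMap (p₁ u)).hom.Flat)
    (hflat' : (p₂.stalkMap u).hom.Flat) (hunr' : (p₂.stalkMap u).hom.FormallyUnramified) :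
    ∃ U : X.Opens, p₁ u ∈ U ∧ Etale (U.ι ≫ f) := by
  have hlfp : LocallyOfFinitePresentation f := EtaleStalk.lfp_of_comp f g
  -- `f` is unramified at `x`
  have hunr : (f.stalkMap (p₁ u)).hom.FormallyUnramified :=
    (UnramBC.formallyUnramified_stalkMap_iff_of_isPullback H u).mp hunr'
  have hfx : f (p₁ u) = g.fiberι s (p₂ u) := by
    rw [← Scheme.Hom.comp_apply, ← Scheme.Hom.comp_apply, H.w]
  have hgs : g (f (p₁ u)) = s := by
    have h2 : g.fiberι s (p₂ u) ∈ g ⁻¹' {s} := by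
      rw [← g.range_fiberι s]; exact Set.mem_range_self _
    rw [hfx]; exact h2
  -- affine opens
  obtain ⟨_, ⟨VS, hVS, rfl⟩, hsVS, -⟩ :=
    S.isBasis_affineOpens.exists_subset_of_mem_open (Set.mem_univ s) isOpen_univ
  obtain ⟨_, ⟨VY, hVY, rfl⟩, hyVY, hVYS⟩ :=
    Y.isBasis_affineOpens.exists_subset_of_mem_open
      (show f (p₁ u) ∈ g ⁻¹ᵁ VS by change g (f (p₁ u)) ∈ VS; rw [hgs]; exact hsVS)
      (VS.2.preimage g.continuous)
  obtain ⟨D, hD, hxD, hDV, P, ψ, hψ, hψA⟩ :=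
    exists_standardEtale_surjection f (p₁ u) hunr VY hVY hyVY
  have hDS : D ≤ (f ≫ g) ⁻¹ᵁ VS := fun z hz => hVYS (hDV hz)
  -- the fibre square
  have H1 : IsPullback (g.fiberι s) (g.fiberToSpecResidueField s) g
      (S.fromSpecResidueField s) := IsPullback.of_hasPullback _ _
  let T : (Spec (S.residueField s)).Opens := ⊤
  have hT : IsAffineOpen T := isAffineOpen_top _
  have hTS : T ≤ (S.fromSpecResidueField s) ⁻¹ᵁ VS := by
    intro z _
    change S.fromSpecResidueField s z ∈ VS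
    rw [Scheme.fromSpecResidueField_apply]
    exact hsVS
  let U₁ : (g.fiber s).Opens := (g.fiberι s) ⁻¹ᵁ VY ⊓ (g.fiberToSpecResidueField s) ⁻¹ᵁ T
  have hU₁ : IsAffineOpen U₁ := by
    have : IsAffine VS := hVS
    have : IsAffine T := hT
    have : IsAffine VY := hVY
    exact .of_isIso (Scheme.Hom.isPullback_resLE H1 hTS hVYS rfl).isoPullback.hom
  have hpush := (isIso_pushoutSection_iff H1 hTS hVYS (UY := U₁) rfl).mp
    (isIso_pushoutSection_of_isAffineOpen H1 hTS hVYS rfl hVS hT hVY)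
  have e₁ : U₁ ≤ (g.fiberι s) ⁻¹ᵁ VY := inf_le_left
  have e₂ : U₁ ≤ (g.fiberToSpecResidueField s) ⁻¹ᵁ T := inf_le_right
  have hp₂u : p₂ u ∈ U₁ := ⟨by change g.fiberι s (p₂ u) ∈ VY; rw [← hfx]; exact hyVY, trivial⟩
  -- affine open of `X'`
  obtain ⟨_, ⟨U₂, hU₂, rfl⟩, huU₂, hU₂le⟩ :=
    X'.isBasis_affineOpens.exists_subset_of_mem_open
      (show u ∈ (p₁ ⁻¹ᵁ D ⊓ p₂ ⁻¹ᵁ U₁ : X'.Opens) from ⟨hxD, hp₂u⟩)
      (p₁ ⁻¹ᵁ D ⊓ p₂ ⁻¹ᵁ U₁ : X'.Opens).2
  have e₃ : U₂ ≤ p₁ ⁻¹ᵁ D := fun z hz => (hU₂le hz).1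
  have e₄ : U₂ ≤ p₂ ⁻¹ᵁ U₁ := fun z hz => (hU₂le hz).2
  -- ring-level data: `R = Γ(S, VS)`, `A = Γ(Y, VY)`, `B = Γ(X, D)`, `K = Γ(Spec κ(s), ⊤)`,
  -- `A_K = Γ(Y_s, U₁)`, `B_K = Γ(X', U₂)`
  letI aRA : Algebra Γ(S, VS) Γ(Y, VY) := (g.appLE VS VY hVYS).hom.toAlgebra
  letI aAB : Algebra Γ(Y, VY) Γ(X, D) := (f.appLE VY D hDV).hom.toAlgebra
  letI aRB : Algebra Γ(S, VS) Γ(X, D) := ((f ≫ g).appLE VS D hDS).hom.toAlgebra
  haveI tRAB : IsScalarTower Γ(S, VS) Γ(Y, VY) Γ(X, D) := by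
    refine IsScalarTower.of_algebraMap_eq' ?_
    change ((f ≫ g).appLE VS D hDS).hom = (f.appLE VY D hDV).hom.comp (g.appLE VS VY hVYS).hom
    rw [← CommRingCat.hom_comp, Scheme.Hom.appLE_comp_appLE]
  letI aRK : Algebra Γ(S, VS) Γ(Spec (S.residueField s), T) :=
    ((S.fromSpecResidueField s).appLE VS T hTS).hom.toAlgebra
  letI aKAK : Algebra Γ(Spec (S.residueField s), T) Γ(g.fiber s, U₁) :=
    ((g.fiberToSpecResidueField s).appLE T U₁ e₂).hom.toAlgebra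
  letI aAAK : Algebra Γ(Y, VY) Γ(g.fiber s, U₁) := ((g.fiberι s).appLE VY U₁ e₁).hom.toAlgebra
  letI aRAK : Algebra Γ(S, VS) Γ(g.fiber s, U₁) :=
    (((g.fiberι s).appLE VY U₁ e₁).hom.comp (g.appLE VS VY hVYS).hom).toAlgebra
  haveI tRAAK : IsScalarTower Γ(S, VS) Γ(Y, VY) Γ(g.fiber s, U₁) :=
    IsScalarTower.of_algebraMap_eq' rfl
  haveI tRKAK : IsScalarTower Γ(S, VS) Γ(Spec (S.residueField s), T) Γ(g.fiber s, U₁) := by
    refine IsScalarTower.of_algebraMap_eq' ?_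
    have := congrArg CommRingCat.Hom.hom hpush.w
    exact this
  haveI hP : Algebra.IsPushout Γ(S, VS) Γ(Spec (S.residueField s), T) Γ(Y, VY)
      Γ(g.fiber s, U₁) := CommRingCat.isPushout_iff_isPushout.mp hpush.flip
  letI aAKBK : Algebra Γ(g.fiber s, U₁) Γ(X', U₂) := (p₂.appLE U₁ U₂ e₄).hom.toAlgebra
  letI aBBK : Algebra Γ(X, D) Γ(X', U₂) := (p₁.appLE D U₂ e₃).hom.toAlgebra
  letI aABK : Algebra Γ(Y, VY) Γ(X', U₂) :=
    ((p₁.appLE D U₂ e₃).hom.comp (f.appLE VY D hDV).hom).toAlgebra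
  haveI tABBK : IsScalarTower Γ(Y, VY) Γ(X, D) Γ(X', U₂) := IsScalarTower.of_algebraMap_eq' rfl
  haveI tAAKBK : IsScalarTower Γ(Y, VY) Γ(g.fiber s, U₁) Γ(X', U₂) := by
    refine IsScalarTower.of_algebraMap_eq' ?_
    change (p₁.appLE D U₂ e₃).hom.comp (f.appLE VY D hDV).hom =
      (p₂.appLE U₁ U₂ e₄).hom.comp ((g.fiberι s).appLE VY U₁ e₁).hom
    rw [← CommRingCat.hom_comp, ← CommRingCat.hom_comp, Scheme.Hom.appLE_comp_appLE,
      Scheme.Hom.appLE_comp_appLE, appLE_congr_hom H.w]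
  letI aAP : Algebra Γ(Y, VY) P.Ring := inferInstance
  letI aRP : Algebra Γ(S, VS) P.Ring :=
    ((algebraMap Γ(Y, VY) P.Ring).comp (algebraMap Γ(S, VS) Γ(Y, VY))).toAlgebra
  haveI tRAP : IsScalarTower Γ(S, VS) Γ(Y, VY) P.Ring := IsScalarTower.of_algebraMap_eq' rfl
  -- `K` is a field and `R → K` is surjective on stalks
  have hK0 : IsField Γ(Spec (S.residueField s), T) :=
    MulEquiv.isField (Field.toIsField (S.residueField s))
      (Scheme.ΓSpecIso (S.residueField s)).commRingCatIsoToRingEquiv.toMulEquiv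
  have hK1 : (algebraMap Γ(S, VS) Γ(Spec (S.residueField s), T)).SurjectiveOnStalks :=
    HasRingHomProperty.appLE (P := @SurjectiveOnStalks) (S.fromSpecResidueField s) inferInstance
      ⟨VS, hVS⟩ ⟨T, hT⟩ hTS
  -- the surjection `P → B`
  let ψ' : P.Ring →ₐ[Γ(Y, VY)] Γ(X, D) :=
    { ψ with commutes' := fun r => congrFun (congrArg DFunLike.coe hψA) r }
  have hψ' : Function.Surjective ψ' := hψ
  haveI hfpB : Algebra.FinitePresentation Γ(Y, VY) Γ(X, D) :=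
    f.finitePresentation_appLE hVY hD hDV
  have hker : (RingHom.ker ψ'.toRingHom).FG :=
    Algebra.FinitePresentation.ker_fG_of_surjective ψ' hψ'
  -- the primes
  let Q : Ideal Γ(X', U₂) := (hU₂.primeIdealOf ⟨u, huU₂⟩).asIdeal
  let q : Ideal Γ(X, D) := (hD.primeIdealOf ⟨p₁ u, hxD⟩).asIdeal
  have hq : q = Q.comap (algebraMap Γ(X, D) Γ(X', U₂)) :=
    (congrArg PrimeSpectrum.asIdeal
      (IsAffineOpen.comap_primeIdealOf_appLE D hD U₂ hU₂ e₃ huU₂)).symm
  have hflatR : Module.Flat Γ(S, VS) (Localization.AtPrime q) :=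
    EtaleAt.flat_localization_of_flat_stalkMap VS hVS D hD hDS hxD hflat
  have hflatK : Module.Flat Γ(g.fiber s, U₁) (Localization.AtPrime Q) :=
    EtaleAt.flat_localization_of_flat_stalkMap U₁ hU₁ U₂ hU₂ e₄ huU₂ hflat'
  have het : Algebra.IsEtaleAt Γ(Y, VY) q :=
    FibreCrit.isEtaleAt_of_fibre (R := Γ(S, VS)) (A := Γ(Y, VY)) (B := Γ(X, D))
      (K := Γ(Spec (S.residueField s), T)) (A_K := Γ(g.fiber s, U₁)) (B_K := Γ(X', U₂))
      (P := P.Ring) hK0 hK1 ψ' hψ' hker Q q hq hflatR hflatK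
  exact exists_etale_nhd_of_isEtaleAt f (p₁ u) VY hVY D hD hDV hxD het

theorem flat_stalkMap_congr {X Y : Scheme.{u}} (f : X ⟶ Y) {x y : X} (e : x = y) :
    (f.stalkMap x).hom.Flat ↔ (f.stalkMap y).hom.Flat := by
  subst e
  rfl

theorem flat_stalkMap_of_flat_nhd {X Y : Scheme.{u}} (k : X ⟶ Y) (x : X) (U : X.Opens)
    (hxU : x ∈ U) [Flat (U.ι ≫ k)] : (k.stalkMap x).hom.Flat := by
  have h1 := Flat.stalkMap (U.ι ≫ k) ⟨x, hxU⟩
  rw [Scheme.Hom.stalkMap_comp] at h1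
  exact (RingHom.Flat.respectsIso.cancel_right_isIso
    (k.stalkMap (U.ι ⟨x, hxU⟩)) (U.ι.stalkMap ⟨x, hxU⟩)).mp h1

/-- étale neighbourhoods pull back -/
theorem exists_etale_nhd_baseChange {X' X Y' Y : Scheme.{u}} {p₁ : X' ⟶ X} {p₂ : X' ⟶ Y'}
    {f : X ⟶ Y} {g : Y' ⟶ Y} (H : IsPullback p₁ p₂ f g) (u : X')
    (h : ∃ U : X.Opens, p₁ u ∈ U ∧ Etale (U.ι ≫ f)) :
    ∃ V : X'.Opens, u ∈ V ∧ Etale (V.ι ≫ p₂) := by
  obtain ⟨U, hU, hUe⟩ := h
  refine ⟨p₁ ⁻¹ᵁ U, hU, ?_⟩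
  have h1 : IsPullback (p₁ ∣_ U) (p₁ ⁻¹ᵁ U).ι U.ι p₁ := isPullback_morphismRestrict p₁ U
  have h2 := h1.paste_vert H
  exact MorphismProperty.of_isPullback (P := @Etale) h2 hUe

/-- the fibrewise criterion, neighbourhood form -/
theorem exists_etale_nhd_of_fibre' {X Y S X' : Scheme.{u}} (f : X ⟶ Y) (g : Y ⟶ S)
    [LocallyOfFinitePresentation g] [LocallyOfFinitePresentation (f ≫ g)] (s : S)
    {p₁ : X' ⟶ X} {p₂ : X' ⟶ g.fiber s} (H : IsPullback p₁ p₂ f (g.fiberι s)) (u : X')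
    (hflat : ((f ≫ g).stalkMap (p₁ u)).hom.Flat)
    (h : ∃ V : X'.Opens, u ∈ V ∧ Etale (V.ι ≫ p₂)) :
    ∃ U : X.Opens, p₁ u ∈ U ∧ Etale (U.ι ≫ f) := by
  obtain ⟨V, hV, hVe⟩ := h
  have h1 : (p₂.stalkMap u).hom.Flat := flat_stalkMap_of_flat_nhd p₂ u V hV
  have h2 : (p₂.stalkMap u).hom.FormallyEtale :=
    EtaleStalk.formallyEtale_stalkMap_of_etale_nhd p₂ u V hV
  have h3 : (p₂.stalkMap u).hom.FormallyUnramified := by
    algebraize [(p₂.stalkMap u).hom]
    have : Algebra.FormallyEtale _ _ := h2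
    show Algebra.FormallyUnramified _ _
    infer_instance
  exact exists_etale_nhd_of_fibre f g s H u hflat h1 h3

/-- étaleness can be checked on the fibres over the base, for flat source -/
theorem etale_of_fibres {X Y S : Scheme.{u}} (f : X ⟶ Y) (g : Y ⟶ S)
    [LocallyOfFinitePresentation g] [LocallyOfFinitePresentation (f ≫ g)] [Flat (f ≫ g)]
    (h : ∀ s : S, Etale (pullback.snd f (g.fiberι s))) : Etale f := by
  have key : ∀ x : X, ∃ U : X.Opens, x ∈ U ∧ Etale (U.ι ≫ f) := by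
    intro x
    set s := g (f x) with hs
    have H : IsPullback (pullback.fst f (g.fiberι s)) (pullback.snd f (g.fiberι s)) f
      (g.fiberι s) := IsPullback.of_hasPullback _ _
    have hmem : f x ∈ Set.range (g.fiberι s) := by
      rw [g.range_fiberι s]; rfl
    obtain ⟨y', hy'⟩ := hmem
    obtain ⟨u, hu1, hu2⟩ := Scheme.Pullback.exists_preimage_pullback x y' hy'.symm
    have hfl : ((f ≫ g).stalkMap (pullback.fst f (g.fiberι s) u)).hom.Flat :=
      Flat.stalkMap (f ≫ g) _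
    have := h s
    obtain ⟨U, hU, hUe⟩ := exists_etale_nhd_of_fibre' f g s H u hfl ⟨⊤, trivial, inferInstance⟩
    exact ⟨U, hu1 ▸ hU, hUe⟩
  choose U hxU hU using key
  refine IsZariskiLocalAtSource.of_iSup_eq_top (P := @Etale) U ?_ hU
  exact top_le_iff.mp fun x _ => TopologicalSpace.Opens.mem_iSup.mpr ⟨x, hxU x⟩

/-- monomorphy can be checked on the fibres over the base -/
theorem mono_of_fibres_over {X Y S : Scheme.{u}} (f : X ⟶ Y) (g : Y ⟶ S) [LocallyOfFiniteType f]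
    (h : ∀ s : S, Mono (pullback.snd f (g.fiberι s))) : Mono f := by
  refine MonoFibre.mono_of_fibres f fun y => ?_
  set s := g y with hs
  let j : Spec (Y.residueField y) ⟶ g.fiber s :=
    pullback.lift (Y.fromSpecResidueField y) (Spec.map (g.residueFieldMap y))
      (Scheme.Hom.SpecMap_residueFieldMap_fromSpecResidueField g y).symm
  have hj : j ≫ g.fiberι s = Y.fromSpecResidueField y := pullback.lift_fst _ _ _
  have Hs : IsPullback (pullback.fst f (g.fiberι s)) (pullback.snd f (g.fiberι s)) f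
      (g.fiberι s) := IsPullback.of_hasPullback _ _
  have Hy : IsPullback (f.fiberι y) (f.fiberToSpecResidueField y) f
      (Y.fromSpecResidueField y) := IsPullback.of_hasPullback _ _
  let l : f.fiber y ⟶ pullback f (g.fiberι s) :=
    pullback.lift (f.fiberι y) (f.fiberToSpecResidueField y ≫ j)
      (by rw [Category.assoc, hj]; exact Hy.w)
  have hl1 : l ≫ pullback.fst f (g.fiberι s) = f.fiberι y := pullback.lift_fst _ _ _
  have hl2 : l ≫ pullback.snd f (g.fiberι s) = f.fiberToSpecResidueField y ≫ j :=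
    pullback.lift_snd _ _ _
  rw [← hj, ← hl1] at Hy
  have Hleft : IsPullback l (f.fiberToSpecResidueField y) (pullback.snd f (g.fiberι s)) j :=
    IsPullback.of_right Hy hl2 Hs
  have := h s
  exact Hleft.mono_snd_of_mono

end Groth.Agent.H25.FibreEtale
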