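import Mathlib
import Groth.Agent.H25.FibreCrit
import Groth.Agent.H25.UnramBC

set_option autoImplicit false
universe u
open scoped TensorProduct

namespace Groth.Agent.H25.FibreSmooth
open Groth.Agent.H25.FibreCrit

section rt2

variable {R A B K A_K B_K : Type u} [CommRing R] [CommRing A] [CommRing B] [CommRing K]
  [CommRing A_K] [CommRing B_K]
  [Algebra R A] [Algebra A B] [Algebra R B] [IsScalarTower R A B]
  [Algebra R K] [Algebra K A_K] [Algebra A A_K] [Algebra R A_K] [IsScalarTower R K A_K]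
  [IsScalarTower R A A_K] [Algebra.IsPushout R K A A_K]
  [Algebra A_K B_K] [Algebra B B_K] [Algebra A B_K] [IsScalarTower A A_K B_K]
  [IsScalarTower A B B_K]

/-- fibrewise criterion for étaleness at a prime, for a finitely presented algebra unramified at
the prime -/
theorem isEtaleAt_of_fibre_of_isUnramifiedAt [Algebra.FinitePresentation A B]
    (hK0 : IsField K) (hK1 : (algebraMap R K).SurjectiveOnStalks)
    (Q : Ideal B_K) [Q.IsPrime] (q : Ideal B) [q.IsPrime]
    (hq : q = Q.comap (algebraMap B B_K))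
    (hflatR : Module.Flat R (Localization.AtPrime q))
    (hflatK : Module.Flat A_K (Localization.AtPrime Q))
    (hunr : Algebra.IsUnramifiedAt A q) : Algebra.IsEtaleAt A q := by
  obtain ⟨g, hgq, P, φ, hφ⟩ :=
    Algebra.IsUnramifiedAt.exists_hasStandardEtaleSurjectionOn (R := A) q
  let Bg := Localization.Away g
  let C := Localization.AtPrime Q
  have hgQ : algebraMap B B_K g ∉ Q := fun h => hgq (by rw [hq]; exact h)
  have hunit : IsUnit (((algebraMap B_K C).comp (algebraMap B B_K)) g) :=
    IsLocalization.map_units C (⟨algebraMap B B_K g, hgQ⟩ : Q.primeCompl)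
  let l : Bg →+* C := IsLocalization.Away.lift g hunit
  have hl : ∀ b : B, l (algebraMap B Bg b) = algebraMap B_K C (algebraMap B B_K b) :=
    fun b => IsLocalization.Away.lift_eq g hunit b
  letI aBgC : Algebra Bg C := l.toAlgebra
  haveI t1 : IsScalarTower A Bg C := IsScalarTower.of_algebraMap_eq fun a => by
    change algebraMap A C a = l (algebraMap A Bg a)
    rw [IsScalarTower.algebraMap_apply A B Bg, hl, ← IsScalarTower.algebraMap_apply A B B_K,
      ← IsScalarTower.algebraMap_apply A B_K C]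
  haveI t2 : IsScalarTower A A_K C := IsScalarTower.of_algebraMap_eq fun a => by
    rw [IsScalarTower.algebraMap_apply A B_K C, IsScalarTower.algebraMap_apply A A_K B_K,
      ← IsScalarTower.algebraMap_apply A_K B_K C]
  let Q' : Ideal C := IsLocalRing.maximalIdeal C
  let q' : Ideal Bg := Q'.comap (algebraMap Bg C)
  haveI : q'.IsPrime := Ideal.comap_isPrime _ _
  -- `q'` contracts to `q`
  have hq'q : q'.comap (algebraMap B Bg) = q := by
    ext b
    change l (algebraMap B Bg b) ∈ IsLocalRing.maximalIdeal C ↔ b ∈ q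
    rw [hl, IsLocalization.AtPrime.to_map_mem_maximal_iff C Q, hq]
    rfl
  -- the local ring of `Bg` at `q'` is the local ring of `B` at `q`
  subst hq'q
  haveI hloc : IsLocalization.AtPrime (Localization.AtPrime q') (q'.comap (algebraMap B Bg)) :=
    IsLocalization.isLocalization_isLocalization_atPrime_isLocalization
      (Submonoid.powers g) (Localization.AtPrime q') q'
  let e : Localization.AtPrime (q'.comap (algebraMap B Bg)) ≃ₐ[B] Localization.AtPrime q' :=
    IsLocalization.algEquiv (q'.comap (algebraMap B Bg)).primeCompl _ _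
  have hflatR' : Module.Flat R (Localization.AtPrime q') :=
    Module.Flat.of_linearEquiv (e.restrictScalars R).toLinearEquiv.symm
  -- the local ring `C` is its own localization at the maximal ideal
  let e' : C ≃ₐ[C] Localization.AtPrime Q' :=
    IsLocalization.atUnits C Q'.primeCompl (by
      intro c hc
      by_contra hcon
      exact hc ((IsLocalRing.mem_maximalIdeal _).mpr hcon))
  have hflatK' : Module.Flat A_K (Localization.AtPrime Q') :=
    Module.Flat.of_linearEquiv (e'.restrictScalars A_K).toLinearEquiv.symm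
  -- apply the criterion to `Bg`
  letI aRP : Algebra R P.Ring :=
    ((algebraMap A P.Ring).comp (algebraMap R A)).toAlgebra
  haveI tRAP : IsScalarTower R A P.Ring := IsScalarTower.of_algebraMap_eq' rfl
  haveI hfpBg : Algebra.FinitePresentation A Bg :=
    Algebra.FinitePresentation.trans A B Bg
  have hker : (RingHom.ker φ.toRingHom).FG :=
    Algebra.FinitePresentation.ker_fG_of_surjective φ hφ
  have het : Algebra.IsEtaleAt A q' :=
    isEtaleAt_of_fibre (R := R) (A := A) (B := Bg) (K := K) (A_K := A_K) (B_K := C)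
      (P := P.Ring) hK0 hK1 φ hφ hker Q' q' rfl hflatR' hflatK'
  exact Algebra.FormallyEtale.of_equiv (e.restrictScalars A).symm

end rt2

/-- every element of `B_K = B ⊗_R K` is, up to a unit coming from `K`, the image of an element
of `B` -/
theorem exists_mul_algebraMap_eq (R A : Type u) {B K A_K B_K : Type u} [CommRing R] [CommRing A]
    [CommRing B] [CommRing K] [CommRing A_K] [CommRing B_K]
    [Algebra R A] [Algebra A B] [Algebra R B] [IsScalarTower R A B]
    [Algebra R K] [Algebra K A_K] [Algebra A A_K] [Algebra R A_K] [IsScalarTower R K A_K]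
    [IsScalarTower R A A_K] [Algebra.IsPushout R K A A_K]
    [Algebra A_K B_K] [Algebra B B_K] [Algebra A B_K] [IsScalarTower A A_K B_K]
    [IsScalarTower A B B_K] [Algebra.IsPushout A A_K B B_K] (hK0 : IsField K) (hK1 : (algebraMap R K).SurjectiveOnStalks)
    (β : B_K) : ∃ (b : B) (k : K), k ≠ 0 ∧
      β * algebraMap A_K B_K (algebraMap K A_K k) = algebraMap B B_K b := by
  have hKdom : IsDomain K := hK0.isDomain
  let θ : A_K ⊗[A] B ≃ₐ[A_K] B_K := Algebra.IsPushout.equiv A A_K B B_K
  have hθ : ∀ (a : A_K) (b : B), θ (a ⊗ₜ b) = algebraMap A_K B_K a * algebraMap B B_K b := by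
    intro a b
    rw [Algebra.IsPushout.equiv_tmul, mul_comm]
  let Φ : A_K ⊗[A] B ≃ₐ[K] K ⊗[R] B := Algebra.IsPushout.cancelBaseChangeAlg R K A A_K B
  let cm : K ⊗[R] B ≃ₐ[R] B ⊗[R] K := Algebra.TensorProduct.comm R K B
  let x : B ⊗[R] K := cm (Φ (θ.symm β))
  obtain ⟨t, r, a, hrt, e⟩ := RingHom.SurjectiveOnStalks.exists_mul_eq_tmul hK1 x ⊥
    Ideal.isPrime_bot
  have hrt0 : r • t ≠ 0 := fun h => hrt (by rw [h]; exact Ideal.zero_mem _)
  have ht0 : t ≠ 0 := fun h => hrt0 (by rw [h, smul_zero])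
  obtain ⟨tinv, htinv⟩ := hK0.mul_inv_cancel ht0
  let Ξ : B ⊗[R] K →+* B_K :=
    (θ : A_K ⊗[A] B →+* B_K).comp
      ((Φ.symm : K ⊗[R] B →+* A_K ⊗[A] B).comp (cm.symm : B ⊗[R] K →+* K ⊗[R] B))
  have hΞ : ∀ (b : B) (k : K), Ξ (b ⊗ₜ k) =
      algebraMap A_K B_K (algebraMap K A_K k) * algebraMap B B_K b := by
    intro b k
    change θ (Φ.symm (cm.symm (b ⊗ₜ k))) = _
    rw [show cm.symm (b ⊗ₜ[R] k) = k ⊗ₜ b from rfl,
      Algebra.IsPushout.cancelBaseChangeAlg_symm_tmul, hθ]
  have hΞx : Ξ x = β := by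
    change θ (Φ.symm (cm.symm (cm (Φ (θ.symm β))))) = _
    rw [AlgEquiv.symm_apply_apply, AlgEquiv.symm_apply_apply, AlgEquiv.apply_symm_apply]
  have h1 := congrArg Ξ e
  rw [map_mul, hΞx, hΞ, hΞ, map_one, mul_one] at h1
  refine ⟨a, (r • t) * tinv, ?_, ?_⟩
  · intro h0
    have : r • t = 0 := by
      have h2 : (r • t) * tinv * t = 0 := by rw [h0, zero_mul]
      rwa [mul_assoc, mul_comm tinv t, htinv, mul_one] at h2
    exact hrt0 this
  · have h3 : algebraMap A_K B_K (algebraMap K A_K t) *
        algebraMap A_K B_K (algebraMap K A_K tinv) = 1 := by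
      rw [← map_mul, ← map_mul, htinv, map_one, map_one]
    calc β * algebraMap A_K B_K (algebraMap K A_K ((r • t) * tinv))
        = (algebraMap A_K B_K (algebraMap K A_K (r • t)) * β) *
            algebraMap A_K B_K (algebraMap K A_K tinv) := by
          rw [map_mul, map_mul]; ring
      _ = (algebraMap A_K B_K (algebraMap K A_K t) * algebraMap B B_K a) *
            algebraMap A_K B_K (algebraMap K A_K tinv) := by rw [h1]
      _ = algebraMap B B_K a := by
          rw [mul_comm (algebraMap A_K B_K (algebraMap K A_K t)), mul_assoc, h3, mul_one]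


/-- the same statement for a localisation `C₁ = (B_K)_{f'}` and `B₁ = B_{f₀}` where
`f' * k₀ = f₀` -/
theorem exists_mul_algebraMap_eq_away (R A : Type u) {B K A_K B_K : Type u} [CommRing R]
    [CommRing A] [CommRing B] [CommRing K] [CommRing A_K] [CommRing B_K]
    [Algebra R A] [Algebra A B] [Algebra R B] [IsScalarTower R A B]
    [Algebra R K] [Algebra K A_K] [Algebra A A_K] [Algebra R A_K] [IsScalarTower R K A_K]
    [IsScalarTower R A A_K] [Algebra.IsPushout R K A A_K]
    [Algebra A_K B_K] [Algebra B B_K] [Algebra A B_K] [IsScalarTower A A_K B_K]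
    [IsScalarTower A B B_K] [Algebra.IsPushout A A_K B B_K] (hK0 : IsField K)
    (hK1 : (algebraMap R K).SurjectiveOnStalks) (f' : B_K) (f₀ : B) (k₀ : K) (hk₀ : k₀ ≠ 0)
    (hf₀ : f' * algebraMap A_K B_K (algebraMap K A_K k₀) = algebraMap B B_K f₀)
    (ι₁ : Localization.Away f₀ →+* Localization.Away f')
    (hι₁ : ∀ b : B, ι₁ (algebraMap B (Localization.Away f₀) b) =
      algebraMap B_K (Localization.Away f') (algebraMap B B_K b))
    (c : Localization.Away f') :
    ∃ (b₁ : Localization.Away f₀) (k : K), k ≠ 0 ∧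
      c * algebraMap B_K (Localization.Away f') (algebraMap A_K B_K (algebraMap K A_K k)) =
        ι₁ b₁ := by
  have hKdom : IsDomain K := hK0.isDomain
  obtain ⟨k₀inv, hk₀inv⟩ := hK0.mul_inv_cancel hk₀
  let ιK : K →+* Localization.Away f' :=
    (algebraMap B_K (Localization.Away f')).comp ((algebraMap A_K B_K).comp (algebraMap K A_K))
  have hιK : ∀ k : K, algebraMap B_K (Localization.Away f')
      (algebraMap A_K B_K (algebraMap K A_K k)) = ιK k := fun _ => rfl
  obtain ⟨⟨β, ⟨_, m, rfl⟩⟩, hc⟩ := IsLocalization.surj (Submonoid.powers f') c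
  simp only at hc
  obtain ⟨b, k, hk, hb⟩ := exists_mul_algebraMap_eq R A (B := B) (K := K) (A_K := A_K)
    (B_K := B_K) hK0 hK1 β
  have hf'u : IsUnit (algebraMap B_K (Localization.Away f') f') :=
    IsLocalization.Away.algebraMap_isUnit f'
  refine ⟨IsLocalization.mk' (Localization.Away f₀) b
    (⟨f₀ ^ m, m, rfl⟩ : Submonoid.powers f₀), k * k₀inv ^ m, ?_, ?_⟩
  · have h1 : k₀inv ≠ 0 := fun h => by rw [h, mul_zero] at hk₀inv; exact zero_ne_one hk₀inv
    exact mul_ne_zero hk (pow_ne_zero m h1)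
  · -- multiply both sides by the unit `alg f' ^ m * ιK k₀ ^ m`
    have hunit : IsUnit (algebraMap B_K (Localization.Away f') f' ^ m * ιK k₀ ^ m) := by
      refine (hf'u.pow m).mul (IsUnit.pow m ?_)
      exact IsUnit.of_mul_eq_one (ιK k₀inv) (by rw [← map_mul, hk₀inv, map_one])
    apply hunit.mul_left_injective
    simp only
    have h2 : ι₁ (IsLocalization.mk' (Localization.Away f₀) b
        (⟨f₀ ^ m, m, rfl⟩ : Submonoid.powers f₀)) *
        (algebraMap B_K (Localization.Away f') f' ^ m * ιK k₀ ^ m) =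
        algebraMap B_K (Localization.Away f') (algebraMap B B_K b) := by
      have h3 : algebraMap B_K (Localization.Away f') f' ^ m * ιK k₀ ^ m =
          ι₁ (algebraMap B (Localization.Away f₀) (f₀ ^ m)) := by
        rw [hι₁, map_pow (algebraMap B B_K), ← hf₀, map_pow, map_mul, mul_pow, hιK]
      rw [h3, ← map_mul, IsLocalization.mk'_spec, hι₁]
    have hkk : algebraMap B_K (Localization.Away f')
        (algebraMap A_K B_K (algebraMap K A_K (k * k₀inv ^ m))) = ιK k * ιK k₀inv ^ m := by
      rw [hιK, map_mul, map_pow]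
    rw [hkk, h2, ← hb, map_mul (algebraMap B_K (Localization.Away f')), hιK]
    have h4 : ιK k₀inv ^ m * ιK k₀ ^ m = 1 := by
      rw [← mul_pow, ← map_mul, mul_comm, hk₀inv, map_one, one_pow]
    calc c * (ιK k * ιK k₀inv ^ m) * (algebraMap B_K (Localization.Away f') f' ^ m * ιK k₀ ^ m)
        = (c * algebraMap B_K (Localization.Away f') f' ^ m) * ιK k *
            (ιK k₀inv ^ m * ιK k₀ ^ m) := by ring
      _ = algebraMap B_K (Localization.Away f') β * ιK k := by
          rw [h4, mul_one, ← map_pow, hc]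


/-- rescaling the variables of an étale map from a polynomial ring by units -/
theorem exists_rescale {A' C : Type u} [CommRing A'] [CommRing C] [Algebra A' C] (n : ℕ)
    (φ : MvPolynomial (Fin n) A' →+* C)
    (hφC : φ.comp MvPolynomial.C = algebraMap A' C) (hφ : φ.Etale) (u : Fin n → A')
    (hu : ∀ i, IsUnit (u i)) :
    ∃ φ' : MvPolynomial (Fin n) A' →+* C, φ'.comp MvPolynomial.C = algebraMap A' C ∧ φ'.Etale ∧
      ∀ i, φ' (MvPolynomial.X i) = algebraMap A' C (u i) * φ (MvPolynomial.X i) := by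
  choose v hv using fun i => (hu i).exists_right_inv
  let σ : MvPolynomial (Fin n) A' →ₐ[A'] MvPolynomial (Fin n) A' :=
    MvPolynomial.aeval fun i => MvPolynomial.C (u i) * MvPolynomial.X i
  let σinv : MvPolynomial (Fin n) A' →ₐ[A'] MvPolynomial (Fin n) A' :=
    MvPolynomial.aeval fun i => MvPolynomial.C (v i) * MvPolynomial.X i
  have h1 : σ.comp σinv = AlgHom.id A' _ := by
    apply MvPolynomial.algHom_ext
    intro i
    simp only [AlgHom.comp_apply, AlgHom.id_apply, σ, σinv, MvPolynomial.aeval_X, map_mul,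
      MvPolynomial.aeval_C, MvPolynomial.algebraMap_eq]
    rw [← mul_assoc, ← map_mul, mul_comm (v i), hv i, map_one, one_mul]
  have h2 : σinv.comp σ = AlgHom.id A' _ := by
    apply MvPolynomial.algHom_ext
    intro i
    simp only [AlgHom.comp_apply, AlgHom.id_apply, σ, σinv, MvPolynomial.aeval_X, map_mul,
      MvPolynomial.aeval_C, MvPolynomial.algebraMap_eq]
    rw [← mul_assoc, ← map_mul, hv i, map_one, one_mul]
  let e : MvPolynomial (Fin n) A' ≃ₐ[A'] MvPolynomial (Fin n) A' := AlgEquiv.ofAlgHom σ σinv h1 h2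
  refine ⟨φ.comp e.toRingEquiv.toRingHom, ?_, RingHom.Etale.respectsIso.2 φ e.toRingEquiv hφ, ?_⟩
  · ext a
    change φ (σ (MvPolynomial.C a)) = _
    rw [show σ (MvPolynomial.C a) = MvPolynomial.C a from MvPolynomial.aeval_C _ a]
    exact congrFun (congrArg DFunLike.coe hφC) a
  · intro i
    change φ (σ (MvPolynomial.X i)) = _
    rw [show σ (MvPolynomial.X i) = MvPolynomial.C (u i) * MvPolynomial.X i from
      MvPolynomial.aeval_X _ i, map_mul]
    congr 1
    exact congrFun (congrArg DFunLike.coe hφC) (u i)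


section main

variable {R A B K A_K B_K : Type u} [CommRing R] [CommRing A] [CommRing B] [CommRing K]
  [CommRing A_K] [CommRing B_K]
  [Algebra R A] [Algebra A B] [Algebra R B] [IsScalarTower R A B]
  [Algebra R K] [Algebra K A_K] [Algebra A A_K] [Algebra R A_K] [IsScalarTower R K A_K]
  [IsScalarTower R A A_K] [Algebra.IsPushout R K A A_K]
  [Algebra A_K B_K] [Algebra B B_K] [Algebra A B_K] [IsScalarTower A A_K B_K]
  [IsScalarTower A B B_K] [Algebra.IsPushout A A_K B B_K]

/-- Step 1: the smooth fibre is, near `Q`, étale over a polynomial ring over `A_K`. -/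
theorem exists_etale_mvPolynomial [Algebra.FinitePresentation A B] (Q : Ideal B_K) [Q.IsPrime]
    (hsm : Algebra.IsSmoothAt A_K Q) :
    ∃ (f' : B_K) (_ : f' ∉ Q) (n : ℕ) (φ : MvPolynomial (Fin n) A_K →+* Localization.Away f'),
      φ.comp MvPolynomial.C = algebraMap A_K (Localization.Away f') ∧ φ.Etale := by
  haveI : Algebra.FinitePresentation A_K B_K :=
    Algebra.FinitePresentation.equiv (Algebra.IsPushout.equiv A A_K B B_K)
  obtain ⟨f', hf'Q, n, alg, tower, hstd⟩ :=
    Algebra.IsSmoothAt.exists_isStandardEtale_mvPolynomial (R := A_K) (p := Q)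
  refine ⟨f', hf'Q, n, algebraMap _ _, ?_, ?_⟩
  · ext a
    change algebraMap (MvPolynomial (Fin n) A_K) (Localization.Away f')
      (algebraMap A_K (MvPolynomial (Fin n) A_K) a) = _
    rw [← IsScalarTower.algebraMap_apply]
  · rw [RingHom.etale_algebraMap]
    infer_instance


attribute [local instance] MvPolynomial.algebraMvPolynomial

/-- **Fibrewise criterion for smoothness at a prime** (ring form). -/
theorem isSmoothAt_of_fibre [Algebra.FinitePresentation A B]
    (hK0 : IsField K) (hK1 : (algebraMap R K).SurjectiveOnStalks)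
    (Q : Ideal B_K) [Q.IsPrime] (q : Ideal B) [q.IsPrime]
    (hq : q = Q.comap (algebraMap B B_K))
    (hflatR : Module.Flat R (Localization.AtPrime q))
    (hsm : Algebra.IsSmoothAt A_K Q) : Algebra.IsSmoothAt A q := by
  have hKdom : IsDomain K := hK0.isDomain
  obtain ⟨f', hf'Q, n, φ₀, hφ₀C, hφ₀et⟩ := exists_etale_mvPolynomial (A := A) (B := B) Q hsm
  -- choose `f₀`
  obtain ⟨f₀, k₀, hk₀, hf₀⟩ := exists_mul_algebraMap_eq R A (B := B) (K := K) (A_K := A_K)
    (B_K := B_K) hK0 hK1 f'
  obtain ⟨k₀inv, hk₀inv⟩ := hK0.mul_inv_cancel hk₀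
  have hunitK : ∀ k : K, k ≠ 0 → IsUnit (algebraMap A_K B_K (algebraMap K A_K k)) := by
    intro k hk
    obtain ⟨kinv, hkinv⟩ := hK0.mul_inv_cancel hk
    exact IsUnit.of_mul_eq_one (algebraMap A_K B_K (algebraMap K A_K kinv))
      (by rw [← map_mul, ← map_mul, hkinv, map_one, map_one])
  have hf₀Q : algebraMap B B_K f₀ ∉ Q := by
    rw [← hf₀]
    intro h
    rcases Ideal.IsPrime.mem_or_mem inferInstance h with h | h
    · exact hf'Q h
    · exact (Ideal.IsPrime.ne_top inferInstance) (Q.eq_top_of_isUnit_mem h (hunitK k₀ hk₀))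
  have hf₀q : f₀ ∉ q := fun h => hf₀Q (by rw [hq] at h; exact h)
  let B₁ := Localization.Away f₀
  let C₁ := Localization.Away f'
  have hu : IsUnit (((algebraMap B_K C₁).comp (algebraMap B B_K)) f₀) := by
    rw [RingHom.comp_apply, ← hf₀, map_mul]
    exact (IsLocalization.Away.algebraMap_isUnit f').mul ((hunitK k₀ hk₀).map _)
  let ι₁ : B₁ →+* C₁ := IsLocalization.Away.lift f₀ hu
  have hι₁ : ∀ b : B, ι₁ (algebraMap B B₁ b) = algebraMap B_K C₁ (algebraMap B B_K b) :=
    fun b => IsLocalization.Away.lift_eq f₀ hu b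
  -- lift the coordinates
  have hlift : ∀ i : Fin n, ∃ (b₁ : B₁) (k : K), k ≠ 0 ∧
      φ₀ (MvPolynomial.X i) * algebraMap B_K C₁ (algebraMap A_K B_K (algebraMap K A_K k)) =
        ι₁ b₁ := fun i =>
    exists_mul_algebraMap_eq_away R A hK0 hK1 f' f₀ k₀ hk₀ hf₀ ι₁ hι₁ _
  choose bb kk hkk hbb using hlift
  obtain ⟨φ, hφC, hφet, hφX⟩ := exists_rescale n φ₀ hφ₀C hφ₀et (fun i => algebraMap K A_K (kk i))
    (fun i => by
      obtain ⟨kinv, hkinv⟩ := hK0.mul_inv_cancel (hkk i)
      exact IsUnit.of_mul_eq_one (algebraMap K A_K kinv) (by rw [← map_mul, hkinv, map_one]))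
  have hφX' : ∀ i, φ (MvPolynomial.X i) = ι₁ (bb i) := by
    intro i
    rw [hφX, ← hbb, mul_comm, IsScalarTower.algebraMap_apply A_K B_K C₁]
  -- the algebra structures
  let PA := MvPolynomial (Fin n) A
  let PK := MvPolynomial (Fin n) A_K
  letI aPAB₁ : Algebra PA B₁ := (MvPolynomial.aeval bb : PA →ₐ[A] B₁).toRingHom.toAlgebra
  have haPAB₁ : ∀ x : PA, algebraMap PA B₁ x = MvPolynomial.aeval bb x := fun _ => rfl
  haveI tAPAB₁ : IsScalarTower A PA B₁ := IsScalarTower.of_algebraMap_eq fun a => by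
    rw [haPAB₁, MvPolynomial.algebraMap_eq, MvPolynomial.aeval_C]
  haveI tRPAB₁ : IsScalarTower R PA B₁ := IsScalarTower.of_algebraMap_eq fun r => by
    rw [IsScalarTower.algebraMap_apply R A PA, ← IsScalarTower.algebraMap_apply A PA B₁,
      ← IsScalarTower.algebraMap_apply R A B₁]
  letI aPKC₁ : Algebra PK C₁ := φ.toAlgebra
  have haPKC₁ : ∀ x : PK, algebraMap PK C₁ x = φ x := fun _ => rfl
  haveI tAKPKC₁ : IsScalarTower A_K PK C₁ := IsScalarTower.of_algebraMap_eq fun a => by
    rw [haPKC₁, MvPolynomial.algebraMap_eq]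
    exact (congrFun (congrArg DFunLike.coe hφC) a).symm
  letI aB₁C₁ : Algebra B₁ C₁ := ι₁.toAlgebra
  have haB₁C₁ : ∀ x : B₁, algebraMap B₁ C₁ x = ι₁ x := fun _ => rfl
  letI aPAC₁ : Algebra PA C₁ := ((algebraMap PK C₁).comp (algebraMap PA PK)).toAlgebra
  haveI tPAPKC₁ : IsScalarTower PA PK C₁ := IsScalarTower.of_algebraMap_eq' rfl
  haveI tAA_KC₁ : IsScalarTower A A_K C₁ := IsScalarTower.of_algebraMap_eq fun a => by
    rw [IsScalarTower.algebraMap_apply A B_K C₁, IsScalarTower.algebraMap_apply A A_K B_K,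
      ← IsScalarTower.algebraMap_apply A_K B_K C₁]
  haveI tPAB₁C₁ : IsScalarTower PA B₁ C₁ := by
    refine IsScalarTower.of_algebraMap_eq' ?_
    change (algebraMap PK C₁).comp (algebraMap PA PK) = (algebraMap B₁ C₁).comp (algebraMap PA B₁)
    apply MvPolynomial.ringHom_ext
    · intro a
      simp only [RingHom.comp_apply]
      rw [haPKC₁, haB₁C₁, haPAB₁, MvPolynomial.algebraMap_def, MvPolynomial.map_C,
        ← MvPolynomial.algebraMap_eq, ← haPKC₁, ← IsScalarTower.algebraMap_apply A_K PK C₁,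
        ← MvPolynomial.algebraMap_eq, AlgHom.commutes,
        IsScalarTower.algebraMap_apply A B B₁, hι₁, ← IsScalarTower.algebraMap_apply A B B_K,
        ← IsScalarTower.algebraMap_apply A B_K C₁, ← IsScalarTower.algebraMap_apply A A_K C₁]
    · intro i
      simp only [RingHom.comp_apply]
      rw [haPKC₁, haB₁C₁, haPAB₁, MvPolynomial.algebraMap_def, MvPolynomial.map_X,
        MvPolynomial.aeval_X, hφX']
  -- more towers
  haveI tRPAPK : IsScalarTower R PA PK := IsScalarTower.of_algebraMap_eq fun r => by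
    rw [MvPolynomial.algebraMap_def, MvPolynomial.algebraMap_apply, MvPolynomial.algebraMap_apply,
      MvPolynomial.map_C, ← IsScalarTower.algebraMap_apply R A A_K]
  haveI tBB₁C₁ : IsScalarTower B B₁ C₁ := IsScalarTower.of_algebraMap_eq fun b => by
    rw [haB₁C₁, hι₁, ← IsScalarTower.algebraMap_apply B B_K C₁]
  haveI tAB₁C₁ : IsScalarTower A B₁ C₁ := IsScalarTower.of_algebraMap_eq fun a => by
    rw [IsScalarTower.algebraMap_apply A B B₁, ← IsScalarTower.algebraMap_apply B B₁ C₁,
      ← IsScalarTower.algebraMap_apply A B C₁]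
  haveI tAPKC₁ : IsScalarTower A PK C₁ := IsScalarTower.of_algebraMap_eq fun a => by
    rw [IsScalarTower.algebraMap_apply A A_K PK, ← IsScalarTower.algebraMap_apply A_K PK C₁,
      ← IsScalarTower.algebraMap_apply A A_K C₁]
  -- the pushouts
  haveI hP1 : Algebra.IsPushout R K PA PK := by
    haveI h1 : Algebra.IsPushout R A K A_K := Algebra.IsPushout.symm inferInstance
    have h2 : Algebra.IsPushout A PA A_K PK := inferInstance
    exact ((Algebra.IsPushout.comp_iff R A K (T := PA) (S' := A_K) (T' := PK)).mpr h2).symm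
  haveI hP2 : Algebra.IsPushout PA PK B₁ C₁ := by
    haveI h3 : Algebra.IsPushout A B A_K B_K := Algebra.IsPushout.symm inferInstance
    haveI hloc : IsLocalization (Algebra.algebraMapSubmonoid B_K (Submonoid.powers f₀)) C₁ := by
      rw [Algebra.algebraMapSubmonoid_powers]
      have hass : Associated f' (algebraMap B B_K f₀) :=
        ⟨(hunitK k₀ hk₀).unit, by rw [IsUnit.unit_spec]; exact hf₀⟩
      exact IsLocalization.Away.of_associated hass
    have h4 : Algebra.IsPushout B B_K B₁ C₁ :=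
      Algebra.isPushout_of_isLocalization (Submonoid.powers f₀) B₁ B_K C₁
    have h5 : Algebra.IsPushout A B₁ A_K C₁ :=
      (Algebra.IsPushout.comp_iff A B A_K (T := B₁) (S' := B_K) (T' := C₁)).mpr h4.symm
    have h6 : Algebra.IsPushout PA B₁ PK C₁ :=
      (Algebra.IsPushout.comp_iff A PA A_K (T := B₁) (S' := PK) (T' := C₁)).mp h5
    exact h6.symm
  -- the primes
  have hdisj : Disjoint (Submonoid.powers f' : Set B_K) (Q : Set B_K) :=
    (Ideal.disjoint_powers_iff_notMem_of_isPrime _).mpr hf'Q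
  let Q₁ : Ideal C₁ := Q.map (algebraMap B_K C₁)
  haveI hQ₁prime : Q₁.IsPrime :=
    IsLocalization.isPrime_of_isPrime_disjoint (Submonoid.powers f') _ _ ‹_› hdisj
  have hQ₁ : Q₁.comap (algebraMap B_K C₁) = Q :=
    IsLocalization.under_map_of_isPrime_disjoint (Submonoid.powers f') C₁ ‹Q.IsPrime› hdisj
  let q₁ : Ideal B₁ := Q₁.comap (algebraMap B₁ C₁)
  haveI hq₁prime : q₁.IsPrime := Ideal.comap_isPrime _ _
  have hq₁q : q₁.comap (algebraMap B B₁) = q := by
    ext b
    change ι₁ (algebraMap B B₁ b) ∈ Q₁ ↔ b ∈ q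
    rw [hι₁, ← Ideal.mem_comap, hQ₁, hq]
    rfl
  subst hq₁q
  haveI hloc' : IsLocalization.AtPrime (Localization.AtPrime q₁) (q₁.comap (algebraMap B B₁)) :=
    IsLocalization.isLocalization_isLocalization_atPrime_isLocalization
      (Submonoid.powers f₀) (Localization.AtPrime q₁) q₁
  let e : Localization.AtPrime (q₁.comap (algebraMap B B₁)) ≃ₐ[B] Localization.AtPrime q₁ :=
    IsLocalization.algEquiv (q₁.comap (algebraMap B B₁)).primeCompl _ _
  have hflatR₁ : Module.Flat R (Localization.AtPrime q₁) :=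
    Module.Flat.of_linearEquiv (e.restrictScalars R).toLinearEquiv.symm
  -- flatness and unramifiedness of the fibre
  haveI hetPKC₁ : Algebra.Etale PK C₁ := RingHom.etale_algebraMap.mp hφet
  haveI hflPKC₁ : Module.Flat PK C₁ := inferInstance
  have hflatK₁ : Module.Flat PK (Localization.AtPrime Q₁) :=
    Module.Flat.trans PK C₁ (Localization.AtPrime Q₁)
  haveI hfpB₁ : Algebra.FinitePresentation A B₁ := Algebra.FinitePresentation.trans A B B₁
  haveI hfpPAB₁ : Algebra.FinitePresentation PA B₁ :=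
    Algebra.FinitePresentation.of_restrict_scalars_finitePresentation A PA B₁
  have hunrK : Algebra.IsUnramifiedAt PK Q₁ := by
    haveI : Algebra.FormallyUnramified C₁ (Localization.AtPrime Q₁) :=
      Algebra.FormallyUnramified.of_isLocalization Q₁.primeCompl
    exact Algebra.FormallyUnramified.comp PK C₁ _
  have hunr₁ : Algebra.IsUnramifiedAt PA q₁ :=
    (UnramBC.isUnramifiedAt_iff_of_isPushout PA B₁ PK C₁ Q₁).mp hunrK
  have het : Algebra.IsEtaleAt PA q₁ :=
    isEtaleAt_of_fibre_of_isUnramifiedAt (R := R) (A := PA) (B := B₁) (K := K) (A_K := PK)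
      (B_K := C₁) hK0 hK1 Q₁ q₁ rfl hflatR₁ hflatK₁ hunr₁
  haveI hfs : Algebra.FormallySmooth PA (Localization.AtPrime q₁) := by
    have : Algebra.FormallyEtale PA (Localization.AtPrime q₁) := het
    infer_instance
  haveI hfsA : Algebra.FormallySmooth A (Localization.AtPrime q₁) :=
    Algebra.FormallySmooth.comp A PA _
  exact Algebra.FormallySmooth.of_equiv (e.restrictScalars A).symm

end main

end Groth.Agent.H25.FibreSmooth
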