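import Mathlib
import Groth.Agent.H25.FibreSmooth
import Groth.Agent.H25.FibreEtale
import Groth.Agent.H40.FlatDesc

set_option autoImplicit false
universe u
open scoped TensorProduct
open CategoryTheory CategoryTheory.Limits AlgebraicGeometry

namespace Groth.Agent.H25.FibreSmoothScheme
open Groth.Agent.H25.FibreEtale

/-- **Fibrewise criterion for smoothness at a point**: `g : Y ⟶ S` and `f ≫ g` locally of finite
presentation, `X' = X ×_Y Y_s`, `f ≫ g` flat at `x = p₁ u`, and the fibre map `p₂ : X' ⟶ Y_s`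
smooth at `u`. Then `f` is smooth at `x`. -/
theorem formallySmooth_stalkMap_of_fibre {X Y S X' : Scheme.{u}} (f : X ⟶ Y) (g : Y ⟶ S)
    [LocallyOfFinitePresentation g] [LocallyOfFinitePresentation (f ≫ g)] (s : S)
    {p₁ : X' ⟶ X} {p₂ : X' ⟶ g.fiber s} (H : IsPullback p₁ p₂ f (g.fiberι s)) (u : X')
    (hflat : ((f ≫ g).stalkMap (p₁ u)).hom.Flat)
    (hsm' : (p₂.stalkMap u).hom.FormallySmooth) :
    (f.stalkMap (p₁ u)).hom.FormallySmooth := by
  have hlfp : LocallyOfFinitePresentation f := EtaleStalk.lfp_of_comp f g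
  have hfx : f (p₁ u) = g.fiberι s (p₂ u) := by
    rw [← Scheme.Hom.comp_apply, ← Scheme.Hom.comp_apply, H.w]
  have hgs : g (f (p₁ u)) = s := by
    have h2 : g.fiberι s (p₂ u) ∈ g ⁻¹' {s} := by
      rw [← g.range_fiberι s]; exact Set.mem_range_self _
    rw [hfx]; exact h2
  -- affine opens
  obtain ⟨_, ⟨VS, hVS, rfl⟩, hsVS, -⟩ :=
    S.isBasis_affineOpens.exists_subset_of_mem_open (Set.mem_univ s) isOpen_univ
  obtain ⟨_, ⟨VY, hVY, rfl⟩, hyVY, hVYS⟩ :=
    Y.isBasis_affineOpens.exists_subset_of_mem_open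
      (show f (p₁ u) ∈ g ⁻¹ᵁ VS by change g (f (p₁ u)) ∈ VS; rw [hgs]; exact hsVS)
      (VS.2.preimage g.continuous)
  obtain ⟨_, ⟨D, hD, rfl⟩, hxD, hDV⟩ :=
    X.isBasis_affineOpens.exists_subset_of_mem_open (show p₁ u ∈ f ⁻¹ᵁ VY from hyVY)
      (VY.2.preimage f.continuous)
  have hDS : D ≤ (f ≫ g) ⁻¹ᵁ VS := fun z hz => hVYS (hDV hz)
  -- the fibre square
  have H1 : IsPullback (g.fiberι s) (g.fiberToSpecResidueField s) g
      (S.fromSpecResidueField s) := IsPullback.of_hasPullback _ _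
  let T : (Spec (S.residueField s)).Opens := ⊤
  have hT : IsAffineOpen T := isAffineOpen_top _
  have hTS : T ≤ (S.fromSpecResidueField s) ⁻¹ᵁ VS := by
    intro z _
    change S.fromSpecResidueField s z ∈ VS
    rw [Scheme.fromSpecResidueField_apply]
    exact hsVS
  let U₁ : (g.fiber s).Opens := (g.fiberι s) ⁻¹ᵁ VY ⊓ (g.fiberToSpecResidueField s) ⁻¹ᵁ T
  have hU₁ : IsAffineOpen U₁ := by
    have : IsAffine VS := hVS
    have : IsAffine T := hT
    have : IsAffine VY := hVY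
    exact .of_isIso (Scheme.Hom.isPullback_resLE H1 hTS hVYS rfl).isoPullback.hom
  have hpush := (isIso_pushoutSection_iff H1 hTS hVYS (UY := U₁) rfl).mp
    (isIso_pushoutSection_of_isAffineOpen H1 hTS hVYS rfl hVS hT hVY)
  have e₁ : U₁ ≤ (g.fiberι s) ⁻¹ᵁ VY := inf_le_left
  have e₂ : U₁ ≤ (g.fiberToSpecResidueField s) ⁻¹ᵁ T := inf_le_right
  have hp₂u : p₂ u ∈ U₁ := ⟨by change g.fiberι s (p₂ u) ∈ VY; rw [← hfx]; exact hyVY, trivial⟩
  -- the second square
  let U₂ : X'.Opens := p₁ ⁻¹ᵁ D ⊓ p₂ ⁻¹ᵁ U₁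
  have huU₂ : u ∈ U₂ := ⟨hxD, hp₂u⟩
  have hU₂ : IsAffineOpen U₂ := by
    have : IsAffine VY := hVY
    have : IsAffine U₁ := hU₁
    have : IsAffine D := hD
    exact .of_isIso (Scheme.Hom.isPullback_resLE H e₁ hDV rfl).isoPullback.hom
  have hpush2 := (isIso_pushoutSection_iff H e₁ hDV (UY := U₂) rfl).mp
    (isIso_pushoutSection_of_isAffineOpen H e₁ hDV rfl hVY hU₁ hD)
  have e₃ : U₂ ≤ p₁ ⁻¹ᵁ D := inf_le_left
  have e₄ : U₂ ≤ p₂ ⁻¹ᵁ U₁ := inf_le_right
  -- ring-level data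
  letI aRA : Algebra Γ(S, VS) Γ(Y, VY) := (g.appLE VS VY hVYS).hom.toAlgebra
  letI aAB : Algebra Γ(Y, VY) Γ(X, D) := (f.appLE VY D hDV).hom.toAlgebra
  letI aRB : Algebra Γ(S, VS) Γ(X, D) := ((f ≫ g).appLE VS D hDS).hom.toAlgebra
  haveI tRAB : IsScalarTower Γ(S, VS) Γ(Y, VY) Γ(X, D) := by
    refine IsScalarTower.of_algebraMap_eq' ?_
    change ((f ≫ g).appLE VS D hDS).hom = (f.appLE VY D hDV).hom.comp (g.appLE VS VY hVYS).hom
    rw [← CommRingCat.hom_comp, Scheme.Hom.appLE_comp_appLE]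
  letI aRK : Algebra Γ(S, VS) Γ(Spec (S.residueField s), T) :=
    ((S.fromSpecResidueField s).appLE VS T hTS).hom.toAlgebra
  letI aKAK : Algebra Γ(Spec (S.residueField s), T) Γ(g.fiber s, U₁) :=
    ((g.fiberToSpecResidueField s).appLE T U₁ e₂).hom.toAlgebra
  letI aAAK : Algebra Γ(Y, VY) Γ(g.fiber s, U₁) := ((g.fiberι s).appLE VY U₁ e₁).hom.toAlgebra
  letI aRAK : Algebra Γ(S, VS) Γ(g.fiber s, U₁) :=
    (((g.fiberι s).appLE VY U₁ e₁).hom.comp (g.appLE VS VY hVYS).hom).toAlgebra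
  haveI tRAAK : IsScalarTower Γ(S, VS) Γ(Y, VY) Γ(g.fiber s, U₁) :=
    IsScalarTower.of_algebraMap_eq' rfl
  haveI tRKAK : IsScalarTower Γ(S, VS) Γ(Spec (S.residueField s), T) Γ(g.fiber s, U₁) := by
    refine IsScalarTower.of_algebraMap_eq' ?_
    have := congrArg CommRingCat.Hom.hom hpush.w
    exact this
  haveI hP : Algebra.IsPushout Γ(S, VS) Γ(Spec (S.residueField s), T) Γ(Y, VY)
      Γ(g.fiber s, U₁) := CommRingCat.isPushout_iff_isPushout.mp hpush.flip
  letI aAKBK : Algebra Γ(g.fiber s, U₁) Γ(X', U₂) := (p₂.appLE U₁ U₂ e₄).hom.toAlgebra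
  letI aBBK : Algebra Γ(X, D) Γ(X', U₂) := (p₁.appLE D U₂ e₃).hom.toAlgebra
  letI aABK : Algebra Γ(Y, VY) Γ(X', U₂) :=
    ((p₁.appLE D U₂ e₃).hom.comp (f.appLE VY D hDV).hom).toAlgebra
  haveI tABBK : IsScalarTower Γ(Y, VY) Γ(X, D) Γ(X', U₂) := IsScalarTower.of_algebraMap_eq' rfl
  haveI tAAKBK : IsScalarTower Γ(Y, VY) Γ(g.fiber s, U₁) Γ(X', U₂) := by
    refine IsScalarTower.of_algebraMap_eq' ?_
    have := congrArg CommRingCat.Hom.hom hpush2.w
    exact this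
  haveI hP2 : Algebra.IsPushout Γ(Y, VY) Γ(g.fiber s, U₁) Γ(X, D) Γ(X', U₂) :=
    CommRingCat.isPushout_iff_isPushout.mp hpush2.flip
  -- `K` is a field and `R → K` is surjective on stalks
  have hK0 : IsField Γ(Spec (S.residueField s), T) :=
    MulEquiv.isField (Field.toIsField (S.residueField s))
      (Scheme.ΓSpecIso (S.residueField s)).commRingCatIsoToRingEquiv.toMulEquiv
  have hK1 : (algebraMap Γ(S, VS) Γ(Spec (S.residueField s), T)).SurjectiveOnStalks :=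
    HasRingHomProperty.appLE (P := @SurjectiveOnStalks) (S.fromSpecResidueField s) inferInstance
      ⟨VS, hVS⟩ ⟨T, hT⟩ hTS
  haveI hfpB : Algebra.FinitePresentation Γ(Y, VY) Γ(X, D) :=
    f.finitePresentation_appLE hVY hD hDV
  -- the primes
  let Q : Ideal Γ(X', U₂) := (hU₂.primeIdealOf ⟨u, huU₂⟩).asIdeal
  let q : Ideal Γ(X, D) := (hD.primeIdealOf ⟨p₁ u, hxD⟩).asIdeal
  have hq : q = Q.comap (algebraMap Γ(X, D) Γ(X', U₂)) :=
    (congrArg PrimeSpectrum.asIdeal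
      (IsAffineOpen.comap_primeIdealOf_appLE D hD U₂ hU₂ e₃ huU₂)).symm
  have hflatR : Module.Flat Γ(S, VS) (Localization.AtPrime q) :=
    EtaleAt.flat_localization_of_flat_stalkMap VS hVS D hD hDS hxD hflat
  have hsmK : Algebra.IsSmoothAt Γ(g.fiber s, U₁) Q :=
    (formallySmooth_stalkMap_iff U₁ hU₁ U₂ hU₂ e₄ huU₂).mp hsm'
  have hsmA : Algebra.IsSmoothAt Γ(Y, VY) q :=
    FibreSmooth.isSmoothAt_of_fibre (R := Γ(S, VS)) (A := Γ(Y, VY)) (B := Γ(X, D))
      (K := Γ(Spec (S.residueField s), T)) (A_K := Γ(g.fiber s, U₁)) (B_K := Γ(X', U₂))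
      hK0 hK1 Q q hq hflatR hsmK
  exact (formallySmooth_stalkMap_iff VY hVY D hD hDV hxD).mpr hsmA


/-- smoothness can be checked on the fibres over the base, for flat source -/
theorem smooth_of_fibres {X Y S : Scheme.{u}} (f : X ⟶ Y) (g : Y ⟶ S)
    [LocallyOfFinitePresentation g] [LocallyOfFinitePresentation (f ≫ g)] [Flat (f ≫ g)]
    (h : ∀ s : S, Smooth (pullback.snd f (g.fiberι s))) : Smooth f := by
  have hlfp : LocallyOfFinitePresentation f := EtaleStalk.lfp_of_comp f g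
  rw [← Scheme.Hom.smoothLocus_eq_top_iff, ← top_le_iff]
  rintro x -
  set s := g (f x) with hs
  have H : IsPullback (pullback.fst f (g.fiberι s)) (pullback.snd f (g.fiberι s)) f
    (g.fiberι s) := IsPullback.of_hasPullback _ _
  have hmem : f x ∈ Set.range (g.fiberι s) := by
    rw [g.range_fiberι s]; rfl
  obtain ⟨y', hy'⟩ := hmem
  obtain ⟨u, hu1, hu2⟩ := Scheme.Pullback.exists_preimage_pullback x y' hy'.symm
  have hfl : ((f ≫ g).stalkMap (pullback.fst f (g.fiberι s) u)).hom.Flat :=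
    Flat.stalkMap (f ≫ g) _
  have := h s
  have hsm' : ((pullback.snd f (g.fiberι s)).stalkMap u).hom.FormallySmooth := by
    have h1 : u ∈ (pullback.snd f (g.fiberι s)).smoothLocus := by
      rw [(pullback.snd f (g.fiberι s)).smoothLocus_eq_top]; trivial
    exact h1
  have := formallySmooth_stalkMap_of_fibre f g s H u hfl hsm'
  rw [hu1] at this
  exact this

/-- if all fibre maps `X_s → Y_s` are smooth and `X` is flat over `S`, then `g : Y ⟶ S` is flat at
all points of the image of `f`. -/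
theorem flat_stalkMap_of_smooth_fibres {X Y S : Scheme.{u}} (f : X ⟶ Y) (g : Y ⟶ S)
    [LocallyOfFinitePresentation g] [LocallyOfFinitePresentation (f ≫ g)] [Flat (f ≫ g)]
    (h : ∀ s : S, Smooth (pullback.snd f (g.fiberι s))) (x : X) :
    (g.stalkMap (f x)).hom.Flat := by
  have hsm : Smooth f := smooth_of_fibres f g h
  have hfflat : (f.stalkMap x).hom.Flat := Flat.stalkMap f x
  have hcomp : ((f.stalkMap x).hom.comp (g.stalkMap (f x)).hom).Flat := by
    have h1 : ((f ≫ g).stalkMap x).hom.Flat := Flat.stalkMap (f ≫ g) x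
    rw [Scheme.Hom.stalkMap_comp] at h1
    exact h1
  haveI : IsLocalHom (f.stalkMap x).hom := f.toLRSHom.prop x
  exact Groth.Agent.H40.ringHom_flat_of_comp (g.stalkMap (f x)).hom (f.stalkMap x).hom hfflat hcomp

end Groth.Agent.H25.FibreSmoothScheme
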