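import Mathlib
import Groth.Agent.H25.FibreSmoothScheme

set_option autoImplicit false
universe u
open scoped TensorProduct
open CategoryTheory CategoryTheory.Limits AlgebraicGeometry

namespace Groth.Agent.H25.FibreSmoothPt
open Groth.Agent.H25.FibreEtale Groth.Agent.H25.FibreSmoothScheme

theorem smooth_smoothLocus_ι_comp {X S : Scheme.{u}} (f : X ⟶ S)
    [LocallyOfFinitePresentation f] : Smooth (f.smoothLocus.ι ≫ f) := by
  rw [← Scheme.Hom.smoothLocus_eq_top_iff, ← Scheme.Hom.preimage_smoothLocus_eq]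
  ext z
  exact ⟨fun _ => trivial, fun _ => z.2⟩

/-- smooth at a point implies flat at this point and the fibre is smooth at the point -/
theorem flat_and_fibre_of_mem_smoothLocus {X S : Scheme.{u}} (f : X ⟶ S)
    [LocallyOfFinitePresentation f] (x : X)
    [LocallyOfFinitePresentation (f.fiberToSpecResidueField (f x))]
    (hx : x ∈ f.smoothLocus) :
    (f.stalkMap x).hom.Flat ∧ f.asFiber x ∈ (f.fiberToSpecResidueField (f x)).smoothLocus := by
  have hU : Smooth (f.smoothLocus.ι ≫ f) := smooth_smoothLocus_ι_comp f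
  refine ⟨flat_stalkMap_of_flat_nhd f x f.smoothLocus hx, ?_⟩
  set V : (f.fiber (f x)).Opens := (f.fiberι (f x)) ⁻¹ᵁ f.smoothLocus with hV
  have hxV : f.asFiber x ∈ V := by
    change f.fiberι (f x) (f.asFiber x) ∈ f.smoothLocus
    rw [f.fiberι_asFiber]; exact hx
  have H1 : IsPullback (f.fiberι (f x) ∣_ f.smoothLocus) V.ι f.smoothLocus.ι (f.fiberι (f x)) :=
    isPullback_morphismRestrict _ _
  have H2 : IsPullback (f.fiberι (f x)) (f.fiberToSpecResidueField (f x)) f
      (S.fromSpecResidueField (f x)) := IsPullback.of_hasPullback _ _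
  have H3 := H1.paste_vert H2
  have h3 : Smooth (V.ι ≫ f.fiberToSpecResidueField (f x)) :=
    MorphismProperty.of_isPullback (P := @Smooth) H3 hU
  have h4 := (V.ι ≫ f.fiberToSpecResidueField (f x)).smoothLocus_eq_top
  rw [← Scheme.Hom.preimage_smoothLocus_eq] at h4
  have h5 : (⟨f.asFiber x, hxV⟩ : V) ∈ V.ι ⁻¹ᵁ (f.fiberToSpecResidueField (f x)).smoothLocus := by
    rw [h4]; trivial
  exact h5

/-- flat at a point and fibre smooth at the point implies smooth at the point -/
theorem mem_smoothLocus_of_flat_of_fibre {X S : Scheme.{u}} (f : X ⟶ S)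
    [LocallyOfFinitePresentation f] (x : X)
    [LocallyOfFinitePresentation (f.fiberToSpecResidueField (f x))]
    (hflat : (f.stalkMap x).hom.Flat)
    (hx : f.asFiber x ∈ (f.fiberToSpecResidueField (f x)).smoothLocus) :
    x ∈ f.smoothLocus := by
  obtain ⟨g, hg⟩ : ∃ g : S ⟶ S, g = 𝟙 S := ⟨_, rfl⟩
  have hfg : f ≫ g = f := by rw [hg, Category.comp_id]
  haveI : IsIso g := by rw [hg]; infer_instance
  haveI : LocallyOfFinitePresentation (f ≫ g) := by rw [hfg]; infer_instance
  set s := f x with hs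
  have hgs : g s = s := by rw [hg]; rfl
  let p₂ : f.fiber s ⟶ g.fiber s :=
    pullback.lift (f.fiberι s ≫ f) (f.fiberToSpecResidueField s)
      (by rw [Category.assoc, hfg]; exact f.fiber_fac s)
  have hp₂1 : p₂ ≫ g.fiberι s = f.fiberι s ≫ f := pullback.lift_fst _ _ _
  have hp₂2 : p₂ ≫ g.fiberToSpecResidueField s = f.fiberToSpecResidueField s :=
    pullback.lift_snd _ _ _
  have Hbot : IsPullback (g.fiberι s) (g.fiberToSpecResidueField s) g
      (S.fromSpecResidueField s) := IsPullback.of_hasPullback _ _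
  have Hbig : IsPullback (f.fiberι s) (p₂ ≫ g.fiberToSpecResidueField s) (f ≫ g)
      (S.fromSpecResidueField s) := by
    rw [hp₂2, hfg]; exact IsPullback.of_hasPullback _ _
  have H : IsPullback (f.fiberι s) p₂ f (g.fiberι s) :=
    IsPullback.of_bot Hbig hp₂1.symm Hbot
  have hiso : IsIso (g.fiberToSpecResidueField s) := Hbot.isIso_snd_of_isIso
  have hflat' : ((f ≫ g).stalkMap (f.fiberι s (f.asFiber x))).hom.Flat := by
    rw [hfg, f.fiberι_asFiber]
    exact hflat
  have hsm' : (p₂.stalkMap (f.asFiber x)).hom.FormallySmooth := by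
    have h1 : ((f.fiberToSpecResidueField s).stalkMap (f.asFiber x)).hom.FormallySmooth := hx
    have h2 : ((p₂ ≫ g.fiberToSpecResidueField s).stalkMap (f.asFiber x)).hom.FormallySmooth := by
      rw [hp₂2]; exact h1
    rw [Scheme.Hom.stalkMap_comp] at h2
    exact (RingHom.FormallySmooth.respectsIso.cancel_left_isIso
      ((g.fiberToSpecResidueField s).stalkMap (p₂ (f.asFiber x)))
      (p₂.stalkMap (f.asFiber x))).mp h2
  have := formallySmooth_stalkMap_of_fibre f g s H (f.asFiber x) hflat' hsm'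
  rw [f.fiberι_asFiber] at this
  exact this

end Groth.Agent.H25.FibreSmoothPt
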