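import Mathlib

set_option autoImplicit false
universe u
open scoped TensorProduct
open TensorProduct

namespace Groth.Agent.H25.SmoothDescent

attribute [local instance] Algebra.TensorProduct.rightAlgebra

section stepA
variable {R A T : Type u} [CommRing R] [CommRing A] [CommRing T] [Algebra R A] [Algebra R T]

theorem tensorH1_key [Module.Flat R T] (x : Algebra.H1Cotangent R A) (b : T ⊗[R] A) :
    Algebra.tensorH1CotangentOfFlat R A T
      (AlgebraTensorModule.lTensor T T
        ((LinearMap.toSpanSingleton A (Algebra.H1Cotangent R A) x).restrictScalars R) b) =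
      b • Algebra.H1Cotangent.map R T A (T ⊗[R] A) x := by
  induction b using TensorProduct.induction_on with
  | zero => simp
  | add y z hy hz => rw [map_add, map_add, hy, hz, add_smul]
  | tmul t a =>
    rw [AlgebraTensorModule.lTensor_tmul, Algebra.tensorH1CotangentOfFlat_tmul]
    simp only [LinearMap.coe_restrictScalars, LinearMap.toSpanSingleton_apply, map_smul]
    have : (t ⊗ₜ[R] a : T ⊗[R] A) = t • algebraMap A (T ⊗[R] A) a := by
      rw [Algebra.TensorProduct.right_algebraMap_apply, TensorProduct.smul_tmul', smul_eq_mul,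
        mul_one]
    rw [this, smul_assoc, algebraMap_smul]

/-- descent of vanishing of `H¹(L)` at a prime along flat base change, elementwise -/
theorem exists_notMem_smul_eq_zero_of_flat [Module.Flat R T]
    (Q : Ideal (T ⊗[R] A)) [Q.IsPrime] (x : Algebra.H1Cotangent R A)
    (a' : T ⊗[R] A) (ha' : a' ∉ Q)
    (h : a' • Algebra.H1Cotangent.map R T A (T ⊗[R] A) x = 0) :
    ∃ a : A, a ∉ Q.comap (algebraMap A (T ⊗[R] A)) ∧ a • x = 0 := by
  by_contra hcon
  push Not at hcon
  apply ha'
  set φ : A →ₗ[R] Algebra.H1Cotangent R A :=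
    (LinearMap.toSpanSingleton A (Algebra.H1Cotangent R A) x).restrictScalars R with hφ
  have h1 : AlgebraTensorModule.lTensor T T φ a' = 0 := by
    apply (Algebra.tensorH1CotangentOfFlat R A T).injective
    rw [tensorH1_key, h, map_zero]
  have h2 : a' ∈ LinearMap.ker (AlgebraTensorModule.lTensor T T φ) := h1
  rw [Module.Flat.ker_lTensor_eq T T φ] at h2
  obtain ⟨z, rfl⟩ := h2
  clear h1 h ha'
  induction z using TensorProduct.induction_on with
  | zero => simp
  | add y z hy hz => rw [map_add]; exact Q.add_mem hy hz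
  | tmul t i =>
    rw [AlgebraTensorModule.lTensor_tmul]
    have hi : (i : A) • x = 0 := i.2
    have hiq : (i : A) ∈ Q.comap (algebraMap A (T ⊗[R] A)) := by
      by_contra hne
      exact hcon i hne hi
    have : (t ⊗ₜ[R] ((LinearMap.ker φ).subtype i) : T ⊗[R] A) =
        (t ⊗ₜ[R] (1 : A)) * algebraMap A (T ⊗[R] A) (i : A) := by
      rw [Algebra.TensorProduct.right_algebraMap_apply, Algebra.TensorProduct.tmul_mul_tmul,
        mul_one, one_mul]
      rfl
    rw [this]
    exact Q.mul_mem_left _ hiq

end stepA

section stepB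

open PrimeSpectrum

/-- descent of local freeness of a finitely presented module along a flat ring map -/
theorem mem_freeLocus_of_flat_baseChange {A A' : Type u} [CommRing A] [CommRing A'] [Algebra A A']
    [Module.Flat A A'] (M : Type u) [AddCommGroup M] [Module A M] [Module.FinitePresentation A M]
    (Q : PrimeSpectrum A') (h : Q ∈ Module.freeLocus A' (A' ⊗[A] M)) :
    comap (algebraMap A A') Q ∈ Module.freeLocus A M := by
  let Aq := Localization.AtPrime (comap (algebraMap A A') Q).asIdeal
  let AQ := Localization.AtPrime Q.asIdeal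
  rw [Module.mem_freeLocus_iff_tensor _ AQ] at h
  rw [Module.mem_freeLocus_iff_tensor _ Aq]
  let algebra : Algebra Aq AQ := (Localization.localRingHom
    (comap (algebraMap A A') Q).asIdeal Q.asIdeal (algebraMap A A') rfl).toAlgebra
  have : IsScalarTower A Aq AQ := IsScalarTower.of_algebraMap_eq' (by
    ext x
    rw [RingHom.comp_apply, RingHom.algebraMap_toAlgebra, Localization.localRingHom_to_map,
      ← IsScalarTower.algebraMap_apply])
  let e := AlgebraTensorModule.cancelBaseChange A Aq AQ AQ M ≪≫ₗ
    (AlgebraTensorModule.cancelBaseChange A A' AQ AQ M).symm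
  have hflat : Module.Flat AQ (AQ ⊗[Aq] (Aq ⊗[A] M)) := by
    have : Module.Free AQ (AQ ⊗[Aq] (Aq ⊗[A] M)) := .of_equiv e.symm
    infer_instance
  have hloc : IsLocalHom (algebraMap Aq AQ) := by
    change IsLocalHom (Localization.localRingHom _ _ _ _)
    infer_instance
  have hAQflat : Module.Flat Aq AQ := by
    have h0 : (algebraMap A A').Flat := RingHom.flat_algebraMap_iff.mpr inferInstance
    exact RingHom.Flat.localRingHom h0 Q.asIdeal (comap (algebraMap A A') Q).asIdeal rfl
  have hff : Module.FaithfullyFlat Aq AQ := Module.FaithfullyFlat.of_flat_of_isLocalHom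
  have : Module.Flat Aq (Aq ⊗[A] M) := Module.Flat.of_flat_tensorProduct _ _ AQ
  exact Module.free_of_flat_of_isLocalRing

end stepB

section stepC

variable {R A T : Type u} [CommRing R] [CommRing A] [CommRing T] [Algebra R A] [Algebra R T]

/-- pointwise descent of smoothness along a flat base change (tensor product form) -/
theorem isSmoothAt_of_flat_tensor [Module.Flat R T] [Algebra.FinitePresentation R A]
    (Q : Ideal (T ⊗[R] A)) [Q.IsPrime] (h : Algebra.IsSmoothAt T Q) :
    Algebra.IsSmoothAt R (Q.comap (algebraMap A (T ⊗[R] A))) := by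
  have hQ : (⟨Q, inferInstance⟩ : PrimeSpectrum (T ⊗[R] A)) ∈
      Algebra.smoothLocus T (T ⊗[R] A) := h
  rw [Algebra.smoothLocus_eq_compl_support_inter] at hQ
  obtain ⟨h1, h2⟩ := hQ
  have goal : (⟨Q.comap (algebraMap A (T ⊗[R] A)), inferInstance⟩ : PrimeSpectrum A) ∈
      Algebra.smoothLocus R A := by
    rw [Algebra.smoothLocus_eq_compl_support_inter]
    refine ⟨?_, ?_⟩
    · rw [Set.mem_compl_iff, Module.notMem_support_iff'] at h1 ⊢
      intro x
      obtain ⟨a', ha', h0⟩ := h1 (Algebra.H1Cotangent.map R T A (T ⊗[R] A) x)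
      obtain ⟨a, ha, hax⟩ := exists_notMem_smul_eq_zero_of_flat Q x a' ha' h0
      exact ⟨a, ha, hax⟩
    · have hflat : Module.Flat A (T ⊗[R] A) := by
        let e : A ⊗[R] T ≃ₐ[A] T ⊗[R] A :=
          .ofRingEquiv (f := Algebra.TensorProduct.comm R A T) <| by
            simp [RingHom.algebraMap_toAlgebra]
        exact Module.Flat.of_linearEquiv e.symm.toLinearEquiv
      have h3 : (⟨Q, inferInstance⟩ : PrimeSpectrum (T ⊗[R] A)) ∈
          Module.freeLocus (T ⊗[R] A) ((T ⊗[R] A) ⊗[A] Ω[A⁄R]) := by
        rw [Module.freeLocus_congr (KaehlerDifferential.tensorKaehlerEquiv R T A (T ⊗[R] A))]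
        exact h2
      exact mem_freeLocus_of_flat_baseChange Ω[A⁄R] _ h3
  exact goal

end stepC

section stepD

/-- transfer of smoothness at a prime along an algebra isomorphism -/
theorem isSmoothAt_comap_algEquiv {T B B' : Type u} [CommRing T] [CommRing B] [CommRing B']
    [Algebra T B] [Algebra T B'] (e : B ≃ₐ[T] B') (Q : Ideal B') [Q.IsPrime]
    (h : Algebra.IsSmoothAt T Q) : Algebra.IsSmoothAt T (Q.comap e) := by
  have H : Submonoid.map e (Q.comap e).primeCompl = Q.primeCompl := by
    ext y
    constructor
    · rintro ⟨x, hx, rfl⟩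
      exact hx
    · intro hy
      refine ⟨e.symm y, ?_, by simp⟩
      change e.symm y ∉ Q.comap e
      rw [Ideal.mem_comap]
      simpa using hy
  let e' : Localization.AtPrime (Q.comap e) ≃ₐ[T] Localization.AtPrime Q :=
    IsLocalization.algEquivOfAlgEquiv (Localization.AtPrime (Q.comap e)) (Localization.AtPrime Q) e H
  exact Algebra.FormallySmooth.of_equiv e'.symm

variable {R A T A' : Type u} [CommRing R] [CommRing A] [CommRing T] [CommRing A']
  [Algebra R A] [Algebra R T] [Algebra T A'] [Algebra A A'] [Algebra R A']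
  [IsScalarTower R T A'] [IsScalarTower R A A']

/-- **pointwise descent of smoothness along a flat base change** -/
theorem isSmoothAt_of_flat_baseChange [Algebra.IsPushout R T A A'] [Module.Flat R T]
    [Algebra.FinitePresentation R A] (Q : Ideal A') [Q.IsPrime] (h : Algebra.IsSmoothAt T Q) :
    Algebra.IsSmoothAt R (Q.comap (algebraMap A A')) := by
  let e : T ⊗[R] A ≃ₐ[T] A' := Algebra.IsPushout.equiv R T A A'
  have h1 := isSmoothAt_comap_algEquiv e Q h
  have h2 := isSmoothAt_of_flat_tensor (Q.comap e) h1
  have h3 : (Q.comap e).comap (algebraMap A (T ⊗[R] A)) = Q.comap (algebraMap A A') := by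
    ext a
    simp only [Ideal.mem_comap]
    have : e (algebraMap A (T ⊗[R] A) a) = algebraMap A A' a := by
      rw [Algebra.TensorProduct.right_algebraMap_apply]
      simp [e, Algebra.IsPushout.equiv_tmul]
    rw [← this]
  convert h2 using 2
  exact h3.symm

end stepD

end Groth.Agent.H25.SmoothDescent
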