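import Mathlib
import Groth.Agent.H25.SmoothDescent
import Groth.Agent.H25.FibreSmoothScheme
import Groth.Agent.H25.FibreSmoothPt
import Groth.Agent.H51.FlatValLift

set_option autoImplicit false
universe u
open scoped TensorProduct
open CategoryTheory CategoryTheory.Limits AlgebraicGeometry

namespace Groth.Agent.H25.SmoothDescentScheme
open Groth.Agent.H25.FibreEtale

/-- **pointwise descent of smoothness along a flat base change**, scheme form -/
theorem formallySmooth_stalkMap_of_flat_baseChange {X' X Y' Y : Scheme.{u}} {g' : X' ⟶ X}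
    {f' : X' ⟶ Y'} {f : X ⟶ Y} {g : Y' ⟶ Y} (H : IsPullback g' f' f g)
    [LocallyOfFinitePresentation f] [Flat g] (x' : X')
    (h : (f'.stalkMap x').hom.FormallySmooth) : (f.stalkMap (g' x')).hom.FormallySmooth := by
  have hfx : f (g' x') = g (f' x') := by
    rw [← Scheme.Hom.comp_apply, ← Scheme.Hom.comp_apply, H.w]
  obtain ⟨_, ⟨V, hV, rfl⟩, hyV, -⟩ :=
    Y.isBasis_affineOpens.exists_subset_of_mem_open (Set.mem_univ (f (g' x'))) isOpen_univ
  obtain ⟨_, ⟨V', hV', rfl⟩, hyV', hV'V⟩ :=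
    Y'.isBasis_affineOpens.exists_subset_of_mem_open
      (show f' x' ∈ g ⁻¹ᵁ V by change g (f' x') ∈ V; rw [← hfx]; exact hyV)
      (V.2.preimage g.continuous)
  obtain ⟨_, ⟨D, hD, rfl⟩, hxD, hDV⟩ :=
    X.isBasis_affineOpens.exists_subset_of_mem_open (show g' x' ∈ f ⁻¹ᵁ V from hyV)
      (V.2.preimage f.continuous)
  let U₂ : X'.Opens := g' ⁻¹ᵁ D ⊓ f' ⁻¹ᵁ V'
  have huU₂ : x' ∈ U₂ := ⟨hxD, hyV'⟩
  have hU₂ : IsAffineOpen U₂ := by
    have : IsAffine V := hV
    have : IsAffine V' := hV'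
    have : IsAffine D := hD
    exact .of_isIso (Scheme.Hom.isPullback_resLE H hV'V hDV rfl).isoPullback.hom
  have hpush := (isIso_pushoutSection_iff H hV'V hDV (UY := U₂) rfl).mp
    (isIso_pushoutSection_of_isAffineOpen H hV'V hDV rfl hV hV' hD)
  have e₃ : U₂ ≤ g' ⁻¹ᵁ D := inf_le_left
  have e₄ : U₂ ≤ f' ⁻¹ᵁ V' := inf_le_right
  letI aRT : Algebra Γ(Y, V) Γ(Y', V') := (g.appLE V V' hV'V).hom.toAlgebra
  letI aRA : Algebra Γ(Y, V) Γ(X, D) := (f.appLE V D hDV).hom.toAlgebra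
  letI aTA' : Algebra Γ(Y', V') Γ(X', U₂) := (f'.appLE V' U₂ e₄).hom.toAlgebra
  letI aAA' : Algebra Γ(X, D) Γ(X', U₂) := (g'.appLE D U₂ e₃).hom.toAlgebra
  letI aRA' : Algebra Γ(Y, V) Γ(X', U₂) :=
    ((g'.appLE D U₂ e₃).hom.comp (f.appLE V D hDV).hom).toAlgebra
  haveI t1 : IsScalarTower Γ(Y, V) Γ(X, D) Γ(X', U₂) := IsScalarTower.of_algebraMap_eq' rfl
  haveI t2 : IsScalarTower Γ(Y, V) Γ(Y', V') Γ(X', U₂) := by
    refine IsScalarTower.of_algebraMap_eq' ?_
    have := congrArg CommRingCat.Hom.hom hpush.w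
    exact this
  haveI hP : Algebra.IsPushout Γ(Y, V) Γ(Y', V') Γ(X, D) Γ(X', U₂) :=
    CommRingCat.isPushout_iff_isPushout.mp hpush.flip
  haveI hflat : Module.Flat Γ(Y, V) Γ(Y', V') :=
    HasRingHomProperty.appLE (P := @Flat) g inferInstance ⟨V, hV⟩ ⟨V', hV'⟩ hV'V
  haveI hfp : Algebra.FinitePresentation Γ(Y, V) Γ(X, D) := f.finitePresentation_appLE hV hD hDV
  let Q : Ideal Γ(X', U₂) := (hU₂.primeIdealOf ⟨x', huU₂⟩).asIdeal
  let q : Ideal Γ(X, D) := (hD.primeIdealOf ⟨g' x', hxD⟩).asIdeal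
  have hq : q = Q.comap (algebraMap Γ(X, D) Γ(X', U₂)) :=
    (congrArg PrimeSpectrum.asIdeal
      (IsAffineOpen.comap_primeIdealOf_appLE D hD U₂ hU₂ e₃ huU₂)).symm
  have hsmT : Algebra.IsSmoothAt Γ(Y', V') Q :=
    (formallySmooth_stalkMap_iff V' hV' U₂ hU₂ e₄ huU₂).mp h
  have hsm := SmoothDescent.isSmoothAt_of_flat_baseChange (R := Γ(Y, V)) (T := Γ(Y', V'))
    (A := Γ(X, D)) (A' := Γ(X', U₂)) Q hsmT
  have hsmA : Algebra.IsSmoothAt Γ(Y, V) q := by
    convert hsm using 2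
  exact (formallySmooth_stalkMap_iff V hV D hD hDV hxD).mpr hsmA

theorem mem_smoothLocus_of_smooth_nhd {X Y : Scheme.{u}} (k : X ⟶ Y)
    [LocallyOfFinitePresentation k] (x : X) (U : X.Opens) (hx : x ∈ U) [Smooth (U.ι ≫ k)] :
    x ∈ k.smoothLocus := by
  have h4 := (U.ι ≫ k).smoothLocus_eq_top
  rw [← Scheme.Hom.preimage_smoothLocus_eq] at h4
  have h5 : (⟨x, hx⟩ : U) ∈ U.ι ⁻¹ᵁ k.smoothLocus := by
    rw [h4]; trivial
  exact h5

/-- pointwise flat descent of smoothness -/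
theorem mem_smoothLocus_of_pullback {X Y Y' : Scheme.{u}} (f : X ⟶ Y)
    [LocallyOfFinitePresentation f]
    (g : Y' ⟶ Y) (x' : ↑(pullback f g))
    (hg : (g.stalkMap ((pullback.snd f g) x')).hom.Flat)
    (h : ∃ U' : (pullback f g).Opens, x' ∈ U' ∧ Smooth (U'.ι ≫ pullback.snd f g)) :
    (pullback.fst f g) x' ∈ f.smoothLocus := by
  obtain ⟨U', hxU', hU'⟩ := h
  set y' := (pullback.snd f g) x' with hy'
  let O := Y'.presheaf.stalk y'
  let j : Spec O ⟶ Y' := Y'.fromSpecStalk y'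
  let g' : Spec O ⟶ Y := j ≫ g
  have hg' : Flat g' := by
    have h1 : g' = Spec.map (g.stalkMap y') ≫ Y.fromSpecStalk (g y') :=
      (Scheme.SpecMap_stalkMap_fromSpecStalk g (x := y')).symm
    have h2 : Flat (Spec.map (g.stalkMap y')) := by
      rw [HasRingHomProperty.Spec_iff (P := @Flat)]; exact hg
    have h3 : Flat (Y.fromSpecStalk (g y')) := Groth.Agent.H51.flat_fromSpecStalk Y (g y')
    rw [h1]; infer_instance
  -- the pullback squares
  have s : IsPullback (pullback.fst f g') (pullback.snd f g') f (j ≫ g) :=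
    IsPullback.of_hasPullback f g'
  have t : IsPullback (pullback.fst f g) (pullback.snd f g) f g := IsPullback.of_hasPullback f g
  have H' := IsPullback.of_right' s t
  set hmap := t.lift (pullback.fst f g') (pullback.snd f g' ≫ j) (by rw [s.w, Category.assoc])
    with hhmap
  have hmap_fst : hmap ≫ pullback.fst f g = pullback.fst f g' := t.lift_fst _ _ _
  -- the point
  let c : Spec O := IsLocalRing.closedPoint O
  have hc : j c = y' := Scheme.fromSpecStalk_closedPoint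
  obtain ⟨z, hz1, hz2⟩ := Scheme.Pullback.exists_preimage_pullback
    (f := pullback.snd f g) (g := j) x' c (by rw [hc])
  let u : ↑(pullback f g') := H'.isoPullback.inv z
  have hu : hmap u = x' := by
    change hmap (H'.isoPullback.inv z) = x'
    rw [← Scheme.Hom.comp_apply, IsPullback.isoPullback_inv_fst]
    exact hz1
  -- smooth near `u`
  let W : (pullback f g').Opens := hmap ⁻¹ᵁ U'
  have huW : u ∈ W := by
    change hmap u ∈ U'
    rw [hu]; exact hxU'
  have hW : Smooth (W.ι ≫ pullback.snd f g') := by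
    have sq := (isPullback_morphismRestrict hmap U').paste_vert H'
    exact MorphismProperty.of_isPullback (P := @Smooth) sq hU'
  have h1 : u ∈ (pullback.snd f g').smoothLocus :=
    mem_smoothLocus_of_smooth_nhd (pullback.snd f g') u W huW
  have hfst : (pullback.fst f g') u = (pullback.fst f g) x' := by
    calc (pullback.fst f g') u = (hmap ≫ pullback.fst f g) u := by rw [hmap_fst]
      _ = (pullback.fst f g) (hmap u) := rfl
      _ = (pullback.fst f g) x' := by rw [hu]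
  rw [← hfst]
  exact formallySmooth_stalkMap_of_flat_baseChange s u h1

end Groth.Agent.H25.SmoothDescentScheme
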