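import Mathlib
import Groth.Agent.H25.SmoothDescentScheme

set_option autoImplicit false
universe u
open scoped TensorProduct
open CategoryTheory CategoryTheory.Limits AlgebraicGeometry

namespace Groth.Agent.H25.SmoothLocusBC
open Groth.Agent.H25.FibreEtale Groth.Agent.H25.FibreSmoothScheme
  Groth.Agent.H25.SmoothDescentScheme

/-- flat at a point and fibre smooth at the point implies smooth at the point (general form) -/
theorem formallySmooth_stalkMap_of_flat_of_fibre {X S : Scheme.{u}} (f : X ⟶ S)
    [LocallyOfFinitePresentation f] (s : S) (z : f.fiber s)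
    (hflat : (f.stalkMap (f.fiberι s z)).hom.Flat)
    (hz : ((f.fiberToSpecResidueField s).stalkMap z).hom.FormallySmooth) :
    (f.stalkMap (f.fiberι s z)).hom.FormallySmooth := by
  obtain ⟨g, hg⟩ : ∃ g : S ⟶ S, g = 𝟙 S := ⟨_, rfl⟩
  have hfg : f ≫ g = f := by rw [hg, Category.comp_id]
  haveI : IsIso g := by rw [hg]; infer_instance
  haveI : LocallyOfFinitePresentation (f ≫ g) := by rw [hfg]; infer_instance
  let p₂ : f.fiber s ⟶ g.fiber s :=
    pullback.lift (f.fiberι s ≫ f) (f.fiberToSpecResidueField s)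
      (by rw [Category.assoc, hfg]; exact f.fiber_fac s)
  have hp₂1 : p₂ ≫ g.fiberι s = f.fiberι s ≫ f := pullback.lift_fst _ _ _
  have hp₂2 : p₂ ≫ g.fiberToSpecResidueField s = f.fiberToSpecResidueField s :=
    pullback.lift_snd _ _ _
  have Hbot : IsPullback (g.fiberι s) (g.fiberToSpecResidueField s) g
      (S.fromSpecResidueField s) := IsPullback.of_hasPullback _ _
  have Hbig : IsPullback (f.fiberι s) (p₂ ≫ g.fiberToSpecResidueField s) (f ≫ g)
      (S.fromSpecResidueField s) := by
    rw [hp₂2, hfg]; exact IsPullback.of_hasPullback _ _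
  have H : IsPullback (f.fiberι s) p₂ f (g.fiberι s) :=
    IsPullback.of_bot Hbig hp₂1.symm Hbot
  have hiso : IsIso (g.fiberToSpecResidueField s) := Hbot.isIso_snd_of_isIso
  have hflat' : ((f ≫ g).stalkMap (f.fiberι s z)).hom.Flat := by
    rw [hfg]
    exact hflat
  have hsm' : (p₂.stalkMap z).hom.FormallySmooth := by
    have h2 : ((p₂ ≫ g.fiberToSpecResidueField s).stalkMap z).hom.FormallySmooth := by
      rw [hp₂2]; exact hz
    rw [Scheme.Hom.stalkMap_comp] at h2
    exact (RingHom.FormallySmooth.respectsIso.cancel_left_isIso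
      ((g.fiberToSpecResidueField s).stalkMap (p₂ z))
      (p₂.stalkMap z)).mp h2
  exact formallySmooth_stalkMap_of_fibre f g s H z hflat' hsm'

/-- base change of a smooth point is a smooth point -/
theorem mem_smoothLocus_of_isPullback {X S X' S' : Scheme.{u}} {f : X ⟶ S} {g : S' ⟶ S}
    {f' : X' ⟶ S'} {g' : X' ⟶ X} (h : IsPullback g' f' f g) [LocallyOfFinitePresentation f]
    [LocallyOfFinitePresentation f'] (x' : X') (hx : g' x' ∈ f.smoothLocus) :
    x' ∈ f'.smoothLocus := by
  have hU : Smooth (f.smoothLocus.ι ≫ f) := FibreSmoothPt.smooth_smoothLocus_ι_comp f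
  have h1 : IsPullback (g' ∣_ f.smoothLocus) (g' ⁻¹ᵁ f.smoothLocus).ι f.smoothLocus.ι g' :=
    isPullback_morphismRestrict g' _
  have h2 := h1.paste_vert h
  have : Smooth ((g' ⁻¹ᵁ f.smoothLocus).ι ≫ f') :=
    MorphismProperty.of_isPullback (P := @Smooth) h2 hU
  exact mem_smoothLocus_of_smooth_nhd f' x' (g' ⁻¹ᵁ f.smoothLocus) hx

theorem smoothLocus_eq_preimage {X S X' S' : Scheme.{u}} (f : X ⟶ S) (g : S' ⟶ S)
    (f' : X' ⟶ S') (g' : X' ⟶ X)
    (h : IsPullback g' f' f g) [LocallyOfFinitePresentation f] [LocallyOfFinitePresentation f']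
    (hflat : Flat f ∨ Flat g) :
    f'.smoothLocus = g' ⁻¹ᵁ f.smoothLocus := by
  ext x'
  refine ⟨fun hx' => ?_, fun hx => mem_smoothLocus_of_isPullback h x' hx⟩
  rcases hflat with hf | hg
  · -- `f` flat: use the fibres
    have hlfp : LocallyOfFinitePresentation (f'.fiberToSpecResidueField (f' x')) :=
      MorphismProperty.pullback_snd (P := @LocallyOfFinitePresentation) _ _ inferInstance
    obtain ⟨-, hfib⟩ := FibreSmoothPt.flat_and_fibre_of_mem_smoothLocus f' x' hx'
    have hfib' : ((f'.fiberToSpecResidueField (f' x')).stalkMap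
        (f'.asFiber x')).hom.FormallySmooth := hfib
    have Hfib := isPullback_fiberToSpecResidueField_of_isPullback h (f' x')
    have hlfp2 : LocallyOfFinitePresentation (f.fiberToSpecResidueField (g (f' x'))) :=
      MorphismProperty.pullback_snd (P := @LocallyOfFinitePresentation) _ _ inferInstance
    have hfl : Flat (Spec.map (g.residueFieldMap (f' x'))) := by
      rw [HasRingHomProperty.Spec_iff (P := @Flat)]
      algebraize [(g.residueFieldMap (f' x')).hom]
      exact (inferInstance : Module.Flat (S.residueField (g (f' x'))) (S'.residueField (f' x')))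
    have hz := @formallySmooth_stalkMap_of_flat_baseChange _ _ _ _ _ _ _ _ Hfib hlfp2 hfl
      (f'.asFiber x') hfib'
    have hφ1 : pullback.map f' (S'.fromSpecResidueField (f' x')) f
        (S.fromSpecResidueField (g (f' x'))) g'
        (Spec.map (g.residueFieldMap (f' x'))) g h.w.symm (by simp) ≫ f.fiberι (g (f' x')) =
        f'.fiberι (f' x') ≫ g' := by
      unfold Scheme.Hom.fiberι
      exact pullback.lift_fst _ _ _
    have hzx : f.fiberι (g (f' x')) (pullback.map f' (S'.fromSpecResidueField (f' x')) f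
        (S.fromSpecResidueField (g (f' x'))) g'
        (Spec.map (g.residueFieldMap (f' x'))) g h.w.symm (by simp) (f'.asFiber x')) = g' x' := by
      have e1 : (f'.fiberι (f' x') ≫ g') (f'.asFiber x') = g' x' := by
        rw [Scheme.Hom.comp_apply, f'.fiberι_asFiber]
      exact (congrArg (fun k : f'.fiber (f' x') ⟶ X => k (f'.asFiber x')) hφ1).trans e1
    have := formallySmooth_stalkMap_of_flat_of_fibre f (g (f' x')) _ (Flat.stalkMap f _) hz
    rw [hzx] at this
    exact this
  · exact formallySmooth_stalkMap_of_flat_baseChange h x' hx'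

end Groth.Agent.H25.SmoothLocusBC
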