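import Mathlib
import Groth.Prelude.Def_Curv2
import Groth.Prelude.Def_Found
import Groth.Agent.H25.GeomRegAt
import Groth.Agent.H25.SmoothLocusBC
import Groth.Agent.H47.SmoothLocusField
import Groth.Agent.H14.GeomBC.RegAny
import Groth.Agent.H48.TensorNormal
import Groth.Agent.H53.ReducedSm

set_option autoImplicit false
universe u
open CategoryTheory CategoryTheory.Limits AlgebraicGeometry TensorProduct
attribute [local instance] Curv2.stalkAlgebra

namespace Groth.Agent.H25.GeomRegSmooth

open Groth.Agent.H25.StalkBC Groth.Agent.H25.GeomRedAt Groth.Agent.H25.GeomRegAt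

/-- `K ⊗ A` is Noetherian when `A` is a localization of a finite type `k`-algebra -/
theorem isNoetherianRing_tensor_of_isLocalization (k K : Type u) [Field k] [Field K] [Algebra k K]
    (S : Type u) [CommRing S] [Algebra k S] [Algebra.FiniteType k S] (M : Submonoid S)
    (A : Type u) [CommRing A] [Algebra S A] [Algebra k A] [IsScalarTower k S A]
    [IsLocalization M A] : IsNoetherianRing (K ⊗[k] A) := by
  letI : Algebra (K ⊗[k] S) (K ⊗[k] A) :=
    (Algebra.TensorProduct.map (AlgHom.id k K) (IsScalarTower.toAlgHom k S A)).toRingHom.toAlgebra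
  haveI := Groth.Agent.H48.TensorNormal.isLocalization_tensor_right k K S M A
  haveI : IsNoetherianRing (K ⊗[k] S) := Algebra.FiniteType.isNoetherianRing K _
  exact IsLocalization.isNoetherianRing
    (M.map (Algebra.TensorProduct.includeRight (R := k) (A := K) (B := S))) (K ⊗[k] A)
    inferInstance

/-- smooth points over a field have regular local rings -/
theorem isRegularLocalRing_of_mem_smoothLocus (k : Type u) [Field k]
    {X : Scheme.{u}} (f : X ⟶ Spec (CommRingCat.of k))
    [LocallyOfFinitePresentation f] (x : X) (hx : x ∈ f.smoothLocus) :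
    IsRegularLocalRing (X.presheaf.stalk x) := by
  obtain ⟨_, ⟨V, hV, rfl⟩, hxV, -⟩ :=
    X.isBasis_affineOpens.exists_subset_of_mem_open (Set.mem_univ x) isOpen_univ
  have hU : IsAffineOpen (⊤ : (Spec (CommRingCat.of k)).Opens) := isAffineOpen_top _
  have hVU : V ≤ f ⁻¹ᵁ ⊤ := le_top
  have hfp := f.finitePresentation_appLE hU hV hVU
  rw [Scheme.Hom.mem_smoothLocus, formallySmooth_stalkMap_iff ⊤ hU V hV hVU hxV] at hx
  letI := (f.appLE ⊤ V hVU).hom.toAlgebra
  let e : k ≃+* Γ(Spec (CommRingCat.of k), ⊤) :=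
    (Scheme.ΓSpecIso (CommRingCat.of k)).symm.commRingCatIsoToRingEquiv
  letI : Field Γ(Spec (CommRingCat.of k), ⊤) := (e.symm.isField (Field.toIsField k)).toField
  haveI : Algebra.FinitePresentation Γ(Spec (CommRingCat.of k), ⊤) Γ(X, V) := hfp
  haveI : Algebra.FiniteType Γ(Spec (CommRingCat.of k), ⊤) Γ(X, V) := inferInstance
  set q := (hV.primeIdealOf ⟨x, hxV⟩).asIdeal with hq
  haveI : Algebra.IsSmoothAt Γ(Spec (CommRingCat.of k), ⊤) q := hx
  haveI := Groth.Agent.H47.RSF.isRegularLocalRing_of_isSmoothAt Γ(Spec (CommRingCat.of k), ⊤)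
    Γ(X, V) q
  letI := X.presheaf.algebra_section_stalk ⟨x, hxV⟩
  haveI := hV.isLocalization_stalk ⟨x, hxV⟩
  let e2 : X.presheaf.stalk x ≃+* Localization.AtPrime q :=
    (IsLocalization.algEquiv q.primeCompl (X.presheaf.stalk x) (Localization.AtPrime q)).toRingEquiv
  exact IsRegularLocalRing.of_ringEquiv e2.symm

variable (k : Type u) [Field k] (X : Scheme.{u}) [X.Over (Spec (CommRingCat.of k))] (x : X)

/-- for `X` locally of finite type over `k`, `K ⊗_k O_{X,x}` is Noetherian for every field `K` -/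
theorem isNoetherianRing_tensor_stalk [LocallyOfFiniteType (X ↘ Spec (CommRingCat.of k))]
    (K : Type u) [Field K] [Algebra k K] : IsNoetherianRing (K ⊗[k] X.presheaf.stalk x) := by
  obtain ⟨_, ⟨V, hV, rfl⟩, hxV, -⟩ :=
    X.isBasis_affineOpens.exists_subset_of_mem_open (Set.mem_univ x) isOpen_univ
  have hU : IsAffineOpen (⊤ : (Spec (CommRingCat.of k)).Opens) := isAffineOpen_top _
  have hVU : V ≤ (X ↘ Spec (CommRingCat.of k)) ⁻¹ᵁ ⊤ := le_top
  have hft := (X ↘ Spec (CommRingCat.of k)).finiteType_appLE hU hV hVU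
  let φ : k →+* Γ(X, V) := ((X ↘ Spec (CommRingCat.of k)).appLE ⊤ V hVU).hom.comp
    (Scheme.ΓSpecIso (CommRingCat.of k)).inv.hom
  letI : Algebra k Γ(X, V) := φ.toAlgebra
  haveI : Algebra.FiniteType k Γ(X, V) := by
    have h1 : ((Scheme.ΓSpecIso (CommRingCat.of k)).inv.hom).FiniteType :=
      RingHom.FiniteType.of_surjective _
        ((ConcreteCategory.bijective_of_isIso (Scheme.ΓSpecIso (CommRingCat.of k)).inv).2)
    exact hft.comp h1
  letI := X.presheaf.algebra_section_stalk ⟨x, hxV⟩
  haveI := hV.isLocalization_stalk ⟨x, hxV⟩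
  have key : (X ↘ Spec (CommRingCat.of k)).appLE ⊤ V hVU ≫ X.presheaf.germ V x hxV =
      (X ↘ Spec (CommRingCat.of k)).appTop ≫ X.presheaf.germ ⊤ x trivial := by
    rw [Scheme.Hom.appLE, Category.assoc, X.presheaf.germ_res]
    rfl
  haveI : IsScalarTower k Γ(X, V) (X.presheaf.stalk x) := by
    refine IsScalarTower.of_algebraMap_eq' ?_
    ext a
    exact (congrArg (fun h => h.hom ((Scheme.ΓSpecIso (CommRingCat.of k)).inv.hom a)) key).symm
  exact isNoetherianRing_tensor_of_isLocalization k K Γ(X, V)
    (hV.primeIdealOf ⟨x, hxV⟩).asIdeal.primeCompl (X.presheaf.stalk x)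

theorem flat_specMap_field (K : Type u) [Field K] [Algebra k K] :
    Flat (Spec.map (CommRingCat.ofHom (algebraMap k K))) := by
  rw [HasRingHomProperty.Spec_iff (P := @Flat)]
  simp only [CommRingCat.hom_ofHom]
  rw [RingHom.flat_algebraMap_iff]
  infer_instance

theorem surjective_bcFst (K : Type u) [Field K] [Algebra k K] :
    Surjective (Curv2.bcFst k X K) := by
  have hsurj : Surjective (Spec.map (CommRingCat.ofHom (algebraMap k K))) := by
    constructor
    intro x
    have : Subsingleton (Spec (CommRingCat.of k)) := inferInstance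
    obtain ⟨y⟩ : Nonempty (Spec (CommRingCat.of K)) := inferInstance
    exact ⟨y, Subsingleton.elim _ _⟩
  exact MorphismProperty.pullback_fst (P := @Surjective) _ _ hsurj

/-- S1562 -/
theorem isGeomRegularAt_iff_mem_smoothLocus
    [LocallyOfFinitePresentation (X ↘ Spec (CommRingCat.of k))] :
    Curv2.IsGeomRegularAt k X x ↔ x ∈ (X ↘ Spec (CommRingCat.of k)).smoothLocus := by
  constructor
  · intro h
    haveI : IsLocallyNoetherian X :=
      LocallyOfFiniteType.isLocallyNoetherian (X ↘ Spec (CommRingCat.of k))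
    have hGR : CAlg.IsGeometricallyRegular k (X.presheaf.stalk x) :=
      ((tfae_geomRegularAt k X x).2.1) (((tfae_geomRegularAt k X x).1.1) h)
    haveI := isNoetherianRing_tensor_stalk k X x (AlgebraicClosure k)
    haveI : IsRegularRing (AlgebraicClosure k ⊗[k] X.presheaf.stalk x) :=
      Groth.Agent.H14.GeomBC.isRegularRing_tensor_of_isGeometricallyRegular_of_isNoetherianRing
        k _ hGR (AlgebraicClosure k)
    obtain ⟨x', hx'⟩ := (surjective_bcFst k X (AlgebraicClosure k)).surj x
    haveI := isRegularLocalRing_stalk_of_tensor k X x (AlgebraicClosure k) x' hx'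
    have hsm : x' ∈ (Curv2.bcSnd k X (AlgebraicClosure k)).smoothLocus :=
      (Groth.Agent.H47.SLF.mem_smoothLocus_iff_isRegularLocalRing_of_perfectField
        (AlgebraicClosure k) (Curv2.bcSnd k X (AlgebraicClosure k)) x').mpr inferInstance
    haveI := flat_specMap_field k (AlgebraicClosure k)
    have heq := Groth.Agent.H25.SmoothLocusBC.smoothLocus_eq_preimage
      (X ↘ Spec (CommRingCat.of k))
      (Spec.map (CommRingCat.ofHom (algebraMap k (AlgebraicClosure k))))
      (Curv2.bcSnd k X (AlgebraicClosure k)) (Curv2.bcFst k X (AlgebraicClosure k))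
      (IsPullback.of_hasPullback _ _) (Or.inr inferInstance)
    rw [heq] at hsm
    rw [← hx']
    exact hsm
  · intro hx k' _ _ hfg x' hx'
    have : x' ∈ (Curv2.bcSnd k X k').smoothLocus :=
      Groth.Agent.H25.SmoothLocusBC.mem_smoothLocus_of_isPullback
        (f := X ↘ Spec (CommRingCat.of k))
        (g := Spec.map (CommRingCat.ofHom (algebraMap k k')))
        (IsPullback.of_hasPullback _ _) x' (by rw [hx']; exact hx)
    exact isRegularLocalRing_of_mem_smoothLocus k' (Curv2.bcSnd k X k') x' this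

theorem geometricallyReduced_of_smooth {X Y : Scheme.{u}} (f : X ⟶ Y) [Smooth f] :
    GeometricallyReduced f := by
  rw [geometricallyReduced_iff]
  intro K _ y Z fst snd h
  haveI : Smooth snd := MorphismProperty.of_isPullback (P := @Smooth) h inferInstance
  exact Groth.Agent.H53.isReduced_of_smooth_scheme snd

/-- S1628 -/
theorem geomReduced_and_geomRegular_of_smooth [Smooth (X ↘ Spec (CommRingCat.of k))] :
    GeometricallyReduced (X ↘ (Spec (CommRingCat.of k))) ∧ ∀ x : X, Curv2.IsGeomRegularAt k X x := by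
  refine ⟨geometricallyReduced_of_smooth _, fun x => ?_⟩
  rw [isGeomRegularAt_iff_mem_smoothLocus, Scheme.Hom.smoothLocus_eq_top]
  trivial

end Groth.Agent.H25.GeomRegSmooth
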