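import Mathlib
import Groth.Prelude.Def_Curv2
import Groth.Agent.H48.SepClosedIn
import Groth.Agent.H25.StalkBC
import Groth.Agent.H25.GeomRegSmooth

set_option autoImplicit false
universe u
open CategoryTheory CategoryTheory.Limits AlgebraicGeometry TensorProduct
attribute [local instance] Curv2.resAlgebra Curv2.stalkAlgebra

namespace Groth.Agent.H25.GenFibre

section Top

variable {Y X : Type*} [TopologicalSpace Y] [TopologicalSpace X]

/-- an open map to an irreducible space with irreducible generic fibre has irreducible source -/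
theorem irreducibleSpace_of_isOpenMap_of_generic_fibre {f : Y → X} (hf : IsOpenMap f)
    {ξ : X} (hξ : IsGenericPoint ξ (Set.univ : Set X)) (hfib : IsIrreducible (f ⁻¹' {ξ})) :
    IrreducibleSpace Y := by
  haveI : Nonempty Y := hfib.nonempty.to_subtype.map Subtype.val
  refine { isPreirreducible_univ := ?_, toNonempty := inferInstance }
  intro U V hU hV hUne hVne
  have h1 : ∀ W : Set Y, IsOpen W → (Set.univ ∩ W).Nonempty → (f ⁻¹' {ξ} ∩ W).Nonempty := by
    intro W hW hWne
    obtain ⟨w, -, hw⟩ := hWne
    have hfW : IsOpen (f '' W) := hf W hW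
    have : ξ ∈ f '' W := (hξ.mem_open_set_iff hfW).mpr ⟨f w, ⟨trivial, w, hw, rfl⟩⟩
    obtain ⟨w', hw', hw'ξ⟩ := this
    exact ⟨w', hw'ξ, hw'⟩
  obtain ⟨y, hy, hyUV⟩ := hfib.isPreirreducible U V hU hV (h1 U hU hUne) (h1 V hV hVne)
  exact ⟨y, trivial, hyUV⟩

/-- a subset containing a generic point of an irreducible space is irreducible -/
theorem isIrreducible_of_mem_generic {ζ : Y} (hζ : IsGenericPoint ζ (Set.univ : Set Y))
    {S : Set Y} (hS : ζ ∈ S) : IsIrreducible S := by
  refine ⟨⟨ζ, hS⟩, ?_⟩
  intro U V hU hV hUne hVne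
  obtain ⟨u, -, hu⟩ := hUne
  obtain ⟨v, -, hv⟩ := hVne
  have h1 : ζ ∈ U := (hζ.mem_open_set_iff hU).mpr ⟨u, trivial, hu⟩
  have h2 : ζ ∈ V := (hζ.mem_open_set_iff hV).mpr ⟨v, trivial, hv⟩
  exact ⟨ζ, hS, h1, h2⟩

end Top

variable (k : Type u) [Field k] (X : Scheme.{u}) [X.Over (Spec (CommRingCat.of k))]

theorem fromSpecResidueField_comp (x : X) :
    X.fromSpecResidueField x ≫ (X ↘ Spec (CommRingCat.of k)) =
      Spec.map (CommRingCat.ofHom (algebraMap k (X.residueField x))) := by
  unfold Scheme.fromSpecResidueField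
  rw [Category.assoc, Groth.Agent.H25.StalkBC.fromSpecStalk_comp, ← Spec.map_comp]
  rfl

/-- the fibre of `X_K → X` over `x` is `Spec (κ(x) ⊗_k K)` -/
noncomputable def fiberIso (K : Type u) [Field K] [Algebra k K] (x : X) :
    (Curv2.bcFst k X K).fiber x ≅ Spec (CommRingCat.of (X.residueField x ⊗[k] K)) :=
  pullbackSymmetry _ _ ≪≫
    pullbackRightPullbackFstIso (X ↘ Spec (CommRingCat.of k))
      (Spec.map (CommRingCat.ofHom (algebraMap k K))) (X.fromSpecResidueField x) ≪≫
    pullback.congrHom (fromSpecResidueField_comp k X x) rfl ≪≫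
    pullbackSpecIso k (X.residueField x) K

theorem irreducibleSpace_fiber_iff (K : Type u) [Field K] [Algebra k K] (x : X) :
    IsIrreducible ((Curv2.bcFst k X K).base ⁻¹' {x}) ↔
      IrreducibleSpace (PrimeSpectrum (K ⊗[k] X.residueField x)) := by
  rw [isIrreducible_iff_irreducibleSpace,
    ← ((Curv2.bcFst k X K).fiberHomeo x).irreducibleSpace_iff,
    (fiberIso k X K x).hom.homeomorph.irreducibleSpace_iff]
  exact (PrimeSpectrum.homeomorphOfRingEquiv
    (Algebra.TensorProduct.comm k K (X.residueField x)).toRingEquiv).irreducibleSpace_iff.symm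

section Irr

variable [IrreducibleSpace X]

omit [IrreducibleSpace X] in
theorem isOpenMap_bcFst (K : Type u) [Field K] [Algebra k K] :
    IsOpenMap (Curv2.bcFst k X K).base :=
  (pullback.fst (X ↘ (Spec (CommRingCat.of k)))
    (Spec.map (CommRingCat.ofHom (algebraMap k K)))).isOpenMap

theorem irreducibleSpace_bc_of_generic (K : Type u) [Field K] [Algebra k K]
    (h : IrreducibleSpace (PrimeSpectrum (K ⊗[k] X.residueField (genericPoint X)))) :
    IrreducibleSpace (Curv2.bc k X K) :=
  irreducibleSpace_of_isOpenMap_of_generic_fibre (isOpenMap_bcFst k X K)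
    (by simpa using genericPoint_spec X) ((irreducibleSpace_fiber_iff k X K _).mpr h)

theorem irreducibleSpace_generic_of_bc (K : Type u) [Field K] [Algebra k K]
    [IrreducibleSpace (Curv2.bc k X K)] :
    IrreducibleSpace (PrimeSpectrum (K ⊗[k] X.residueField (genericPoint X))) := by
  rw [← irreducibleSpace_fiber_iff]
  have hζ : IsGenericPoint (genericPoint (Curv2.bc k X K)) (Set.univ : Set (Curv2.bc k X K)) := by
    simpa using genericPoint_spec (Curv2.bc k X K)
  apply isIrreducible_of_mem_generic hζ
  have h1 := hζ.image (Curv2.bcFst k X K).continuous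
  have hs := Groth.Agent.H25.GeomRegSmooth.surjective_bcFst k X K
  rw [Set.image_univ, hs.surj.range_eq, closure_univ] at h1
  have h2 : IsGenericPoint (genericPoint X) (Set.univ : Set X) := by
    simpa using genericPoint_spec X
  exact h1.eq h2

/-- S1540 -/
theorem geometricallyIrreducible_iff_sepClosedIn :
    GeometricallyIrreducible (X ↘ (Spec (CommRingCat.of k))) ↔
      ∀ a : X.residueField (genericPoint X), IsSeparable k a →
        a ∈ Set.range (algebraMap k (X.residueField (genericPoint X))) := by
  rw [← Groth.Agent.H48.geomIrr_iff_sepClosedIn]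
  constructor
  · intro h K _ _
    haveI : IrreducibleSpace (Curv2.bc k X K) :=
      GeometricallyIrreducible.geometrically_irreducibleSpace
        (f := X ↘ (Spec (CommRingCat.of k)))
        (Spec.map (CommRingCat.ofHom (algebraMap k K))) _ _ (IsPullback.of_hasPullback _ _)
    exact irreducibleSpace_generic_of_bc k X K
  · intro h
    refine ⟨geometrically_iff_of_commRing_of_isClosedUnderIsomorphisms.mpr fun K _ _ => ?_⟩
    exact irreducibleSpace_bc_of_generic k X K (h K)

end Irr

/-- S1539 -/
theorem geometricallyIrreducible_of_finite_separable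
    (h : ∀ (k' : Type u) [Field k'] [Algebra k k'] [FiniteDimensional k k']
      [Algebra.IsSeparable k k'], IrreducibleSpace (Curv2.bc k X k')) :
    GeometricallyIrreducible (X ↘ (Spec (CommRingCat.of k))) := by
  haveI h0 : IrreducibleSpace (Curv2.bc k X k) := h k
  haveI : IrreducibleSpace X :=
    Function.Surjective.irreducibleSpace (Curv2.bcFst k X k).continuous
      (Groth.Agent.H25.GeomRegSmooth.surjective_bcFst k X k).surj
  refine ⟨geometrically_iff_of_commRing_of_isClosedUnderIsomorphisms.mpr fun K _ _ => ?_⟩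
  apply irreducibleSpace_bc_of_generic k X K
  apply Groth.Agent.H48.geomIrr_of_finite_separable
  intro k' _ _ _ _
  haveI := h k'
  exact irreducibleSpace_generic_of_bc k X k'

end Groth.Agent.H25.GenFibre
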