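import Mathlib.Topology.KrullDimension
import Mathlib.Topology.NoetherianSpace
import Mathlib.Topology.JacobsonSpace

/-! Dimension helper lemmas (helper25). -/

set_option autoImplicit false
open TopologicalSpace Topology

namespace Groth.Agent.H25

/-- In a space that is locally Noetherian (topologically), each irreducible component contains a
nonempty open subset. -/
theorem exists_isOpen_nonempty_subset_irreducibleComponent {X : Type*} [TopologicalSpace X]
    (hX : ∀ x : X, ∃ V : Set X, IsOpen V ∧ x ∈ V ∧ NoetherianSpace V)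
    (Z : Set X) (hZ : Z ∈ irreducibleComponents X) :
    ∃ o : Set X, IsOpen o ∧ o.Nonempty ∧ o ⊆ Z := by
  obtain ⟨x₀, hx₀⟩ := hZ.1.nonempty
  obtain ⟨V, hVo, hxV, hVN⟩ := hX x₀
  have hemb : IsOpenEmbedding (Subtype.val : V → X) := hVo.isOpenEmbedding_subtypeVal
  have h1 : (Subtype.val : V → X) ⁻¹' Z ∈ irreducibleComponents V :=
    preimage_mem_irreducibleComponents hZ hemb ⟨x₀, hx₀, ⟨⟨x₀, hxV⟩, rfl⟩⟩
  obtain ⟨o, ho, hne, hoZ⟩ :=
    NoetherianSpace.exists_isOpen_nonempty_subset_irreducibleComponent _ h1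
  refine ⟨Subtype.val '' o, hemb.isOpenMap _ ho, hne.image _, ?_⟩
  rintro _ ⟨y, hy, rfl⟩
  exact hoZ hy

/-- A chain of irreducible closed subsets below a closed set `C` gives a chain in `C`. -/
theorem length_le_topologicalKrullDim_of_last_le {X : Type*} [TopologicalSpace X]
    (p : LTSeries (IrreducibleCloseds X)) (C : Set X) (hC : IsClosed C)
    (hle : (p.last : Set X) ⊆ C) :
    (p.length : WithBot ℕ∞) ≤ topologicalKrullDim C := by
  have hsub : ∀ i, ((p i : IrreducibleCloseds X) : Set X) ⊆ C := fun i =>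
    (show ((p i : IrreducibleCloseds X) : Set X) ⊆ p.last from
      SetLike.coe_subset_coe.2 (p.monotone (Fin.le_last i))).trans hle
  have hirr : ∀ i, IsIrreducible ((Subtype.val : C → X) ⁻¹' (p i : Set X)) := by
    intro i
    obtain ⟨z, hz⟩ := (p i).isIrreducible.nonempty
    refine ⟨⟨⟨z, hsub i hz⟩, hz⟩, ?_⟩
    rintro u v hu hv ⟨a, ha, hau⟩ ⟨b, hb, hbv⟩
    obtain ⟨u', hu', rfl⟩ := isOpen_induced_iff.1 hu
    obtain ⟨v', hv', rfl⟩ := isOpen_induced_iff.1 hv
    obtain ⟨c, hc, hcu, hcv⟩ := (p i).isIrreducible.isPreirreducible u' v' hu' hv'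
      ⟨a, ha, hau⟩ ⟨b, hb, hbv⟩
    exact ⟨⟨c, hsub i hc⟩, hc, hcu, hcv⟩
  let q : LTSeries (IrreducibleCloseds C) :=
    { length := p.length
      toFun := fun i => ⟨(Subtype.val : C → X) ⁻¹' (p i : Set X), hirr i,
        (p i).isClosed.preimage continuous_subtype_val⟩
      step := by
        intro i
        have hlt : p i.castSucc < p i.succ := p.step i
        change (_ : IrreducibleCloseds C) < _
        rw [← SetLike.coe_ssubset_coe] at hlt ⊢
        refine ⟨fun a ha => hlt.1 ha, fun h => hlt.2 ?_⟩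
        intro y hy
        exact h (a := ⟨y, hsub _ hy⟩) hy }
  exact Order.LTSeries.length_le_krullDim q

end Groth.Agent.H25

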