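import Groth.Prelude.Def_EGA43
import Mathlib.AlgebraicGeometry.PullbackCarrier
import Mathlib.AlgebraicGeometry.Morphisms.UnderlyingMap

set_option autoImplicit false
universe u

open CategoryTheory AlgebraicGeometry Limits

namespace Groth.Agent.H25

variable {α β γ : Type*} [TopologicalSpace α] [TopologicalSpace β] [TopologicalSpace γ]

theorem isOpenAt_comp {f : α → β} {g : β → γ} {x : α} (hf : EGA43.IsOpenAt f x)
    (hg : EGA43.IsOpenAt g (f x)) : EGA43.IsOpenAt (g ∘ f) x := by
  intro U hU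
  rw [Set.image_comp]
  exact hg _ (hf U hU)

theorem isOpenAt_of_isOpenMap {f : α → β} (hf : IsOpenMap f) (x : α) : EGA43.IsOpenAt f x :=
  fun _ hU => hf.image_mem_nhds hU

theorem isOpenAt_of_comp {f : α → β} {g : β → γ} (hf : Continuous f) {x : α}
    (h : EGA43.IsOpenAt (g ∘ f) x) : EGA43.IsOpenAt g (f x) := by
  intro U hU
  have h1 : f ⁻¹' U ∈ nhds x := hf.continuousAt.preimage_mem_nhds hU
  refine Filter.mem_of_superset (h _ h1) ?_
  rintro _ ⟨a, ha, rfl⟩
  exact ⟨f a, ha, rfl⟩

theorem isOpenAt_congr {f g : α → β} (h : f = g) {x : α} (hf : EGA43.IsOpenAt f x) :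
    EGA43.IsOpenAt g x := h ▸ hf

/-- Universal openness at a point can be tested on an arbitrary pullback square. -/
theorem isOpenAt_of_isPullback {X Y Y' P : Scheme.{u}} {f : X ⟶ Y} {x : X}
    (h : EGA43.IsUnivOpenAt f x) {g : Y' ⟶ Y} {fst : P ⟶ X} {snd : P ⟶ Y'}
    (sq : IsPullback fst snd f g) (p : P) (hp : fst.base p = x) :
    EGA43.IsOpenAt snd.base p := by
  have h1 : EGA43.IsOpenAt (pullback.snd f g).base (sq.isoPullback.hom.base p) := by
    apply h
    rw [← Scheme.Hom.comp_apply, sq.isoPullback_hom_fst, hp]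
  have h2 : EGA43.IsOpenAt sq.isoPullback.hom.base p :=
    isOpenAt_of_isOpenMap (sq.isoPullback.hom.homeomorph.isOpenMap) p
  have h3 := isOpenAt_comp h2 h1
  refine isOpenAt_congr ?_ h3
  have e : sq.isoPullback.hom ≫ pullback.snd f g = snd := sq.isoPullback_hom_snd
  funext a
  rw [Function.comp_apply, ← Scheme.Hom.comp_apply, e]

theorem isUnivOpenAt_of_forall_isPullback {X Y : Scheme.{u}} {f : X ⟶ Y} {x : X}
    (h : ∀ (Y' P : Scheme.{u}) (g : Y' ⟶ Y) (fst : P ⟶ X) (snd : P ⟶ Y'),
      IsPullback fst snd f g → ∀ p : P, fst.base p = x → EGA43.IsOpenAt snd.base p) :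
    EGA43.IsUnivOpenAt f x :=
  fun Y' g x' hx' => h Y' _ g _ _ (IsPullback.of_hasPullback f g) x' hx'

/-- A base change of a morphism universally open at `x` is universally open at the points over `x`. -/
theorem isUnivOpenAt_of_isPullback {X Y Y' P : Scheme.{u}} {f : X ⟶ Y} {x : X}
    (h : EGA43.IsUnivOpenAt f x) {g : Y' ⟶ Y} {fst : P ⟶ X} {snd : P ⟶ Y'}
    (sq : IsPullback fst snd f g) (p : P) (hp : fst.base p = x) :
    EGA43.IsUnivOpenAt snd p := by
  intro Y'' g' x' hx'
  have sq' := (IsPullback.of_hasPullback snd g').paste_horiz sq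
  apply isOpenAt_of_isPullback h sq' x'
  rw [Scheme.Hom.comp_apply, hx', hp]

end Groth.Agent.H25

namespace Groth.Agent.H25

/-- Openness at a point descends along a closed surjective base change. -/
theorem isOpenAt_of_closed_surjective {X Y Y₁ P : Scheme.{u}} (v : Y₁ ⟶ Y)
    (hv : IsClosedMap v.base) (hs : Function.Surjective v.base) (f : X ⟶ Y) (x : X)
    {fst : P ⟶ X} {snd : P ⟶ Y₁} (sq : IsPullback fst snd f v)
    (h : ∀ x₁ : P, fst.base x₁ = x → EGA43.IsOpenAt snd.base x₁) :
    EGA43.IsOpenAt f.base x := by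
  intro U hU
  obtain ⟨U', hU'U, hU'o, hxU'⟩ := mem_nhds_iff.1 hU
  set W : Set Y₁ := interior (snd.base '' (fst.base ⁻¹' U')) with hW
  have claim : ∀ y₁ : Y₁, v.base y₁ = f.base x → y₁ ∈ W := by
    intro y₁ hy₁
    obtain ⟨x₁, hx₁, hx₁'⟩ := Scheme.exists_preimage_of_isPullback sq x y₁ hy₁.symm
    have := h x₁ hx₁ (fst.base ⁻¹' U')
      (fst.continuous.continuousAt.preimage_mem_nhds (hU'o.mem_nhds (hx₁ ▸ hxU')))
    rw [hx₁'] at this
    exact mem_interior_iff_mem_nhds.2 this
  have hC : IsClosed (v.base '' Wᶜ) := hv _ isOpen_interior.isClosed_compl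
  have hxN : f.base x ∈ (v.base '' Wᶜ)ᶜ := by
    rintro ⟨y₁, hy₁W, hy₁⟩
    exact hy₁W (claim y₁ hy₁)
  refine Filter.mem_of_superset (hC.isOpen_compl.mem_nhds hxN) ?_
  intro y hy
  obtain ⟨y₁, rfl⟩ := hs y
  have hy₁W : y₁ ∈ W := by
    by_contra hcon
    exact hy ⟨y₁, hcon, rfl⟩
  obtain ⟨z, hz, hz'⟩ := interior_subset hy₁W
  refine ⟨fst.base z, hU'U hz, ?_⟩
  rw [← hz', ← Scheme.Hom.comp_apply, ← Scheme.Hom.comp_apply, sq.w]

end Groth.Agent.H25

namespace Groth.Agent.H25

/-- If the base change of `f` along `v` is universally open at the points over `x`, then the base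
change of `f` along `pullback v g ⟶ Y'` is open at every point over a point `x'` over `x`. -/
theorem isOpenAt_double_baseChange {X Y Y₁ Y' : Scheme.{u}} (f : X ⟶ Y) (v : Y₁ ⟶ Y) (g : Y' ⟶ Y)
    (x : X)
    (h : ∀ x₁ : ↥(pullback f v), (pullback.fst f v).base x₁ = x →
      EGA43.IsUnivOpenAt (pullback.snd f v) x₁)
    (x' : ↥(pullback f g)) (hx' : (pullback.fst f g).base x' = x)
    (x₁ : ↥(pullback (pullback.snd f g) (pullback.snd v g)))
    (hx₁ : (pullback.fst (pullback.snd f g) (pullback.snd v g)).base x₁ = x') :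
    EGA43.IsOpenAt (pullback.snd (pullback.snd f g) (pullback.snd v g)).base x₁ := by
  have cond : (pullback.fst (pullback.snd f g) (pullback.snd v g) ≫ pullback.fst f g) ≫ f =
      (pullback.snd (pullback.snd f g) (pullback.snd v g) ≫ pullback.fst v g) ≫ v := by
    rw [Category.assoc, pullback.condition, ← Category.assoc, pullback.condition, Category.assoc,
      Category.assoc, pullback.condition]
  let a : pullback (pullback.snd f g) (pullback.snd v g) ⟶ pullback f v :=
    pullback.lift _ _ cond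
  have a1 : a ≫ pullback.fst f v =
      pullback.fst (pullback.snd f g) (pullback.snd v g) ≫ pullback.fst f g := pullback.lift_fst _ _ _
  have a2 : a ≫ pullback.snd f v =
      pullback.snd (pullback.snd f g) (pullback.snd v g) ≫ pullback.fst v g := pullback.lift_snd _ _ _
  have sqO : IsPullback (a ≫ pullback.fst f v) (pullback.snd (pullback.snd f g) (pullback.snd v g))
      f (pullback.fst v g ≫ v) := by
    rw [a1, pullback.condition]
    exact (IsPullback.of_hasPullback (pullback.snd f g) (pullback.snd v g)).paste_horiz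
      (IsPullback.of_hasPullback f g)
  have sqL := IsPullback.of_right sqO a2 (IsPullback.of_hasPullback f v)
  have hx : (pullback.fst f v).base (a.base x₁) = x := by
    rw [← Scheme.Hom.comp_apply, a1, Scheme.Hom.comp_apply, hx₁, hx']
  exact isOpenAt_of_isPullback (h (a.base x₁) hx) sqL x₁ rfl

theorem isOpenAt_restrictPreimage_of_isEmbedding {A B T P : Type*} [TopologicalSpace A]
    [TopologicalSpace B] [TopologicalSpace T] [TopologicalSpace P] (ψ : A → B) (c : T → B)
    (hc : Topology.IsEmbedding c) (fst : P → A) (snd : P → T) (hfst : Continuous fst)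
    (comm : ∀ p, ψ (fst p) = c (snd p)) (p : P) (hp : EGA43.IsOpenAt snd p) :
    EGA43.IsOpenAt ((Set.range c).restrictPreimage ψ)
      ⟨fst p, show ψ (fst p) ∈ Set.range c from ⟨snd p, (comm p).symm⟩⟩ := by
  let γ : P → ψ ⁻¹' (Set.range c) := fun q => ⟨fst q, ⟨snd q, (comm q).symm⟩⟩
  have hγ : Continuous γ := hfst.subtype_mk _
  let c' : T → Set.range c := fun t => ⟨c t, ⟨t, rfl⟩⟩
  have hc' : IsOpenMap c' := by
    intro U hU
    obtain ⟨V, hV, rfl⟩ := hc.isOpen_iff.1 hU
    have : c' '' (c ⁻¹' V) = Subtype.val ⁻¹' V := by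
      ext ⟨b, t, rfl⟩
      constructor
      · rintro ⟨t', ht', e⟩
        have : c t' = c t := congrArg Subtype.val e
        simpa [← this] using ht'
      · intro hb
        exact ⟨t, hb, rfl⟩
    rw [this]
    exact hV.preimage continuous_subtype_val
  have h1 : EGA43.IsOpenAt (c' ∘ snd) p := isOpenAt_comp hp (isOpenAt_of_isOpenMap hc' _)
  have h2 : EGA43.IsOpenAt ((Set.range c).restrictPreimage ψ ∘ γ) p := by
    refine isOpenAt_congr ?_ h1
    funext q
    apply Subtype.ext
    exact (comm q).symm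
  exact isOpenAt_of_comp hγ h2

end Groth.Agent.H25
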