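import Mathlib
import Groth.Prelude.Def_Curv2
import Groth.Agent.H25.GeomRedAt

set_option autoImplicit false
universe u
open CategoryTheory CategoryTheory.Limits AlgebraicGeometry TensorProduct
attribute [local instance] Curv2.stalkAlgebra

namespace Groth.Agent.H25.GeomRedGlobal

open Groth.Agent.H25.GeomRedAt

variable (k : Type u) [Field k] (X : Scheme.{u}) [X.Over (Spec (CommRingCat.of k))]

theorem isGeomReducedAt_of_geometricallyReduced
    [GeometricallyReduced (X ↘ Spec (CommRingCat.of k))] (x : X) :
    Curv2.IsGeomReducedAt k X x := by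
  intro K _ _ x' _
  haveI : IsReduced (Curv2.bc k X K) :=
    GeometricallyReduced.geometrically_isReduced (f := X ↘ Spec (CommRingCat.of k))
      (Spec.map (CommRingCat.ofHom (algebraMap k K))) _ _ (IsPullback.of_hasPullback _ _)
  infer_instance

theorem geometricallyReduced_of_forall_isGeomReducedAt
    (h : ∀ x : X, Curv2.IsGeomReducedAt k X x) :
    GeometricallyReduced (X ↘ Spec (CommRingCat.of k)) := by
  rw [geometricallyReduced_iff]
  intro K _ y Z fst snd hpb
  letI : Algebra k K := (Spec.preimage y).hom.toAlgebra
  have hy : y = Spec.map (CommRingCat.ofHom (algebraMap k K)) := (Spec.map_preimage y).symm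
  rw [hy] at hpb
  haveI : ∀ x' : Curv2.bc k X K, _root_.IsReduced ((Curv2.bc k X K).presheaf.stalk x') :=
    fun x' => h _ K x' rfl
  haveI : IsReduced (Curv2.bc k X K) := isReduced_of_isReduced_stalk _
  exact isReduced_of_isOpenImmersion hpb.isoPullback.hom

theorem geometricallyReduced_iff_forall_isGeomReducedAt :
    GeometricallyReduced (X ↘ Spec (CommRingCat.of k)) ↔ ∀ x : X, Curv2.IsGeomReducedAt k X x :=
  ⟨fun _ x => isGeomReducedAt_of_geometricallyReduced k X x,
    geometricallyReduced_of_forall_isGeomReducedAt k X⟩

/-- S1548 -/
theorem geometricallyReduced_of_purelyInseparable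
    (h : ∀ (k' : Type u) [Field k'] [Algebra k k'] [FiniteDimensional k k']
      [IsPurelyInseparable k k'], IsReduced (Curv2.bc k X k')) :
    GeometricallyReduced (X ↘ (Spec (CommRingCat.of k))) := by
  apply geometricallyReduced_of_forall_isGeomReducedAt
  intro x
  rw [isGeomReducedAt_iff_purelyInseparable]
  intro k' _ _ _ _ x' _
  haveI := h k'
  infer_instance

/-- S1544 -/
theorem geometricallyReduced_iff_functionField [IsIntegral X] :
    GeometricallyReduced (X ↘ (Spec (CommRingCat.of k))) ↔
      Algebra.IsGeometricallyReduced k X.functionField := by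
  rw [geometricallyReduced_iff_forall_isGeomReducedAt]
  constructor
  · intro h
    exact (isGeomReducedAt_iff k X (genericPoint X)).mp (h _)
  · intro h x
    rw [isGeomReducedAt_iff]
    let φ : X.presheaf.stalk x →ₐ[k] X.functionField :=
      { (algebraMap (X.presheaf.stalk x) X.functionField) with
        commutes' := fun a => by
          change (X.presheaf.stalkSpecializes _).hom ((X.presheaf.germ ⊤ x trivial).hom _) =
            (X.presheaf.germ ⊤ (genericPoint X) trivial).hom _
          rw [← CommRingCat.comp_apply, X.presheaf.germ_stalkSpecializes] }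
    exact Algebra.IsGeometricallyReduced.of_injective φ
      (IsFractionRing.injective (X.presheaf.stalk x) X.functionField)

end Groth.Agent.H25.GeomRedGlobal
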