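import Mathlib
import Groth.Prelude.Def_Curv2
import Groth.Agent.H25.GeomRedGlobal
import Groth.Agent.H38.MinPrimesComp
import Groth.Agent.H38.FibrePrimes

set_option autoImplicit false
universe u
open CategoryTheory CategoryTheory.Limits AlgebraicGeometry TensorProduct
attribute [local instance] Curv2.stalkAlgebra

namespace Groth.Agent.H25.GeomRedGeneric

open Groth.Agent.H25.GeomRedAt Groth.Agent.H25.StalkBC

section Ring

variable (k : Type u) [Field k]

/-- finite products of geometrically reduced algebras are geometrically reduced -/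
theorem isGeometricallyReduced_pi {ι : Type u} [Fintype ι] [DecidableEq ι] (L : ι → Type u)
    [∀ i, CommRing (L i)] [∀ i, Algebra k (L i)] [∀ i, Algebra.IsGeometricallyReduced k (L i)] :
    Algebra.IsGeometricallyReduced k (∀ i, L i) := by
  rw [Algebra.isGeometricallyReduced_field_iff]
  haveI : ∀ i, IsReduced (AlgebraicClosure k ⊗[k] L i) := fun i =>
    (Algebra.isGeometricallyReduced_field_iff k (L i)).mp inferInstance
  haveI : IsReduced (∀ i, AlgebraicClosure k ⊗[k] L i) := inferInstance
  exact isReduced_of_injective (Algebra.TensorProduct.piRight k k (AlgebraicClosure k) L)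
    (Algebra.TensorProduct.piRight k k (AlgebraicClosure k) L).injective

/-- a reduced algebra all of whose localizations at minimal primes are geometrically reduced is
geometrically reduced -/
theorem isGeometricallyReduced_of_minimalPrimes (A : Type u) [CommRing A] [Algebra k A]
    [IsReduced A]
    (h : ∀ (P : Ideal A) [P.IsPrime], P ∈ minimalPrimes A →
      Algebra.IsGeometricallyReduced k (Localization.AtPrime P)) :
    Algebra.IsGeometricallyReduced k A := by
  classical
  apply Algebra.IsGeometricallyReduced.of_forall_fg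
  intro D hD
  haveI : Algebra.FiniteType k D := (Subalgebra.fg_iff_finiteType D).mp hD
  haveI : IsNoetherianRing D := Algebra.FiniteType.isNoetherianRing k D
  haveI : IsReduced D := isReduced_of_injective D.val Subtype.val_injective
  have hfin : (minimalPrimes D).Finite := minimalPrimes.finite_of_isNoetherianRing D
  haveI : Fintype (minimalPrimes D) := hfin.fintype
  have hex : ∀ q : minimalPrimes D, ∃ P ∈ minimalPrimes A, Ideal.comap D.val.toRingHom P = q.1 := by
    intro q
    apply Ideal.exists_minimalPrimes_comap_eq D.val.toRingHom q.1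
    rw [Ideal.comap_bot_of_injective _ Subtype.val_injective]
    exact q.2
  choose P hP hPq using hex
  haveI : ∀ q, (P q).IsPrime := fun q => (hP q).1.1
  haveI : ∀ q, Algebra.IsGeometricallyReduced k (Localization.AtPrime (P q)) := fun q => h _ (hP q)
  let φ : D →ₐ[k] ∀ q : minimalPrimes D, Localization.AtPrime (P q) :=
    AlgHom.pi (fun q => (IsScalarTower.toAlgHom k A (Localization.AtPrime (P q))).comp D.val)
  have hφ : Function.Injective φ := by
    rw [injective_iff_map_eq_zero]
    intro d hd
    have hmem : ∀ q ∈ minimalPrimes D, d ∈ q := by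
      intro q hq
      have h1 : algebraMap A (Localization.AtPrime (P ⟨q, hq⟩)) (d : A) = 0 := congrFun hd ⟨q, hq⟩
      rw [IsLocalization.map_eq_zero_iff (P ⟨q, hq⟩).primeCompl] at h1
      obtain ⟨s, hs⟩ := h1
      have h2 : (d : A) ∈ P ⟨q, hq⟩ :=
        ((Ideal.IsPrime.mem_or_mem inferInstance (hs ▸ (P ⟨q, hq⟩).zero_mem :
          (s : A) * (d : A) ∈ P ⟨q, hq⟩))).resolve_left s.2
      have h3 := hPq ⟨q, hq⟩
      change Ideal.comap D.val.toRingHom (P ⟨q, hq⟩) = q at h3
      rw [← h3]
      exact h2
    have h3 : d ∈ sInf (minimalPrimes D) := by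
      rw [Submodule.mem_sInf]
      exact hmem
    have h4 : sInf (minimalPrimes D) = (⊥ : Ideal D).radical := Ideal.sInf_minimalPrimes
    rw [h4] at h3
    have h5 : d ∈ nilradical D := h3
    rw [nilradical_eq_zero] at h5
    exact h5
  haveI := isGeometricallyReduced_pi k (fun q : minimalPrimes D => Localization.AtPrime (P q))
  exact Algebra.IsGeometricallyReduced.of_injective φ hφ

end Ring

section Sch

variable (k : Type u) [Field k] (X : Scheme.{u}) [X.Over (Spec (CommRingCat.of k))]

/-- the `k`-algebra structure on sections over an open of a `k`-scheme -/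
@[instance_reducible] noncomputable def sectionsAlgebra (U : X.Opens) : Algebra k Γ(X, U) :=
  ((X.presheaf.map (homOfLE (le_top : U ≤ ⊤)).op).hom.comp
    (((X ↘ Spec (CommRingCat.of k)).appTop).hom.comp
      (Scheme.ΓSpecIso (CommRingCat.of k)).inv.hom)).toAlgebra

theorem isScalarTower_sections_stalk (U : X.Opens) (y : X) (hy : y ∈ U) :
    letI := sectionsAlgebra k X U
    letI := TopCat.Presheaf.algebra_section_stalk X.presheaf (⟨y, hy⟩ : U)
    IsScalarTower k Γ(X, U) (X.presheaf.stalk y) := by
  letI := sectionsAlgebra k X U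
  letI := TopCat.Presheaf.algebra_section_stalk X.presheaf (⟨y, hy⟩ : U)
  refine IsScalarTower.of_algebraMap_eq' ?_
  ext a
  change (X.presheaf.germ ⊤ y trivial).hom _ =
    (X.presheaf.germ U y hy).hom ((X.presheaf.map (homOfLE (le_top : U ≤ ⊤)).op).hom _)
  rw [← CommRingCat.comp_apply, X.presheaf.germ_res]
  rfl

/-- S1543 -/
theorem geometricallyReduced_of_generic [IsReduced X]
    (h : ∀ Z ∈ irreducibleComponents (X : Type u), ∀ η : X, IsGenericPoint η Z →
      Curv2.IsGeomReducedAt k X η) :
    GeometricallyReduced (X ↘ (Spec (CommRingCat.of k))) := by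
  apply Groth.Agent.H25.GeomRedGlobal.geometricallyReduced_of_forall_isGeomReducedAt
  intro x
  rw [isGeomReducedAt_iff]
  obtain ⟨_, ⟨U, hU : IsAffineOpen U, rfl⟩, hxU, -⟩ :=
    X.isBasis_affineOpens.exists_subset_of_mem_open (Set.mem_univ x) isOpen_univ
  letI := sectionsAlgebra k X U
  have hΓ : Algebra.IsGeometricallyReduced k Γ(X, U) := by
    apply isGeometricallyReduced_of_minimalPrimes
    intro Q hQ hQmin
    have hηU : hU.fromSpec ⟨Q, hQ⟩ ∈ U := Groth.Agent.H38.fromSpec_mem hU _
    have hgen := Groth.Agent.H38.MinPrimesComp.closure_fromSpec_mem_irreducibleComponents hU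
      ⟨Q, hQ⟩ hQmin
    have hη : Curv2.IsGeomReducedAt k X (hU.fromSpec ⟨Q, hQ⟩) := h _ hgen _ rfl
    rw [isGeomReducedAt_iff] at hη
    letI := TopCat.Presheaf.algebra_section_stalk X.presheaf (⟨hU.fromSpec ⟨Q, hQ⟩, hηU⟩ : U)
    haveI := isScalarTower_sections_stalk k X U _ hηU
    haveI hloc : IsLocalization.AtPrime (X.presheaf.stalk (hU.fromSpec ⟨Q, hQ⟩)) Q := by
      have := hU.isLocalization_stalk ⟨hU.fromSpec ⟨Q, hQ⟩, hηU⟩
      rwa [Groth.Agent.H38.primeIdealOf_fromSpec hU ⟨Q, hQ⟩ hηU] at this
    let e : Localization.AtPrime Q ≃ₐ[Γ(X, U)] X.presheaf.stalk (hU.fromSpec ⟨Q, hQ⟩) :=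
      IsLocalization.algEquiv Q.primeCompl _ _
    exact Algebra.IsGeometricallyReduced.of_injective (e.toAlgHom.restrictScalars k) e.injective
  letI := TopCat.Presheaf.algebra_section_stalk X.presheaf (⟨x, hxU⟩ : U)
  haveI := isScalarTower_sections_stalk k X U x hxU
  haveI := hU.isLocalization_stalk ⟨x, hxU⟩
  exact Groth.Agent.H48.TensorNormal.isGeometricallyReduced_of_isLocalization k Γ(X, U)
    (hU.primeIdealOf ⟨x, hxU⟩).asIdeal.primeCompl (X.presheaf.stalk x)

end Sch

end Groth.Agent.H25.GeomRedGeneric
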