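import Mathlib

set_option autoImplicit false
universe u
open CategoryTheory CategoryTheory.Limits AlgebraicGeometry TensorProduct

namespace Groth.Agent.H25.ReducedLocus

/-- In a Noetherian ring, if `R_p` is reduced then `R_s` is reduced for some `s ∉ p`. -/
theorem exists_isReduced_away {R : Type u} [CommRing R] [IsNoetherianRing R] (p : Ideal R)
    [p.IsPrime] [IsReduced (Localization.AtPrime p)] :
    ∃ s : R, s ∉ p ∧ IsReduced (Localization.Away s) := by
  classical
  obtain ⟨T, hT⟩ := (isNoetherianRing_iff_ideal_fg R).mp inferInstance (nilradical R)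
  have hex : ∀ a ∈ nilradical R, ∃ s : R, s ∉ p ∧ s * a = 0 := by
    intro a ha
    have h1 : IsNilpotent (algebraMap R (Localization.AtPrime p) a) :=
      (mem_nilradical.mp ha).map _
    have h0 : algebraMap R (Localization.AtPrime p) a = 0 := h1.eq_zero
    rw [IsLocalization.map_eq_zero_iff p.primeCompl] at h0
    obtain ⟨s, hs⟩ := h0
    exact ⟨s, s.2, hs⟩
  have hTK : ∀ a ∈ T, a ∈ nilradical R := fun a ha => hT ▸ Ideal.subset_span ha
  choose! σ hσ1 hσ2 using hex
  let s : R := ∏ a ∈ T, σ a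
  have hs : s ∉ p := by
    intro hmem
    obtain ⟨a, haT, ha⟩ := (Ideal.IsPrime.prod_mem_iff).mp hmem
    exact hσ1 a (hTK a haT) ha
  have hsK : ∀ a ∈ nilradical R, s * a = 0 := by
    intro a ha
    rw [← hT] at ha
    refine Submodule.span_induction ?_ ?_ ?_ ?_ ha
    · intro t ht
      have : σ t ∣ s := Finset.dvd_prod_of_mem σ ht
      obtain ⟨c, hc⟩ := this
      rw [hc, mul_comm (σ t) c, mul_assoc, hσ2 t (hTK t ht), mul_zero]
    · rw [mul_zero]
    · intro x y _ _ hx hy
      rw [mul_add, hx, hy, add_zero]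
    · intro c x _ hx
      rw [smul_eq_mul, mul_left_comm, hx, mul_zero]
  refine ⟨s, hs, ?_⟩
  rw [isReduced_iff]
  intro z hz
  obtain ⟨a, t, rfl⟩ := IsLocalization.exists_mk'_eq (Submonoid.powers s) z
  obtain ⟨n, hn⟩ := hz
  rw [← IsLocalization.mk'_pow, IsLocalization.mk'_eq_zero_iff] at hn
  obtain ⟨⟨_, m, rfl⟩, hm⟩ := hn
  change s ^ m * a ^ n = 0 at hm
  have h1 : IsNilpotent (s * a) := by
    refine ⟨max m n, ?_⟩
    rw [mul_pow]
    have e1 : s ^ max m n = s ^ m * s ^ (max m n - m) := by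
      rw [← pow_add, Nat.add_sub_cancel' (le_max_left m n)]
    have e2 : a ^ max m n = a ^ n * a ^ (max m n - n) := by
      rw [← pow_add, Nat.add_sub_cancel' (le_max_right m n)]
    rw [e1, e2]
    calc s ^ m * s ^ (max m n - m) * (a ^ n * a ^ (max m n - n))
        = (s ^ m * a ^ n) * (s ^ (max m n - m) * a ^ (max m n - n)) := by ring
      _ = 0 := by rw [hm, zero_mul]
  have h2 : s * (s * a) = 0 := hsK _ (mem_nilradical.mpr h1)
  rw [IsLocalization.mk'_eq_zero_iff]
  refine ⟨⟨s ^ 2, 2, rfl⟩, ?_⟩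
  change s ^ 2 * a = 0
  rw [pow_two, mul_assoc]
  exact h2

/-- in a locally Noetherian scheme, the set of points whose local ring is reduced is open -/
theorem isOpen_reducedLocus (Y : Scheme.{u}) [IsLocallyNoetherian Y] :
    IsOpen {y : Y | IsReduced (Y.presheaf.stalk y)} := by
  rw [isOpen_iff_forall_mem_open]
  intro y hy
  obtain ⟨_, ⟨V, hV : IsAffineOpen V, rfl⟩, hyV, -⟩ :=
    Y.isBasis_affineOpens.exists_subset_of_mem_open (Set.mem_univ y) isOpen_univ
  haveI : IsNoetherianRing Γ(Y, V) := IsLocallyNoetherian.component_noetherian ⟨V, hV⟩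
  letI := TopCat.Presheaf.algebra_section_stalk Y.presheaf (⟨y, hyV⟩ : V)
  haveI hloc := hV.isLocalization_stalk ⟨y, hyV⟩
  haveI : (hV.primeIdealOf ⟨y, hyV⟩).asIdeal.IsPrime := (hV.primeIdealOf ⟨y, hyV⟩).2
  haveI hyd : IsReduced (Y.presheaf.stalk y) := hy
  haveI : IsReduced (Localization.AtPrime (hV.primeIdealOf ⟨y, hyV⟩).asIdeal) :=
    isReduced_of_injective
      (IsLocalization.algEquiv (hV.primeIdealOf ⟨y, hyV⟩).asIdeal.primeCompl
      (Localization.AtPrime (hV.primeIdealOf ⟨y, hyV⟩).asIdeal)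
      (Y.presheaf.stalk y)).toRingEquiv.toRingHom
      (IsLocalization.algEquiv (hV.primeIdealOf ⟨y, hyV⟩).asIdeal.primeCompl
      (Localization.AtPrime (hV.primeIdealOf ⟨y, hyV⟩).asIdeal)
      (Y.presheaf.stalk y)).injective
  obtain ⟨s, hs, hsd⟩ := exists_isReduced_away (hV.primeIdealOf ⟨y, hyV⟩).asIdeal
  refine ⟨Y.basicOpen s, ?_, (Y.basicOpen s).isOpen, ?_⟩
  · intro y' hy'
    have hVs : IsAffineOpen (Y.basicOpen s) := hV.basicOpen s
    haveI := hV.isLocalization_basicOpen s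
    haveI : IsReduced Γ(Y, Y.basicOpen s) :=
      isReduced_of_injective
        (IsLocalization.algEquiv (Submonoid.powers s) Γ(Y, Y.basicOpen s)
        (Localization.Away s)).toRingEquiv.toRingHom
        (IsLocalization.algEquiv (Submonoid.powers s) Γ(Y, Y.basicOpen s)
        (Localization.Away s)).injective
    letI := TopCat.Presheaf.algebra_section_stalk Y.presheaf (⟨y', hy'⟩ : Y.basicOpen s)
    haveI := hVs.isLocalization_stalk ⟨y', hy'⟩
    exact isReduced_localizationPreserves (hVs.primeIdealOf ⟨y', hy'⟩).asIdeal.primeCompl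
      (Y.presheaf.stalk y') inferInstance
  · have h1 : hV.primeIdealOf ⟨y, hyV⟩ ∈ hV.fromSpec ⁻¹ᵁ Y.basicOpen s := by
      rw [hV.fromSpec_preimage_basicOpen]
      exact hs
    have h2 : hV.fromSpec (hV.primeIdealOf ⟨y, hyV⟩) ∈ Y.basicOpen s := h1
    rwa [hV.fromSpec_primeIdealOf ⟨y, hyV⟩] at h2

end Groth.Agent.H25.ReducedLocus
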