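import Mathlib
import Groth.Prelude.Def_Curv2
import Groth.Prelude.Def_FDesc
import Groth.Agent.H25.ReducedLocus
import Groth.Agent.H25.GeomRedGeneric

set_option autoImplicit false
universe u
open CategoryTheory CategoryTheory.Limits AlgebraicGeometry TensorProduct TopologicalSpace
attribute [local instance] Curv2.stalkAlgebra

namespace Groth.Agent.H25.GeomRedOpen

open Groth.Agent.H25.GeomRedAt Groth.Agent.H25.GeomRedGeneric Groth.Agent.H25.ReducedLocus

theorem isReduced_sections_of_stalks {X : Scheme.{u}} (U : X.Opens)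
    (h : ∀ y ∈ U, IsReduced (X.presheaf.stalk y)) : IsReduced Γ(X, U) := by
  refine ⟨fun s hs => ?_⟩
  apply TopCat.Presheaf.section_ext X.sheaf U s 0
  intro x hx
  change (X.sheaf.presheaf.germ U x hx) s = (X.sheaf.presheaf.germ U x hx) 0
  rw [map_zero]
  change X.presheaf.germ U x hx s = 0
  haveI := h x hx
  exact (hs.map _).eq_zero

variable (k : Type u) [Field k] (X : Scheme.{u}) [X.Over (Spec (CommRingCat.of k))]

/-- local version of the generic-point criterion -/
theorem isGeomReducedAt_of_affine_generic (U : X.Opens) (hU : IsAffineOpen U)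
    [IsReduced Γ(X, U)]
    (h : ∀ Q : PrimeSpectrum Γ(X, U), Q.asIdeal ∈ minimalPrimes Γ(X, U) →
      Curv2.IsGeomReducedAt k X (hU.fromSpec Q))
    (x : X) (hxU : x ∈ U) : Curv2.IsGeomReducedAt k X x := by
  rw [isGeomReducedAt_iff]
  letI := sectionsAlgebra k X U
  have hΓ : Algebra.IsGeometricallyReduced k Γ(X, U) := by
    apply isGeometricallyReduced_of_minimalPrimes
    intro Q hQ hQmin
    have hηU : hU.fromSpec ⟨Q, hQ⟩ ∈ U := Groth.Agent.H38.fromSpec_mem hU _
    have hη : Curv2.IsGeomReducedAt k X (hU.fromSpec ⟨Q, hQ⟩) := h ⟨Q, hQ⟩ hQmin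
    rw [isGeomReducedAt_iff] at hη
    letI := TopCat.Presheaf.algebra_section_stalk X.presheaf (⟨hU.fromSpec ⟨Q, hQ⟩, hηU⟩ : U)
    haveI := isScalarTower_sections_stalk k X U _ hηU
    haveI hloc : IsLocalization.AtPrime (X.presheaf.stalk (hU.fromSpec ⟨Q, hQ⟩)) Q := by
      have := hU.isLocalization_stalk ⟨hU.fromSpec ⟨Q, hQ⟩, hηU⟩
      rwa [Groth.Agent.H38.primeIdealOf_fromSpec hU ⟨Q, hQ⟩ hηU] at this
    let e : Localization.AtPrime Q ≃ₐ[Γ(X, U)] X.presheaf.stalk (hU.fromSpec ⟨Q, hQ⟩) :=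
      IsLocalization.algEquiv Q.primeCompl _ _
    exact Algebra.IsGeometricallyReduced.of_injective (e.toAlgHom.restrictScalars k) e.injective
  letI := TopCat.Presheaf.algebra_section_stalk X.presheaf (⟨x, hxU⟩ : U)
  haveI := isScalarTower_sections_stalk k X U x hxU
  haveI := hU.isLocalization_stalk ⟨x, hxU⟩
  exact Groth.Agent.H48.TensorNormal.isGeometricallyReduced_of_isLocalization k Γ(X, U)
    (hU.primeIdealOf ⟨x, hxU⟩).asIdeal.primeCompl (X.presheaf.stalk x)

/-- generic points of irreducible components of `X` lying in a Noetherian open are finite in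
number -/
theorem finite_generic_in_open (V : X.Opens) [NoetherianSpace V] :
    {η : X | η ∈ V ∧ closure {η} ∈ irreducibleComponents X}.Finite := by
  have hemb : Topology.IsOpenEmbedding (Subtype.val : V → X) := V.isOpen.isOpenEmbedding_subtypeVal
  have hfin := TopologicalSpace.NoetherianSpace.finite_irreducibleComponents (α := V)
  refine Set.Finite.of_finite_image (f := fun η : X => (Subtype.val : V → X) ⁻¹' closure {η})
    (hfin.subset ?_) ?_
  · rintro _ ⟨η, ⟨hηV, hη⟩, rfl⟩
    exact preimage_mem_irreducibleComponents hη hemb ⟨η, subset_closure rfl, ⟨η, hηV⟩, rfl⟩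
  · rintro η₁ ⟨h1V, -⟩ η₂ ⟨h2V, -⟩ heq
    have heq' : (Subtype.val : V → X) ⁻¹' closure {η₁} = (Subtype.val : V → X) ⁻¹' closure {η₂} :=
      heq
    have a1 : (⟨η₁, h1V⟩ : V) ∈ (Subtype.val : V → X) ⁻¹' closure {η₂} := by
      rw [← heq']
      exact subset_closure rfl
    have a2 : (⟨η₂, h2V⟩ : V) ∈ (Subtype.val : V → X) ⁻¹' closure {η₁} := by
      rw [heq']
      exact subset_closure rfl
    have s1 : η₂ ⤳ η₁ := specializes_iff_mem_closure.mpr a1
    have s2 : η₁ ⤳ η₂ := specializes_iff_mem_closure.mpr a2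
    exact (s2.antisymm s1).eq

/-- S2522 (Curv2 form) -/
theorem isOpen_geomReducedLocus [IsLocallyNoetherian X] :
    IsOpen {x : X | Curv2.IsGeomReducedAt k X x} := by
  rw [isOpen_iff_forall_mem_open]
  intro x hx
  obtain ⟨_, ⟨V, hV : IsAffineOpen V, rfl⟩, hxV, -⟩ :=
    X.isBasis_affineOpens.exists_subset_of_mem_open (Set.mem_univ x) isOpen_univ
  haveI : IsNoetherianRing Γ(X, V) := IsLocallyNoetherian.component_noetherian ⟨V, hV⟩
  haveI : NoetherianSpace V := noetherianSpace_of_isAffineOpen V hV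
  have hF := finite_generic_in_open X V
  set Fb : Set X := {η : X | (η ∈ V ∧ closure {η} ∈ irreducibleComponents X) ∧
    ¬ Curv2.IsGeomReducedAt k X η} with hFb
  have hFbfin : Fb.Finite := hF.subset (fun η hη => hη.1)
  have hZ : IsClosed (⋃ η ∈ Fb, closure ({η} : Set X)) :=
    hFbfin.isClosed_biUnion fun η _ => isClosed_closure
  have hR := isOpen_reducedLocus X
  refine ⟨(V : Set X) ∩ {y | IsReduced (X.presheaf.stalk y)} ∩ (⋃ η ∈ Fb, closure ({η} : Set X))ᶜ,
    ?_, (V.isOpen.inter hR).inter hZ.isOpen_compl, ?_⟩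
  · rintro y ⟨⟨hyV, hyR⟩, hyZ⟩
    have hWo : IsOpen ((V : Set X) ∩ {y | IsReduced (X.presheaf.stalk y)} ∩
        (⋃ η ∈ Fb, closure ({η} : Set X))ᶜ) := (V.isOpen.inter hR).inter hZ.isOpen_compl
    obtain ⟨_, ⟨U, hU : IsAffineOpen U, rfl⟩, hyU, hUW⟩ :=
      X.isBasis_affineOpens.exists_subset_of_mem_open
        (show y ∈ (V : Set X) ∩ {y | IsReduced (X.presheaf.stalk y)} ∩
          (⋃ η ∈ Fb, closure ({η} : Set X))ᶜ from ⟨⟨hyV, hyR⟩, hyZ⟩) hWo
    haveI : IsReduced Γ(X, U) := isReduced_sections_of_stalks U (fun z hz => (hUW hz).1.2)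
    refine isGeomReducedAt_of_affine_generic k X U hU ?_ y hyU
    intro Q hQ
    by_contra hbad
    have hηU : hU.fromSpec Q ∈ U := Groth.Agent.H38.fromSpec_mem hU _
    have hgen := Groth.Agent.H38.MinPrimesComp.closure_fromSpec_mem_irreducibleComponents hU Q hQ
    have hmem : hU.fromSpec Q ∈ Fb := ⟨⟨(hUW hηU).1.1, hgen⟩, hbad⟩
    exact (hUW hηU).2 (Set.mem_biUnion hmem (subset_closure rfl))
  · refine ⟨⟨hxV, ?_⟩, ?_⟩
    · haveI : Algebra.IsGeometricallyReduced k (X.presheaf.stalk x) :=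
        (isGeomReducedAt_iff k X x).mp hx
      exact Algebra.isReduced_of_isGeometricallyReduced k
    · intro hmem
      rw [Set.mem_iUnion₂] at hmem
      obtain ⟨η, hη, hxη⟩ := hmem
      have hsp : η ⤳ x := specializes_iff_mem_closure.mpr hxη
      exact hη.2 (isGeomReducedAt_of_specializes k X x η hsp hx)

end Groth.Agent.H25.GeomRedOpen

namespace Groth.Agent.H25.GeomRedOpen

/-- S2522 -/
theorem isOpen_geomReducedLocus_fbase {k : Type u} [Field k] {X : Scheme.{u}}
    [IsLocallyNoetherian X] (f : X ⟶ Spec (CommRingCat.of k)) :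
    IsOpen {x : X | FBase.IsGeomReducedAt f x} := by
  letI : X.Over (Spec (CommRingCat.of k)) := ⟨f⟩
  exact isOpen_geomReducedLocus k X

end Groth.Agent.H25.GeomRedOpen
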