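import Mathlib
import Groth.Prelude.Def_Curv2
import Groth.Agent.H25.GeomRegSmooth
import Groth.Agent.H25.GeomRedGeneric
import Groth.Agent.Lead.RegularLocal

set_option autoImplicit false
universe u
open CategoryTheory CategoryTheory.Limits AlgebraicGeometry TensorProduct
attribute [local instance] Curv2.stalkAlgebra

namespace Groth.Agent.H25.SmoothDense

open Groth.Agent.H25.StalkBC Groth.Agent.H25.GeomRedAt Groth.Agent.H25.GeomRegAt

/-- in a locally Noetherian scheme, a dense open contains the generic points of the irreducible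
components -/
theorem mem_of_dense_of_closure_mem_irreducibleComponents {X : Scheme.{u}} [IsLocallyNoetherian X]
    (η : X) (hη : closure {η} ∈ irreducibleComponents X) (U : X.Opens) (hU : Dense (U : Set X)) :
    η ∈ U := by
  obtain ⟨_, ⟨V, hV : IsAffineOpen V, rfl⟩, hηV, -⟩ :=
    X.isBasis_affineOpens.exists_subset_of_mem_open (Set.mem_univ η) isOpen_univ
  haveI : IsNoetherianRing Γ(X, V) := IsLocallyNoetherian.component_noetherian ⟨V, hV⟩
  haveI : TopologicalSpace.NoetherianSpace V := noetherianSpace_of_isAffineOpen V hV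
  have hemb : Topology.IsOpenEmbedding (Subtype.val : V → X) := V.isOpen.isOpenEmbedding_subtypeVal
  have hcomp : closure {(⟨η, hηV⟩ : V)} ∈ irreducibleComponents V := by
    rw [hemb.closure_eq_preimage_closure_image, Set.image_singleton]
    exact preimage_mem_irreducibleComponents hη hemb ⟨η, subset_closure rfl, ⟨η, hηV⟩, rfl⟩
  have hfin := TopologicalSpace.NoetherianSpace.finite_irreducibleComponents (α := V)
  set W : Set V := (⋃₀ (irreducibleComponents V \ {closure {(⟨η, hηV⟩ : V)}}))ᶜ with hW
  have hWo : IsOpen W := by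
    rw [hW, Set.sUnion_eq_biUnion, isOpen_compl_iff]
    exact hfin.sdiff.isClosed_biUnion fun Z hZ => isClosed_of_mem_irreducibleComponents Z hZ.1
  have hWc : closure W = closure {(⟨η, hηV⟩ : V)} :=
    closure_sUnion_irreducibleComponents_sdiff_singleton hfin _ hcomp
  have hWne : W.Nonempty := by
    by_contra hne
    rw [Set.not_nonempty_iff_eq_empty] at hne
    rw [hne, closure_empty] at hWc
    exact (hWc ▸ subset_closure rfl : (⟨η, hηV⟩ : V) ∈ (∅ : Set V))
  have hWX : IsOpen (Subtype.val '' W) := hemb.isOpenMap W hWo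
  obtain ⟨u, ⟨w, hwW, rfl⟩, huU⟩ := hU.inter_open_nonempty _ hWX (hWne.image _)
  have h1 : w ∈ closure {(⟨η, hηV⟩ : V)} := hWc ▸ subset_closure hwW
  have h2 : (⟨η, hηV⟩ : V) ⤳ w := specializes_iff_mem_closure.mpr h1
  have h3 : η ⤳ (w : X) := h2.map continuous_subtype_val
  exact h3.mem_open U.isOpen huU

variable (k : Type u) [Field k] (X : Scheme.{u}) [X.Over (Spec (CommRingCat.of k))]
  [LocallyOfFiniteType (X ↘ (Spec (CommRingCat.of k)))]

/-- generic points of a reduced scheme, geometrically reduced there, lie in the smooth locus -/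
theorem mem_smoothLocus_of_generic [IsReduced X] (η : X)
    (hη : closure {η} ∈ irreducibleComponents X) (hred : Curv2.IsGeomReducedAt k X η) :
    η ∈ (X ↘ Spec (CommRingCat.of k)).smoothLocus := by
  haveI : IsLocallyNoetherian X :=
    LocallyOfFiniteType.isLocallyNoetherian (X ↘ Spec (CommRingCat.of k))
  rw [← Groth.Agent.H25.GeomRegSmooth.isGeomRegularAt_iff_mem_smoothLocus]
  rw [(tfae_geomRegularAt k X η).1]
  intro k' _ _ _ _ x' hx'
  have hF : IsField (X.presheaf.stalk η) := isField_stalk_of_closure_mem_irreducibleComponents X η hη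
  obtain ⟨Q, hQ, -, ⟨e⟩⟩ := exists_prime_of_point_stalk (X ↘ Spec (CommRingCat.of k)) η
    (stalkAlgebra_eq k X η) k' x' hx'
  haveI : Algebra.IsGeometricallyReduced k (X.presheaf.stalk η) :=
    (isGeomReducedAt_iff k X η).mp hred
  haveI : IsReduced (k' ⊗[k] X.presheaf.stalk η) :=
    Groth.Agent.H13.isReduced_tensorProduct_of_isGeometricallyReduced k _ k'
  haveI : IsReduced (X.presheaf.stalk η ⊗[k] k') :=
    isReduced_of_ringEquiv (Algebra.TensorProduct.comm k (X.presheaf.stalk η) k').toRingEquiv
  haveI : IsArtinianRing (X.presheaf.stalk η) := by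
    letI := hF.toField
    infer_instance
  haveI : IsArtinianRing (X.presheaf.stalk η ⊗[k] k') :=
    IsArtinianRing.of_finite (X.presheaf.stalk η) _
  haveI : IsArtinianRing (Localization.AtPrime Q) := inferInstance
  have hLF : IsField (Localization.AtPrime Q) :=
    IsArtinianRing.isField_of_isReduced_of_isLocalRing _
  haveI : IsRegularLocalRing (Localization.AtPrime Q) := by
    letI := hLF.toField
    infer_instance
  exact IsRegularLocalRing.of_ringEquiv e.symm

/-- S1549 -/
theorem geometricallyReduced_iff_dense_smooth [IsReduced X] :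
    GeometricallyReduced (X ↘ (Spec (CommRingCat.of k))) ↔
      ∃ U : X.Opens, Dense (U : Set X) ∧ Smooth (U.ι ≫ (X ↘ (Spec (CommRingCat.of k)))) := by
  haveI : IsLocallyNoetherian X :=
    LocallyOfFiniteType.isLocallyNoetherian (X ↘ Spec (CommRingCat.of k))
  constructor
  · intro h
    refine ⟨(X ↘ Spec (CommRingCat.of k)).smoothLocus, ?_, ?_⟩
    · rw [dense_iff_closure_eq, Set.eq_univ_iff_forall]
      intro x
      have hirr := isIrreducible_irreducibleComponent (x := x)
      have hcl : IsClosed (irreducibleComponent x) := isClosed_irreducibleComponent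
      have hη : IsGenericPoint hirr.genericPoint (irreducibleComponent x) :=
        hirr.isGenericPoint_genericPoint hcl
      have hηc : closure {hirr.genericPoint} ∈ irreducibleComponents X := by
        rw [hη.def]
        exact irreducibleComponent_mem_irreducibleComponents x
      have hmem := mem_smoothLocus_of_generic k X hirr.genericPoint hηc
        (Groth.Agent.H25.GeomRedGlobal.isGeomReducedAt_of_geometricallyReduced k X _)
      have hx : x ∈ closure {hirr.genericPoint} := by
        rw [hη.def]
        exact mem_irreducibleComponent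
      exact closure_mono (Set.singleton_subset_iff.mpr hmem) hx
    · rw [← Scheme.Hom.smoothLocus_eq_top_iff, ← Scheme.Hom.preimage_smoothLocus_eq]
      ext y
      simp
  · rintro ⟨U, hUd, hUs⟩
    apply Groth.Agent.H25.GeomRedGeneric.geometricallyReduced_of_generic
    intro Z hZ η hη
    have hηc : closure {η} ∈ irreducibleComponents X := by
      rw [hη.def]
      exact hZ
    have hηU := mem_of_dense_of_closure_mem_irreducibleComponents η hηc U hUd
    have hsm : η ∈ (X ↘ Spec (CommRingCat.of k)).smoothLocus := by
      have h1 : (U.ι ≫ (X ↘ Spec (CommRingCat.of k))).smoothLocus = ⊤ :=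
        Scheme.Hom.smoothLocus_eq_top _
      rw [← Scheme.Hom.preimage_smoothLocus_eq] at h1
      have : (⟨η, hηU⟩ : U) ∈ U.ι ⁻¹ᵁ (X ↘ Spec (CommRingCat.of k)).smoothLocus := by
        rw [h1]
        trivial
      exact this
    rw [← Groth.Agent.H25.GeomRegSmooth.isGeomRegularAt_iff_mem_smoothLocus] at hsm
    rw [isGeomReducedAt_iff_purelyInseparable]
    intro k' _ _ _ _ x' hx'
    haveI := ((tfae_geomRegularAt k X η).1.mp hsm) k' x' hx'
    haveI := Groth.Agent.Lead.RLR.isDomain ((Curv2.bc k X k').presheaf.stalk x')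
    infer_instance

end Groth.Agent.H25.SmoothDense
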