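import Groth.Agent.H25.ChevCore
import Groth.Agent.H17.Chev.RedSubMain
import Groth.Agent.H17.Chev.DimEqScheme
import Groth.Agent.H17.Chev.Irreducible

set_option autoImplicit false
universe u
open CategoryTheory Limits AlgebraicGeometry

namespace Groth.Agent.H25.ChevCore

open Groth.Agent.H6.UnivOpenDVR Groth.Agent.H17.Chev

section Comp

/-- **Chevalley's criterion** (EGA IV 14.4.1, b) ⇒ a)). -/
theorem isUnivOpenAt_of_component {X Y : Scheme.{u}} [IsLocallyNoetherian Y] (f : X ⟶ Y)
    [LocallyOfFiniteType f] (x : X)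
    (hy : CAlg2.IsGeomUnibranch (Y.presheaf.stalk (f.base x)))
    (Z : Set X) (hZ : Z ∈ irreducibleComponents (X : Type u)) (hxZ : x ∈ Z)
    (hY₀ : closure (f.base '' Z) ∈ irreducibleComponents (Y : Type u))
    (hdim : ∀ η : Y, closure ({η} : Set Y) = closure (f.base '' Z) →
      FlatMor.localDim ↥(Z ∩ f.base ⁻¹' {f.base x}) ⟨x, ⟨hxZ, rfl⟩⟩ =
        topologicalKrullDim ↥(Z ∩ f.base ⁻¹' {η})) :
    EGA43.IsUnivOpenAt f x := by
  have hZc : IsClosed Z := isClosed_of_mem_irreducibleComponents Z hZ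
  obtain ⟨X₁, Y₁, iX, iY, f₁, hiX, hiY, hsq, hrX, hrY⟩ := exists_square f Z hZc
  subst hrX
  obtain ⟨w, rfl⟩ := hxZ
  have hsq' : (iX ≫ f) ≫ 𝟙 Y = iX ≫ f := Category.comp_id _
  have hinj : Function.Injective (𝟙 Y : Y ⟶ Y).base := fun a b hab => hab
  have hξ := hZ.1.isGenericPoint_genericPoint hZc
  set ξ := hZ.1.genericPoint with hξdef
  obtain ⟨aξ, haξ⟩ : ξ ∈ Set.range iX.base := hξ.mem
  obtain ⟨hX₁, hclX⟩ := irreducibleSpace_of_isEmbedding iX.base iX.isEmbedding aξ
    (by rw [haξ, hξ.def])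
  have hgp : genericPoint X₁ = aξ := ((genericPoint_spec X₁).eq hclX)
  -- the image of the generic point
  have hcl : closure (f.base '' Set.range iX.base) = closure {f.base ξ} :=
    closure_image_eq_of_isGenericPoint f.base f.continuous _ ξ hξ
  have hη₀ : (iX ≫ f).base (genericPoint X₁) = f.base ξ := by
    rw [hgp, ← haξ]
    rfl
  have hηmax : ∀ y' : Y, y' ⤳ (iX ≫ f).base (genericPoint X₁) →
      y' = (iX ≫ f).base (genericPoint X₁) := by
    intro y' hy'
    rw [hη₀] at hy' ⊢
    rw [hcl] at hY₀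
    have h1 : closure ({f.base ξ} : Set Y) ⊆ closure {y'} := hy'.closure_subset
    have h2 : closure ({y'} : Set Y) = closure {f.base ξ} :=
      le_antisymm (hY₀.2 (isIrreducible_singleton : IsIrreducible ({y'} : Set Y)).closure h1) h1
    have h3 : IsGenericPoint y' (closure {f.base ξ}) := h2
    have h4 : IsGenericPoint (f.base ξ) (closure {f.base ξ}) := rfl
    exact h3.eq h4
  obtain ⟨n, hn⟩ := exists_nat_eq_fibreDimAt (iX ≫ f) w
  -- the generic fibre
  have hgen : FlatMor.fibreDimAt (iX ≫ f) (genericPoint X₁) = n := by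
    obtain ⟨hirr, -⟩ := irreducibleSpace_of_isEmbedding
      ((iX ≫ f).fiberι ((iX ≫ f).base (genericPoint X₁))).base
      ((iX ≫ f).fiberι ((iX ≫ f).base (genericPoint X₁))).isEmbedding
      ((iX ≫ f).asFiber (genericPoint X₁)) (by
        rw [(iX ≫ f).fiberι_asFiber, (genericPoint_spec X₁).def]
        exact Set.subset_univ _)
    haveI hlft : LocallyOfFiniteType
        ((iX ≫ f).fiberToSpecResidueField ((iX ≫ f).base (genericPoint X₁))) :=
      inferInstanceAs (LocallyOfFiniteType (pullback.snd (iX ≫ f)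
        (Y.fromSpecResidueField ((iX ≫ f).base (genericPoint X₁)))))
    have h1 := topologicalKrullDim_eq_localDim_of_irreducible
      (Y.residueField ((iX ≫ f).base (genericPoint X₁)))
      ((iX ≫ f).fiberToSpecResidueField ((iX ≫ f).base (genericPoint X₁)))
      ((iX ≫ f).asFiber (genericPoint X₁))
    have h2 := sq_dim_fiber f iX (𝟙 Y) (iX ≫ f) hsq' hinj ((iX ≫ f).base (genericPoint X₁))
    have h3 := hdim ((iX ≫ f).base (genericPoint X₁)) (by rw [hcl, hη₀])
    have h4 := sq_fibreDimAt f iX (𝟙 Y) (iX ≫ f) hsq' hinj w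
    unfold FlatMor.fibreDimAt
    rw [← h1, h2, ← hn, h4]
    exact h3.symm
  have hcore := isUnivOpenAt_of_irreducible (iX ≫ f) w hy hηmax n hn hgen
  exact Groth.Agent.S4926.result iX f w hcore

end Comp

end Groth.Agent.H25.ChevCore
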