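import Groth.Agent.H17.Chev.BC
import Groth.Agent.H17.Chev.OpenAt2
import Groth.Agent.H17.StalkComponents2

set_option autoImplicit false
set_option linter.unusedSectionVars false
set_option linter.style.haveILetI false
universe u
open CategoryTheory CategoryTheory.Limits AlgebraicGeometry Topology Order TopologicalSpace

namespace Groth.Agent.H25.ChevCore

open Groth.Agent.H17 Groth.Agent.H17.Chev

/-- if `a` is not a maximal point then coheights in `closure {a}` are strictly smaller -/
theorem coheight_closure_add_one_le' (Y : Scheme.{u}) (a y : Y)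
    (ha : ¬ IsMax a) (hy : y ∈ closure ({a} : Set Y)) :
    coheight (⟨y, hy⟩ : ↥(closure ({a} : Set Y))) + 1 ≤ coheight y := by
  rw [not_isMax_iff] at ha
  obtain ⟨b, hb⟩ := ha
  refine coheight_add_one_le_of_strictMono_of_lt (Subtype.val : ↥(closure ({a} : Set Y)) → Y)
    (fun _ _ h => h) b ?_ ⟨y, hy⟩
  intro t
  have h1 : a ⤳ t.1 := specializes_iff_mem_closure.mpr t.2
  have h1' : t.1 ≤ a := h1
  exact lt_of_le_of_lt h1' hb

/-- EGA IV 13.3.6 (b) ⇒ (c) at one maximal point of the fibre, without irreducibility of `Y`. -/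
theorem exists_component_of_stalk_dim_eq' {X Y : Scheme.{u}}
    [IsLocallyNoetherian Y] (f : X ⟶ Y) [LocallyOfFiniteType f] (z : X)
    (hz0 : ringKrullDim ((f.fiber (f.base z)).presheaf.stalk (f.asFiber z)) = 0)
    (hz : ringKrullDim (X.presheaf.stalk z) = ringKrullDim (Y.presheaf.stalk (f.base z))) :
    ∃ ξ : X, IsMax ξ ∧ ξ ⤳ z ∧ IsMax (f.base ξ) ∧
      topologicalKrullDim ↥(closure {ξ} ∩ f.base ⁻¹' {f.base ξ}) =
        FlatMor.fibreDimAt f z := by
  have hXN : IsLocallyNoetherian X := LocallyOfFiniteType.isLocallyNoetherian f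
  obtain ⟨n, hn⟩ := exists_nat_eq_ringKrullDim (X.presheaf.stalk z)
  have hcz : coheight z = n := by
    rw [ringKrullDim_stalk_eq_coheight] at hn; exact_mod_cast hn
  have hcy : coheight (f.base z) = n := by
    rw [hz, ringKrullDim_stalk_eq_coheight] at hn; exact_mod_cast hn
  obtain ⟨ξ, hmax, hsp, hco⟩ := exists_isMax_coheight_closure_eq X z n hcz
  have hzX' : z ∈ closure ({ξ} : Set X) := hsp.mem_closure
  have hy : f.base z ∈ closure {f.base ξ} := (hsp.map f.continuous).mem_closure
  have G := (coheight_add_localDim_le_and_eq f (closure {ξ}) isClosed_closure ξ rfl z hzX' hy).1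
  have Ch := dim_generic_le_localDim f (closure {ξ}) isClosed_closure ξ rfl z hzX'
  rw [hco, localDim_inter_fibre_eq_fibreDimAt f z hz0 _ isClosed_closure hzX',
    coheight_inter_fibre_eq_zero f z hz0 _ hzX'] at G
  rw [localDim_inter_fibre_eq_fibreDimAt f z hz0 _ isClosed_closure hzX'] at Ch
  obtain ⟨d, hd⟩ := exists_nat_eq_fibreDimAt f z
  rw [hd] at G Ch
  have hC : coheight (⟨f.base z, hy⟩ : ↥(closure {f.base ξ})) ≤ n := by
    rw [← hcy]; exact coheight_subtype_le _ _ _
  obtain ⟨c, hc⟩ := ENat.ne_top_iff_exists.mp (ne_top_of_le_ne_top (ENat.natCast_ne_top n) hC)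
  rw [← hc] at G hC
  have hcn : c ≤ n := by exact_mod_cast hC
  simp only [WithBot.coe_zero, add_zero] at G
  by_cases hη : IsMax (f.base ξ)
  · refine ⟨ξ, hmax, hsp, hη, ?_⟩
    rw [hd]
    apply le_antisymm Ch
    refine le_of_natCast_add_le_natCast_add (a := n) ?_
    refine G.trans ?_
    gcongr
    exact_mod_cast hcn
  · exfalso
    have h1 := coheight_closure_add_one_le' Y (f.base ξ) (f.base z) hη hy
    rw [hcy, ← hc] at h1
    have h1' : c + 1 ≤ n := by exact_mod_cast h1
    have h2 : ((n : ℕ∞) : WithBot ℕ∞) + ((d : ℕ) : WithBot ℕ∞) ≤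
        ((c : ℕ∞) : WithBot ℕ∞) + ((d : ℕ) : WithBot ℕ∞) := by
      refine G.trans ?_
      gcongr
    have h3 : n + d ≤ c + d := by exact_mod_cast h2
    omega

/-- uniqueness of the irreducible component through a point whose local ring has prime
nilradical -/
theorem component_unique_of_nilradical_isPrime (X : Scheme.{u}) (x : X)
    (h : (nilradical (X.presheaf.stalk x)).IsPrime)
    (Z : Set X) (hZ : Z ∈ irreducibleComponents (X : Type u))
    (Z' : Set X) (hZ' : Z' ∈ irreducibleComponents (X : Type u)) (hxZ : x ∈ Z) (hxZ' : x ∈ Z') :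
    Z = Z' := by
  have hbij := bijOn_irreducibleComponents_specStalk X x
  have hs := (subsingleton_maximal_points_iff (X.presheaf.stalk x)).mpr h
  obtain ⟨z, hz, rfl⟩ := hbij.surjOn ⟨hZ, hxZ⟩
  obtain ⟨z', hz', rfl⟩ := hbij.surjOn ⟨hZ', hxZ'⟩
  have : z = z' := hs hz hz'
  rw [this]

/-- EGA IV 14.4.1 c) ⇒ b): openness at a maximal point of the fibre over a point with
irreducible local ring gives a dominating component with the right fibre dimensions. -/
theorem component_of_isOpenAt {X Y : Scheme.{u}} [IsLocallyNoetherian Y] (f : X ⟶ Y)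
    [LocallyOfFiniteType f] (x : X)
    (hmax : ∀ x' : X, f.base x' = f.base x → x ∈ closure {x'} → x' = x)
    (hnil : (nilradical (Y.presheaf.stalk (f.base x))).IsPrime)
    (hopen : EGA43.IsOpenAt f.base x) :
    ∀ Y₀ ∈ irreducibleComponents (Y : Type u), f.base x ∈ Y₀ →
        ∃ Z ∈ irreducibleComponents (X : Type u), ∃ hx : x ∈ Z, closure (f.base '' Z) = Y₀ ∧
          ∀ η : Y, closure ({η} : Set Y) = Y₀ →
            FlatMor.localDim ↥(Z ∩ f.base ⁻¹' {f.base x}) ⟨x, ⟨hx, rfl⟩⟩ =
              topologicalKrullDim ↥(Z ∩ f.base ⁻¹' {η}) := by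
  intro Y₀ hY₀ hxY₀
  have hz0 := stalk_fiber_eq_zero_of_maximal f x hmax
  have hdim := stalk_dim_eq_of_isOpenAt f x hz0 hopen
  obtain ⟨ξ, hξmax, hξx, hfξmax, hd⟩ := exists_component_of_stalk_dim_eq' f x hz0 hdim
  have hZ : closure ({ξ} : Set X) ∈ irreducibleComponents (X : Type u) := by
    apply mem_irreducibleComponents_of_maximal
    intro y hy
    exact (hy.antisymm (hξmax (show ξ ≤ y from hy))).eq
  have hYc : closure ({f.base ξ} : Set Y) ∈ irreducibleComponents (Y : Type u) := by
    apply mem_irreducibleComponents_of_maximal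
    intro y hy
    exact (hy.antisymm (hfξmax (show f.base ξ ≤ y from hy))).eq
  have hxZ : x ∈ closure ({ξ} : Set X) := hξx.mem_closure
  have hfx : f.base x ∈ closure ({f.base ξ} : Set Y) := (hξx.map f.continuous).mem_closure
  have hYeq : closure ({f.base ξ} : Set Y) = Y₀ :=
    component_unique_of_nilradical_isPrime Y (f.base x) hnil _ hYc _ hY₀ hfx hxY₀
  refine ⟨closure {ξ}, hZ, hxZ, ?_, ?_⟩
  · rw [closure_image_closure f.continuous, Set.image_singleton, hYeq]
  · intro η hη
    have : η = f.base ξ := (inseparable_iff_closure_eq.mpr (hη.trans hYeq.symm)).eq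
    subst this
    rw [localDim_inter_fibre_eq_fibreDimAt f x hz0 _ isClosed_closure hxZ, hd]

end Groth.Agent.H25.ChevCore
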