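import Groth.Agent.H25.ChevPoly
import Groth.Agent.H6.UnivOpenDVR

set_option autoImplicit false
universe u
open TensorProduct CategoryTheory Limits AlgebraicGeometry

namespace Groth.Agent.H25.ChevPoly

open Groth.Agent.H6.UnivOpenDVR

section Open
variable (R C : Type u) [CommRing R] [CommRing C] [Algebra R C] [Algebra.FiniteType R C]
  [Algebra.QuasiFinite R C] [IsNoetherianRing R]

/-- openness of the polynomial base change at the points over `x`. -/
theorem isOpenAt_poly (x : Spec (CommRingCat.of C))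
    (A : Type u) [CommRing A] [IsLocalRing A] [Algebra R A]
    [IsLocalization.AtPrime A (x.asIdeal.under R)] (hA : CAlg2.IsGeomUnibranch A)
    (q₀ : Ideal C) [q₀.IsPrime] (hq₀ : q₀ ≤ x.asIdeal)
    (hgen : ∀ p' : Ideal R, p'.IsPrime → p' ≤ x.asIdeal.under R → q₀.under R ≤ p')
    (m : ℕ) (p : Spec (CommRingCat.of (MvPolynomial (Fin m) R ⊗[R] C)))
    (hp : (Spec.map (CommRingCat.ofHom (S := MvPolynomial (Fin m) R ⊗[R] C)
      Algebra.TensorProduct.includeRight.toRingHom)).base p = x) :
    EGA43.IsOpenAt (Spec.map (CommRingCat.ofHom (S := MvPolynomial (Fin m) R ⊗[R] C)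
      Algebra.TensorProduct.includeLeftRingHom)).base p := by
  have hfp : LocallyOfFinitePresentation (Spec.map (CommRingCat.ofHom
      (S := MvPolynomial (Fin m) R ⊗[R] C) Algebra.TensorProduct.includeLeftRingHom)) := by
    rw [HasRingHomProperty.Spec_iff (P := @LocallyOfFinitePresentation)]
    have h1 : Algebra.FinitePresentation (MvPolynomial (Fin m) R)
        (MvPolynomial (Fin m) R ⊗[R] C) :=
      Algebra.FinitePresentation.of_finiteType.mp inferInstance
    change (algebraMap (MvPolynomial (Fin m) R) (MvPolynomial (Fin m) R ⊗[R] C)).FinitePresentation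
    exact RingHom.finitePresentation_algebraMap.mpr h1
  refine ((Groth.Agent.S3404.result _ p).2 hfp).mpr ?_
  intro y' hy'
  have hq : p.asIdeal.comap (Algebra.TensorProduct.includeRight :
      C →ₐ[R] MvPolynomial (Fin m) R ⊗[R] C) = x.asIdeal := by
    rw [← hp]
    rfl
  have hle : y'.asIdeal ≤ p.asIdeal.under (MvPolynomial (Fin m) R) := by
    have := (PrimeSpectrum.le_iff_specializes y' _).mpr hy'
    exact this
  obtain ⟨Q', hQ'prime, hQ'le, hQ'under⟩ := going_down_poly R C m p.asIdeal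
    (x.asIdeal.under R) A hA (by rw [hq]) q₀ (by rw [hq]; exact hq₀) hgen y'.asIdeal hle
  refine ⟨⟨Q', hQ'prime⟩, ?_, ?_⟩
  · exact (PrimeSpectrum.le_iff_specializes _ _).mp hQ'le
  · apply PrimeSpectrum.ext
    exact hQ'under

end Open

section Core
variable (R S C : Type u) [CommRing R] [CommRing S] [CommRing C] [Algebra R S] [Algebra R C]

/-- openness at the points over `x` for all polynomial base changes. -/
def PolyOpenAt (x : Spec (CommRingCat.of C)) : Prop :=
  ∀ (m : ℕ) (p : Spec (CommRingCat.of (MvPolynomial (Fin m) R ⊗[R] C))),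
    (Spec.map (CommRingCat.ofHom (S := MvPolynomial (Fin m) R ⊗[R] C)
      Algebra.TensorProduct.includeRight.toRingHom)).base p = x →
    EGA43.IsOpenAt (Spec.map (CommRingCat.ofHom (S := MvPolynomial (Fin m) R ⊗[R] C)
      Algebra.TensorProduct.includeLeftRingHom)).base p

theorem affine_core_poly (x : Spec (CommRingCat.of C)) (HP : PolyOpenAt R C x)
    (p : Spec (CommRingCat.of (S ⊗[R] C)))
    (hp : (Spec.map (CommRingCat.ofHom (S := S ⊗[R] C)
      Algebra.TensorProduct.includeRight.toRingHom)).base p = x) :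
    EGA43.IsOpenAt (Spec.map (CommRingCat.ofHom (S := S ⊗[R] C)
      Algebra.TensorProduct.includeLeftRingHom)).base p := by
  intro N hN
  obtain ⟨s, hps, hsN⟩ : ∃ s : S ⊗[R] C, p ∈ (PrimeSpectrum.basicOpen s : Set (PrimeSpectrum (S ⊗[R] C))) ∧
      (PrimeSpectrum.basicOpen s : Set (PrimeSpectrum (S ⊗[R] C))) ⊆ N := by
    obtain ⟨_, ⟨s, rfl⟩, hps, hsN⟩ :=
      PrimeSpectrum.isTopologicalBasis_basic_opens.mem_nhds_iff.1 hN
    exact ⟨s, hps, hsN⟩
  obtain ⟨B₀, hB₀, u₀, hu₀⟩ := TensorProduct.Algebra.exists_of_fg s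
  have hft : Algebra.FiniteType R B₀ := (Subalgebra.fg_iff_finiteType B₀).1 hB₀
  obtain ⟨m, f, hf⟩ := Algebra.FiniteType.iff_quotient_mvPolynomial''.mp hft
  let φ₀ : MvPolynomial (Fin m) R →ₐ[R] S := B₀.val.comp f
  obtain ⟨u, hu'⟩ := LinearMap.rTensor_surjective C (g := f.toLinearMap) hf u₀
  let φπ : (MvPolynomial (Fin m) R ⊗[R] C) →ₐ[R] (S ⊗[R] C) :=
    Algebra.TensorProduct.map φ₀ (AlgHom.id R C)
  have hφu : φπ u = s := by
    rw [← hu₀, ← hu']
    have key : ∀ t : MvPolynomial (Fin m) R ⊗[R] C,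
        φπ t = Algebra.TensorProduct.map B₀.val (AlgHom.id R C)
          (LinearMap.rTensor C f.toLinearMap t) := by
      intro t
      induction t using TensorProduct.induction_on with
      | zero => simp
      | tmul a c => simp [φπ, φ₀]
      | add a b ha hb => rw [map_add, ha, hb, map_add, map_add]
    exact key u
  let πB : Spec (CommRingCat.of (S ⊗[R] C)) ⟶
      Spec (CommRingCat.of (MvPolynomial (Fin m) R ⊗[R] C)) :=
    Spec.map (CommRingCat.ofHom φπ.toRingHom)
  let ρB : Spec (CommRingCat.of S) ⟶ Spec (CommRingCat.of (MvPolynomial (Fin m) R)) :=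
    Spec.map (CommRingCat.ofHom φ₀.toRingHom)
  have e1 : πB ≫ Spec.map (CommRingCat.ofHom (S := MvPolynomial (Fin m) R ⊗[R] C)
      Algebra.TensorProduct.includeRight.toRingHom) =
      Spec.map (CommRingCat.ofHom (S := S ⊗[R] C)
        Algebra.TensorProduct.includeRight.toRingHom) := by
    rw [← Spec.map_comp]
    congr 1
    ext c
    simp [φπ]
  have e2 : πB ≫ Spec.map (CommRingCat.ofHom (S := MvPolynomial (Fin m) R ⊗[R] C)
      Algebra.TensorProduct.includeLeftRingHom) =
      Spec.map (CommRingCat.ofHom (S := S ⊗[R] C)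
        Algebra.TensorProduct.includeLeftRingHom) ≫ ρB := by
    rw [← Spec.map_comp, ← Spec.map_comp]
    congr 1
  have e3 : ρB ≫ Spec.map (CommRingCat.ofHom (algebraMap R (MvPolynomial (Fin m) R))) =
      Spec.map (CommRingCat.ofHom (algebraMap R S)) := by
    rw [← Spec.map_comp]
    congr 1
    ext r
    simp
  have sqB := sqTensor R (MvPolynomial (Fin m) R) C
  have sqπ : IsPullback πB (Spec.map (CommRingCat.ofHom (S := S ⊗[R] C)
        Algebra.TensorProduct.includeLeftRingHom))
      (Spec.map (CommRingCat.ofHom (S := MvPolynomial (Fin m) R ⊗[R] C)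
        Algebra.TensorProduct.includeLeftRingHom)) ρB := by
    refine IsPullback.of_right ?_ e2 sqB
    rw [e1, e3]
    exact sqTensor R S C
  have hopen := HP m (πB.base p) (by rw [← Scheme.Hom.comp_apply, e1, hp])
  have hNB : (PrimeSpectrum.basicOpen u : Set (PrimeSpectrum (MvPolynomial (Fin m) R ⊗[R] C))) ∈
      nhds (πB.base p) := by
    refine (PrimeSpectrum.basicOpen u).isOpen.mem_nhds ?_
    change φπ u ∉ p.asIdeal
    rw [hφu]
    exact hps
  have h1 := hopen _ hNB
  have h2 : (Spec.map (CommRingCat.ofHom (S := MvPolynomial (Fin m) R ⊗[R] C)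
      Algebra.TensorProduct.includeLeftRingHom)).base (πB.base p) =
      ρB.base ((Spec.map (CommRingCat.ofHom (S := S ⊗[R] C)
        Algebra.TensorProduct.includeLeftRingHom)).base p) := by
    rw [← Scheme.Hom.comp_apply, e2, Scheme.Hom.comp_apply]
  rw [h2] at h1
  have h3 := ρB.continuous.continuousAt.preimage_mem_nhds h1
  refine Filter.mem_of_superset h3 ?_
  rintro y ⟨q, hq, hqy⟩
  obtain ⟨p₁, hp₁q, hp₁y⟩ := Scheme.exists_preimage_of_isPullback sqπ q y hqy
  refine ⟨p₁, hsN ?_, hp₁y⟩
  change s ∉ p₁.asIdeal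
  rw [← hφu]
  have : u ∉ (πB.base p₁).asIdeal := by rw [hp₁q]; exact hq
  exact this

theorem affine_core_poly' (x : Spec (CommRingCat.of C)) (HP : PolyOpenAt R C x)
    {P : Scheme.{u}} (fst : P ⟶ Spec (CommRingCat.of C)) (snd : P ⟶ Spec (CommRingCat.of S))
    (sq : IsPullback fst snd (Spec.map (CommRingCat.ofHom (algebraMap R C)))
      (Spec.map (CommRingCat.ofHom (algebraMap R S))))
    (p : P) (hp : fst.base p = x) : EGA43.IsOpenAt snd.base p := by
  have sqT := sqTensor R S C
  let e := sq.isoIsPullback _ _ sqT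
  have h1 : EGA43.IsOpenAt (Spec.map (CommRingCat.ofHom (S := S ⊗[R] C)
      Algebra.TensorProduct.includeLeftRingHom)).base (e.hom.base p) := by
    apply affine_core_poly R S C x HP
    rw [← Scheme.Hom.comp_apply, sq.isoIsPullback_hom_fst, hp]
  have h2 : EGA43.IsOpenAt e.hom.base p :=
    Groth.Agent.H25.isOpenAt_of_isOpenMap (e.hom.homeomorph.isOpenMap) p
  have h3 := Groth.Agent.H25.isOpenAt_comp h2 h1
  refine Groth.Agent.H25.isOpenAt_congr ?_ h3
  funext a
  rw [Function.comp_apply, ← Scheme.Hom.comp_apply, sq.isoIsPullback_hom_snd]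

end Core

section Global
variable (R C : Type u) [CommRing R] [CommRing C] [Algebra R C]

theorem isUnivOpenAt_Spec_of_polyOpenAt_aux (x : Spec (CommRingCat.of C)) (HP : PolyOpenAt R C x)
    (f : Spec (CommRingCat.of C) ⟶ Spec (CommRingCat.of R))
    (hf : f = Spec.map (CommRingCat.ofHom (algebraMap R C))) :
    EGA43.IsUnivOpenAt f x := by
  intro Y' g x' hx'
  obtain ⟨W, hW, hyW, -⟩ := exists_isAffineOpen_mem_and_subset
    (x := (pullback.snd f g).base x') (U := ⊤) trivial
  let ψ : CommRingCat.of R ⟶ Γ(Y', W) := Spec.preimage (hW.fromSpec ≫ g)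
  have hψ : Spec.map ψ = hW.fromSpec ≫ g := Spec.map_preimage _
  letI algS : Algebra R Γ(Y', W) := ψ.hom.toAlgebra
  have e₁ : f ≫ 𝟙 _ = 𝟙 _ ≫ f := by rw [Category.comp_id, Category.id_comp]
  have e₂ : Spec.map ψ ≫ 𝟙 _ = hW.fromSpec ≫ g := by rw [Category.comp_id, hψ]
  let m := pullback.map f (Spec.map ψ) f g (𝟙 _) hW.fromSpec (𝟙 _) e₁ e₂
  have hm : IsOpenImmersion m := inferInstance
  have hx'm : x' ∈ Set.range m.base := by
    have := Scheme.Pullback.range_map f (Spec.map ψ) f g (𝟙 _) hW.fromSpec (𝟙 _) e₁ e₂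
    rw [this]
    refine ⟨?_, ?_⟩
    · rw [Set.mem_preimage]
      exact ⟨_, rfl⟩
    · rw [Set.mem_preimage, hW.range_fromSpec]
      exact hyW
  obtain ⟨p₁, rfl⟩ := hx'm
  have hm1 : m ≫ pullback.fst f g = pullback.fst f (Spec.map ψ) ≫ 𝟙 _ :=
    pullback.lift_fst _ _ _
  have hm2 : m ≫ pullback.snd f g = pullback.snd f (Spec.map ψ) ≫ hW.fromSpec :=
    pullback.lift_snd _ _ _
  have hjx : (pullback.fst f (Spec.map ψ)).base p₁ = x := by
    rw [← hx', ← Scheme.Hom.comp_apply, hm1, Category.comp_id]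
  have sq : IsPullback (pullback.fst f (Spec.map ψ)) (pullback.snd f (Spec.map ψ))
      (Spec.map (CommRingCat.ofHom (algebraMap R C)))
      (Spec.map (CommRingCat.ofHom (algebraMap R Γ(Y', W)))) := by
    rw [← hf]
    exact IsPullback.of_hasPullback f (Spec.map ψ)
  have h1 : EGA43.IsOpenAt (pullback.snd f (Spec.map ψ)).base p₁ :=
    affine_core_poly' R Γ(Y', W) C x HP _ _ sq p₁ hjx
  have h2 : EGA43.IsOpenAt hW.fromSpec.base ((pullback.snd f (Spec.map ψ)).base p₁) :=
    Groth.Agent.H25.isOpenAt_of_isOpenMap hW.fromSpec.isOpenEmbedding.isOpenMap _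
  have h3 := Groth.Agent.H25.isOpenAt_comp h1 h2
  have h4 : hW.fromSpec.base ∘ (pullback.snd f (Spec.map ψ)).base =
      (pullback.snd f g).base ∘ m.base := by
    funext b
    rw [Function.comp_apply, Function.comp_apply, ← Scheme.Hom.comp_apply,
      ← Scheme.Hom.comp_apply, hm2]
  rw [h4] at h3
  exact Groth.Agent.H25.isOpenAt_of_comp m.continuous h3

/-- polynomial openness implies universal openness at `x` (affine source and target). -/
theorem isUnivOpenAt_Spec_of_polyOpenAt (x : Spec (CommRingCat.of C)) (HP : PolyOpenAt R C x) :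
    EGA43.IsUnivOpenAt (Spec.map (CommRingCat.ofHom (algebraMap R C))) x :=
  isUnivOpenAt_Spec_of_polyOpenAt_aux R C x HP _ rfl

end Global

section Final
variable (R C : Type u) [CommRing R] [CommRing C] [Algebra R C] [Algebra.FiniteType R C]
  [Algebra.QuasiFinite R C] [IsNoetherianRing R]

/-- **Chevalley's criterion, quasi-finite affine case** (EGA IV 14.4.1.2): a quasi-finite algebra of
finite type over a Noetherian ring is universally open at a point `x` over a geometrically
unibranch point, provided some generization of `x` lies over the generic point of the base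
(below the image of `x`). -/
theorem isUnivOpenAt_Spec_of_quasiFinite (x : Spec (CommRingCat.of C))
    (A : Type u) [CommRing A] [IsLocalRing A] [Algebra R A]
    [IsLocalization.AtPrime A (x.asIdeal.under R)] (hA : CAlg2.IsGeomUnibranch A)
    (q₀ : Ideal C) [q₀.IsPrime] (hq₀ : q₀ ≤ x.asIdeal)
    (hgen : ∀ p' : Ideal R, p'.IsPrime → p' ≤ x.asIdeal.under R → q₀.under R ≤ p') :
    EGA43.IsUnivOpenAt (Spec.map (CommRingCat.ofHom (algebraMap R C))) x :=
  isUnivOpenAt_Spec_of_polyOpenAt R C x
    (fun m p hp => isOpenAt_poly R C x A hA q₀ hq₀ hgen m p hp)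

end Final

end Groth.Agent.H25.ChevPoly
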