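import Groth.Agent.H25.ChevOpen
import Groth.Agent.H24.AffineChart
import Groth.Agent.H13.AssPush
import Groth.Agent.H6.UnivOpenDVR2
import Groth.Agent.S4925
import Groth.Agent.S4926

set_option autoImplicit false
universe u
open TensorProduct CategoryTheory Limits AlgebraicGeometry

namespace Groth.Agent.H25.ChevPoly

open Groth.Agent.H6.UnivOpenDVR

section Ring
variable (R : Type u) [CommRing R] (p : Ideal R) [p.IsPrime] (A : Type u) [CommRing A]
  [IsLocalRing A] [Algebra R A] [IsLocalization.AtPrime A p]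

include p A in
/-- over a unibranch point, a minimal prime below `p` lies below every prime below `p`. -/
theorem le_of_mem_minimalPrimes (hA : CAlg2.IsUnibranch A) (p₀ : Ideal R)
    (hp₀ : p₀ ∈ minimalPrimes R) (hp₀p : p₀ ≤ p) (p' : Ideal R) [p'.IsPrime] (hp' : p' ≤ p) : p₀ ≤ p' := by
  haveI hN : (nilradical A).IsPrime := by
    have := hA.1
    exact (Ideal.Quotient.isDomain_iff_prime _).mp this
  -- the contraction of the nilradical
  have key : ∀ p'' : Ideal R, p''.IsPrime → p'' ≤ p →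
      (nilradical A).comap (algebraMap R A) ≤ p'' := by
    intro p'' hp'' hle
    have hdisj : Disjoint (p.primeCompl : Set R) (p'' : Set R) := by
      rw [Set.disjoint_left]
      intro a ha ha'
      exact ha (hle ha')
    haveI : (p''.map (algebraMap R A)).IsPrime :=
      IsLocalization.isPrime_of_isPrime_disjoint p.primeCompl A p'' hp'' hdisj
    have h1 : nilradical A ≤ p''.map (algebraMap R A) := nilradical_le_prime _
    have h2 := Ideal.comap_mono (f := algebraMap R A) h1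
    have h5 := IsLocalization.under_map_of_isPrime_disjoint p.primeCompl A hp'' hdisj
    rw [Ideal.under_def] at h5
    rwa [h5] at h2
  have h3 : (nilradical A).comap (algebraMap R A) ≤ p' := key p' inferInstance hp'
  have h4 : p₀ ≤ (nilradical A).comap (algebraMap R A) :=
    hp₀.2 ⟨Ideal.comap_isPrime _ _, bot_le⟩ (key p₀ hp₀.1.1 hp₀p)
  exact h4.trans h3

end Ring

section Scheme

theorem atPrime_congr {R A : Type*} [CommRing R] [CommRing A] [Algebra R A] (p p' : Ideal R)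
    [hp : p.IsPrime] [hp' : p'.IsPrime] (h : p = p') (hl : IsLocalization.AtPrime A p) :
    IsLocalization.AtPrime A p' := by
  subst h
  exact hl

/-- **Chevalley's criterion, quasi-finite case** (EGA IV 14.4.1.2), scheme form. -/
theorem isUnivOpenAt_of_quasiFinite {X T : Scheme.{u}} [IsLocallyNoetherian T] (π : X ⟶ T)
    [LocallyOfFiniteType π] [LocallyQuasiFinite π] (x ξ : X) (hξx : ξ ⤳ x)
    (hT : CAlg2.IsGeomUnibranch (T.presheaf.stalk (π.base x)))
    (hmax : ∀ t : T, t ⤳ π.base ξ → t = π.base ξ) : EGA43.IsUnivOpenAt π x := by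
  obtain ⟨V, U, hV, hU, hxU, hUV⟩ := Groth.Agent.H24.exists_affine_charts π x
  have hyV : π.base x ∈ V := hUV hxU
  have hξU : ξ ∈ U := hξx.mem_open U.2 hxU
  letI := (π.appLE V U hUV).hom.toAlgebra
  haveI : Algebra.FiniteType Γ(T, V) Γ(X, U) := π.finiteType_appLE hV hU hUV
  haveI : Algebra.QuasiFinite Γ(T, V) Γ(X, U) := LocallyQuasiFinite.quasiFinite_appLE hV hU hUV
  haveI : IsNoetherianRing Γ(T, V) := IsLocallyNoetherian.component_noetherian ⟨V, hV⟩
  have hcomap : ∀ (z : X) (hz : z ∈ U), ((hU.primeIdealOf ⟨z, hz⟩).asIdeal).under Γ(T, V) =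
      (hV.primeIdealOf ⟨π.base z, hUV hz⟩).asIdeal := fun z hz =>
    congrArg PrimeSpectrum.asIdeal (IsAffineOpen.comap_primeIdealOf_appLE V hV U hU hUV hz)
  letI := T.presheaf.algebra_section_stalk ⟨π.base x, hyV⟩
  haveI hloc := hV.isLocalization_stalk ⟨π.base x, hyV⟩
  haveI : IsLocalization.AtPrime (T.presheaf.stalk (π.base x))
      (((hU.primeIdealOf ⟨x, hxU⟩).asIdeal).under Γ(T, V)) :=
    atPrime_congr _ _ (hcomap x hxU).symm hloc
  have hq₀ : (hU.primeIdealOf ⟨ξ, hξU⟩).asIdeal ≤ (hU.primeIdealOf ⟨x, hxU⟩).asIdeal :=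
    Groth.Agent.H13.primeIdealOf_le_of_specializes hU hxU hξU hξx
  -- the image of `ξ` is a minimal prime
  have hmin : ((hU.primeIdealOf ⟨ξ, hξU⟩).asIdeal).under Γ(T, V) ∈ minimalPrimes Γ(T, V) := by
    rw [hcomap ξ hξU]
    refine ⟨⟨(hV.primeIdealOf _).2, bot_le⟩, ?_⟩
    rintro 𝔞 ⟨h𝔞, -⟩ hle
    have h1 : (⟨𝔞, h𝔞⟩ : PrimeSpectrum Γ(T, V)) ≤ hV.primeIdealOf ⟨π.base ξ, hUV hξU⟩ := hle
    have h2 := ((PrimeSpectrum.le_iff_specializes _ _).mp h1).map hV.fromSpec.continuous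
    rw [hV.fromSpec_primeIdealOf] at h2
    have h3 := hmax _ h2
    have h4 := Groth.Agent.H24.primeIdealOf_fromSpec hV ⟨𝔞, h𝔞⟩
    have h5 : hV.primeIdealOf ⟨π.base ξ, hUV hξU⟩ = ⟨𝔞, h𝔞⟩ := by
      rw [← h4]
      congr 1
      exact Subtype.ext h3.symm
    rw [h5]
  have hle : ((hU.primeIdealOf ⟨ξ, hξU⟩).asIdeal).under Γ(T, V) ≤
      ((hU.primeIdealOf ⟨x, hxU⟩).asIdeal).under Γ(T, V) := Ideal.comap_mono hq₀
  have hgen : ∀ p' : Ideal Γ(T, V), p'.IsPrime →
      p' ≤ ((hU.primeIdealOf ⟨x, hxU⟩).asIdeal).under Γ(T, V) →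
      ((hU.primeIdealOf ⟨ξ, hξU⟩).asIdeal).under Γ(T, V) ≤ p' := by
    intro p' hp' hp'le
    exact le_of_mem_minimalPrimes Γ(T, V) _ (T.presheaf.stalk (π.base x)) hT.1 _ hmin hle p' hp'le
  have h1 : EGA43.IsUnivOpenAt (Spec.map (π.appLE V U hUV)) (hU.primeIdealOf ⟨x, hxU⟩) :=
    isUnivOpenAt_Spec_of_quasiFinite Γ(T, V) Γ(X, U) (hU.primeIdealOf ⟨x, hxU⟩)
      (T.presheaf.stalk (π.base x)) hT (hU.primeIdealOf ⟨ξ, hξU⟩).asIdeal hq₀ hgen
  have h2 : EGA43.IsUnivOpenAt (Spec.map (π.appLE V U hUV) ≫ hV.fromSpec)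
      (hU.primeIdealOf ⟨x, hxU⟩) :=
    Groth.Agent.S4925.result _ _ _ h1 (isUnivOpenAt_of_universallyOpen hV.fromSpec _)
  rw [hV.SpecMap_appLE_fromSpec π hU hUV] at h2
  have h3 := Groth.Agent.S4926.result _ _ _ h2
  rwa [hU.fromSpec_primeIdealOf] at h3

end Scheme

end Groth.Agent.H25.ChevPoly
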