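import Mathlib.AlgebraicGeometry.Morphisms.FormallyUnramified
import Mathlib.AlgebraicGeometry.Morphisms.Separated
import Mathlib.AlgebraicGeometry.Morphisms.FiniteType

set_option autoImplicit false
universe u

open CategoryTheory CategoryTheory.Limits AlgebraicGeometry

namespace Groth.Agent.H25

set_option backward.isDefEq.respectTransparency false in
theorem isOpenImmersion_equalizer_ι_left {S : Scheme.{u}} {X Y : Over S}
    [FormallyUnramified Y.hom] [LocallyOfFiniteType Y.hom]
    (f g : X ⟶ Y) : IsOpenImmersion (equalizer.ι f g).left := by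
  refine MorphismProperty.of_isPullback
    ((Limits.isPullback_equalizer_prod f g).map (Over.forget _)).flip ?_
  rw [← MorphismProperty.cancel_right_of_respectsIso @IsOpenImmersion _
    (Over.prodLeftIsoPullback Y Y).hom]
  convert! (inferInstance : IsOpenImmersion (pullback.diagonal Y.hom))
  ext1 <;> simp [← Over.comp_left]

/-- The locus where two morphisms into an unramified `S`-scheme agree is open. -/
theorem exists_agreement_opens {X Y S : Scheme.{u}} (h : Y ⟶ S)
    [FormallyUnramified h] [LocallyOfFiniteType h] (f g : X ⟶ Y) (w : g ≫ h = f ≫ h) :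
    ∃ W : X.Opens, (W.ι ≫ f = W.ι ≫ g) ∧
      (∀ (T : Scheme.{u}) (t : T ⟶ X), t ≫ f = t ≫ g → Set.range t.base ⊆ (W : Set X)) ∧
      (IsSeparated h → IsClosed (W : Set X)) := by
  let X' : Over S := Over.mk (f ≫ h)
  let Y' : Over S := Over.mk h
  let f' : X' ⟶ Y' := Over.homMk f rfl
  let g' : X' ⟶ Y' := Over.homMk g w
  have hY'1 : FormallyUnramified Y'.hom := ‹_›
  have hY'2 : LocallyOfFiniteType Y'.hom := ‹_›
  have hoi : IsOpenImmersion (equalizer.ι f' g').left := isOpenImmersion_equalizer_ι_left f' g'
  have hcond : (equalizer.ι f' g').left ≫ f = (equalizer.ι f' g').left ≫ g :=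
    congr($(equalizer.condition f' g').left)
  refine ⟨(equalizer.ι f' g').left.opensRange, ?_, ?_, ?_⟩
  · have e : ((equalizer.ι f' g').left.opensRange).ι =
        (equalizer.ι f' g').left.isoOpensRange.inv ≫ (equalizer.ι f' g').left := by
      rw [Iso.eq_inv_comp]
      exact Scheme.Hom.isoOpensRange_hom_ι _
    rw [e, Category.assoc, Category.assoc, hcond]
  · intro T t ht
    let T' : Over S := Over.mk (t ≫ f ≫ h)
    let t' : T' ⟶ X' := Over.homMk t rfl
    have ht' : t' ≫ f' = t' ≫ g' := by
      ext1
      exact ht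
    have hl : (equalizer.lift t' ht').left ≫ (equalizer.ι f' g').left = t :=
      congr($(equalizer.lift_ι t' ht').left)
    rintro _ ⟨a, rfl⟩
    refine ⟨(equalizer.lift t' ht').left.base a, ?_⟩
    rw [← Scheme.Hom.comp_apply, hl]
  · intro hsep
    have hY'3 : IsSeparated Y'.hom := hsep
    have : IsClosedImmersion (equalizer.ι f' g').left := inferInstance
    exact (equalizer.ι f' g').left.isClosedEmbedding.isClosed_range

end Groth.Agent.H25
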