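import Mathlib.RingTheory.AdicCompletion.Completeness
import Mathlib.RingTheory.Smooth.AdicCompletion
import Mathlib.RingTheory.PowerSeries.NoZeroDivisors
import Mathlib.RingTheory.Kaehler.Basic
import Mathlib.RingTheory.Kaehler.TensorProduct
import Mathlib.RingTheory.Unramified.Basic
import Mathlib.RingTheory.Etale.Basic
import Mathlib.RingTheory.Support
import Mathlib.RingTheory.LocalRing.Module
import Mathlib.RingTheory.LocalRing.ResidueField.Ideal
import Mathlib.RingTheory.LocalRing.ResidueField.Fiber
import Mathlib.RingTheory.QuasiFinite.Basic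
import Mathlib.LinearAlgebra.Dual.Lemmas
import Mathlib.RingTheory.RingHom.Etale
import Mathlib.RingTheory.RingHom.QuasiFinite
import Mathlib.RingTheory.Unramified.LocalStructure

set_option autoImplicit false
universe u
open TensorProduct

/-! Smooth + quasi-finite ⇒ étale (helper25).
Key lemma: a finite formally smooth algebra over a field is formally unramified. -/

namespace Groth.Agent.H25

/-- `I`-adically complete implies `I^k`-adically complete for `k ≠ 0`. -/
theorem isAdicComplete_pow {R : Type*} [CommRing R] (I : Ideal R) (M : Type*) [AddCommGroup M]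
    [Module R M] [IsAdicComplete I M] {k : ℕ} (hk : k ≠ 0) : IsAdicComplete (I ^ k) M := by
  have hle : ∀ n : ℕ, ((I ^ k) ^ n • ⊤ : Submodule R M) ≤ (I ^ n • ⊤ : Submodule R M) := by
    intro n
    rw [← pow_mul]
    exact Submodule.smul_mono_left
      (Ideal.pow_le_pow_right (Nat.le_mul_of_pos_left n (Nat.pos_of_ne_zero hk)))
  have hH : IsHausdorff (I ^ k) M := by
    refine ⟨fun x hx => ?_⟩
    exact IsHausdorff.haus (I := I) inferInstance x fun n => (hx n).mono (hle n)
  have hP : IsPrecomplete (I ^ k) M := by
    refine ⟨fun f hf => ?_⟩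
    obtain ⟨L, hL⟩ := IsPrecomplete.prec (I := I) inferInstance (f := f)
      (fun {m n} hmn => (hf hmn).mono (hle m))
    refine ⟨L, fun n => ?_⟩
    have h1 : f n ≡ f (k * n) [SMOD ((I ^ k) ^ n • ⊤ : Submodule R M)] :=
      hf (Nat.le_mul_of_pos_left n (Nat.pos_of_ne_zero hk))
    have h2 : f (k * n) ≡ L [SMOD ((I ^ k) ^ n • ⊤ : Submodule R M)] := by
      rw [← pow_mul]
      exact hL (k * n)
    exact h1.trans h2
  exact { toIsHausdorff := hH, toIsPrecomplete := hP }

/-- A non-constant power series over a field is transcendental. -/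
theorem aeval_ne_zero_of_constantCoeff_eq_zero {L : Type*} [Field L] (u : PowerSeries L)
    (hu : u ≠ 0) (hu0 : PowerSeries.constantCoeff u = 0) (R : Polynomial L) (hR : R ≠ 0) :
    Polynomial.aeval u R ≠ 0 := by
  obtain ⟨R₁, hR₁, hnd⟩ := Polynomial.exists_eq_pow_rootMultiplicity_mul_and_not_dvd R hR 0
  rw [Polynomial.dvd_iff_isRoot, Polynomial.IsRoot.def] at hnd
  rw [hR₁, map_mul, map_pow]
  refine mul_ne_zero (pow_ne_zero _ ?_) ?_
  · simpa using hu
  · intro h
    apply hnd
    have h2 := congrArg (PowerSeries.constantCoeff (R := L)) h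
    rw [Polynomial.aeval_def, Polynomial.hom_eval₂, hu0, map_zero] at h2
    have : (PowerSeries.constantCoeff (R := L)).comp (algebraMap L (PowerSeries L)) = RingHom.id L := by
      ext x; simp
    rw [this, Polynomial.eval₂_id] at h2
    exact h2

/-- existence of a nonzero derivation to a residue field -/
theorem exists_derivation_residueField_ne_zero (K F : Type u) [Field K] [CommRing F] [Algebra K F]
    [Algebra.EssFiniteType K F] (h : ¬ Subsingleton Ω[F⁄K]) :
    ∃ (n : PrimeSpectrum F) (D : Derivation K F n.asIdeal.ResidueField) (b : F), D b ≠ 0 := by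
  obtain ⟨n, hn⟩ : (Module.support F Ω[F⁄K]).Nonempty := by
    rw [Set.nonempty_iff_ne_empty, Ne, Module.support_eq_empty_iff]
    exact h
  rw [Module.mem_support_iff_nontrivial_residueField_tensorProduct] at hn
  obtain ⟨v, hv⟩ := exists_ne (0 : n.asIdeal.ResidueField ⊗[F] Ω[F⁄K])
  obtain ⟨ℓ, hℓ⟩ : ∃ ℓ : Module.Dual n.asIdeal.ResidueField (n.asIdeal.ResidueField ⊗[F] Ω[F⁄K]),
      ℓ v ≠ 0 := by
    by_contra h
    push Not at h
    exact hv ((Module.forall_dual_apply_eq_zero_iff n.asIdeal.ResidueField v).1 h)
  let g : Ω[F⁄K] →ₗ[F] n.asIdeal.ResidueField :=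
    (ℓ.restrictScalars F).comp (TensorProduct.mk F n.asIdeal.ResidueField Ω[F⁄K] 1)
  refine ⟨n, g.compDer (KaehlerDifferential.D K F), ?_⟩
  by_contra hall
  push Not at hall
  have hg : g = 0 := by
    apply Derivation.liftKaehlerDifferential_unique
    ext b
    simpa using hall b
  have hzero : ∀ w : n.asIdeal.ResidueField ⊗[F] Ω[F⁄K], ℓ w = 0 := by
    intro w
    induction w using TensorProduct.induction_on with
    | zero => simp
    | add x y hx hy => rw [map_add, hx, hy, add_zero]
    | tmul c m =>
      have h1 : c ⊗ₜ[F] m = c • ((1 : n.asIdeal.ResidueField) ⊗ₜ[F] m) := by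
        rw [TensorProduct.smul_tmul', smul_eq_mul, mul_one]
      rw [h1, map_smul]
      have h2 : ℓ ((1 : n.asIdeal.ResidueField) ⊗ₜ[F] m) = g m := rfl
      rw [h2, hg]
      simp
  exact hℓ (hzero v)

/-- The first-order thickening of `π : F → L` by a derivation, as an algebra hom to `L⟦t⟧/(t)²`. -/
noncomputable def derivToQuot {K F L : Type*} [Field K] [CommRing F] [Algebra K F] [Field L]
    [Algebra K L] [Algebra F L] [IsScalarTower K F L] (D : Derivation K F L) :
    F →ₐ[K] (PowerSeries L ⧸ (Ideal.span {(PowerSeries.X : PowerSeries L)}) ^ 2) where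
  toFun b := Ideal.Quotient.mk _ (PowerSeries.C (algebraMap F L b) + PowerSeries.C (D b) * PowerSeries.X)
  map_one' := by simp
  map_zero' := by simp
  map_add' b c := by
    rw [← map_add (Ideal.Quotient.mk _)]
    congr 1
    simp only [map_add]
    ring
  map_mul' b c := by
    rw [← map_mul (Ideal.Quotient.mk _), Ideal.Quotient.eq]
    have key : (PowerSeries.C (algebraMap F L (b * c)) + PowerSeries.C (D (b * c)) * PowerSeries.X) -
        (PowerSeries.C (algebraMap F L b) + PowerSeries.C (D b) * PowerSeries.X) *
          (PowerSeries.C (algebraMap F L c) + PowerSeries.C (D c) * PowerSeries.X) =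
        - (PowerSeries.C (D b) * PowerSeries.C (D c)) * (PowerSeries.X : PowerSeries L) ^ 2 := by
      rw [map_mul, D.leibniz, Algebra.smul_def, Algebra.smul_def, map_add, map_mul, map_mul,
        map_mul]
      ring
    rw [key]
    exact Ideal.mul_mem_left _ _ (Ideal.pow_mem_pow (Ideal.mem_span_singleton_self _) 2)
  commutes' k := by
    show Ideal.Quotient.mk _ _ = _
    rw [← IsScalarTower.algebraMap_apply K F L, D.map_algebraMap, map_zero, zero_mul, add_zero,
      ← Ideal.Quotient.mk_algebraMap, PowerSeries.algebraMap_apply]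


@[simp] lemma derivToQuot_apply {K F L : Type*} [Field K] [CommRing F] [Algebra K F] [Field L]
    [Algebra K L] [Algebra F L] [IsScalarTower K F L] (D : Derivation K F L) (b : F) :
    derivToQuot D b = Ideal.Quotient.mk _
      (PowerSeries.C (algebraMap F L b) + PowerSeries.C (D b) * PowerSeries.X) := rfl

/-- Core of Lemma F: a formally smooth algebra over a field admits no derivation to a field
that is nonzero at an integral element. -/
theorem derivation_eq_zero_of_isIntegral {K F L : Type*} [Field K] [CommRing F] [Algebra K F]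
    [Field L] [Algebra K L] [Algebra F L] [IsScalarTower K F L] [Algebra.FormallySmooth K F]
    (D : Derivation K F L) (b₀ : F) (hint : IsIntegral K b₀) : D b₀ = 0 := by
  by_contra hb₀
  have : IsAdicComplete ((Ideal.span {(PowerSeries.X : PowerSeries L)}) ^ 2) (PowerSeries L) :=
    isAdicComplete_pow _ _ two_ne_zero
  obtain ⟨g, hg⟩ := Algebra.FormallySmooth.exists_mkₐ_comp_eq_of_isAdicComplete (R := K) (A := F)
    (S := PowerSeries L) (I := (Ideal.span {(PowerSeries.X : PowerSeries L)}) ^ 2) (derivToQuot D)
  have h1 := congrArg (fun φ => φ b₀) hg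
  simp only [AlgHom.comp_apply, derivToQuot_apply, Ideal.Quotient.mkₐ_eq_mk] at h1
  rw [Ideal.Quotient.eq, Ideal.span_singleton_pow, Ideal.mem_span_singleton] at h1
  obtain ⟨w, hw⟩ := h1
  set a : L := algebraMap F L b₀ with ha
  set x : PowerSeries L := g b₀ with hx
  set u : PowerSeries L := PowerSeries.X * (PowerSeries.C (D b₀) + PowerSeries.X * w) with hu
  have hxu : x = u + PowerSeries.C a := by
    have : x = x - (PowerSeries.C a + PowerSeries.C (D b₀) * PowerSeries.X) +
      (PowerSeries.C a + PowerSeries.C (D b₀) * PowerSeries.X) := by ring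
    rw [this, hw, hu]; ring
  have hu0 : PowerSeries.constantCoeff u = 0 := by simp [hu]
  have hune : u ≠ 0 := by
    rw [hu]
    refine mul_ne_zero PowerSeries.X_ne_zero ?_
    intro h
    apply hb₀
    have := congrArg (PowerSeries.constantCoeff (R := L)) h
    simpa using this
  obtain ⟨Q, hQm, hQ⟩ := hint
  have hQx : Polynomial.aeval x Q = 0 := by
    rw [hx, Polynomial.aeval_algHom_apply, Polynomial.aeval_def, hQ, map_zero]
  set R : Polynomial L := (Q.map (algebraMap K L)).comp (Polynomial.X + Polynomial.C a) with hR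
  have hRne : R ≠ 0 := by
    rw [hR, Polynomial.comp_X_add_C_ne_zero_iff]
    exact (hQm.map _).ne_zero
  apply aeval_ne_zero_of_constantCoeff_eq_zero u hune hu0 R hRne
  rw [hR, Polynomial.aeval_comp, map_add, Polynomial.aeval_X, Polynomial.aeval_C,
    PowerSeries.algebraMap_eq, ← hxu, Polynomial.aeval_map_algebraMap, hQx]

/-- **Lemma F**: a finite, formally smooth algebra over a field is formally unramified. -/
theorem formallyUnramified_of_formallySmooth_of_finite (K F : Type u) [Field K] [CommRing F]
    [Algebra K F] [Algebra.EssFiniteType K F] [Algebra.IsIntegral K F]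
    [Algebra.FormallySmooth K F] :
    Algebra.FormallyUnramified K F := by
  rw [Algebra.formallyUnramified_iff]
  by_contra hne
  obtain ⟨n, D, b₀, hb₀⟩ := exists_derivation_residueField_ne_zero K F hne
  exact hb₀ (derivation_eq_zero_of_isIntegral D b₀ (Algebra.IsIntegral.isIntegral b₀))


attribute [local instance] Algebra.TensorProduct.rightAlgebra in
/-- Fibrewise criterion for formally unramified, essentially-of-finite-type version. -/
theorem formallyUnramified_of_fiber_essFiniteType {R S : Type u} [CommRing R] [CommRing S]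
    [Algebra R S] [Algebra.EssFiniteType R S]
    (H : ∀ (p : Ideal R) [p.IsPrime], Algebra.FormallyUnramified p.ResidueField (p.Fiber S)) :
    Algebra.FormallyUnramified R S := by
  rw [Algebra.formallyUnramified_iff, ← Module.support_eq_empty_iff (R := S),
    Set.eq_empty_iff_forall_notMem]
  intro q
  rw [Module.mem_support_iff_nontrivial_residueField_tensorProduct,
    not_nontrivial_iff_subsingleton]
  set p : Ideal R := q.asIdeal.comap (algebraMap R S) with hp
  have hpp : p.IsPrime := Ideal.comap_isPrime _ _
  have hH := H p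
  rw [Algebra.formallyUnramified_iff] at hH
  have hF : Subsingleton (p.Fiber S ⊗[S] Ω[S⁄R]) :=
    (KaehlerDifferential.tensorKaehlerEquiv R p.ResidueField S (p.Fiber S)).subsingleton_congr.2 hH
  let f : p.ResidueField →ₐ[R] q.asIdeal.ResidueField :=
    Ideal.ResidueField.mapₐ p q.asIdeal (Algebra.ofId R S) rfl
  let φ : p.Fiber S →ₐ[R] q.asIdeal.ResidueField :=
    Algebra.TensorProduct.lift f (IsScalarTower.toAlgHom R S _) (fun _ _ => Commute.all _ _)
  let φS : p.Fiber S →ₗ[S] q.asIdeal.ResidueField :=
    { toFun := φ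
      map_add' := map_add φ
      map_smul' := by
        intro s x
        simp only [RingHom.id_apply]
        rw [Algebra.smul_def, Algebra.smul_def, map_mul]
        congr 1
        rw [Algebra.TensorProduct.right_algebraMap_apply]
        simp [φ] }
  have h1 : ∀ m : Ω[S⁄R], (1 : q.asIdeal.ResidueField) ⊗ₜ[S] m = 0 := by
    intro m
    have h := (LinearMap.rTensor (Ω[S⁄R]) φS) ((1 : p.Fiber S) ⊗ₜ[S] m)
    have h0 : ((1 : p.Fiber S) ⊗ₜ[S] m) = 0 := Subsingleton.elim _ _
    have h2 : (LinearMap.rTensor (Ω[S⁄R]) φS) ((1 : p.Fiber S) ⊗ₜ[S] m) =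
        (1 : q.asIdeal.ResidueField) ⊗ₜ[S] m := by
      rw [LinearMap.rTensor_tmul]
      congr 1
      exact map_one φ
    rw [← h2, h0, map_zero]
  refine ⟨fun a b => ?_⟩
  have hz : ∀ x : q.asIdeal.ResidueField ⊗[S] Ω[S⁄R], x = 0 := by
    intro x
    induction x using TensorProduct.induction_on with
    | zero => rfl
    | add x y hx hy => rw [hx, hy, add_zero]
    | tmul c m =>
      have : c ⊗ₜ[S] m = c • ((1 : q.asIdeal.ResidueField) ⊗ₜ[S] m) := by
        rw [TensorProduct.smul_tmul', smul_eq_mul, mul_one]
      rw [this, h1, smul_zero]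
  rw [hz a, hz b]

/-- Essentially of finite type, quasi-finite and formally smooth implies formally étale. -/
theorem formallyEtale_of_formallySmooth_of_quasiFinite (A C : Type u) [CommRing A] [CommRing C]
    [Algebra A C] [Algebra.EssFiniteType A C] [Algebra.QuasiFinite A C]
    [Algebra.FormallySmooth A C] : Algebra.FormallyEtale A C := by
  have hun : Algebra.FormallyUnramified A C := by
    apply formallyUnramified_of_fiber_essFiniteType
    intro p hp
    exact formallyUnramified_of_formallySmooth_of_finite _ _
  exact Algebra.FormallyEtale.of_formallyUnramified_and_formallySmooth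

theorem ringHom_etale_of_smooth_of_quasiFinite {R S : Type u} [CommRing R] [CommRing S]
    (φ : R →+* S) (h1 : φ.Smooth) (h2 : φ.QuasiFinite) : φ.Etale := by
  algebraize [φ]
  have := formallyEtale_of_formallySmooth_of_quasiFinite R S
  rw [RingHom.etale_iff_formallyUnramified_and_smooth]
  exact ⟨(RingHom.formallyUnramified_algebraMap).2 inferInstance, h1⟩

theorem ringHom_quasiFinite_of_etale {R S : Type u} [CommRing R] [CommRing S]
    (φ : R →+* S) (h1 : φ.Etale) : φ.QuasiFinite := by
  algebraize [φ]
  rw [← RingHom.algebraMap_toAlgebra φ, RingHom.quasiFinite_algebraMap]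
  infer_instance

end Groth.Agent.H25
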