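import Mathlib

set_option autoImplicit false
universe u
open CategoryTheory CategoryTheory.Limits AlgebraicGeometry TensorProduct

namespace Groth.Agent.H25.BCTower

variable {k : Type u} [CommRing k] {X : Scheme.{u}} (p : X ⟶ Spec (CommRingCat.of k))

/-- base change of `X/k` to a `k`-algebra `K` -/
noncomputable abbrev BC (K : Type u) [CommRing K] [Algebra k K] : Scheme.{u} :=
  pullback p (Spec.map (CommRingCat.ofHom (algebraMap k K)))

noncomputable abbrev BC.fst (K : Type u) [CommRing K] [Algebra k K] : BC p K ⟶ X :=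
  pullback.fst _ _

noncomputable abbrev BC.snd (K : Type u) [CommRing K] [Algebra k K] :
    BC p K ⟶ Spec (CommRingCat.of K) :=
  pullback.snd _ _

section tower

variable (K L : Type u) [CommRing K] [CommRing L] [Algebra k K] [Algebra k L] [Algebra K L]
  [IsScalarTower k K L]

theorem specMap_tower :
    Spec.map (CommRingCat.ofHom (algebraMap K L)) ≫ Spec.map (CommRingCat.ofHom (algebraMap k K)) =
      Spec.map (CommRingCat.ofHom (algebraMap k L)) := by
  rw [← Spec.map_comp, ← CommRingCat.ofHom_comp, ← IsScalarTower.algebraMap_eq]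

/-- the transition map `X_L ⟶ X_K` for a tower `k → K → L` -/
noncomputable def bcMap : BC p L ⟶ BC p K :=
  pullback.lift (BC.fst p L) (BC.snd p L ≫ Spec.map (CommRingCat.ofHom (algebraMap K L)))
    (by rw [Category.assoc, specMap_tower, pullback.condition])

@[reassoc (attr := simp)]
theorem bcMap_fst : bcMap p K L ≫ BC.fst p K = BC.fst p L := pullback.lift_fst _ _ _

@[reassoc (attr := simp)]
theorem bcMap_snd : bcMap p K L ≫ BC.snd p K =
    BC.snd p L ≫ Spec.map (CommRingCat.ofHom (algebraMap K L)) := pullback.lift_snd _ _ _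

theorem isPullback_bcMap :
    IsPullback (bcMap p K L) (BC.snd p L) (BC.snd p K)
      (Spec.map (CommRingCat.ofHom (algebraMap K L))) := by
  have hB : IsPullback (BC.fst p L) (BC.snd p L) p
      (Spec.map (CommRingCat.ofHom (algebraMap k L))) := IsPullback.of_hasPullback _ _
  rw [← bcMap_fst p K L, ← specMap_tower K L] at hB
  exact IsPullback.of_right hB (bcMap_snd p K L) (IsPullback.of_hasPullback _ _)

/-- `X_L ≅ (X_K)_L` -/
noncomputable def tauIso : BC p L ≅ BC (BC.snd p K) L :=
  (isPullback_bcMap p K L).isoPullback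

@[reassoc (attr := simp)]
theorem tauIso_hom_fst : (tauIso p K L).hom ≫ BC.fst (BC.snd p K) L = bcMap p K L :=
  IsPullback.isoPullback_hom_fst _

@[reassoc (attr := simp)]
theorem tauIso_hom_snd : (tauIso p K L).hom ≫ BC.snd (BC.snd p K) L = BC.snd p L :=
  IsPullback.isoPullback_hom_snd _

@[reassoc (attr := simp)]
theorem tauIso_inv_bcMap : (tauIso p K L).inv ≫ bcMap p K L = BC.fst (BC.snd p K) L :=
  IsPullback.isoPullback_inv_fst _

theorem flat_bcMap [Module.Flat K L] : Flat (bcMap p K L) := by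
  have hfl : Flat (Spec.map (CommRingCat.ofHom (algebraMap K L))) := by
    rw [HasRingHomProperty.Spec_iff (P := @Flat)]
    simp only [CommRingCat.hom_ofHom]
    rw [RingHom.flat_algebraMap_iff]
    infer_instance
  exact MorphismProperty.of_isPullback (P := @Flat) (isPullback_bcMap p K L).flip hfl

end tower

section comp

variable (K L M : Type u) [CommRing K] [CommRing L] [CommRing M] [Algebra k K] [Algebra k L]
  [Algebra k M] [Algebra K L] [Algebra L M] [Algebra K M] [IsScalarTower k K L]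
  [IsScalarTower k L M] [IsScalarTower k K M] [IsScalarTower K L M]

theorem bcMap_comp : bcMap p L M ≫ bcMap p K L = bcMap p K M := by
  apply pullback.hom_ext
  · simp
  · simp only [Category.assoc, bcMap_snd, bcMap_snd_assoc]
    rw [specMap_tower (k := K) L M]

end comp

section tensor

attribute [local instance] Algebra.TensorProduct.rightAlgebra

variable (K K' : Type u) [CommRing K] [CommRing K'] [Algebra k K] [Algebra k K']

/-- `X_{K ⊗ K'} = X_K ×_X X_{K'}` -/
theorem isPullback_bcMap_tensor :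
    IsPullback (bcMap p K (K ⊗[k] K')) (bcMap p K' (K ⊗[k] K')) (BC.fst p K) (BC.fst p K') := by
  have S1 : IsPullback (Spec.map (CommRingCat.ofHom (algebraMap K (K ⊗[k] K'))))
      (Spec.map (CommRingCat.ofHom (algebraMap K' (K ⊗[k] K'))))
      (Spec.map (CommRingCat.ofHom (algebraMap k K)))
      (Spec.map (CommRingCat.ofHom (algebraMap k K'))) :=
    isPullback_SpecMap_of_isPushout _ _ _ _ (CommRingCat.isPushout_tensorProduct k K K')
  have S2 := isPullback_bcMap p K' (K ⊗[k] K')
  have S3 := S2.paste_vert S1.flip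
  have hc : BC.snd p K' ≫ Spec.map (CommRingCat.ofHom (algebraMap k K')) = BC.fst p K' ≫ p :=
    pullback.condition.symm
  rw [hc, ← bcMap_snd p K (K ⊗[k] K')] at S3
  refine IsPullback.of_right S3.flip ?_ (IsPullback.of_hasPullback p _).flip
  rw [bcMap_fst, bcMap_fst]

end tensor

section compositum

attribute [local instance] Algebra.TensorProduct.rightAlgebra

variable {k₀ : Type u} [Field k₀] {X₀ : Scheme.{u}} (p₀ : X₀ ⟶ Spec (CommRingCat.of k₀))
  (K K' : Type u) [Field K] [Field K'] [Algebra k₀ K] [Algebra k₀ K']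

/-- **compositum point**: two points of `X_K`, `X_{K'}` over the same point of `X` come from a
point of `X_L` for a common field extension `L` (a residue field of `K ⊗ K'`). -/
theorem exists_compositum_point (x' : BC p₀ K) (y : BC p₀ K')
    (h : BC.fst p₀ K x' = BC.fst p₀ K' y) :
    ∃ (L : Type u) (_ : Field L) (_ : Algebra k₀ L) (_ : Algebra K L) (_ : Algebra K' L)
      (_ : IsScalarTower k₀ K L) (_ : IsScalarTower k₀ K' L) (z : BC p₀ L),
      bcMap p₀ K L z = x' ∧ bcMap p₀ K' L z = y ∧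
        (Algebra.EssFiniteType k₀ K' → Algebra.EssFiniteType K L) := by
  obtain ⟨w₀, hw1, hw2⟩ := Scheme.Pullback.exists_preimage_pullback
    (f := BC.fst p₀ K) (g := BC.fst p₀ K') x' y h
  have hP := isPullback_bcMap_tensor p₀ K K'
  let w : BC p₀ (K ⊗[k₀] K') := hP.isoPullback.inv w₀
  have hwK : bcMap p₀ K (K ⊗[k₀] K') w = x' := by
    rw [← hw1]
    change (hP.isoPullback.inv ≫ bcMap p₀ K (K ⊗[k₀] K')) w₀ = _
    rw [hP.isoPullback_inv_fst]
  have hwK' : bcMap p₀ K' (K ⊗[k₀] K') w = y := by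
    rw [← hw2]
    change (hP.isoPullback.inv ≫ bcMap p₀ K' (K ⊗[k₀] K')) w₀ = _
    rw [hP.isoPullback_inv_snd]
  let P : PrimeSpectrum (K ⊗[k₀] K') := BC.snd p₀ (K ⊗[k₀] K') w
  let L := P.asIdeal.ResidueField
  have hL := isPullback_bcMap p₀ (K ⊗[k₀] K') L
  let pt : Spec (CommRingCat.of L) := ⟨⊥, Ideal.isPrime_bot⟩
  have hpt : Spec.map (CommRingCat.ofHom (algebraMap (K ⊗[k₀] K') L)) pt =
      BC.snd p₀ (K ⊗[k₀] K') w := by
    apply PrimeSpectrum.ext
    change Ideal.comap (algebraMap (K ⊗[k₀] K') L) ⊥ = P.asIdeal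
    rw [← RingHom.ker_eq_comap_bot, Ideal.ker_algebraMap_residueField]
  obtain ⟨z₀, hz1, hz2⟩ := Scheme.Pullback.exists_preimage_pullback
    (f := BC.snd p₀ (K ⊗[k₀] K')) (g := Spec.map (CommRingCat.ofHom (algebraMap (K ⊗[k₀] K') L)))
    w pt hpt.symm
  obtain ⟨z, hz⟩ : ∃ z : BC p₀ L, bcMap p₀ (K ⊗[k₀] K') L z = w := by
    refine ⟨hL.isoPullback.inv z₀, ?_⟩
    rw [← hz1]
    change (hL.isoPullback.inv ≫ bcMap p₀ (K ⊗[k₀] K') L) z₀ = _
    rw [hL.isoPullback_inv_fst]
  have hcK : bcMap p₀ K L z = bcMap p₀ K (K ⊗[k₀] K') (bcMap p₀ (K ⊗[k₀] K') L z) := by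
    rw [← bcMap_comp p₀ K (K ⊗[k₀] K') L]
    rfl
  have hcK' : bcMap p₀ K' L z = bcMap p₀ K' (K ⊗[k₀] K') (bcMap p₀ (K ⊗[k₀] K') L z) := by
    rw [← bcMap_comp p₀ K' (K ⊗[k₀] K') L]
    rfl
  refine ⟨L, inferInstance, inferInstance, inferInstance, inferInstance, inferInstance,
    inferInstance, z, ?_, ?_, ?_⟩
  · rw [hcK, hz, hwK]
  · rw [hcK', hz, hwK']
  · intro hfin
    have : Algebra.EssFiniteType K (K ⊗[k₀] K') := inferInstance
    exact Algebra.EssFiniteType.comp K (K ⊗[k₀] K') _

end compositum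

end Groth.Agent.H25.BCTower
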