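import Mathlib
import Groth.Agent.H12.Topo

set_option autoImplicit false
universe u
open Topology TopologicalSpace Set

namespace Groth.Agent.H25.ChainConn

variable {X : Type*} [TopologicalSpace X]

theorem noetherianSpace_union (U V : Set X) [hU : NoetherianSpace ↥U] [hV : NoetherianSpace ↥V] :
    NoetherianSpace ↥(U ∪ V) := by
  have h : U ∪ V = ⋃ b : Bool, (if b then U else V) := by
    ext x
    simp only [mem_union, mem_iUnion, Bool.exists_bool]
    simp [or_comm]
  rw [h]
  haveI : ∀ b : Bool, NoetherianSpace ↥(if b then U else V) := by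
    intro b
    cases b
    · simpa using hV
    · simpa using hU
  exact NoetherianSpace.iUnion _

/-- local structure: in a locally Noetherian space, every point of a subset `F` has an open
Noetherian neighbourhood `N` in the ambient space such that `N ∩ F` is preconnected. -/
theorem exists_open_noetherian_nhd
    (hloc : ∀ x : X, ∃ U : Set X, IsOpen U ∧ x ∈ U ∧ NoetherianSpace ↥U)
    (F : Set X) (z : X) (hz : z ∈ F) :
    ∃ N : Set X, IsOpen N ∧ NoetherianSpace ↥N ∧ z ∈ N ∧ IsPreconnected (N ∩ F) := by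
  obtain ⟨W, hWo, hzW, hWn⟩ := hloc z
  haveI : NoetherianSpace ↥(W ∩ F) := NoetherianSpace.inter_of_left W F
  let z' : ↥(W ∩ F) := ⟨z, hzW, hz⟩
  have hC : IsOpen (connectedComponent z') :=
    Groth.Agent.H12.isOpen_connectedComponent_of_noetherian z'
  obtain ⟨O, hO, hOeq⟩ := isOpen_induced_iff.mp hC
  have hzO : z ∈ O := by
    have : z' ∈ Subtype.val ⁻¹' O := by rw [hOeq]; exact mem_connectedComponent
    exact this
  refine ⟨O ∩ W, hO.inter hWo, NoetherianSpace.of_subset (W := W) inter_subset_right,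
    ⟨hzO, hzW⟩, ?_⟩
  have : O ∩ W ∩ F = Subtype.val '' (connectedComponent z') := by
    rw [← hOeq, Subtype.image_preimage_coe]
    ext x
    simp only [mem_inter_iff]
    tauto
  rw [this]
  exact isPreconnected_connectedComponent.image _ continuous_subtype_val.continuousOn

/-- **Chain lemma.** In a locally Noetherian space, two points of a subset `F` in the same
connected component of `F` lie in an open Noetherian subset `U` of the ambient space with
`U ∩ F` preconnected. -/
theorem exists_open_noetherian_preconnected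
    (hloc : ∀ x : X, ∃ U : Set X, IsOpen U ∧ x ∈ U ∧ NoetherianSpace ↥U)
    (F : Set X) (p ζ : X) (hζ : ζ ∈ connectedComponentIn F p) :
    ∃ U : Set X, IsOpen U ∧ NoetherianSpace ↥U ∧ p ∈ U ∧ ζ ∈ U ∧ IsPreconnected (U ∩ F) := by
  have hp : p ∈ F := by
    by_contra hp
    rw [connectedComponentIn_eq_empty hp] at hζ
    exact hζ
  rw [connectedComponentIn_eq_image hp] at hζ
  obtain ⟨ζ', hζ', rfl⟩ := hζ
  let R : Set ↥F := {z | ∃ U : Set X, IsOpen U ∧ NoetherianSpace ↥U ∧ p ∈ U ∧ z.1 ∈ U ∧
    IsPreconnected (U ∩ F)}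
  have hpR : (⟨p, hp⟩ : ↥F) ∈ R := by
    obtain ⟨N, hNo, hNn, hpN, hNc⟩ := exists_open_noetherian_nhd hloc F p hp
    exact ⟨N, hNo, hNn, hpN, hpN, hNc⟩
  have hR : IsClopen R := by
    constructor
    · rw [← isOpen_compl_iff, isOpen_iff_forall_mem_open]
      intro z hz
      obtain ⟨N, hNo, hNn, hzN, hNc⟩ := exists_open_noetherian_nhd hloc F z.1 z.2
      refine ⟨Subtype.val ⁻¹' N, ?_, hNo.preimage continuous_subtype_val, hzN⟩
      intro z' hz'N hz'R
      apply hz
      obtain ⟨U, hUo, hUn, hpU, hz'U, hUc⟩ := hz'R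
      refine ⟨U ∪ N, hUo.union hNo, noetherianSpace_union U N, Or.inl hpU, Or.inr hzN, ?_⟩
      rw [union_inter_distrib_right]
      exact IsPreconnected.union z'.1 ⟨hz'U, z'.2⟩ ⟨hz'N, z'.2⟩ hUc hNc
    · rw [isOpen_iff_forall_mem_open]
      intro z hz
      obtain ⟨U, hUo, hUn, hpU, hzU, hUc⟩ := hz
      obtain ⟨N, hNo, hNn, hzN, hNc⟩ := exists_open_noetherian_nhd hloc F z.1 z.2
      refine ⟨Subtype.val ⁻¹' N, ?_, hNo.preimage continuous_subtype_val, hzN⟩
      intro z' hz'N
      refine ⟨U ∪ N, hUo.union hNo, noetherianSpace_union U N, Or.inl hpU, Or.inr hz'N, ?_⟩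
      rw [union_inter_distrib_right]
      exact IsPreconnected.union z.1 ⟨hzU, z.2⟩ ⟨hzN, z.2⟩ hUc hNc
  have := hR.connectedComponent_subset hpR hζ'
  exact this

end Groth.Agent.H25.ChainConn
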