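import Groth.Agent.H25.ChevQF
import Groth.Agent.H51.FibreDimTrdeg
import Groth.Agent.H53.QfLocus
import Groth.Agent.H49.CMChartMain
import Groth.Agent.H49.QFChart
import Groth.Agent.H66.SmoothGUStalk
import Groth.Agent.H17.Chev.OpenAt2
import Groth.Agent.H17.Chev.MaxPt

set_option autoImplicit false
universe u
open CategoryTheory Limits AlgebraicGeometry

namespace Groth.Agent.H25.ChevCore

open Groth.Agent.H6.UnivOpenDVR Groth.Agent.H17.Chev

section Dom
variable {U V : Scheme.{u}} (n : ℕ) (π : U ⟶ 𝔸(ULift.{u} (Fin n); V))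

/-- additivity of the residue transcendence degree. -/
theorem resTrdeg_comp {X Y Z : Scheme.{u}} (f : X ⟶ Y) (g : Y ⟶ Z) (x : X) :
    Dual3.resTrdeg (f ≫ g) x = Dual3.resTrdeg g (f.base x) + Dual3.resTrdeg f x := by
  unfold Dual3.resTrdeg
  letI a1 : Algebra (Z.residueField (g.base (f.base x))) (Y.residueField (f.base x)) :=
    (g.residueFieldMap (f.base x)).hom.toAlgebra
  letI a2 : Algebra (Y.residueField (f.base x)) (X.residueField x) :=
    (f.residueFieldMap x).hom.toAlgebra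
  letI a3 : Algebra (Z.residueField (g.base (f.base x))) (X.residueField x) :=
    ((f ≫ g).residueFieldMap x).hom.toAlgebra
  haveI : IsScalarTower (Z.residueField (g.base (f.base x))) (Y.residueField (f.base x))
      (X.residueField x) := by
    apply IsScalarTower.of_algebraMap_eq'
    change ((f ≫ g).residueFieldMap x).hom =
      (f.residueFieldMap x).hom.comp (g.residueFieldMap (f.base x)).hom
    rw [Scheme.residueFieldMap_comp]
    rfl
  exact (trdeg_add_eq (Z.residueField (g.base (f.base x))) (Y.residueField (f.base x))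
    (A := X.residueField x)).symm

/-- a sum of two nonnegative elements of `WithBot ℕ∞` vanishing forces the second to vanish. -/
theorem eq_zero_of_add_eq_zero {a : WithBot ℕ∞} {b : ℕ∞} (ha : 0 ≤ a)
    (h : a + (b : WithBot ℕ∞) = 0) : b = 0 := by
  induction a with
  | bot => exact absurd ha (by simp)
  | coe a =>
    have h' : a + b = 0 := by exact_mod_cast h
    exact (add_eq_zero.mp h').2

/-- **Dominance**: the image of a generic point under a quasi-finite chart to affine space is a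
maximal point. -/
theorem map_isMax [LocallyOfFiniteType π] [LocallyQuasiFinite π] (ξ : U)
    (hξ : ∀ z' : U, (π ≫ (𝔸(ULift.{u} (Fin n); V) ↘ V)).base z' =
      (π ≫ (𝔸(ULift.{u} (Fin n); V) ↘ V)).base ξ → ξ ∈ closure {z'} → z' = ξ)
    (hdim : FlatMor.fibreDimAt (π ≫ (𝔸(ULift.{u} (Fin n); V) ↘ V)) ξ = n)
    (hη : ∀ v : V, v ⤳ (π ≫ (𝔸(ULift.{u} (Fin n); V) ↘ V)).base ξ →
      v = (π ≫ (𝔸(ULift.{u} (Fin n); V) ↘ V)).base ξ) :
    ∀ t : 𝔸(ULift.{u} (Fin n); V), t ⤳ π.base ξ → t = π.base ξ := by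
  set pT := (𝔸(ULift.{u} (Fin n); V) ↘ V) with hpT
  -- transcendence degrees
  have e1 := Groth.Agent.H51.fibreDimAt_eq_dim_stalk_add_trdeg (π ≫ pT) ξ
  rw [hdim, stalk_fiber_eq_zero_of_maximal (π ≫ pT) ξ hξ, zero_add] at e1
  have hq0 : FlatMor.fibreDimAt π ξ = 0 :=
    (Groth.Agent.H53.quasiFiniteAt_iff_fibreDimAt_eq_zero π ξ).mp (π.quasiFiniteAt ξ)
  have e2 := Groth.Agent.H51.fibreDimAt_eq_dim_stalk_add_trdeg π ξ
  rw [hq0] at e2
  have h2 : Cardinal.toENat (Dual3.resTrdeg π ξ) = 0 :=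
    eq_zero_of_add_eq_zero ringKrullDim_nonneg_of_nontrivial e2.symm
  have h3 : Cardinal.toENat (Dual3.resTrdeg (π ≫ pT) ξ) =
      Cardinal.toENat (Dual3.resTrdeg pT (π.base ξ)) := by
    rw [resTrdeg_comp, map_add, h2, add_zero]
  have e3 := Groth.Agent.H51.fibreDimAt_eq_dim_stalk_add_trdeg pT (π.base ξ)
  have h4 : FlatMor.fibreDimAt pT (π.base ξ) ≤ (n : WithBot ℕ∞) := by
    have := Groth.Agent.H49.CMChartMain.fibreDimAt_affineSpace_le (ULift.{u} (Fin n)) V (π.base ξ)
    simpa using this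
  have h5 : ((Cardinal.toENat (Dual3.resTrdeg pT (π.base ξ)) : ℕ∞) : WithBot ℕ∞) = n := by
    rw [← h3, ← e1]
  rw [e3, h5] at h4
  have h6 : ringKrullDim ((pT.fiber (pT.base (π.base ξ))).presheaf.stalk (pT.asFiber (π.base ξ))) ≤ 0 := by
    apply Groth.Agent.H49.CMChartFlat.le_of_add_natCast_le n ringKrullDim_nonneg_of_nontrivial
    rwa [zero_add]
  have h7 : IsMax (pT.asFiber (π.base ξ)) :=
    isMax_of_ringKrullDim_stalk_eq_zero _ _
      (le_antisymm h6 ringKrullDim_nonneg_of_nontrivial)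
  -- conclusion
  intro t ht
  have h8 : pT.base t = pT.base (π.base ξ) := hη _ (ht.map pT.continuous)
  have h9 : t ∈ Set.range (pT.fiberι (pT.base (π.base ξ))).base := by
    rw [Scheme.Hom.range_fiberι]
    exact h8
  obtain ⟨t', rfl⟩ := h9
  have h10 : t' ⤳ pT.asFiber (π.base ξ) := by
    rw [← (pT.fiberι (pT.base (π.base ξ))).isEmbedding.isInducing.specializes_iff,
      pT.fiberι_asFiber]
    exact ht
  have h11 : pT.asFiber (π.base ξ) ⤳ t' := h7 (show pT.asFiber (π.base ξ) ≤ t' from h10)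
  have h12 := h11.map (pT.fiberι (pT.base (π.base ξ))).continuous
  rw [pT.fiberι_asFiber] at h12
  exact (ht.antisymm h12).eq

end Dom

section Core

/-- **Chevalley's criterion** (EGA IV 14.4.1, b) ⇒ a)), for an irreducible source. -/
theorem isUnivOpenAt_of_irreducible {W Y : Scheme.{u}} [IsLocallyNoetherian Y] [IrreducibleSpace W]
    (h : W ⟶ Y) [LocallyOfFiniteType h] (w : W)
    (hy : CAlg2.IsGeomUnibranch (Y.presheaf.stalk (h.base w)))
    (hη : ∀ y' : Y, y' ⤳ h.base (genericPoint W) → y' = h.base (genericPoint W))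
    (n : ℕ) (hn : FlatMor.fibreDimAt h w = n)
    (hgen : FlatMor.fibreDimAt h (genericPoint W) = n) : EGA43.IsUnivOpenAt h w := by
  obtain ⟨V, hV, hyV, -⟩ := exists_isAffineOpen_mem_and_subset (x := h.base w) (U := ⊤) trivial
  obtain ⟨U, hUV, hU, hwU, π, hπ, hqf, hft⟩ :=
    Groth.Agent.H49.QFChart.exists_lqf_chart h w n hn V hV hyV
  have hξU : genericPoint W ∈ U :=
    ((genericPoint_spec W).mem_open_set_iff U.2).mpr ⟨w, trivial, hwU⟩
  have hgenspec : ∀ z : W, genericPoint W ⤳ z := fun z =>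
    (genericPoint_spec W).specializes trivial
  have hspecU : ∀ z : U, (⟨genericPoint W, hξU⟩ : U) ⤳ z := fun z =>
    U.ι.isEmbedding.isInducing.specializes_iff.mp (hgenspec z.1)
  haveI : IsLocallyNoetherian (𝔸(ULift.{u} (Fin n); (V : Scheme.{u}))) :=
    LocallyOfFiniteType.isLocallyNoetherian (𝔸(ULift.{u} (Fin n); (V : Scheme.{u})) ↘ (V : Scheme.{u}))
  -- the base point of the restriction
  have hbase : ∀ z : U, V.ι.base ((h.resLE V U hUV).base z) = h.base z.1 := by
    intro z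
    have := congrArg (fun m => m.base z) (Scheme.Hom.resLE_comp_ι h hUV)
    exact this
  have hmax' := map_isMax n π (⟨genericPoint W, hξU⟩ : U)
    (by
      intro z' _ hz'
      exact ((specializes_iff_mem_closure.mpr hz').antisymm (hspecU z')).eq)
    (by rw [hπ, fibreDimAt_resLE]; exact hgen)
    (by
      intro v hv
      rw [hπ] at hv ⊢
      apply V.ι.isEmbedding.injective
      have h1 := hv.map V.ι.continuous
      rw [hbase] at h1 ⊢
      exact hη _ h1)
  have hT : CAlg2.IsGeomUnibranch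
      ((𝔸(ULift.{u} (Fin n); (V : Scheme.{u}))).presheaf.stalk (π.base ⟨w, hwU⟩)) := by
    apply Groth.Agent.H66.SmoothGU.isGeomUnibranch_stalk_affineSpace n (π.base ⟨w, hwU⟩)
    apply Groth.Agent.H66.SmoothGU.isGeomUnibranch_stalk_of_smooth V.ι
    have h1 : V.ι.base ((𝔸(ULift.{u} (Fin n); (V : Scheme.{u})) ↘ (V : Scheme.{u})).base
        (π.base ⟨w, hwU⟩)) = h.base w := by
      have h2 : (𝔸(ULift.{u} (Fin n); (V : Scheme.{u})) ↘ (V : Scheme.{u})).base
          (π.base ⟨w, hwU⟩) = (h.resLE V U hUV).base ⟨w, hwU⟩ := by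
        rw [← hπ]
        rfl
      rw [h2, hbase]
    rw [h1]
    exact hy
  have h1 : EGA43.IsUnivOpenAt π ⟨w, hwU⟩ :=
    Groth.Agent.H25.ChevPoly.isUnivOpenAt_of_quasiFinite π ⟨w, hwU⟩ ⟨genericPoint W, hξU⟩
      (hspecU _) hT hmax'
  haveI := Groth.Agent.H66.SmoothGU.smooth_affineSpace (ULift.{u} (Fin n)) (V : Scheme.{u})
  have h2 : EGA43.IsUnivOpenAt (π ≫ (𝔸(ULift.{u} (Fin n); (V : Scheme.{u})) ↘ (V : Scheme.{u})))
      ⟨w, hwU⟩ :=
    Groth.Agent.S4925.result _ _ _ h1 (isUnivOpenAt_of_universallyOpen _ _)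
  rw [hπ] at h2
  have h3 : EGA43.IsUnivOpenAt (h.resLE V U hUV ≫ V.ι) ⟨w, hwU⟩ :=
    Groth.Agent.S4925.result _ _ _ h2 (isUnivOpenAt_of_universallyOpen _ _)
  rw [Scheme.Hom.resLE_comp_ι] at h3
  exact Groth.Agent.S4926.result U.ι h ⟨w, hwU⟩ h3

end Core

end Groth.Agent.H25.ChevCore
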