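import Groth.Agent.H25.ChevOpenB
import Groth.Agent.H25.ChevComp
import Groth.Agent.H17.Val.UOComp2
import Groth.Agent.H17.Chev.FamCycT
import Groth.Agent.S4933

set_option autoImplicit false
set_option linter.unusedSectionVars false
set_option linter.style.haveILetI false
universe u
open CategoryTheory CategoryTheory.Limits AlgebraicGeometry Topology Order TopologicalSpace

namespace Groth.Agent.H25.ChevCore

open Groth.Agent.H17 Groth.Agent.H17.Chev Groth.Agent.H17.Val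

/-- EGA IV 14.3.3.1 b') ⇒ b), using only the generic point of the component `Y₀` and no
maximality hypothesis on `x`. -/
theorem exists_component_of_le_dim_generic {X Y : Scheme.{u}} (f : X ⟶ Y)
    [LocallyOfFiniteType f] (x : X)
    (Y₀ : Set Y) (hY₀ : Y₀ ∈ irreducibleComponents (Y : Type u)) (hy : f.base x ∈ Y₀)
    (hb' : ∀ U : X.Opens, x ∈ U → ∀ η : Y, closure ({η} : Set Y) = Y₀ →
        FlatMor.fibreDimAt f x ≤ topologicalKrullDim ↥((U : Set X) ∩ f.base ⁻¹' {η})) :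
    ∃ Z ∈ irreducibleComponents (X : Type u), ∃ hx : x ∈ Z, closure (f.base '' Z) = Y₀ ∧
      ∀ η : Y, closure ({η} : Set Y) = Y₀ →
        FlatMor.fibreDimAt f x = FlatMor.localDim ↥(Z ∩ f.base ⁻¹' {f.base x}) ⟨x, ⟨hx, rfl⟩⟩ ∧
        FlatMor.localDim ↥(Z ∩ f.base ⁻¹' {f.base x}) ⟨x, ⟨hx, rfl⟩⟩ =
          topologicalKrullDim ↥(Z ∩ f.base ⁻¹' {η}) := by
  have hY₀c : IsClosed Y₀ := isClosed_of_mem_irreducibleComponents _ hY₀
  have hη₀ := hY₀.1.isGenericPoint_genericPoint hY₀c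
  set η₀ := hY₀.1.genericPoint with hη₀def
  have hη₀x : η₀ ⤳ f.base x := hη₀.specializes hy
  obtain ⟨n, hn⟩ := exists_nat_eq_fibreDimAt f x
  obtain ⟨ξ, hξη, hξx, hξmax, hξn⟩ := exists_maximal_fibre_point_specializes_of_le_dim f x η₀ n
    (fun U hU => hn ▸ hb' U hU η₀ hη₀.def)
  have hmaxξ : IsMax ξ := by
    intro ξ' hle
    have h1 : ξ' ⤳ ξ := hle
    have h2 : f.base ξ' ⤳ η₀ := by
      rw [← hξη]; exact h1.map f.continuous
    have h3 : Y₀ ⊆ closure {f.base ξ'} := by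
      rw [← hη₀.def]
      exact h2.closure_subset
    have h4 : closure {f.base ξ'} ⊆ Y₀ := hY₀.2 isIrreducible_singleton.closure h3
    have h5 : η₀ ⤳ f.base ξ' := hη₀.specializes (h4 (subset_closure rfl))
    have h6 : f.base ξ' = η₀ := (h2.antisymm h5).eq
    have h7 : ξ' = ξ := hξmax ξ' (h6.trans hξη.symm) h1
    rw [h7]
  set Z : Set X := closure {ξ} with hZ
  have hZcomp : Z ∈ irreducibleComponents (X : Type u) :=
    closure_mem_irreducibleComponents_of_isMax X ξ hmaxξ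
  have hx : x ∈ Z := hξx.mem_closure
  have hξZ : IsGenericPoint ξ Z := isGenericPoint_closure
  refine ⟨Z, hZcomp, hx, ?_, ?_⟩
  · rw [closure_image_eq_of_isGenericPoint f.base f.continuous Z ξ hξZ, hξη, hη₀.def]
  · intro η hη
    have hηeq : η = η₀ := by
      have h1 : IsGenericPoint η Y₀ := hη
      exact h1.eq hη₀
    subst hηeq
    have hA := dim_closure_inter_generic_eq f ξ hmaxξ
    have hB := dim_generic_le_localDim f Z isClosed_closure ξ hξZ x hx
    have hC : FlatMor.localDim ↥(Z ∩ f.base ⁻¹' {f.base x}) ⟨x, ⟨hx, rfl⟩⟩ ≤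
        FlatMor.fibreDimAt f x := by
      rw [fibreDimAt_eq]
      exact localDim_subtype_mono (S := Z ∩ f.base ⁻¹' {f.base x}) (S' := f.base ⁻¹' {f.base x})
        Set.inter_subset_right x ⟨hx, rfl⟩
    rw [hξη] at hA hB
    have hD : FlatMor.fibreDimAt f x ≤ topologicalKrullDim ↥(Z ∩ f.base ⁻¹' {η₀}) := by
      rw [hA, hn]; exact hξn
    exact ⟨le_antisymm (hD.trans hB) hC, le_antisymm (hC.trans hD) hB⟩

/-- the local fibre dimension is at most the dimension of any open piece of the fibre -/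
theorem fibreDimAt_le_dim_open_inter_fibre {X Y : Scheme.{u}} (f : X ⟶ Y) (x : X)
    (U : X.Opens) (hx : x ∈ U) :
    FlatMor.fibreDimAt f x ≤ topologicalKrullDim ↥((U : Set X) ∩ f.base ⁻¹' {f.base x}) := by
  rw [fibreDimAt_eq, ← localDim_inter_open_eq (f.base ⁻¹' {f.base x}) (U : Set X) U.isOpen x rfl hx]
  exact localDim_le_dim _

/-- the dimension of an open piece of a fibre is the supremum of the local fibre dimensions -/
theorem dim_open_inter_fibre_le {X Y : Scheme.{u}} (f : X ⟶ Y) (y : Y)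
    (U : X.Opens) (c : WithBot ℕ∞)
    (h : ∀ x : X, x ∈ U → f.base x = y → FlatMor.fibreDimAt f x ≤ c) :
    topologicalKrullDim ↥((U : Set X) ∩ f.base ⁻¹' {y}) ≤ c := by
  rw [topologicalKrullDim_eq_iSup_localDim]
  refine iSup_le ?_
  rintro ⟨t, htU, hty⟩
  have hty' : f.base t = y := hty
  subst hty'
  rw [localDim_inter_open_eq (f.base ⁻¹' {f.base t}) (U : Set X) U.isOpen t rfl htU,
    ← fibreDimAt_eq]
  exact h t htU rfl

/-- EGA IV 14.4.4-type a) ⇒ b''). -/
theorem dim_open_inter_fibre_le_generic {X Y : Scheme.{u}} (f : X ⟶ Y) [LocallyOfFiniteType f]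
    (y : Y) (ha : ∀ x : X, f.base x = y → EGA43.IsUnivOpenAt f x) (U : X.Opens) (η : Y)
    (hη : η ⤳ y) :
    topologicalKrullDim ↥((U : Set X) ∩ f.base ⁻¹' {y}) ≤
      topologicalKrullDim ↥((U : Set X) ∩ f.base ⁻¹' {η}) := by
  refine dim_open_inter_fibre_le f y U _ ?_
  intro x hxU hxy
  obtain ⟨z, hzf, hzx, hzmax, -, hzd⟩ := exists_maximal_fibre_point_fibreDimAt_eq f x
  rw [← hzd]
  have hzU : z ∈ U := hzx.mem_open U.isOpen hxU
  refine (Groth.Agent.S4933.result f z ?_).1 (ha z (hzf.trans hxy)) U hzU η ?_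
  · intro z' h1 h2; exact hzmax z' h1 (specializes_iff_mem_closure.mpr h2)
  · rw [hzf, hxy]; exact hη

/-- EGA IV 14.4.4-type b'') ⇒ b). -/
theorem component_of_dim_le_generic {X Y : Scheme.{u}} (f : X ⟶ Y) [LocallyOfFiniteType f]
    (x : X) (Y₀ : Set Y) (hY₀ : Y₀ ∈ irreducibleComponents (Y : Type u)) (hy : f.base x ∈ Y₀)
    (hb : ∀ U : X.Opens, ∀ η : Y, closure ({η} : Set Y) = Y₀ →
      topologicalKrullDim ↥((U : Set X) ∩ f.base ⁻¹' {f.base x}) ≤
        topologicalKrullDim ↥((U : Set X) ∩ f.base ⁻¹' {η})) :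
    ∃ Z ∈ irreducibleComponents (X : Type u), ∃ hx : x ∈ Z, closure (f.base '' Z) = Y₀ ∧
      ∀ η : Y, closure ({η} : Set Y) = Y₀ →
        FlatMor.localDim ↥(Z ∩ f.base ⁻¹' {f.base x}) ⟨x, ⟨hx, rfl⟩⟩ =
          topologicalKrullDim ↥(Z ∩ f.base ⁻¹' {η}) := by
  obtain ⟨Z, hZ, hx, hcl, hd⟩ := exists_component_of_le_dim_generic f x Y₀ hY₀ hy
    (fun U hU η hη => (fibreDimAt_le_dim_open_inter_fibre f x U hU).trans (hb U η hη))
  exact ⟨Z, hZ, hx, hcl, fun η hη => (hd η hη).2⟩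

/-- EGA IV 14.4.4-type c) ⇒ b): if `f` is open at all (maximal) points of the fibre through `x`,
then `x` lies on a component dominating `Y₀` with the right dimensions. -/
theorem component_of_forall_isOpenAt {X Y : Scheme.{u}} [IsLocallyNoetherian Y] (f : X ⟶ Y)
    [LocallyOfFiniteType f] (x : X)
    (hnil : (nilradical (Y.presheaf.stalk (f.base x))).IsPrime)
    (hopen : ∀ z : X, f.base z = f.base x → EGA43.IsOpenAt f.base z) :
    ∀ Y₀ ∈ irreducibleComponents (Y : Type u), f.base x ∈ Y₀ →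
        ∃ Z ∈ irreducibleComponents (X : Type u), ∃ hx : x ∈ Z, closure (f.base '' Z) = Y₀ ∧
          ∀ η : Y, closure ({η} : Set Y) = Y₀ →
            FlatMor.localDim ↥(Z ∩ f.base ⁻¹' {f.base x}) ⟨x, ⟨hx, rfl⟩⟩ =
              topologicalKrullDim ↥(Z ∩ f.base ⁻¹' {η}) := by
  intro Y₀ hY₀ hxY₀
  obtain ⟨z, hzf, hzx, hzmax, hz0, hzd⟩ := exists_maximal_fibre_point_fibreDimAt_eq f x
  have hmax' : ∀ z' : X, f.base z' = f.base z → z ∈ closure {z'} → z' = z :=
    fun z' h1 h2 => hzmax z' h1 (specializes_iff_mem_closure.mpr h2)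
  obtain ⟨Z, hZ, hzZ, hcl, hd⟩ := component_of_isOpenAt f z hmax' (hzf ▸ hnil) (hopen z hzf)
    Y₀ hY₀ (hzf ▸ hxY₀)
  have hZc : IsClosed Z := isClosed_of_mem_irreducibleComponents Z hZ
  have hxZ : x ∈ Z := hZc.closure_subset_iff.mpr (Set.singleton_subset_iff.mpr hzZ) hzx.mem_closure
  refine ⟨Z, hZ, hxZ, hcl, ?_⟩
  intro η hη
  have hξ := hZ.1.isGenericPoint_genericPoint hZc
  set ξ := hZ.1.genericPoint
  have hfξ : f.base ξ = η := by
    have h1 := closure_image_eq_of_isGenericPoint f.base f.continuous Z ξ hξ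
    exact (inseparable_iff_closure_eq.mpr (h1.symm.trans (hcl.trans hη.symm))).eq
  have hB := dim_generic_le_localDim f Z hZc ξ hξ x hxZ
  rw [hfξ] at hB
  refine le_antisymm ?_ hB
  have hC : FlatMor.localDim ↥(Z ∩ f.base ⁻¹' {f.base x}) ⟨x, ⟨hxZ, rfl⟩⟩ ≤
      FlatMor.fibreDimAt f x := by
    rw [fibreDimAt_eq]
    exact localDim_subtype_mono (S := Z ∩ f.base ⁻¹' {f.base x}) (S' := f.base ⁻¹' {f.base x})
      Set.inter_subset_right x ⟨hxZ, rfl⟩
  refine hC.trans ?_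
  rw [← hzd, ← localDim_inter_fibre_eq_fibreDimAt f z hz0 Z hZc hzZ, hd η hη]

end Groth.Agent.H25.ChevCore
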