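import Mathlib
import Groth.Agent.H66.UnibranchGD
import Groth.Agent.H66.SmoothGU3

set_option autoImplicit false
universe u
open TensorProduct

namespace Groth.Agent.H25.ChevPoly

section
variable (R C : Type u) [CommRing R] [CommRing C] [Algebra R C]
  (σ : Type*)

/-- the quotient map `R[T] ⊗ C → (C/q₀)[T]`. -/
noncomputable def psi (q₀ : Ideal C) :
    MvPolynomial σ R ⊗[R] C →ₐ[R] MvPolynomial σ (C ⧸ q₀) :=
  (((MvPolynomial.algebraTensorAlgEquiv R (C ⧸ q₀) (σ := σ)).restrictScalars R).toAlgHom.comp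
    (Algebra.TensorProduct.comm R (MvPolynomial σ R) (C ⧸ q₀)).toAlgHom).comp
    (Algebra.TensorProduct.map (AlgHom.id R (MvPolynomial σ R)) (Ideal.Quotient.mkₐ R q₀))

theorem psi_tmul (q₀ : Ideal C) (b : MvPolynomial σ R) (c : C) :
    psi R C σ q₀ (b ⊗ₜ c) =
      (Ideal.Quotient.mk q₀ c) • MvPolynomial.map (algebraMap R (C ⧸ q₀)) b := by
  simp [psi]

theorem ker_psi (q₀ : Ideal C) :
    RingHom.ker (psi R C σ q₀) = q₀.map
      (Algebra.TensorProduct.includeRight : C →ₐ[R] MvPolynomial σ R ⊗[R] C) := by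
  have h1 : RingHom.ker (psi R C σ q₀) = RingHom.ker
      (Algebra.TensorProduct.map (AlgHom.id R (MvPolynomial σ R)) (Ideal.Quotient.mkₐ R q₀)) := by
    ext x
    simp only [RingHom.mem_ker, psi, AlgHom.comp_apply]
    constructor
    · intro h
      have h2 := (MvPolynomial.algebraTensorAlgEquiv R (C ⧸ q₀) (σ := σ)).injective
        (h.trans (map_zero _).symm)
      exact (Algebra.TensorProduct.comm R (MvPolynomial σ R) (C ⧸ q₀)).injective
        (h2.trans (map_zero _).symm)
    · intro h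
      rw [h, map_zero, map_zero]
  have h2 : RingHom.ker (Ideal.Quotient.mkₐ R q₀) = q₀ := by
    ext x
    rw [RingHom.mem_ker]
    exact Ideal.Quotient.eq_zero_iff_mem
  rw [h1, Algebra.TensorProduct.lTensor_ker _ (Ideal.Quotient.mkₐ_surjective R q₀), h2]

/-- the kernel of `psi` is prime when `q₀` is. -/
theorem ker_psi_isPrime (q₀ : Ideal C) [q₀.IsPrime] : (RingHom.ker (psi R C σ q₀)).IsPrime :=
  RingHom.ker_isPrime _

/-- elements of `R[T]` in the kernel of `psi` have coefficients in `q₀ ∩ R`. -/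
theorem under_ker_psi_le (q₀ : Ideal C) (P : Ideal (MvPolynomial σ R)) (hP : q₀.under R ≤ P.under R) :
    (RingHom.ker (psi R C σ q₀)).under (MvPolynomial σ R) ≤ P := by
  intro b hb
  rw [Ideal.under_def, Ideal.mem_comap, RingHom.mem_ker,
    Algebra.TensorProduct.algebraMap_apply, Algebra.algebraMap_self, RingHom.id_apply,
    psi_tmul, map_one, one_smul] at hb
  rw [b.as_sum]
  refine Ideal.sum_mem _ fun d _ => ?_
  have h1 : MvPolynomial.coeff d b ∈ q₀.under R := by
    have h2 := congrArg (MvPolynomial.coeff d) hb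
    rw [MvPolynomial.coeff_map, MvPolynomial.coeff_zero] at h2
    rw [Ideal.under_def, Ideal.mem_comap, ← Ideal.Quotient.eq_zero_iff_mem]
    exact h2
  have h3 := hP h1
  rw [Ideal.under_def, Ideal.mem_comap, MvPolynomial.algebraMap_eq] at h3
  rw [← mul_one (MvPolynomial.coeff d b), ← smul_eq_mul, ← MvPolynomial.smul_monomial,
    MvPolynomial.smul_eq_C_mul]
  exact Ideal.mul_mem_right _ _ h3

end

section Main
variable (R C : Type u) [CommRing R] [CommRing C] [Algebra R C] [Algebra.FiniteType R C]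
  [Algebra.QuasiFinite R C]

/-- **Going down for the polynomial extension** of a quasi-finite algebra at a point over a
geometrically unibranch point. -/
theorem going_down_poly (m : ℕ) (Q : Ideal (MvPolynomial (Fin m) R ⊗[R] C)) [Q.IsPrime]
    (p : Ideal R) [p.IsPrime] (A : Type u) [CommRing A] [IsLocalRing A] [Algebra R A]
    [IsLocalization.AtPrime A p] (hA : CAlg2.IsGeomUnibranch A)
    (hp : (Q.comap (Algebra.TensorProduct.includeRight :
      C →ₐ[R] MvPolynomial (Fin m) R ⊗[R] C)).under R = p)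
    (q₀ : Ideal C) [q₀.IsPrime]
    (hq₀ : q₀ ≤ Q.comap (Algebra.TensorProduct.includeRight :
      C →ₐ[R] MvPolynomial (Fin m) R ⊗[R] C))
    (hgen : ∀ p' : Ideal R, p'.IsPrime → p' ≤ p → q₀.under R ≤ p')
    (P' : Ideal (MvPolynomial (Fin m) R)) [P'.IsPrime]
    (hP' : P' ≤ Q.under (MvPolynomial (Fin m) R)) :
    ∃ Q' : Ideal (MvPolynomial (Fin m) R ⊗[R] C), Q'.IsPrime ∧ Q' ≤ Q ∧
      Q'.under (MvPolynomial (Fin m) R) = P' := by
  haveI : Q.LiesOver (Q.under (MvPolynomial (Fin m) R)) := ⟨rfl⟩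
  have hPp : (Q.under (MvPolynomial (Fin m) R)).under R = p := by
    rw [← hp, Ideal.under_under]
    ext r
    simp only [Ideal.under_def, Ideal.mem_comap]
    rw [← Algebra.TensorProduct.includeRight.commutes]
  haveI : Algebra.Smooth R (MvPolynomial (Fin m) R) := ⟨inferInstance, inferInstance⟩
  have hA' : CAlg2.IsGeomUnibranch (Localization.AtPrime (Q.under (MvPolynomial (Fin m) R))) :=
    Groth.Agent.H66.SmoothGU.gu_smooth R (MvPolynomial (Fin m) R) p
      (Q.under (MvPolynomial (Fin m) R)) hPp A hA _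
  haveI := ker_psi_isPrime R C (Fin m) q₀
  have hQ₀ : RingHom.ker (psi R C (Fin m) q₀) ≤ Q := by
    rw [ker_psi, Ideal.map_le_iff_le_comap]
    exact hq₀
  refine Groth.Agent.H66.UnibranchGD.going_down (MvPolynomial (Fin m) R)
    (MvPolynomial (Fin m) R ⊗[R] C) (Q.under (MvPolynomial (Fin m) R)) Q
    (Localization.AtPrime (Q.under (MvPolynomial (Fin m) R))) hA'.1
    (RingHom.ker (psi R C (Fin m) q₀)) hQ₀ ?_ P' hP'
  intro P'' hP'' hle
  apply under_ker_psi_le
  apply hgen _ (Ideal.IsPrime.under R P'')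
  rw [← hPp]
  exact Ideal.comap_mono hle

end Main

end Groth.Agent.H25.ChevPoly
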