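import Mathlib
import Groth.Prelude.Def_Curv2
import Groth.Agent.H25.BCTower
import Groth.Agent.H25.GeomRedAt
import Groth.Agent.H52.GeomRed
import Groth.Agent.Lead.RegularFlatDescent
import Groth.Agent.H47.RegularDescent

set_option autoImplicit false
universe u
open CategoryTheory CategoryTheory.Limits AlgebraicGeometry TensorProduct

namespace Groth.Agent.H25.GeomRedBC

open Groth.Agent.H25.BCTower Groth.Agent.H25.GeomRedAt

/-- stalks correspond under an isomorphism of schemes -/
noncomputable def stalkEquivOfIso {X Y : Scheme.{u}} (e : X ≅ Y) (x : X) :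
    Y.presheaf.stalk (e.hom x) ≃+* X.presheaf.stalk x :=
  (asIso (e.hom.stalkMap x)).commRingCatIsoToRingEquiv

variable (k : Type u) [Field k] (X : Scheme.{u}) [X.Over (Spec (CommRingCat.of k))]
  (k' : Type u) [Field k'] [Algebra k k']

/-- S1545 -/
theorem isGeomReducedAt_iff_bc (x : X) (x' : Curv2.bc k X k') (hx : Curv2.bcFst k X k' x' = x) :
    Curv2.IsGeomReducedAt k X x ↔
      @Curv2.IsGeomReducedAt k' _ (Curv2.bc k X k') ⟨Curv2.bcSnd k X k'⟩ x' := by
  constructor
  · intro h k'' _ _ x'' hx''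
    letI : Algebra k k'' := ((algebraMap k' k'').comp (algebraMap k k')).toAlgebra
    haveI : IsScalarTower k k' k'' := IsScalarTower.of_algebraMap_eq (fun _ => rfl)
    let τ := tauIso (X ↘ Spec (CommRingCat.of k)) k' k''
    have hz : Curv2.bcFst k X k'' (τ.inv x'') = x := by
      rw [← hx, ← hx'']
      change (τ.inv ≫ BC.fst (X ↘ Spec (CommRingCat.of k)) k'') x'' = _
      rw [← bcMap_fst (X ↘ Spec (CommRingCat.of k)) k' k'', tauIso_inv_bcMap_assoc]
      rfl
    have h1 : IsReduced ((BC (X ↘ Spec (CommRingCat.of k)) k'').presheaf.stalk (τ.symm.hom x'')) :=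
      h k'' (τ.inv x'') hz
    exact @isReduced_of_ringEquiv _ _ _ _ (stalkEquivOfIso τ.symm x'').symm h1
  · intro h' K _ _ y hy
    obtain ⟨L, _, _, _, _, _, _, z, hz1, hz2, -⟩ :=
      exists_compositum_point (X ↘ Spec (CommRingCat.of k)) k' K x' y (hx.trans hy.symm)
    let τ := tauIso (X ↘ Spec (CommRingCat.of k)) k' L
    have hx'' : @Curv2.bcFst k' _ (Curv2.bc k X k') ⟨Curv2.bcSnd k X k'⟩ L _ _ (τ.hom z) = x' := by
      rw [← hz1]
      change (τ.hom ≫ BC.fst (BC.snd (X ↘ Spec (CommRingCat.of k)) k') L) z = _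
      rw [tauIso_hom_fst]
    have h1 : IsReduced ((BC (BC.snd (X ↘ Spec (CommRingCat.of k)) k') L).presheaf.stalk
        (τ.hom z)) := h' L (τ.hom z) hx''
    haveI : IsReduced ((Curv2.bc k X L).presheaf.stalk z) :=
      @isReduced_of_ringEquiv _ _ _ _ (stalkEquivOfIso τ z).symm h1
    haveI := flat_bcMap (X ↘ Spec (CommRingCat.of k)) K L
    have := Groth.Agent.H52.isReduced_stalk_of_flat (bcMap (X ↘ Spec (CommRingCat.of k)) K L) z
      inferInstance
    rw [hz2] at this
    exact this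

/-- regularity of local rings descends along flat morphisms -/
theorem isRegularLocalRing_stalk_of_flat {W U : Scheme.{u}} (g : W ⟶ U) [Flat g] (w : W)
    (h : IsRegularLocalRing (W.presheaf.stalk w)) : IsRegularLocalRing (U.presheaf.stalk (g w)) := by
  have hfl := Flat.stalkMap g w
  letI : Algebra (U.presheaf.stalk (g w)) (W.presheaf.stalk w) := (g.stalkMap w).hom.toAlgebra
  haveI : Module.Flat (U.presheaf.stalk (g w)) (W.presheaf.stalk w) := hfl
  haveI : IsLocalHom (algebraMap (U.presheaf.stalk (g w)) (W.presheaf.stalk w)) :=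
    g.toLRSHom.prop w
  haveI : Module.FaithfullyFlat (U.presheaf.stalk (g w)) (W.presheaf.stalk w) :=
    Module.FaithfullyFlat.of_flat_of_isLocalHom
  haveI : IsNoetherianRing (U.presheaf.stalk (g w)) :=
    Groth.Agent.H47.isNoetherianRing_of_faithfullyFlat _ (W.presheaf.stalk w)
  exact Groth.Agent.Lead.RLR.isRegularLocalRing_of_flat _ (W.presheaf.stalk w)

/-- S7607 -/
theorem isGeomRegularAt_of_bc (hfg : (⊤ : IntermediateField k k').FG)
    (x' : Curv2.bc k X k')
    (h : @Curv2.IsGeomRegularAt k' _ (Curv2.bc k X k') ⟨Curv2.bcSnd k X k'⟩ x') :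
    Curv2.IsGeomRegularAt k X (Curv2.bcFst k X k' x') := by
  intro K _ _ hK y hy
  obtain ⟨L, _, _, _, _, _, _, z, hz1, hz2, hfin⟩ :=
    exists_compositum_point (X ↘ Spec (CommRingCat.of k)) k' K x' y hy.symm
  haveI : Algebra.EssFiniteType k' L := hfin (IntermediateField.fg_top_iff.mp hK)
  let τ := tauIso (X ↘ Spec (CommRingCat.of k)) k' L
  have hx'' : @Curv2.bcFst k' _ (Curv2.bc k X k') ⟨Curv2.bcSnd k X k'⟩ L _ _ (τ.hom z) = x' := by
    rw [← hz1]
    change (τ.hom ≫ BC.fst (BC.snd (X ↘ Spec (CommRingCat.of k)) k') L) z = _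
    rw [tauIso_hom_fst]
  have h1 : IsRegularLocalRing ((BC (BC.snd (X ↘ Spec (CommRingCat.of k)) k') L).presheaf.stalk
      (τ.hom z)) := h L (IntermediateField.fg_top_iff.mpr inferInstance) (τ.hom z) hx''
  have h2 : IsRegularLocalRing ((Curv2.bc k X L).presheaf.stalk z) :=
    @IsRegularLocalRing.of_ringEquiv _ _ h1 _ _ (stalkEquivOfIso τ z)
  haveI := flat_bcMap (X ↘ Spec (CommRingCat.of k)) K L
  have := isRegularLocalRing_stalk_of_flat (bcMap (X ↘ Spec (CommRingCat.of k)) K L) z h2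
  rw [hz2] at this
  exact this

end Groth.Agent.H25.GeomRedBC
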