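import Mathlib
import Groth.Prelude.Def_FDesc
import Groth.Agent.H25.BCTower
import Groth.Agent.H25.StalkBC
import Groth.Agent.H25.GeomRedBC
import Groth.Agent.H48.AlgClosedTensor

set_option autoImplicit false
universe u
open CategoryTheory CategoryTheory.Limits AlgebraicGeometry TensorProduct

namespace Groth.Agent.H25.GeomPtInt

open Groth.Agent.H25.BCTower Groth.Agent.H25.StalkBC Groth.Agent.H25.GeomRedBC

/-- stalk maps of flat morphisms are injective -/
theorem injective_stalkMap_of_flat {W U : Scheme.{u}} (g : W ⟶ U) [Flat g] (w : W) :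
    Function.Injective (g.stalkMap w).hom := by
  have hfl := Flat.stalkMap g w
  letI : Algebra (U.presheaf.stalk (g w)) (W.presheaf.stalk w) := (g.stalkMap w).hom.toAlgebra
  haveI : Module.Flat (U.presheaf.stalk (g w)) (W.presheaf.stalk w) := hfl
  haveI : IsLocalHom (algebraMap (U.presheaf.stalk (g w)) (W.presheaf.stalk w)) :=
    g.toLRSHom.prop w
  haveI : Module.FaithfullyFlat (U.presheaf.stalk (g w)) (W.presheaf.stalk w) :=
    Module.FaithfullyFlat.of_flat_of_isLocalHom
  exact FaithfulSMul.algebraMap_injective (U.presheaf.stalk (g w)) (W.presheaf.stalk w)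

theorem isDomain_stalk_of_flat {W U : Scheme.{u}} (g : W ⟶ U) [Flat g] (w : W)
    (h : IsDomain (W.presheaf.stalk w)) : IsDomain (U.presheaf.stalk (g w)) :=
  (injective_stalkMap_of_flat g w).isDomain (g.stalkMap w).hom

variable {k : Type u} [Field k] {X : Scheme.{u}} (f : X ⟶ Spec (CommRingCat.of k))

/-- S4630 -/
theorem isGeomPtIntegralAt_iff_bc (K : Type u) [Field K] [Algebra k K] (x' : ↥(FBase.bc f K)) :
    FBase.IsGeomPtIntegralAt f ((FBase.bcπ f K) x') ↔
      FBase.IsGeomPtIntegralAt (FBase.bcStr f K) x' := by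
  constructor
  · intro h k'' _ _ x'' hx''
    letI : Algebra k k'' := ((algebraMap K k'').comp (algebraMap k K)).toAlgebra
    haveI : IsScalarTower k K k'' := IsScalarTower.of_algebraMap_eq (fun _ => rfl)
    let τ := tauIso f K k''
    have hz : (FBase.bcπ f k'').base (τ.inv x'') = (FBase.bcπ f K) x' := by
      rw [← hx'']
      change (τ.inv ≫ BC.fst f k'') x'' = _
      rw [← bcMap_fst f K k'', tauIso_inv_bcMap_assoc]
      rfl
    have h1 : IsDomain ((BC f k'').presheaf.stalk (τ.symm.hom x'')) := h k'' (τ.inv x'') hz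
    exact (stalkEquivOfIso τ.symm x'').symm.injective.isDomain
      (stalkEquivOfIso τ.symm x'').symm.toRingHom
  · intro h' K' _ _ y hy
    obtain ⟨L, _, _, _, _, _, _, z, hz1, hz2, -⟩ :=
      exists_compositum_point f K K' x' y hy.symm
    let τ := tauIso f K L
    have hx'' : (FBase.bcπ (FBase.bcStr f K) L).base (τ.hom z) = x' := by
      rw [← hz1]
      change (τ.hom ≫ BC.fst (BC.snd f K) L) z = _
      rw [tauIso_hom_fst]
    have h1 : IsDomain ((BC (BC.snd f K) L).presheaf.stalk (τ.hom z)) := h' L (τ.hom z) hx''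
    have h2 : IsDomain ((BC f L).presheaf.stalk z) :=
      (stalkEquivOfIso τ z).symm.injective.isDomain (stalkEquivOfIso τ z).symm.toRingHom
    haveI := flat_bcMap f K' L
    have := isDomain_stalk_of_flat (bcMap f K' L) z h2
    rw [hz2] at this
    exact this

theorem surjective_bcFst (K : Type u) [Field K] [Algebra k K] : Surjective (BC.fst f K) := by
  have hsurj : Surjective (Spec.map (CommRingCat.ofHom (algebraMap k K))) := by
    constructor
    intro x
    have : Subsingleton (Spec (CommRingCat.of k)) := inferInstance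
    obtain ⟨y⟩ : Nonempty (Spec (CommRingCat.of K)) := inferInstance
    exact ⟨y, Subsingleton.elim _ _⟩
  exact MorphismProperty.pullback_fst (P := @Surjective) _ _ hsurj

theorem flat_bcFst (K : Type u) [Field K] [Algebra k K] : Flat (BC.fst f K) := by
  have hfl : Flat (Spec.map (CommRingCat.ofHom (algebraMap k K))) := by
    rw [HasRingHomProperty.Spec_iff (P := @Flat)]
    simp only [CommRingCat.hom_ofHom]
    rw [RingHom.flat_algebraMap_iff]
    infer_instance
  exact MorphismProperty.pullback_fst (P := @Flat) _ _ hfl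

/-- S4631 -/
theorem isGeomPtIntegralAt_iff_of_isAlgClosed [IsAlgClosed k] (x : X) :
    FBase.IsGeomPtIntegralAt f x ↔ IsDomain ↑(X.presheaf.stalk x) := by
  constructor
  · intro h
    obtain ⟨x', hx'⟩ := (surjective_bcFst f k).surj x
    have h1 : IsDomain ((BC f k).presheaf.stalk x') := h k x' hx'
    haveI := flat_bcFst f k
    have := isDomain_stalk_of_flat (BC.fst f k) x' h1
    rw [hx'] at this
    exact this
  · intro h K _ _ x' hx'
    letI : Algebra k (X.presheaf.stalk x) := (stalkHom f x).toAlgebra
    obtain ⟨Q, hQ, -, ⟨e⟩⟩ := exists_prime_of_point_stalk f x rfl K x' hx'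
    haveI : IsDomain (X.presheaf.stalk x ⊗[k] K) :=
      Groth.Agent.H48.isDomain_tensor_of_isAlgClosed _ _
    exact e.injective.isDomain e.toRingHom

end Groth.Agent.H25.GeomPtInt
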