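import Mathlib
import Groth.Prelude.Def_Curv2
import Groth.Agent.H48.SepClosedIn
import Groth.Agent.H25.BCTower
import Groth.Agent.H25.GeomPtInt

set_option autoImplicit false
universe u
open CategoryTheory CategoryTheory.Limits AlgebraicGeometry TensorProduct

namespace Groth.Agent.H25.SepIrr

open Groth.Agent.H25.BCTower

/-- for `k` separably closed, `Spec K ⟶ Spec k` is geometrically irreducible -/
theorem geometricallyIrreducible_specMap_of_isSepClosed (k K : Type u) [Field k] [IsSepClosed k]
    [Field K] [Algebra k K] :
    GeometricallyIrreducible (Spec.map (CommRingCat.ofHom (algebraMap k K))) := by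
  refine ⟨geometrically_iff_of_commRing_of_isClosedUnderIsomorphisms.mpr fun L _ _ => ?_⟩
  have hK : ∀ α : K, IsSeparable k α → α ∈ Set.range (algebraMap k K) := by
    intro α hα
    have hint : IsIntegral k α := hα.isIntegral
    have hsplit := IsSepClosed.splits_of_separable (minpoly k α) hα
    have hdeg := IsSepClosed.degree_eq_one_of_irreducible k (minpoly.irreducible hint) hα
    exact (minpoly.degree_eq_one_iff).mp hdeg
  have h1 : IrreducibleSpace (PrimeSpectrum (L ⊗[k] K)) :=
    (Groth.Agent.H48.geomIrr_iff_sepClosedIn (k := k) (K := K)).mpr hK L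
  have h2 : IrreducibleSpace (PrimeSpectrum (K ⊗[k] L)) :=
    (PrimeSpectrum.homeomorphOfRingEquiv
      (Algebra.TensorProduct.comm k K L).toRingEquiv).irreducibleSpace_iff.mpr h1
  haveI : IrreducibleSpace ↥(Spec (CommRingCat.of (K ⊗[k] L))) := h2
  exact (pullbackSpecIso k K L).hom.homeomorph.irreducibleSpace_iff.mpr inferInstance

variable (k : Type u) [Field k] (X : Scheme.{u}) [X.Over (Spec (CommRingCat.of k))]

theorem geometricallyIrreducible_bcFst [IsSepClosed k] (K : Type u) [Field K] [Algebra k K] :
    GeometricallyIrreducible (Curv2.bcFst k X K) := by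
  haveI := geometricallyIrreducible_specMap_of_isSepClosed k K
  unfold Curv2.bcFst
  infer_instance

/-- S1547 -/
theorem injective_image_irreducibleComponents [IsSepClosed k] (K : Type u) [Field K] [Algebra k K]
    (T T' : Set (Curv2.bc k X K : Type u)) (hT : T ∈ irreducibleComponents (Curv2.bc k X K : Type u))
    (hT' : T' ∈ irreducibleComponents (Curv2.bc k X K : Type u))
    (h : (Curv2.bcFst k X K).base '' T = (Curv2.bcFst k X K).base '' T') : T = T' := by
  haveI := geometricallyIrreducible_bcFst k X K
  have hopen : IsOpenMap (Curv2.bcFst k X K) :=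
    (pullback.fst (X ↘ (Spec (CommRingCat.of k)))
      (Spec.map (CommRingCat.ofHom (algebraMap k K)))).isOpenMap
  have := (Scheme.Hom.irreducibleComponentsEquiv (Curv2.bcFst k X K) hopen).injective
    (a₁ := ⟨T, hT⟩) (a₂ := ⟨T', hT'⟩) (Subtype.ext h)
  exact congrArg Subtype.val this

/-- S1538 -/
theorem geometricallyIrreducible_of_sepClosure
    [IrreducibleSpace (Curv2.bc k X (SeparableClosure k))] :
    GeometricallyIrreducible (X ↘ (Spec (CommRingCat.of k))) := by
  refine ⟨geometrically_iff_of_commRing_of_isClosedUnderIsomorphisms.mpr fun K _ _ => ?_⟩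
  let p := X ↘ (Spec (CommRingCat.of k))
  let φ : SeparableClosure k →ₐ[k] AlgebraicClosure K := IsAlgClosed.lift
  letI : Algebra (SeparableClosure k) (AlgebraicClosure K) := φ.toRingHom.toAlgebra
  haveI : IsScalarTower k (SeparableClosure k) (AlgebraicClosure K) :=
    IsScalarTower.of_algebraMap_eq fun x => (φ.commutes x).symm
  haveI : IrreducibleSpace (BC p (SeparableClosure k)) :=
    ‹IrreducibleSpace (Curv2.bc k X (SeparableClosure k))›
  haveI := geometricallyIrreducible_specMap_of_isSepClosed (SeparableClosure k)
    (AlgebraicClosure K)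
  haveI h1 : IrreducibleSpace (BC (BC.snd p (SeparableClosure k)) (AlgebraicClosure K)) :=
    inferInstance
  haveI h2 : IrreducibleSpace (BC p (AlgebraicClosure K)) :=
    (tauIso p (SeparableClosure k) (AlgebraicClosure K)).hom.homeomorph.irreducibleSpace_iff.mpr h1
  have hs : Function.Surjective (bcMap p K (AlgebraicClosure K)) := by
    have := Groth.Agent.H25.GeomPtInt.surjective_bcFst (BC.snd p K) (AlgebraicClosure K)
    intro y
    obtain ⟨z, hz⟩ := this.surj y
    refine ⟨(tauIso p K (AlgebraicClosure K)).inv z, ?_⟩
    rw [← Scheme.Hom.comp_apply, tauIso_inv_bcMap]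
    exact hz
  exact Function.Surjective.irreducibleSpace (bcMap p K (AlgebraicClosure K)).continuous hs

end Groth.Agent.H25.SepIrr
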