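import Mathlib
import Groth.Prelude.Def_Curv2
import Groth.Agent.H25.SepIrr

set_option autoImplicit false
universe u
open CategoryTheory CategoryTheory.Limits AlgebraicGeometry TensorProduct

namespace Groth.Agent.H25.SepIrr

open Groth.Agent.H25.BCTower

theorem geometricallyConnected_specMap_of_isSepClosed (k K : Type u) [Field k] [IsSepClosed k]
    [Field K] [Algebra k K] :
    GeometricallyConnected (Spec.map (CommRingCat.ofHom (algebraMap k K))) := by
  haveI := geometricallyIrreducible_specMap_of_isSepClosed k K
  refine ⟨geometrically_iff_of_commRing_of_isClosedUnderIsomorphisms.mpr fun L _ _ => ?_⟩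
  haveI : IrreducibleSpace ↥(pullback (Spec.map (CommRingCat.ofHom (algebraMap k K)))
      (Spec.map (CommRingCat.ofHom (algebraMap k L)))) :=
    GeometricallyIrreducible.geometrically_irreducibleSpace
      (f := Spec.map (CommRingCat.ofHom (algebraMap k K)))
      (Spec.map (CommRingCat.ofHom (algebraMap k L))) _ _ (IsPullback.of_hasPullback _ _)
  infer_instance

variable (k : Type u) [Field k] (X : Scheme.{u}) [X.Over (Spec (CommRingCat.of k))]

/-- S1559 -/
theorem geometricallyConnected_of_sepClosure
    [ConnectedSpace (Curv2.bc k X (SeparableClosure k))] :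
    GeometricallyConnected (X ↘ (Spec (CommRingCat.of k))) := by
  refine ⟨geometrically_iff_of_commRing_of_isClosedUnderIsomorphisms.mpr fun K _ _ => ?_⟩
  let p := X ↘ (Spec (CommRingCat.of k))
  let φ : SeparableClosure k →ₐ[k] AlgebraicClosure K := IsAlgClosed.lift
  letI : Algebra (SeparableClosure k) (AlgebraicClosure K) := φ.toRingHom.toAlgebra
  haveI : IsScalarTower k (SeparableClosure k) (AlgebraicClosure K) :=
    IsScalarTower.of_algebraMap_eq fun x => (φ.commutes x).symm
  haveI : ConnectedSpace (BC p (SeparableClosure k)) :=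
    ‹ConnectedSpace (Curv2.bc k X (SeparableClosure k))›
  haveI := geometricallyConnected_specMap_of_isSepClosed (SeparableClosure k)
    (AlgebraicClosure K)
  haveI h1 : ConnectedSpace (BC (BC.snd p (SeparableClosure k)) (AlgebraicClosure K)) :=
    inferInstance
  haveI h2 : ConnectedSpace (BC p (AlgebraicClosure K)) :=
    (tauIso p (SeparableClosure k) (AlgebraicClosure K)).hom.homeomorph.connectedSpace_iff.mpr h1
  have hs : Function.Surjective (bcMap p K (AlgebraicClosure K)) := by
    have := Groth.Agent.H25.GeomPtInt.surjective_bcFst (BC.snd p K) (AlgebraicClosure K)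
    intro y
    obtain ⟨z, hz⟩ := this.surj y
    refine ⟨(tauIso p K (AlgebraicClosure K)).inv z, ?_⟩
    rw [← Scheme.Hom.comp_apply, tauIso_inv_bcMap]
    exact hz
  exact Function.Surjective.connectedSpace hs (bcMap p K (AlgebraicClosure K)).continuous

end Groth.Agent.H25.SepIrr
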