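import Mathlib
import Groth.Prelude.Def_FDesc
import Groth.Prelude.Def_Curv2
import Groth.Agent.H25.BCTower
import Groth.Agent.H25.SepIrr
import Groth.Agent.H25.SepConn
import Groth.Agent.H25.GeomPtInt
import Groth.Agent.S1546

set_option autoImplicit false
universe u
open CategoryTheory CategoryTheory.Limits AlgebraicGeometry TensorProduct

namespace Groth.Agent.H25.CompCount

open Groth.Agent.H25.BCTower

/-- two field extensions have a common extension -/
theorem exists_common_extension (k K K' : Type u) [Field k] [Field K] [Field K'] [Algebra k K]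
    [Algebra k K'] :
    ∃ (L : Type u) (_ : Field L) (_ : Algebra k L) (_ : Algebra K L) (_ : Algebra K' L),
      IsScalarTower k K L ∧ IsScalarTower k K' L := by
  obtain ⟨m, hm⟩ := Ideal.exists_maximal (K ⊗[k] K')
  letI := Ideal.Quotient.field m
  let q : K ⊗[k] K' →ₐ[k] (K ⊗[k] K') ⧸ m := Ideal.Quotient.mkₐ k m
  let φ₁ : K →ₐ[k] (K ⊗[k] K') ⧸ m := q.comp Algebra.TensorProduct.includeLeft
  let φ₂ : K' →ₐ[k] (K ⊗[k] K') ⧸ m := q.comp Algebra.TensorProduct.includeRight
  refine ⟨(K ⊗[k] K') ⧸ m, inferInstance, inferInstance, φ₁.toRingHom.toAlgebra,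
    φ₂.toRingHom.toAlgebra, ?_, ?_⟩
  · letI := φ₁.toRingHom.toAlgebra
    exact IsScalarTower.of_algebraMap_eq fun x => (φ₁.commutes x).symm
  · letI := φ₂.toRingHom.toAlgebra
    exact IsScalarTower.of_algebraMap_eq fun x => (φ₂.commutes x).symm

/-- homeomorphic spaces have the same number of irreducible components -/
theorem mk_irreducibleComponents_homeomorph {A B : Type u} [TopologicalSpace A] [TopologicalSpace B]
    (e : A ≃ₜ B) :
    Cardinal.mk ↥(irreducibleComponents A) = Cardinal.mk ↥(irreducibleComponents B) := by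
  refine Cardinal.mk_congr (irreducibleComponentsEquivOfIsPreirreducibleFiber e e.continuous
    e.isOpenMap (fun x => ?_) e.surjective).toEquiv.symm
  exact (Set.subsingleton_singleton.preimage e.injective).isPreirreducible

variable {k : Type u} [Field k] {X : Scheme.{u}} (p : X ⟶ Spec (CommRingCat.of k))

/-- `#irr(X) ≤ #irr(X_K)` -/
theorem mk_irreducibleComponents_le_bc (K : Type u) [Field K] [Algebra k K] :
    Cardinal.mk ↥(irreducibleComponents X) ≤ Cardinal.mk ↥(irreducibleComponents ↥(BC p K)) := by
  letI : X.Over (Spec (CommRingCat.of k)) := ⟨p⟩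
  obtain ⟨h1, h2⟩ := Groth.Agent.S1546.result k X K
  let F : ↥(irreducibleComponents ↥(BC p K)) → ↥(irreducibleComponents X) :=
    fun T => ⟨_, h1 T.1 T.2⟩
  refine Cardinal.mk_le_of_surjective (f := F) ?_
  rintro ⟨Z, hZ⟩
  obtain ⟨T, hT, hTZ⟩ := h2 Z hZ
  exact ⟨⟨T, hT⟩, Subtype.ext hTZ⟩

/-- over a separably closed field the number of irreducible components is invariant -/
theorem mk_irreducibleComponents_bc_of_isSepClosed [IsSepClosed k] (K : Type u) [Field K]
    [Algebra k K] :
    Cardinal.mk ↥(irreducibleComponents ↥(BC p K)) = Cardinal.mk ↥(irreducibleComponents X) := by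
  haveI := Groth.Agent.H25.SepIrr.geometricallyIrreducible_specMap_of_isSepClosed k K
  haveI : GeometricallyIrreducible (BC.fst p K) := inferInstance
  have hopen : IsOpenMap (BC.fst p K) :=
    (pullback.fst p (Spec.map (CommRingCat.ofHom (algebraMap k K)))).isOpenMap
  exact Cardinal.mk_congr (Scheme.Hom.irreducibleComponentsEquiv (BC.fst p K) hopen)

/-- S4617 -/
theorem mk_irreducibleComponents_bc_le (K Ω : Type u) [Field K] [Algebra k K] [Field Ω]
    [Algebra k Ω] [IsSepClosed Ω] :
    Cardinal.mk ↥(irreducibleComponents ↥(BC p K)) ≤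
      Cardinal.mk ↥(irreducibleComponents ↥(BC p Ω)) := by
  obtain ⟨L, _, _, _, _, _, _⟩ := exists_common_extension k K Ω
  calc Cardinal.mk ↥(irreducibleComponents ↥(BC p K))
      ≤ Cardinal.mk ↥(irreducibleComponents ↥(BC (BC.snd p K) L)) :=
        mk_irreducibleComponents_le_bc (BC.snd p K) L
    _ = Cardinal.mk ↥(irreducibleComponents ↥(BC p L)) :=
        (mk_irreducibleComponents_homeomorph (tauIso p K L).hom.homeomorph).symm
    _ = Cardinal.mk ↥(irreducibleComponents ↥(BC (BC.snd p Ω) L)) :=
        mk_irreducibleComponents_homeomorph (tauIso p Ω L).hom.homeomorph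
    _ = Cardinal.mk ↥(irreducibleComponents ↥(BC p Ω)) :=
        mk_irreducibleComponents_bc_of_isSepClosed (BC.snd p Ω) L

/-- homeomorphic spaces have the same number of connected components -/
theorem mk_connectedComponents_homeomorph {A B : Type u} [TopologicalSpace A] [TopologicalSpace B]
    (e : A ≃ₜ B) :
    Cardinal.mk (_root_.ConnectedComponents A) = Cardinal.mk (_root_.ConnectedComponents B) :=
  le_antisymm
    (Cardinal.mk_le_of_surjective
      (e.symm.continuous.connectedComponentsMap_surjective e.symm.surjective))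
    (Cardinal.mk_le_of_surjective (e.continuous.connectedComponentsMap_surjective e.surjective))

/-- `#π₀(X) ≤ #π₀(X_K)` -/
theorem mk_connectedComponents_le_bc (K : Type u) [Field K] [Algebra k K] :
    Cardinal.mk (_root_.ConnectedComponents X) ≤
      Cardinal.mk (_root_.ConnectedComponents ↥(BC p K)) :=
  Cardinal.mk_le_of_surjective ((BC.fst p K).continuous.connectedComponentsMap_surjective
    (Groth.Agent.H25.GeomPtInt.surjective_bcFst p K).surj)

/-- over a separably closed field the number of connected components is invariant -/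
theorem mk_connectedComponents_bc_of_isSepClosed [IsSepClosed k] (K : Type u) [Field K]
    [Algebra k K] :
    Cardinal.mk (_root_.ConnectedComponents ↥(BC p K)) =
      Cardinal.mk (_root_.ConnectedComponents X) := by
  haveI := Groth.Agent.H25.SepIrr.geometricallyConnected_specMap_of_isSepClosed k K
  haveI : GeometricallyConnected (BC.fst p K) := inferInstance
  have hopen : IsOpenMap (BC.fst p K) :=
    (pullback.fst p (Spec.map (CommRingCat.ofHom (algebraMap k K)))).isOpenMap
  exact Cardinal.mk_congr (Scheme.Hom.connectedComponentsHomeomorph (BC.fst p K) hopen).toEquiv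

/-- S4618 -/
theorem mk_connectedComponents_bc_le (K Ω : Type u) [Field K] [Algebra k K] [Field Ω]
    [Algebra k Ω] [IsSepClosed Ω] :
    Cardinal.mk (_root_.ConnectedComponents ↥(BC p K)) ≤
      Cardinal.mk (_root_.ConnectedComponents ↥(BC p Ω)) := by
  obtain ⟨L, _, _, _, _, _, _⟩ := exists_common_extension k K Ω
  calc Cardinal.mk (_root_.ConnectedComponents ↥(BC p K))
      ≤ Cardinal.mk (_root_.ConnectedComponents ↥(BC (BC.snd p K) L)) :=
        mk_connectedComponents_le_bc (BC.snd p K) L
    _ = Cardinal.mk (_root_.ConnectedComponents ↥(BC p L)) :=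
        (mk_connectedComponents_homeomorph (tauIso p K L).hom.homeomorph).symm
    _ = Cardinal.mk (_root_.ConnectedComponents ↥(BC (BC.snd p Ω) L)) :=
        mk_connectedComponents_homeomorph (tauIso p Ω L).hom.homeomorph
    _ = Cardinal.mk (_root_.ConnectedComponents ↥(BC p Ω)) :=
        mk_connectedComponents_bc_of_isSepClosed (BC.snd p Ω) L

end Groth.Agent.H25.CompCount
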