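import Mathlib
import Groth.Agent.H24.UnivOpen

set_option autoImplicit false
open CategoryTheory AlgebraicGeometry CategoryTheory.Limits TopologicalSpace
universe u

namespace Groth.Agent.H25.CompDom

/-- The reduced induced closed subscheme on the closure of a point is irreducible. -/
theorem irreducibleSpace_subscheme_closure {A : Scheme.{u}} (a : A) :
    IrreducibleSpace ((Scheme.IdealSheafData.vanishingIdeal (Closeds.closure {a})).subscheme) := by
  set I := Scheme.IdealSheafData.vanishingIdeal (Closeds.closure {a}) with hI
  have hr : Set.range I.subschemeι = closure {a} := by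
    rw [Scheme.IdealSheafData.range_subschemeι, hI,
      Scheme.IdealSheafData.coe_support_vanishingIdeal]
    simp
  have hirr : IsIrreducible (Set.range I.subschemeι) := by
    rw [hr]; exact isIrreducible_singleton.closure
  have hemb : Topology.IsEmbedding I.subschemeι := I.subschemeι.isEmbedding
  haveI := Subtype.irreducibleSpace hirr
  exact (hemb.toHomeomorph.irreducibleSpace_iff).mpr inferInstance

theorem range_subschemeι_closure {A : Scheme.{u}} (a : A) :
    Set.range (Scheme.IdealSheafData.vanishingIdeal (Closeds.closure {a})).subschemeι =
      closure {a} := by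
  rw [Scheme.IdealSheafData.range_subschemeι,
    Scheme.IdealSheafData.coe_support_vanishingIdeal]
  simp

/-- Key step: generalizing for a base change `f_A : X ×_Y A → A` when the components of
`X ×_Y Z` dominate `Z` for `Z` the closure of the generization. -/
theorem generalizing_of_components_dominate {X Y A : Scheme.{u}} (f : X ⟶ Y) (p : A ⟶ Y)
    (h : ∀ a : A, ∀ Z ∈ irreducibleComponents
        (↥(pullback f ((Scheme.IdealSheafData.vanishingIdeal (Closeds.closure {a})).subschemeι ≫ p))),
      Dense ((pullback.snd f
        ((Scheme.IdealSheafData.vanishingIdeal (Closeds.closure {a})).subschemeι ≫ p)).base '' Z)) :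
    GeneralizingMap (pullback.snd f p).base := by
  intro x a ha
  set I := Scheme.IdealSheafData.vanishingIdeal (Closeds.closure {a}) with hI
  set ι := I.subschemeι with hι
  haveI : IrreducibleSpace I.subscheme := irreducibleSpace_subscheme_closure a
  -- the point of `Y'` over `snd x`
  have hmem : (pullback.snd f p).base x ∈ Set.range ι := by
    rw [hι, hI, range_subschemeι_closure]
    exact ha.mem_closure
  obtain ⟨y', hy'⟩ := hmem
  -- the comparison map
  let q : pullback f (ι ≫ p) ⟶ pullback f p :=
    pullback.lift (pullback.fst f (ι ≫ p)) (pullback.snd f (ι ≫ p) ≫ ι)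
      (by rw [pullback.condition, Category.assoc])
  have hq1 : q ≫ pullback.fst f p = pullback.fst f (ι ≫ p) := pullback.lift_fst _ _ _
  have hq2 : q ≫ pullback.snd f p = pullback.snd f (ι ≫ p) ≫ ι := pullback.lift_snd _ _ _
  have sq : IsPullback q (pullback.snd f (ι ≫ p)) (pullback.snd f p) ι := by
    refine IsPullback.of_right ?_ hq2 (IsPullback.of_hasPullback f p)
    rw [hq1]
    exact IsPullback.of_hasPullback f (ι ≫ p)
  obtain ⟨z, hz1, hz2⟩ := Scheme.exists_preimage_of_isPullback sq x y' hy'.symm
  -- the component through z
  have hZ := irreducibleComponent_mem_irreducibleComponents z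
  have hdense := h a _ hZ
  -- generic point of the component
  have hirrZ : IsIrreducible (irreducibleComponent z) := isIrreducible_irreducibleComponent
  have hclZ : IsClosed (irreducibleComponent z) := isClosed_irreducibleComponent
  set ξ := hirrZ.genericPoint with hξ
  have hgen : IsGenericPoint ξ (irreducibleComponent z) := by
    have := hirrZ.isGenericPoint_genericPoint_closure
    rwa [hclZ.closure_eq] at this
  have hξz : ξ ⤳ z := by
    rw [specializes_iff_mem_closure, hgen.def]
    exact mem_irreducibleComponent
  -- image of ξ is the generic point of Y'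
  have hdense' : Dense ({(pullback.snd f (ι ≫ p)).base ξ} : Set I.subscheme) := by
    rw [dense_iff_closure_eq, ← Set.image_singleton]
    apply Set.eq_univ_of_univ_subset
    rw [← hdense.closure_eq]
    apply closure_minimal _ isClosed_closure
    rw [← hgen.def]
    exact image_closure_subset_closure_image (pullback.snd f (ι ≫ p)).continuous
  obtain ⟨a0, ha0⟩ : a ∈ Set.range ι := by
    rw [hι, hI, range_subschemeι_closure]; exact subset_closure rfl
  have hιξ : ι.base ((pullback.snd f (ι ≫ p)).base ξ) = a := by
    apply (Specializes.antisymm _ _).eq
    · have : (pullback.snd f (ι ≫ p)).base ξ ⤳ a0 := by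
        rw [specializes_iff_mem_closure, hdense'.closure_eq]; trivial
      rw [← ha0]
      exact this.map ι.continuous
    · rw [specializes_iff_mem_closure, ← range_subschemeι_closure a]
      exact ⟨_, rfl⟩
  refine ⟨q.base ξ, ?_, ?_⟩
  · rw [← hz1]; exact hξz.map q.continuous
  · have := congrArg (fun g => g.base ξ) hq2
    simpa [hιξ] using this

end Groth.Agent.H25.CompDom

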