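import Mathlib
import Groth.Prelude.Def_FDesc
import Groth.Prelude.Def_Curv2
import Groth.Agent.H25.GenFibre

set_option autoImplicit false
universe u
open CategoryTheory CategoryTheory.Limits AlgebraicGeometry TensorProduct

namespace Groth.Agent.H25.ResProp

variable {k : Type u} [Field k] {X : Scheme.{u}}

/-- the ring map in `FBase.ResidueFieldProp` is the canonical one -/
theorem eq_resMap (f : X ⟶ Spec (CommRingCat.of k)) (x : X) (φ : k →+* X.residueField x)
    (h : Spec.map (CommRingCat.ofHom φ) = X.fromSpecResidueField x ≫ f) :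
    letI : X.Over (Spec (CommRingCat.of k)) := ⟨f⟩
    φ = Curv2.resMap k X x := by
  letI : X.Over (Spec (CommRingCat.of k)) := ⟨f⟩
  have h1 := Groth.Agent.H25.GenFibre.fromSpecResidueField_comp k X x
  have h2 : Spec.map (CommRingCat.ofHom φ) =
      Spec.map (CommRingCat.ofHom (Curv2.resMap k X x)) := by
    rw [h]; exact h1
  have h3 := Spec.map_injective h2
  exact congrArg (fun g => g.hom) h3

theorem residueFieldProp_iff (f : X ⟶ Spec (CommRingCat.of k)) (x : X)
    (P : ∀ (K : Type u) [Field K] [Algebra k K], Prop) :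
    FBase.ResidueFieldProp f x P ↔
      (letI : X.Over (Spec (CommRingCat.of k)) := ⟨f⟩
       letI := Curv2.resAlgebra k X x
       P (X.residueField x)) := by
  letI : X.Over (Spec (CommRingCat.of k)) := ⟨f⟩
  constructor
  · rintro ⟨φ, h, hP⟩
    have := eq_resMap f x φ h
    subst this
    exact hP
  · intro hP
    exact ⟨Curv2.resMap k X x, (Groth.Agent.H25.GenFibre.fromSpecResidueField_comp k X x).symm, hP⟩

end Groth.Agent.H25.ResProp
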