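import Mathlib
import Groth.Prelude.Def_Curv2
import Groth.Agent.H25.ResProp
import Groth.Agent.H37.GalPts2
import Groth.Agent.H38.AlgClosureFG

set_option autoImplicit false
universe u
open CategoryTheory CategoryTheory.Limits AlgebraicGeometry TensorProduct
attribute [local instance] Curv2.resAlgebra

namespace Groth.Agent.H25.FTResidue

variable (k : Type u) [Field k] (X : Scheme.{u}) [X.Over (Spec (CommRingCat.of k))]
  [LocallyOfFiniteType (X ↘ Spec (CommRingCat.of k))]

/-- residue fields of a locally finite type `k`-scheme are finitely generated field extensions -/
theorem essFiniteType_residueField (x : X) : Algebra.EssFiniteType k (X.residueField x) := by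
  have h1 := Groth.Agent.H37.essFiniteType_resStr (X ↘ Spec (CommRingCat.of k)) x
  have h2 : (Groth.Agent.H37.resStr (X ↘ Spec (CommRingCat.of k)) x).hom = Curv2.resMap k X x := by
    have := Groth.Agent.H25.ResProp.eq_resMap (X ↘ Spec (CommRingCat.of k)) x
      (Groth.Agent.H37.resStr (X ↘ Spec (CommRingCat.of k)) x).hom
      (Groth.Agent.H37.SpecMap_resStr (X ↘ Spec (CommRingCat.of k)) x)
    exact this
  rw [h2] at h1
  exact h1

theorem finiteDimensional_separableClosure (x : X) :
    FiniteDimensional k (separableClosure k (X.residueField x)) := by
  haveI := essFiniteType_residueField k X x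
  haveI := Groth.Agent.H38.AlgClosureFG.finiteDimensional_algebraicClosure k (X.residueField x)
  have hle : separableClosure k (X.residueField x) ≤ algebraicClosure k (X.residueField x) :=
    fun a ha => mem_algebraicClosure_iff.mpr (mem_separableClosure_iff.mp ha).isIntegral.isAlgebraic
  exact FiniteDimensional.of_injective (IntermediateField.inclusion hle).toLinearMap
    (IntermediateField.inclusion hle).injective

end Groth.Agent.H25.FTResidue
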