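import Mathlib
import Groth.Prelude.Def_Curv2
import Groth.Agent.H25.GenFibre
import Groth.Agent.H25.GeomPtInt

set_option autoImplicit false
universe u
open CategoryTheory CategoryTheory.Limits AlgebraicGeometry TensorProduct
attribute [local instance] Curv2.resAlgebra

namespace Groth.Agent.H25.GenFibreCount

section Top

variable {Y X : Type*} [TopologicalSpace Y] [TopologicalSpace X]

theorem closure_singleton_mem_irreducibleComponents [QuasiSober Y] [T0Space X] {π : Y → X}
    (hπ : Continuous π) {ξ : X} (hξ : IsGenericPoint ξ (Set.univ : Set X))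
    (hT1 : ∀ z z' : Y, π z = ξ → π z' = ξ → z ⤳ z' → z = z') (z : Y) (hz : π z = ξ) :
    closure {z} ∈ irreducibleComponents Y := by
  refine ⟨isIrreducible_singleton.closure, ?_⟩
  intro s hs hzs
  have hs' : IsIrreducible (closure s) := hs.closure
  obtain ⟨η, hη⟩ := QuasiSober.sober hs' isClosed_closure
  have h1 : η ⤳ z := by
    rw [specializes_iff_mem_closure, hη.def]
    exact subset_closure (hzs (subset_closure rfl))
  have h2 : π η ⤳ ξ := hz ▸ h1.map hπ
  have h3 : ξ ⤳ π η := hξ.specializes (Set.mem_univ _)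
  have h4 : π η = ξ := (h2.antisymm h3).eq
  have h5 : η = z := hT1 η z h4 hz h1
  rw [← h5, hη.def]
  exact subset_closure

theorem exists_generic_over [QuasiSober Y] [T0Space Y] {π : Y → X} (hgen : GeneralizingMap π)
    {ξ : X} (hξ : IsGenericPoint ξ (Set.univ : Set X)) (Z : Set Y)
    (hZ : Z ∈ irreducibleComponents Y) :
    ∃ z, π z = ξ ∧ closure {z} = Z := by
  obtain ⟨η, hη⟩ := QuasiSober.sober hZ.1 (isClosed_of_mem_irreducibleComponents Z hZ)
  have h3 : ξ ⤳ π η := hξ.specializes (Set.mem_univ _)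
  obtain ⟨η', hη', hπη'⟩ := hgen h3
  have h1 : Z ⊆ closure {η'} := by
    rw [← hη.def]
    exact closure_minimal (Set.singleton_subset_iff.mpr (specializes_iff_mem_closure.mp hη'))
      isClosed_closure
  have h2 : closure {η'} ⊆ Z := hZ.2 isIrreducible_singleton.closure h1
  have h4 : closure {η'} = Z := subset_antisymm h2 h1
  exact ⟨η', hπη', h4⟩

theorem card_irreducibleComponents_eq [QuasiSober Y] [T0Space Y] [T0Space X] {π : Y → X}
    (hπ : Continuous π) (hgen : GeneralizingMap π)
    {ξ : X} (hξ : IsGenericPoint ξ (Set.univ : Set X))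
    (hT1 : ∀ z z' : Y, π z = ξ → π z' = ξ → z ⤳ z' → z = z') :
    Nat.card ↥(irreducibleComponents Y) = Nat.card ↥(π ⁻¹' {ξ}) := by
  symm
  let F : ↥(π ⁻¹' {ξ}) → ↥(irreducibleComponents Y) := fun z =>
    ⟨closure {z.1}, closure_singleton_mem_irreducibleComponents hπ hξ hT1 z.1 z.2⟩
  refine Nat.card_congr (Equiv.ofBijective F ⟨?_, ?_⟩)
  · intro z z' h
    have h1 : closure {z.1} = closure {z'.1} := congrArg Subtype.val h
    have h2 : IsGenericPoint z.1 (closure {z'.1}) := h1 ▸ isGenericPoint_closure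
    exact Subtype.ext (h2.eq isGenericPoint_closure)
  · rintro ⟨Z, hZ⟩
    obtain ⟨z, hz, hzZ⟩ := exists_generic_over hgen hξ Z hZ
    exact ⟨⟨z, hz⟩, Subtype.ext hzZ⟩

end Top

section Alg

theorem isMaximal_of_isPrime_tensor {k K L : Type u} [Field k] [Field K] [Field L] [Algebra k K]
    [Algebra k L] [Algebra.IsAlgebraic k L] (p : Ideal (K ⊗[k] L)) [p.IsPrime] : p.IsMaximal := by
  haveI : Algebra.IsIntegral k L := Algebra.IsAlgebraic.isIntegral
  apply Ideal.isMaximal_of_isIntegral_of_isMaximal_comap (R := K) p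
  haveI : (Ideal.comap (algebraMap K (K ⊗[k] L)) p).IsPrime := inferInstance
  exact Ideal.IsPrime.isMaximal' inferInstance

end Alg

variable (k : Type u) [Field k] (X : Scheme.{u}) [X.Over (Spec (CommRingCat.of k))]
  (L : Type u) [Field L] [Algebra k L]

/-- the fibre of `X_L → X` over `x` is homeomorphic to `Spec (κ(x) ⊗[k] L)` -/
noncomputable def fibreHomeo (x : X) :
    ↥((Curv2.bcFst k X L).base ⁻¹' {x}) ≃ₜ PrimeSpectrum (X.residueField x ⊗[k] L) :=
  ((Curv2.bcFst k X L).fiberHomeo x).symm.trans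
    (Groth.Agent.H25.GenFibre.fiberIso k X L x).hom.homeomorph

theorem eq_of_specializes_of_fibre [Algebra.IsAlgebraic k L] (x : X)
    (z z' : ↥(Curv2.bc k X L)) (hz : (Curv2.bcFst k X L).base z = x)
    (hz' : (Curv2.bcFst k X L).base z' = x) (h : z ⤳ z') : z = z' := by
  let a : ↥((Curv2.bcFst k X L).base ⁻¹' {x}) := ⟨z, hz⟩
  let a' : ↥((Curv2.bcFst k X L).base ⁻¹' {x}) := ⟨z', hz'⟩
  have h1 : a ⤳ a' := Topology.IsInducing.subtypeVal.specializes_iff.mp h
  have h2 : fibreHomeo k X L x a ⤳ fibreHomeo k X L x a' := h1.map (fibreHomeo k X L x).continuous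
  rw [← PrimeSpectrum.le_iff_specializes] at h2
  haveI := isMaximal_of_isPrime_tensor (fibreHomeo k X L x a).asIdeal
  have h3 : (fibreHomeo k X L x a).asIdeal = (fibreHomeo k X L x a').asIdeal :=
    Ideal.IsMaximal.eq_of_le inferInstance (fibreHomeo k X L x a').2.ne_top h2
  have h4 : a = a' := (fibreHomeo k X L x).injective (PrimeSpectrum.ext h3)
  exact congrArg Subtype.val h4

theorem card_fibre (x : X) :
    Nat.card ↥((Curv2.bcFst k X L).base ⁻¹' {x}) =
      Nat.card (PrimeSpectrum (X.residueField x ⊗[k] L)) :=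
  Nat.card_congr (fibreHomeo k X L x).toEquiv

/-- number of irreducible components of `X_L` for `X` irreducible and `L/k` algebraic -/
theorem card_irreducibleComponents_bc [IrreducibleSpace X] [Algebra.IsAlgebraic k L] :
    Nat.card ↥(irreducibleComponents ↥(Curv2.bc k X L)) =
      Nat.card (PrimeSpectrum (X.residueField (genericPoint X) ⊗[k] L)) := by
  rw [← card_fibre]
  haveI : Flat (Curv2.bcFst k X L) :=
    Groth.Agent.H25.GeomPtInt.flat_bcFst (X ↘ Spec (CommRingCat.of k)) L
  exact card_irreducibleComponents_eq (Curv2.bcFst k X L).continuous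
    (Flat.generalizingMap _) (by simpa using genericPoint_spec X)
    (eq_of_specializes_of_fibre k X L (genericPoint X))

end Groth.Agent.H25.GenFibreCount
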