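import Mathlib
import Groth.Agent.H48.SepClosedIn

/-!
# Counting primes of `K ⊗[k] L` for `L/k` normal

`E/k` finite separable, `E` separably closed in `K`, `L/k` normal algebraic in which all minimal
polynomials of elements of `E` split: `Spec (K ⊗[k] L)` is in bijection with `E →ₐ[k] L`, hence has
`[E : k]` points.
-/

set_option autoImplicit false
universe u
open TensorProduct

namespace Groth.Agent.H25.SepTensorCount

section Unique

variable {E K L : Type u} [Field E] [Field K] [Field L] [Algebra E K] [Algebra E L]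

/-- If `E` is separably closed in `K` and `L/E` is algebraic then `K ⊗[E] L` has a unique prime. -/
theorem primeSpectrum_subsingleton
    (hK : ∀ α : K, IsSeparable E α → α ∈ Set.range (algebraMap E K))
    [Algebra.IsAlgebraic E L] :
    Subsingleton (PrimeSpectrum (K ⊗[E] L)) := by
  haveI h1 : IrreducibleSpace (PrimeSpectrum (L ⊗[E] K)) :=
    (Groth.Agent.H48.geomIrr_iff_sepClosedIn (k := E) (K := K)).mpr hK L
  haveI h2 : IrreducibleSpace (PrimeSpectrum (K ⊗[E] L)) :=
    (PrimeSpectrum.homeomorphOfRingEquiv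
      (Algebra.TensorProduct.comm E K L).toRingEquiv).irreducibleSpace_iff.mpr h1
  have hnil : (nilradical (K ⊗[E] L)).IsPrime :=
    PrimeSpectrum.irreducibleSpace_iff_isPrime_nilradical.mp h2
  haveI : Algebra.IsIntegral E L := Algebra.IsAlgebraic.isIntegral
  have hmax : ∀ p : PrimeSpectrum (K ⊗[E] L), p.asIdeal.IsMaximal := by
    intro p
    apply Ideal.isMaximal_of_isIntegral_of_isMaximal_comap (R := K) p.asIdeal
    haveI : (Ideal.comap (algebraMap K (K ⊗[E] L)) p.asIdeal).IsPrime := inferInstance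
    exact Ideal.IsPrime.isMaximal' inferInstance
  have hnilmax : (nilradical (K ⊗[E] L)).IsMaximal := hmax ⟨_, hnil⟩
  have heq : ∀ p : PrimeSpectrum (K ⊗[E] L), p.asIdeal = nilradical (K ⊗[E] L) := by
    intro p
    exact (hnilmax.eq_of_le p.2.ne_top (nilradical_le_prime p.asIdeal)).symm
  exact ⟨fun p p' => PrimeSpectrum.ext ((heq p).trans (heq p').symm)⟩

end Unique

section RelDef

variable {k E K L : Type u} [Field k] [Field E] [Field K] [Field L]
  [Algebra k E] [Algebra E K] [Algebra k K] [Algebra k L]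

/-- the relation between primes of `K ⊗[k] L` and `k`-embeddings `E → L` -/
def Rel (q : Ideal (K ⊗[k] L)) (σ : E →ₐ[k] L) : Prop :=
  ∀ a : E, (algebraMap E K a) ⊗ₜ[k] (1 : L) - (1 : K) ⊗ₜ[k] σ a ∈ q

end RelDef

section Rel

variable {k E K L : Type u} [Field k] [Field E] [Field K] [Field L]
  [Algebra k E] [Algebra E K] [Algebra k K] [IsScalarTower k E K] [Algebra k L]

omit [IsScalarTower k E K] in
theorem rel_unique_hom (q : Ideal (K ⊗[k] L)) (hq : q ≠ ⊤)
    (σ τ : E →ₐ[k] L) (hσ : Rel q σ) (hτ : Rel q τ) : σ = τ := by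
  ext a
  by_contra hne
  have h1 : (1 : K) ⊗ₜ[k] (σ a - τ a) ∈ q := by
    have := q.sub_mem (hτ a) (hσ a)
    convert this using 1
    rw [TensorProduct.tmul_sub]; ring
  have hu : IsUnit ((1 : K) ⊗ₜ[k] (σ a - τ a)) := by
    have : IsUnit (σ a - τ a) := (sub_ne_zero.mpr hne).isUnit
    exact this.map (Algebra.TensorProduct.includeRight : L →ₐ[k] K ⊗[k] L)
  exact hq (q.eq_top_of_isUnit_mem h1 hu)

theorem exists_rel [Algebra.IsAlgebraic k E] (q : Ideal (K ⊗[k] L)) [q.IsPrime]
    (hsplit : ∀ a : E, ((minpoly k a).map (algebraMap k L)).Splits) :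
    ∃ σ : E →ₐ[k] L, Rel q σ := by
  let iK : K →ₐ[k] (K ⊗[k] L) ⧸ q :=
    (Ideal.Quotient.mkₐ k q).comp Algebra.TensorProduct.includeLeft
  let iL : L →ₐ[k] (K ⊗[k] L) ⧸ q :=
    (Ideal.Quotient.mkₐ k q).comp Algebra.TensorProduct.includeRight
  have hinj : Function.Injective iL := iL.toRingHom.injective
  let j : E →ₐ[k] (K ⊗[k] L) ⧸ q := iK.comp (IsScalarTower.toAlgHom k E K)
  have hmem : ∀ a : E, j a ∈ iL.range := by
    intro a
    have hint : IsIntegral k a := Algebra.IsIntegral.isIntegral a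
    have hne : (minpoly k a).map (algebraMap k L) ≠ 0 :=
      Polynomial.map_ne_zero (minpoly.ne_zero hint)
    have hroot : (((minpoly k a).map (algebraMap k L)).map iL.toRingHom).IsRoot (j a) := by
      rw [Polynomial.map_map, Polynomial.IsRoot.def, Polynomial.eval_map]
      have : iL.toRingHom.comp (algebraMap k L) = algebraMap k ((K ⊗[k] L) ⧸ q) :=
        iL.comp_algebraMap
      rw [this, ← Polynomial.aeval_def, Polynomial.aeval_algHom_apply, minpoly.aeval, map_zero]
    obtain ⟨l, hl⟩ := (hsplit a).mem_range_of_isRoot hne hroot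
    exact ⟨l, hl⟩
  let σ : E →ₐ[k] L :=
    ((AlgEquiv.ofInjective iL hinj).symm : iL.range →ₐ[k] L).comp (j.codRestrict iL.range hmem)
  refine ⟨σ, fun a => ?_⟩
  have h1 : iL (σ a) = j a := by
    have := (AlgEquiv.ofInjective iL hinj).apply_symm_apply (j.codRestrict iL.range hmem a)
    exact congrArg Subtype.val this
  rw [← Ideal.Quotient.eq]
  exact h1.symm

end Rel

section Factor

variable {k E K L : Type u} [Field k] [Field E] [Field K] [Field L]
  [Algebra k E] [Algebra E K] [Algebra k K] [IsScalarTower k E K] [Algebra k L]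

variable [Algebra E L] [IsScalarTower k E L]

variable (k E K L) in
/-- canonical surjection `K ⊗[k] L → K ⊗[E] L` -/
noncomputable abbrev can : K ⊗[k] L →ₐ[k] K ⊗[E] L :=
  Algebra.TensorProduct.mapOfCompatibleSMul E k k K L

theorem rel_comap (P : Ideal (K ⊗[E] L)) :
    Rel (P.comap (can k E K L)) (IsScalarTower.toAlgHom k E L) := by
  intro a
  rw [Ideal.mem_comap, map_sub, Algebra.TensorProduct.mapOfCompatibleSMul_tmul,
    Algebra.TensorProduct.mapOfCompatibleSMul_tmul]
  have : (algebraMap E K a) ⊗ₜ[E] (1 : L) = (1 : K) ⊗ₜ[E] (algebraMap E L a) := by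
    rw [Algebra.algebraMap_eq_smul_one, Algebra.algebraMap_eq_smul_one, TensorProduct.smul_tmul]
  rw [IsScalarTower.coe_toAlgHom', this, sub_self]
  exact P.zero_mem

theorem exists_comap_of_rel (q : Ideal (K ⊗[k] L)) [q.IsPrime]
    (h : Rel q (IsScalarTower.toAlgHom k E L)) :
    ∃ P : Ideal (K ⊗[E] L), P.IsPrime ∧ q = P.comap (can k E K L) := by
  let iL : L →+* (K ⊗[k] L) ⧸ q :=
    (Ideal.Quotient.mk q).comp (Algebra.TensorProduct.includeRight : L →ₐ[k] K ⊗[k] L).toRingHom
  let iK' : K →ₐ[E] (K ⊗[k] L) ⧸ q :=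
    (Ideal.Quotient.mkₐ E q).comp (Algebra.TensorProduct.includeLeft : K →ₐ[E] K ⊗[k] L)
  have hcomm : ∀ a : E, iL (algebraMap E L a) = algebraMap E ((K ⊗[k] L) ⧸ q) a := by
    intro a
    show Ideal.Quotient.mk q ((1 : K) ⊗ₜ[k] algebraMap E L a) =
      Ideal.Quotient.mk q (algebraMap E K a ⊗ₜ[k] (1 : L))
    rw [eq_comm, Ideal.Quotient.eq]
    exact h a
  let iL' : L →ₐ[E] (K ⊗[k] L) ⧸ q := { iL with commutes' := hcomm }
  let ψ : K ⊗[E] L →ₐ[E] (K ⊗[k] L) ⧸ q :=
    Algebra.TensorProduct.lift iK' iL' (fun _ _ => Commute.all _ _)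
  have hψ : ∀ x : K ⊗[k] L, ψ (can k E K L x) = Ideal.Quotient.mk q x := by
    intro x
    induction x using TensorProduct.induction_on with
    | zero => simp
    | tmul a b =>
      rw [Algebra.TensorProduct.mapOfCompatibleSMul_tmul, Algebra.TensorProduct.lift_tmul]
      show Ideal.Quotient.mk q (a ⊗ₜ[k] (1 : L)) * Ideal.Quotient.mk q ((1 : K) ⊗ₜ[k] b) = _
      rw [← map_mul, Algebra.TensorProduct.tmul_mul_tmul, mul_one, one_mul]
    | add x y hx hy => rw [map_add, map_add, hx, hy, map_add]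
  refine ⟨RingHom.ker ψ.toRingHom, RingHom.ker_isPrime _, ?_⟩
  ext x
  rw [Ideal.mem_comap, RingHom.mem_ker]
  show x ∈ q ↔ ψ (can k E K L x) = 0
  rw [hψ, Ideal.Quotient.eq_zero_iff_mem]

end Factor

section Count

variable {k E K L : Type u} [Field k] [Field E] [Field K] [Field L]
  [Algebra k E] [Algebra E K] [Algebra k K] [IsScalarTower k E K] [Algebra k L]

/-- for each `σ` there is a unique prime related to it -/
theorem existsUnique_prime_of_hom
    (hK : ∀ α : K, IsSeparable E α → α ∈ Set.range (algebraMap E K))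
    [Algebra.IsAlgebraic k L] (σ : E →ₐ[k] L) :
    ∃! q : PrimeSpectrum (K ⊗[k] L), Rel q.asIdeal σ := by
  letI : Algebra E L := σ.toRingHom.toAlgebra
  haveI : IsScalarTower k E L := IsScalarTower.of_algebraMap_eq fun x => (σ.commutes x).symm
  haveI : Algebra.IsAlgebraic E L := Algebra.IsAlgebraic.tower_top (K := k) E
  have hσ : IsScalarTower.toAlgHom k E L = σ := by ext; rfl
  haveI := primeSpectrum_subsingleton (E := E) (K := K) (L := L) hK
  obtain ⟨P⟩ : Nonempty (PrimeSpectrum (K ⊗[E] L)) := inferInstance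
  refine ⟨⟨P.asIdeal.comap (can k E K L), inferInstance⟩, ?_, ?_⟩
  · show Rel _ σ
    rw [← hσ]
    exact rel_comap P.asIdeal
  · intro q hq
    rw [← hσ] at hq
    obtain ⟨P', hP', hqP'⟩ := exists_comap_of_rel q.asIdeal hq
    apply PrimeSpectrum.ext
    rw [hqP']
    have : (⟨P', hP'⟩ : PrimeSpectrum _) = P := Subsingleton.elim _ _
    rw [← this]

theorem splits_of_normal [Normal k L] (σ₀ : E →ₐ[k] L) (a : E) :
    ((minpoly k a).map (algebraMap k L)).Splits := by
  rw [← minpoly.algHom_eq σ₀ σ₀.injective a]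
  exact Normal.splits inferInstance (σ₀ a)

/-- the bijection `Spec (K ⊗[k] L) ≃ (E →ₐ[k] L)` -/
theorem exists_equiv [Algebra.IsAlgebraic k E] [Algebra.IsAlgebraic k L]
    (hK : ∀ α : K, IsSeparable E α → α ∈ Set.range (algebraMap E K))
    (hsplit : ∀ a : E, ((minpoly k a).map (algebraMap k L)).Splits) :
    ∃ e : PrimeSpectrum (K ⊗[k] L) ≃ (E →ₐ[k] L), ∀ q, Rel q.asIdeal (e q) := by
  have h1 : ∀ q : PrimeSpectrum (K ⊗[k] L), ∃ σ : E →ₐ[k] L, Rel q.asIdeal σ :=
    fun q => exists_rel q.asIdeal hsplit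
  choose Θ hΘ using h1
  refine ⟨Equiv.ofBijective Θ ⟨?_, ?_⟩, hΘ⟩
  · intro q q' h
    obtain ⟨q₀, -, huniq⟩ := existsUnique_prime_of_hom hK (Θ q)
    rw [huniq q (hΘ q), huniq q' (h ▸ hΘ q')]
  · intro σ
    obtain ⟨q, hq, -⟩ := existsUnique_prime_of_hom hK σ
    exact ⟨q, rel_unique_hom q.asIdeal q.2.ne_top _ _ (hΘ q) hq⟩

theorem card_primeSpectrum [FiniteDimensional k E] [Algebra.IsSeparable k E]
    [Algebra.IsAlgebraic k L]
    (hK : ∀ α : K, IsSeparable E α → α ∈ Set.range (algebraMap E K))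
    (hsplit : ∀ a : E, ((minpoly k a).map (algebraMap k L)).Splits) :
    Nat.card (PrimeSpectrum (K ⊗[k] L)) = Module.finrank k E := by
  rw [← AlgHom.natCard_of_splits k E L hsplit]
  obtain ⟨e, -⟩ := exists_equiv (K := K) hK hsplit
  exact Nat.card_congr e

end Count

end Groth.Agent.H25.SepTensorCount
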