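import Mathlib
import Groth.Prelude.Def_Curv2
import Groth.Agent.H25.GenFibreCount
import Groth.Agent.H25.SepTensorCount
import Groth.Agent.H25.BCTower
import Groth.Agent.H25.GeomPtInt
import Groth.Agent.H38.GalTower

set_option autoImplicit false
universe u
open CategoryTheory CategoryTheory.Limits AlgebraicGeometry TensorProduct
attribute [local instance] Curv2.resAlgebra

namespace Groth.Agent.H25.GeomIrrComp

open Groth.Agent.H25.BCTower

/-- finitely many finite separable extensions embed in a common finite Galois extension -/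
theorem exists_finite_galois {k : Type u} [Field k] {ι : Type*} [Finite ι] (E : ι → Type u)
    [∀ i, Field (E i)] [∀ i, Algebra k (E i)] [∀ i, FiniteDimensional k (E i)]
    [∀ i, Algebra.IsSeparable k (E i)] :
    ∃ (L : Type u) (_ : Field L) (_ : Algebra k L), FiniteDimensional k L ∧ IsGalois k L ∧
      ∀ i, Nonempty (E i →ₐ[k] L) := by
  let φ : ∀ i, E i →ₐ[k] SeparableClosure k := fun i => IsSepClosed.lift
  let F : ι → IntermediateField k (SeparableClosure k) := fun i => (φ i).fieldRange
  haveI : ∀ i, FiniteDimensional k (F i) := fun i => (φ i).toLinearMap.finiteDimensional_range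
  let S : IntermediateField k (SeparableClosure k) := ⨆ i, F i
  haveI : FiniteDimensional k S := IntermediateField.finiteDimensional_iSup_of_finite
  refine ⟨IntermediateField.normalClosure k S (SeparableClosure k), inferInstance, inferInstance,
    inferInstance, inferInstance, fun i => ⟨?_⟩⟩
  have h1 : F i ≤ IntermediateField.normalClosure k S (SeparableClosure k) :=
    (le_iSup F i).trans (IntermediateField.le_normalClosure S)
  exact (φ i).codRestrict (IntermediateField.normalClosure k S (SeparableClosure k)).toSubalgebra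
    (fun x => h1 ⟨x, rfl⟩)

section Top

variable {Y X : Type*} [TopologicalSpace Y] [TopologicalSpace X]

/-- a generalizing map sends maximal points to maximal points -/
theorem closure_image_mem_irreducibleComponents [QuasiSober X] [T0Space Y] {π : Y → X}
    (hgen : GeneralizingMap π) {η : Y}
    (hη : closure {η} ∈ irreducibleComponents Y) :
    closure {π η} ∈ irreducibleComponents X := by
  refine ⟨isIrreducible_singleton.closure, ?_⟩
  intro s hs hsub
  obtain ⟨ξ₀, hξ₀⟩ := QuasiSober.sober hs.closure isClosed_closure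
  have h1 : ξ₀ ⤳ π η := by
    rw [specializes_iff_mem_closure, hξ₀.def]
    exact subset_closure (hsub (subset_closure rfl))
  obtain ⟨η'', hη'', hπ⟩ := hgen h1
  have h2 : closure {η} ⊆ closure {η''} :=
    closure_minimal (Set.singleton_subset_iff.mpr (specializes_iff_mem_closure.mp hη''))
      isClosed_closure
  have h3 : closure {η''} ⊆ closure {η} := hη.2 isIrreducible_singleton.closure h2
  have h4 : η'' = η := by
    have : IsGenericPoint η'' (closure {η}) := subset_antisymm h3 h2
    exact this.eq isGenericPoint_closure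
  rw [← hπ, h4] at hξ₀
  exact subset_closure.trans hξ₀.def.ge

end Top

variable (k : Type u) [Field k] (X : Scheme.{u}) [X.Over (Spec (CommRingCat.of k))]

/-- number of points in a fibre of `X_L → X` -/
theorem card_fibre_of_splits (L : Type u) [Field L] [Algebra k L] [Algebra.IsAlgebraic k L] (x : X)
    [FiniteDimensional k (separableClosure k (X.residueField x))]
    (hsplit : ∀ a : separableClosure k (X.residueField x),
      ((minpoly k a).map (algebraMap k L)).Splits) :
    Nat.card ↥((Curv2.bcFst k X L).base ⁻¹' {x}) =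
      Module.finrank k (separableClosure k (X.residueField x)) := by
  rw [Groth.Agent.H25.GenFibreCount.card_fibre]
  refine Groth.Agent.H25.SepTensorCount.card_primeSpectrum
    (E := ↥(separableClosure k (X.residueField x))) ?_ hsplit
  intro α hα
  have h1 : α ∈ separableClosure (separableClosure k (X.residueField x))
      (X.residueField x) := mem_separableClosure_iff.mpr hα
  rw [separableClosure.separableClosure_eq_bot] at h1
  exact IntermediateField.mem_bot.mp h1

variable (L M : Type u) [Field L] [Field M] [Algebra k L] [Algebra k M] [Algebra L M]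
  [IsScalarTower k L M]

theorem surjective_bcMap :
    Function.Surjective (bcMap (X ↘ Spec (CommRingCat.of k)) L M) := by
  intro y
  obtain ⟨z, hz⟩ := (Groth.Agent.H25.GeomPtInt.surjective_bcFst
    (BC.snd (X ↘ Spec (CommRingCat.of k)) L) M).surj y
  refine ⟨(tauIso (X ↘ Spec (CommRingCat.of k)) L M).inv z, ?_⟩
  rw [← Scheme.Hom.comp_apply, tauIso_inv_bcMap]
  exact hz

theorem bcFst_bcMap_apply (w : ↥(Curv2.bc k X M)) :
    (Curv2.bcFst k X L).base (bcMap (X ↘ Spec (CommRingCat.of k)) L M w) =
      (Curv2.bcFst k X M).base w := by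
  rw [← Scheme.Hom.comp_apply]
  exact congrArg (fun f => f.base w) (bcMap_fst (X ↘ Spec (CommRingCat.of k)) L M)

/-- if the fibres over `x` of `X_L` and `X_M` have the same finite cardinality then
`X_M → X_L` is injective on the fibre -/
theorem bcMap_injOn_fibre (x : X) (n : ℕ) (hn : n ≠ 0)
    (hL : Nat.card ↥((Curv2.bcFst k X L).base ⁻¹' {x}) = n)
    (hM : Nat.card ↥((Curv2.bcFst k X M).base ⁻¹' {x}) = n)
    (w₁ w₂ : ↥(Curv2.bc k X M)) (h₁ : (Curv2.bcFst k X M).base w₁ = x)
    (h₂ : (Curv2.bcFst k X M).base w₂ = x)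
    (h : bcMap (X ↘ Spec (CommRingCat.of k)) L M w₁ = bcMap (X ↘ Spec (CommRingCat.of k)) L M w₂) :
    w₁ = w₂ := by
  let G : ↥((Curv2.bcFst k X M).base ⁻¹' {x}) → ↥((Curv2.bcFst k X L).base ⁻¹' {x}) :=
    fun w => ⟨bcMap (X ↘ Spec (CommRingCat.of k)) L M w.1, by
      have := w.2
      simp only [Set.mem_preimage, Set.mem_singleton_iff] at this ⊢
      rw [bcFst_bcMap_apply]; exact this⟩
  have hsurj : Function.Surjective G := by
    rintro ⟨y, hy⟩
    obtain ⟨w, hw⟩ := surjective_bcMap k X L M y
    refine ⟨⟨w, ?_⟩, Subtype.ext hw⟩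
    simp only [Set.mem_preimage, Set.mem_singleton_iff] at hy ⊢
    rw [← bcFst_bcMap_apply k X L M, hw]; exact hy
  haveI : Finite ↥((Curv2.bcFst k X M).base ⁻¹' {x}) :=
    Nat.finite_of_card_ne_zero (hM ▸ hn)
  have hbij : Function.Bijective G :=
    (Nat.bijective_iff_surjective_and_card G).mpr ⟨hsurj, hM.trans hL.symm⟩
  have := hbij.injective (a₁ := ⟨w₁, h₁⟩) (a₂ := ⟨w₂, h₂⟩) (Subtype.ext h)
  exact congrArg Subtype.val this

section Main

variable (L : Type u) [Field L] [Algebra k L] [FiniteDimensional k L] [IsGalois k L]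

/-- the `L`-scheme structure on `X_L` -/
noncomputable abbrev overL : (Curv2.bc k X L).Over (Spec (CommRingCat.of L)) := ⟨Curv2.bcSnd k X L⟩

attribute [local instance] overL

theorem fibre_subsingleton (x : X) [FiniteDimensional k (separableClosure k (X.residueField x))]
    (σ₀ : separableClosure k (X.residueField x) →ₐ[k] L)
    (ζ₁ ζ₂ : ↥(Curv2.bc L (Curv2.bc k X L) (SeparableClosure L)))
    (h : (Curv2.bcFst L (Curv2.bc k X L) (SeparableClosure L)).base ζ₁ =
      (Curv2.bcFst L (Curv2.bc k X L) (SeparableClosure L)).base ζ₂)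
    (hx : (Curv2.bcFst k X L).base
      ((Curv2.bcFst L (Curv2.bc k X L) (SeparableClosure L)).base ζ₁) = x) :
    ζ₁ = ζ₂ := by
  letI : Algebra k (SeparableClosure L) :=
    ((algebraMap L (SeparableClosure L)).comp (algebraMap k L)).toAlgebra
  haveI : IsScalarTower k L (SeparableClosure L) := IsScalarTower.of_algebraMap_eq fun _ => rfl
  haveI : Algebra.IsAlgebraic k (SeparableClosure L) :=
    Algebra.IsAlgebraic.trans k L (SeparableClosure L)
  have hsplitL : ∀ a : separableClosure k (X.residueField x),
      ((minpoly k a).map (algebraMap k L)).Splits :=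
    fun a => Groth.Agent.H25.SepTensorCount.splits_of_normal σ₀ a
  have hsplitM : ∀ a : separableClosure k (X.residueField x),
      ((minpoly k a).map (algebraMap k (SeparableClosure L))).Splits := by
    intro a
    rw [IsScalarTower.algebraMap_eq k L (SeparableClosure L), ← Polynomial.map_map]
    exact (hsplitL a).map _
  have cL := card_fibre_of_splits k X L x hsplitL
  have cM := card_fibre_of_splits k X (SeparableClosure L) x hsplitM
  have hτ : ∀ ζ : ↥(Curv2.bc L (Curv2.bc k X L) (SeparableClosure L)),
      bcMap (X ↘ Spec (CommRingCat.of k)) L (SeparableClosure L)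
        ((tauIso (X ↘ Spec (CommRingCat.of k)) L (SeparableClosure L)).inv ζ) =
      (Curv2.bcFst L (Curv2.bc k X L) (SeparableClosure L)).base ζ := by
    intro ζ
    rw [← Scheme.Hom.comp_apply, tauIso_inv_bcMap]
    rfl
  have key := bcMap_injOn_fibre k X L (SeparableClosure L) x _ Module.finrank_pos.ne' cL cM
    ((tauIso (X ↘ Spec (CommRingCat.of k)) L (SeparableClosure L)).inv ζ₁)
    ((tauIso (X ↘ Spec (CommRingCat.of k)) L (SeparableClosure L)).inv ζ₂)
    (by rw [← bcFst_bcMap_apply k X L (SeparableClosure L), hτ]; exact hx)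
    (by rw [← bcFst_bcMap_apply k X L (SeparableClosure L), hτ, ← h]; exact hx)
    (by rw [hτ, hτ]; exact h)
  have := congrArg (tauIso (X ↘ Spec (CommRingCat.of k)) L (SeparableClosure L)).hom.base key
  rw [← Scheme.Hom.comp_apply, ← Scheme.Hom.comp_apply, Iso.inv_hom_id] at this
  exact this

theorem isIrreducible_preimage_of_galois (Z' : Set ↥(Curv2.bc k X L))
    (hZ' : Z' ∈ irreducibleComponents ↥(Curv2.bc k X L))
    (hfin : ∀ x : X, closure {x} ∈ irreducibleComponents X →
      FiniteDimensional k (separableClosure k (X.residueField x)) ∧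
        Nonempty (separableClosure k (X.residueField x) →ₐ[k] L))
    (K : Type u) [Field K] [Algebra L K] :
    IsIrreducible ((Curv2.bcFst L (Curv2.bc k X L) K).base ⁻¹' Z') := by
  apply Groth.Agent.H38.GalTower.isIrreducible_preimage_of_sepClosure L (Curv2.bc k X L) K Z'
  have hη' : closure {hZ'.1.genericPoint} = Z' :=
    hZ'.1.closure_genericPoint (isClosed_of_mem_irreducibleComponents _ hZ')
  haveI : Flat (Curv2.bcFst k X L) :=
    Groth.Agent.H25.GeomPtInt.flat_bcFst (X ↘ Spec (CommRingCat.of k)) L
  have hgenπ : GeneralizingMap (Curv2.bcFst k X L).base := Flat.generalizingMap _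
  have hx := closure_image_mem_irreducibleComponents hgenπ (η := hZ'.1.genericPoint)
    (hη'.symm ▸ hZ')
  obtain ⟨hfd, ⟨σ₀⟩⟩ := hfin _ hx
  have hopen : IsOpenMap (Curv2.bcFst L (Curv2.bc k X L) (SeparableClosure L)).base :=
    Groth.Agent.H25.GenFibre.isOpenMap_bcFst L (Curv2.bc k X L) (SeparableClosure L)
  rw [← hη', hopen.preimage_closure_eq_closure_preimage
    (Curv2.bcFst L (Curv2.bc k X L) (SeparableClosure L)).continuous]
  obtain ⟨ζ, hζ⟩ := (Groth.Agent.H25.GeomPtInt.surjective_bcFst
    (Curv2.bcSnd k X L) (SeparableClosure L)).surj hZ'.1.genericPoint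
  have hsing : (Curv2.bcFst L (Curv2.bc k X L) (SeparableClosure L)).base ⁻¹'
      {hZ'.1.genericPoint} = {ζ} := by
    ext ζ'
    simp only [Set.mem_preimage, Set.mem_singleton_iff]
    constructor
    · intro h
      exact fibre_subsingleton k X L _ σ₀ ζ' ζ (h.trans hζ.symm) (by rw [h])
    · rintro rfl
      exact hζ
  rw [hsing]
  exact isIrreducible_singleton.closure

end Main

end Groth.Agent.H25.GeomIrrComp
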