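import Mathlib
import Groth.Prelude.Def_Curv2
import Groth.Agent.H25.GeomIrrComp
import Groth.Agent.H25.FTResidue
import Groth.Agent.H38.GalAct

set_option autoImplicit false
universe u
open CategoryTheory CategoryTheory.Limits AlgebraicGeometry TensorProduct
attribute [local instance] Curv2.resAlgebra

namespace Groth.Agent.H25.CompOverComp

open Groth.Agent.H25.GeomIrrComp

variable (k : Type u) [Field k] (X : Scheme.{u}) [X.Over (Spec (CommRingCat.of k))]
  (L : Type u) [Field L] [Algebra k L] [Algebra.IsAlgebraic k L]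

/-- points of `X_L` over a maximal point of `X` are maximal points (for `L/k` algebraic) -/
theorem closure_mem_of_fibre {ξ : X} (hξ : closure {ξ} ∈ irreducibleComponents X)
    (z : ↥(Curv2.bc k X L)) (hz : (Curv2.bcFst k X L).base z = ξ) :
    closure {z} ∈ irreducibleComponents ↥(Curv2.bc k X L) ∧
      (Curv2.bcFst k X L).base '' closure {z} ⊆ closure {ξ} := by
  refine ⟨⟨isIrreducible_singleton.closure, ?_⟩, ?_⟩
  · intro s hs hzs
    obtain ⟨η, hη⟩ := QuasiSober.sober hs.closure isClosed_closure
    have h1 : η ⤳ z := by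
      rw [specializes_iff_mem_closure, hη.def]
      exact subset_closure (hzs (subset_closure rfl))
    have h2 : (Curv2.bcFst k X L).base η ⤳ ξ := hz ▸ h1.map (Curv2.bcFst k X L).continuous
    have h3 : closure {ξ} ⊆ closure {(Curv2.bcFst k X L).base η} :=
      closure_minimal (Set.singleton_subset_iff.mpr (specializes_iff_mem_closure.mp h2))
        isClosed_closure
    have h4 : closure {(Curv2.bcFst k X L).base η} ⊆ closure {ξ} :=
      hξ.2 isIrreducible_singleton.closure h3
    have h5 : (Curv2.bcFst k X L).base η = ξ := by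
      have : IsGenericPoint ((Curv2.bcFst k X L).base η) (closure {ξ}) := subset_antisymm h4 h3
      exact this.eq isGenericPoint_closure
    have h6 : η = z :=
      Groth.Agent.H25.GenFibreCount.eq_of_specializes_of_fibre k X L ξ η z h5 hz h1
    rw [← h6, hη.def]
    exact subset_closure
  · rw [← hz]
    exact (image_closure_subset_closure_image (Curv2.bcFst k X L).continuous).trans
      (by rw [Set.image_singleton])

omit [Algebra.IsAlgebraic k L] in
/-- an irreducible component of `X_L` mapping into `closure {ξ}` has its generic point over `ξ` -/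
theorem exists_fibre_of_mem {ξ : X} (hξ : closure {ξ} ∈ irreducibleComponents X)
    (T' : Set ↥(Curv2.bc k X L)) (hT' : T' ∈ irreducibleComponents ↥(Curv2.bc k X L))
    (hsub : (Curv2.bcFst k X L).base '' T' ⊆ closure {ξ}) :
    ∃ z, (Curv2.bcFst k X L).base z = ξ ∧ closure {z} = T' := by
  have hη' : closure {hT'.1.genericPoint} = T' :=
    hT'.1.closure_genericPoint (isClosed_of_mem_irreducibleComponents _ hT')
  refine ⟨hT'.1.genericPoint, ?_, hη'⟩
  haveI : Flat (Curv2.bcFst k X L) :=
    Groth.Agent.H25.GeomPtInt.flat_bcFst (X ↘ Spec (CommRingCat.of k)) L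
  have hgenπ : GeneralizingMap (Curv2.bcFst k X L).base := Flat.generalizingMap _
  have hx := closure_image_mem_irreducibleComponents hgenπ (η := hT'.1.genericPoint)
    (hη'.symm ▸ hT')
  have hgm : hT'.1.genericPoint ∈ T' := hη'.subset (subset_closure (Set.mem_singleton _))
  have hmem : (Curv2.bcFst k X L).base hT'.1.genericPoint ∈ closure {ξ} :=
    hsub ⟨_, hgm, rfl⟩
  have h1 : closure {(Curv2.bcFst k X L).base hT'.1.genericPoint} ⊆ closure {ξ} :=
    closure_minimal (Set.singleton_subset_iff.mpr hmem) isClosed_closure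
  have h2 : closure {ξ} ⊆ closure {(Curv2.bcFst k X L).base hT'.1.genericPoint} :=
    hx.2 isIrreducible_singleton.closure h1
  have : IsGenericPoint ((Curv2.bcFst k X L).base hT'.1.genericPoint) (closure {ξ}) :=
    subset_antisymm h1 h2
  exact this.eq isGenericPoint_closure

section Main

variable [LocallyOfFiniteType (X ↘ Spec (CommRingCat.of k))]

/-- S1670 -/
theorem components_over_component (T : Set X) (hT : T ∈ irreducibleComponents (X : Type u)) :
    {T' : Set (Curv2.bc k X (SeparableClosure k)) |
        T' ∈ irreducibleComponents (Curv2.bc k X (SeparableClosure k) : Type u) ∧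
        (Curv2.bcFst k X (SeparableClosure k)).base '' T' ⊆ T}.Finite ∧
      (Curv2.bcFst k X (SeparableClosure k)).base ⁻¹' T =
        ⋃₀ {T' : Set (Curv2.bc k X (SeparableClosure k)) |
          T' ∈ irreducibleComponents (Curv2.bc k X (SeparableClosure k) : Type u) ∧
          (Curv2.bcFst k X (SeparableClosure k)).base '' T' ⊆ T} ∧
      ∀ T' T'' : Set (Curv2.bc k X (SeparableClosure k)),
        T' ∈ irreducibleComponents (Curv2.bc k X (SeparableClosure k) : Type u) →
        T'' ∈ irreducibleComponents (Curv2.bc k X (SeparableClosure k) : Type u) →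
        (Curv2.bcFst k X (SeparableClosure k)).base '' T' ⊆ T →
        (Curv2.bcFst k X (SeparableClosure k)).base '' T'' ⊆ T →
        ∃ σ : (SeparableClosure k) ≃ₐ[k] (SeparableClosure k),
          (Curv2.galAct k X (SeparableClosure k) σ).base '' T' = T'' := by
  have hTξ : closure {hT.1.genericPoint} = T :=
    hT.1.closure_genericPoint (isClosed_of_mem_irreducibleComponents _ hT)
  obtain ⟨ξ, hξdef⟩ : ∃ ξ, ξ = hT.1.genericPoint := ⟨_, rfl⟩
  rw [← hξdef] at hTξ
  have hξ : closure {ξ} ∈ irreducibleComponents X := hTξ.symm ▸ hT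
  haveI := Groth.Agent.H25.FTResidue.finiteDimensional_separableClosure k X ξ
  have hsplit : ∀ a : separableClosure k (X.residueField ξ),
      ((minpoly k a).map (algebraMap k (SeparableClosure k))).Splits := fun a =>
    IsSepClosed.splits_codomain _ (Algebra.IsSeparable.isSeparable k a)
  have hcard := card_fibre_of_splits k X (SeparableClosure k) ξ hsplit
  have hfin : ((Curv2.bcFst k X (SeparableClosure k)).base ⁻¹' {ξ}).Finite :=
    Set.finite_coe_iff.mp (Nat.finite_of_card_ne_zero (hcard ▸ Module.finrank_pos.ne'))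
  have hS : {T' : Set (Curv2.bc k X (SeparableClosure k)) |
        T' ∈ irreducibleComponents (Curv2.bc k X (SeparableClosure k) : Type u) ∧
        (Curv2.bcFst k X (SeparableClosure k)).base '' T' ⊆ T} =
      (fun z => closure {z}) '' ((Curv2.bcFst k X (SeparableClosure k)).base ⁻¹' {ξ}) := by
    ext T'
    constructor
    · rintro ⟨hT', hsub⟩
      obtain ⟨z, hz, hzT⟩ := exists_fibre_of_mem k X (SeparableClosure k) hξ T' hT'
        (hTξ ▸ hsub)
      exact ⟨z, hz, hzT⟩
    · rintro ⟨z, hz, rfl⟩
      have := closure_mem_of_fibre k X (SeparableClosure k) hξ z hz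
      exact ⟨this.1, hTξ ▸ this.2⟩
  refine ⟨hS ▸ hfin.image _, ?_, ?_⟩
  · rw [hS, Set.sUnion_image, ← hTξ,
      (Groth.Agent.H25.GenFibre.isOpenMap_bcFst k X
        (SeparableClosure k)).preimage_closure_eq_closure_preimage
        (Curv2.bcFst k X (SeparableClosure k)).continuous]
    conv_lhs => rw [← Set.biUnion_of_singleton
      ((Curv2.bcFst k X (SeparableClosure k)).base ⁻¹' {ξ})]
    exact hfin.closure_biUnion _
  · intro T' T'' hT' hT'' h1 h2
    obtain ⟨z, hz, rfl⟩ := exists_fibre_of_mem k X (SeparableClosure k) hξ T' hT' (hTξ ▸ h1)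
    obtain ⟨z', hz', rfl⟩ := exists_fibre_of_mem k X (SeparableClosure k) hξ T'' hT'' (hTξ ▸ h2)
    obtain ⟨σ, hσ⟩ := Groth.Agent.H38.GalAct.exists_galAct_eq k X (SeparableClosure k) z z'
      (hz.trans hz'.symm)
    refine ⟨σ, ?_⟩
    have := (Groth.Agent.H38.GalAct.galHomeo k X (SeparableClosure k) σ).image_closure {z}
    rw [Set.image_singleton, Groth.Agent.H38.GalAct.galHomeo_apply, hσ] at this
    exact this

end Main

end Groth.Agent.H25.CompOverComp
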