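import Groth.Agent.H25.QuasiHomeo
import Mathlib.Topology.Constructible

set_option autoImplicit false
universe u
open Topology Set.Notation

namespace Groth.Agent.H25

variable {X Y : Type*} [TopologicalSpace X] [TopologicalSpace Y]

theorem IsQC.union {Z Z' : Set X} (h : IsQC Z) (h' : IsQC Z') : IsQC (Z ∪ Z') := by
  obtain ⟨T, hT, hT', rfl⟩ := h
  obtain ⟨S, hS, hS', rfl⟩ := h'
  refine ⟨T ∪ S, hT.union hS, ?_, (Set.sUnion_union T S).symm⟩
  rintro t (ht | ht)
  · exact hT' t ht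
  · exact hS' t ht

theorem IsQC.inter {Z Z' : Set X} (h : IsQC Z) (h' : IsQC Z') : IsQC (Z ∩ Z') := by
  obtain ⟨T, hT, hT', rfl⟩ := h
  obtain ⟨S, hS, hS', rfl⟩ := h'
  refine ⟨Set.image2 (· ∩ ·) T S, hT.image2 _ hS, ?_, ?_⟩
  · rintro _ ⟨t, ht, s, hs, rfl⟩
    exact (hT' t ht).inter (hS' s hs)
  · ext x
    simp only [Set.mem_inter_iff, Set.mem_sUnion, Set.mem_image2]
    constructor
    · rintro ⟨⟨t, ht, hxt⟩, ⟨s, hs, hxs⟩⟩
      exact ⟨t ∩ s, ⟨t, ht, s, hs, rfl⟩, hxt, hxs⟩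
    · rintro ⟨_, ⟨t, ht, s, hs, rfl⟩, hxt, hxs⟩
      exact ⟨⟨t, ht, hxt⟩, ⟨s, hs, hxs⟩⟩

theorem isQC_univ : IsQC (Set.univ : Set X) := IsLocallyClosed.isQC isOpen_univ.isLocallyClosed

theorem IsQC.compl {Z : Set X} (h : IsQC Z) : IsQC Zᶜ := by
  obtain ⟨T, hT, hT', rfl⟩ := h
  induction T, hT using Set.Finite.induction_on with
  | empty => simpa using isQC_univ
  | @insert a s has hs ih =>
    rw [Set.sUnion_insert, Set.compl_union]
    refine IsQC.inter ?_ (ih fun t ht => hT' t (Set.mem_insert_of_mem _ ht))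
    obtain ⟨U, C, hU, hC, rfl⟩ := hT' a (Set.mem_insert _ _)
    rw [Set.compl_inter]
    exact (IsLocallyClosed.isQC hU.isClosed_compl.isLocallyClosed).union
      (IsLocallyClosed.isQC hC.isOpen_compl.isLocallyClosed)

theorem isQC_of_isConstructible {Z : Set X} (h : IsConstructible Z) : IsQC Z := by
  induction h using IsConstructible.empty_union_induction with
  | open_retrocompact U hU _ => exact IsLocallyClosed.isQC hU.isLocallyClosed
  | union s _ t _ hs ht => exact hs.union ht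
  | compl s _ hs => exact hs.compl

theorem IsQC.image_of_isOpenEmbedding {f : X → Y} (hf : IsOpenEmbedding f) {Z : Set X}
    (h : IsQC Z) : IsQC (f '' Z) := by
  obtain ⟨T, hT, hT', rfl⟩ := h
  refine ⟨(f '' ·) '' T, hT.image _, ?_, ?_⟩
  · rintro _ ⟨t, ht, rfl⟩
    obtain ⟨U, C, hU, hC, rfl⟩ := hT' t ht
    obtain ⟨C', hC', rfl⟩ := hf.isInducing.isClosed_iff.1 hC
    refine ⟨f '' U, C', hf.isOpenMap U hU, hC', ?_⟩
    ext y
    constructor
    · rintro ⟨x, ⟨hxU, hxC⟩, rfl⟩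
      exact ⟨⟨x, hxU, rfl⟩, hxC⟩
    · rintro ⟨⟨x, hxU, rfl⟩, hxC⟩
      exact ⟨x, ⟨hxU, hxC⟩, rfl⟩
  · rw [Set.image_sUnion, Set.sUnion_image]

theorem isLQC_of_isLocallyConstructible {Z : Set X} (h : IsLocallyConstructible Z) : IsLQC Z := by
  intro x
  obtain ⟨U, hUx, hU, hc⟩ := h x
  have h1 : IsQC (Subtype.val '' (U ↓∩ Z)) :=
    (isQC_of_isConstructible hc).image_of_isOpenEmbedding hU.isOpenEmbedding_subtypeVal
  obtain ⟨T, hT, hT', e⟩ := h1
  refine ⟨U, hU, mem_of_mem_nhds hUx, T, hT, hT', ?_⟩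
  rw [← e, Subtype.image_preimage_coe]

namespace IsQuasiHomeo

variable {f : X → Y}

theorem isRetrocompact_preimage (h : IsQuasiHomeo f) (hf : Continuous f) {s : Set Y}
    (hs : IsOpen s) (hr : IsRetrocompact s) : IsRetrocompact (f ⁻¹' s) := by
  intro K hK hKo
  obtain ⟨K', hK', rfl⟩ := h.2 K hKo
  have h1 : IsCompact K' := (h.isCompact_iff hf (IsLocallyClosed.isQC hK'.isLocallyClosed).isLQC).2 hK
  have h2 : IsCompact (s ∩ K') := hr h1 hK'
  rw [← Set.preimage_inter]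
  exact (h.isCompact_iff hf (IsLocallyClosed.isQC (hs.inter hK').isLocallyClosed).isLQC).1 h2

theorem isRetrocompact_of_preimage (h : IsQuasiHomeo f) (hf : Continuous f) {s : Set Y}
    (hs : IsOpen s) (hr : IsRetrocompact (f ⁻¹' s)) : IsRetrocompact s := by
  intro K' hK' hK'o
  have h1 : IsCompact (f ⁻¹' K') := (h.isCompact_iff hf (IsLocallyClosed.isQC hK'o.isLocallyClosed).isLQC).1 hK'
  have h2 := hr h1 (hK'o.preimage hf)
  rw [← Set.preimage_inter] at h2
  exact (h.isCompact_iff hf (IsLocallyClosed.isQC (hs.inter hK'o).isLocallyClosed).isLQC).2 h2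

theorem isConstructible_preimage (h : IsQuasiHomeo f) (hf : Continuous f) {Z : Set Y}
    (hZ : IsConstructible Z) : IsConstructible (f ⁻¹' Z) :=
  hZ.preimage hf fun _ hs hr => h.isRetrocompact_preimage hf hs hr

theorem exists_isConstructible_preimage_eq (h : IsQuasiHomeo f) (hf : Continuous f) {T : Set X}
    (hT : IsConstructible T) : ∃ Z : Set Y, IsConstructible Z ∧ f ⁻¹' Z = T := by
  induction hT using IsConstructible.empty_union_induction with
  | open_retrocompact V hV hVr =>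
    obtain ⟨U, hU, rfl⟩ := h.2 V hV
    exact ⟨U, (h.isRetrocompact_of_preimage hf hU hVr).isConstructible hU, rfl⟩
  | union s _ t _ hs ht =>
    obtain ⟨Z₁, h₁, rfl⟩ := hs
    obtain ⟨Z₂, h₂, rfl⟩ := ht
    exact ⟨Z₁ ∪ Z₂, h₁.union h₂, Set.preimage_union⟩
  | compl s _ hs =>
    obtain ⟨Z₁, h₁, rfl⟩ := hs
    exact ⟨Z₁ᶜ, h₁.compl, Set.preimage_compl⟩

end IsQuasiHomeo

end Groth.Agent.H25
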