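import Groth.Agent.H99.DVRFlatOpen

set_option autoImplicit false
set_option linter.unusedSectionVars false
set_option linter.style.haveILetI false
universe u
open CategoryTheory CategoryTheory.Limits AlgebraicGeometry Topology Order TopologicalSpace IsLocalRing

namespace Groth.Agent.H25.DomainLift

/-- A Noetherian local ring `B` with a nonzerodivisor `t ∈ 𝔪` such that `B/(t)` is a domain is a
domain. -/
theorem isDomain_of_isDomain_quotient {B : Type*} [CommRing B] [IsNoetherianRing B]
    [IsLocalRing B] (t : B) (ht : t ∈ maximalIdeal B) (hreg : ∀ b : B, t * b = 0 → b = 0)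
    (hdom : IsDomain (B ⧸ Ideal.span {t})) : IsDomain B := by
  have hprime : (Ideal.span {t}).IsPrime := (Ideal.Quotient.isDomain_iff_prime _).mp hdom
  obtain ⟨q, hq, hqle⟩ := Ideal.exists_minimalPrimes_le (I := (⊥ : Ideal B)) (J := Ideal.span {t})
    bot_le
  have hqp : q.IsPrime := hq.1.1
  have htq : t ∉ q := by
    intro htq
    have hdisj := Ideal.disjoint_nonZeroDivisors_of_mem_minimalPrimes hq
    have : t ∈ nonZeroDivisors B := by
      rw [mem_nonZeroDivisors_iff_right]
      intro b hb
      exact hreg b (by rw [mul_comm]; exact hb)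
    exact Set.disjoint_left.mp hdisj htq this
  have hle : q ≤ Ideal.span {t} • q := by
    intro x hx
    obtain ⟨y, rfl⟩ := Ideal.mem_span_singleton'.mp (hqle hx)
    have hy : y ∈ q := by
      rcases hqp.mem_or_mem hx with h | h
      · exact h
      · exact absurd h htq
    rw [mul_comm]
    exact Submodule.smul_mem_smul (Ideal.mem_span_singleton_self t) hy
  have hjac : Ideal.span {t} ≤ Ideal.jacobson (⊥ : Ideal B) := by
    rw [IsLocalRing.jacobson_eq_maximalIdeal ⊥ bot_ne_top, Ideal.span_singleton_le_iff_mem]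
    exact ht
  have hbot : q = ⊥ :=
    Submodule.eq_bot_of_le_smul_of_le_jacobson_bot (Ideal.span {t}) q
      (IsNoetherian.noetherian q) hle hjac
  rw [hbot] at hqp
  exact IsDomain.of_bot_isPrime B

/-- A nontrivial reduced ring with at most one minimal prime is a domain. -/
theorem isDomain_of_isReduced_of_subsingleton {B : Type*} [CommRing B] [Nontrivial B]
    [IsReduced B] (h : (minimalPrimes B).Subsingleton) : IsDomain B := by
  obtain ⟨p, hp⟩ : (minimalPrimes B).Nonempty := by
    obtain ⟨m, hm⟩ := Ideal.exists_maximal B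
    obtain ⟨p, hp, -⟩ := Ideal.exists_minimalPrimes_le (I := (⊥ : Ideal B)) (J := m) bot_le
    exact ⟨p, hp⟩
  have hpp : p.IsPrime := hp.1.1
  have heq : minimalPrimes B = {p} := h.eq_singleton_of_mem hp
  have h1 : sInf (minimalPrimes B) = nilradical B := by
    unfold minimalPrimes nilradical
    rw [Ideal.sInf_minimalPrimes]
    rfl
  rw [heq, sInf_singleton, nilradical_eq_zero] at h1
  have : (⊥ : Ideal B).IsPrime := by
    have h2 : p = ⊥ := h1
    rw [← h2]; exact hpp
  exact IsDomain.of_bot_isPrime B

/-- if `w` generizes every generization of `q`, the local ring at `q` has at most one minimal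
prime -/
theorem subsingleton_minimalPrimes_stalk (W : Scheme.{u}) (q w : W)
    (hw : ∀ z : W, z ⤳ q → w ⤳ z) : (minimalPrimes (W.presheaf.stalk q)).Subsingleton := by
  have hwq : w ⤳ q := hw q specializes_rfl
  obtain ⟨pw, hpw⟩ : w ∈ Set.range (W.fromSpecStalk q).base := by
    rw [Scheme.range_fromSpecStalk]; exact hwq
  have key : ∀ p ∈ minimalPrimes (W.presheaf.stalk q), p = pw.asIdeal := by
    intro p hp
    have hpp : p.IsPrime := hp.1.1
    set P : ↥(Spec (W.presheaf.stalk q)) := ⟨p, hpp⟩ with hP
    have hz : (W.fromSpecStalk q).base P ⤳ q := by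
      have : (W.fromSpecStalk q).base P ∈ Set.range (W.fromSpecStalk q).base := ⟨P, rfl⟩
      rw [Scheme.range_fromSpecStalk] at this
      exact this
    have h1 := hw _ hz
    rw [← hpw] at h1
    have h2 : pw ⤳ P := (W.fromSpecStalk q).isEmbedding.isInducing.specializes_iff.mp h1
    have h3 : pw.asIdeal ≤ p := (PrimeSpectrum.le_iff_specializes pw P).mpr h2
    exact le_antisymm (hp.2 ⟨pw.isPrime, bot_le⟩ h3) h3
  intro p hp p' hp'
  rw [key p hp, key p' hp']

/-- if the local ring at `x` is a domain, a maximal point specializing to `x` generizes every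
generization of `x` -/
theorem specializes_of_isMax_of_isDomain (P : Scheme.{u}) (x ζ z : P)
    [IsDomain (P.presheaf.stalk x)] (hmax : IsMax ζ) (hζ : ζ ⤳ x) (hz : z ⤳ x) : ζ ⤳ z := by
  obtain ⟨pζ, hpζ⟩ : ζ ∈ Set.range (P.fromSpecStalk x).base := by
    rw [Scheme.range_fromSpecStalk]; exact hζ
  obtain ⟨pz, hpz⟩ : z ∈ Set.range (P.fromSpecStalk x).base := by
    rw [Scheme.range_fromSpecStalk]; exact hz
  set b : ↥(Spec (P.presheaf.stalk x)) := ⟨⊥, Ideal.isPrime_bot⟩ with hb
  have h1 : b ⤳ pζ := (PrimeSpectrum.le_iff_specializes b pζ).mp bot_le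
  have h2 : b ⤳ pz := (PrimeSpectrum.le_iff_specializes b pz).mp bot_le
  have h1' := h1.map (P.fromSpecStalk x).continuous
  have h2' := h2.map (P.fromSpecStalk x).continuous
  rw [hpζ] at h1'
  rw [hpz] at h2'
  have h3 : ζ ⤳ (P.fromSpecStalk x).base b := hmax (show ζ ≤ _ from h1')
  exact h3.trans h2'

end Groth.Agent.H25.DomainLift
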