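import Groth.Agent.H25.DomainLift

set_option autoImplicit false
set_option linter.unusedSectionVars false
set_option linter.style.haveILetI false
universe u
open CategoryTheory CategoryTheory.Limits AlgebraicGeometry Topology Order TopologicalSpace IsLocalRing

namespace Groth.Agent.H25.DomainLift

variable {X : Scheme.{u}} {A : Type u} [CommRing A] [IsDomain A] [IsDiscreteValuationRing A]
  (f : X ⟶ Spec (CommRingCat.of A)) [LocallyOfFiniteType f]

theorem isDomain_stalk_of_flat_of_isDomain_fibre (x : X)
    (hx : f.base x = IsLocalRing.closedPoint A)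
    (hflat : (f.stalkMap x).hom.Flat)
    (hdom : IsDomain ((f.fiber (f.base x)).presheaf.stalk (f.asFiber x))) :
    IsDomain (X.presheaf.stalk x) := by
  haveI : IsLocallyNoetherian (Spec (CommRingCat.of A)) := by
    rw [isLocallyNoetherian_Spec]; infer_instance
  haveI : IsLocallyNoetherian X := LocallyOfFiniteType.isLocallyNoetherian f
  obtain ⟨hdomA, hdvr⟩ := Groth.Agent.H99.DVRFlatOpen.exists_dvr_stalk (f.base x) hx
  haveI : IsDomain ((Spec (CommRingCat.of A)).presheaf.stalk (f.base x)) := hdomA
  haveI : IsDiscreteValuationRing ((Spec (CommRingCat.of A)).presheaf.stalk (f.base x)) := hdvr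
  set φ := (f.stalkMap x).hom with hφ
  obtain ⟨ϖ, hϖ⟩ := IsDiscreteValuationRing.exists_irreducible
    ((Spec (CommRingCat.of A)).presheaf.stalk (f.base x))
  have hmax : maximalIdeal ((Spec (CommRingCat.of A)).presheaf.stalk (f.base x)) =
      Ideal.span {ϖ} := hϖ.maximalIdeal_eq
  set t := φ ϖ with ht
  have hideal : Groth.Agent.H49.FibreStalk.fibreIdeal f x = Ideal.span {t} := by
    rw [Groth.Agent.H49.FibreStalk.fibreIdeal, hmax, Ideal.map_span, Set.image_singleton]
  have htm : t ∈ maximalIdeal (X.presheaf.stalk x) := by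
    have hϖm : ϖ ∈ maximalIdeal ((Spec (CommRingCat.of A)).presheaf.stalk (f.base x)) :=
      hmax ▸ Ideal.mem_span_singleton_self ϖ
    rw [mem_maximalIdeal, mem_nonunits_iff] at hϖm ⊢
    exact fun h => hϖm (isUnit_of_map_unit (f.stalkMap x).hom ϖ h)
  have hdomB : IsDomain (X.presheaf.stalk x ⧸ Ideal.span {t}) := by
    rw [← hideal]
    exact (Groth.Agent.H49.FibreStalk.quotientEquivStalkAsFiber f x).toMulEquiv.isDomain _
  have hreg : ∀ b : X.presheaf.stalk x, t * b = 0 → b = 0 := by
    letI := φ.toAlgebra
    haveI : Module.Flat ((Spec (CommRingCat.of A)).presheaf.stalk (f.base x))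
      (X.presheaf.stalk x) := hflat
    have h1 : IsSMulRegular ((Spec (CommRingCat.of A)).presheaf.stalk (f.base x)) ϖ :=
      IsSMulRegular.of_ne_zero hϖ.ne_zero
    have h2 := IsSMulRegular.of_flat (S := X.presheaf.stalk x) h1
    intro b hb
    apply h2
    change t * b = t * 0
    rw [hb, mul_zero]
  exact isDomain_of_isDomain_quotient t htm hreg hdomB

end Groth.Agent.H25.DomainLift
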