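import Groth.Agent.H66.SmoothGUStalk
import Groth.Agent.H13.GUFlatDescent
import Groth.Prelude.Def_EGA4b

set_option autoImplicit false
set_option linter.unusedSectionVars false
set_option linter.style.haveILetI false
universe u
open CategoryTheory CategoryTheory.Limits AlgebraicGeometry Topology IsLocalRing

namespace Groth.Agent.H25.EquidimGU

theorem ringKrullDim_quotient_nilradical (A : Type u) [CommRing A] :
    ringKrullDim (A ⧸ nilradical A) = ringKrullDim A := by
  rw [ringKrullDim_quotient]
  have : PrimeSpectrum.zeroLocus (R := A) (nilradical A) = Set.univ := by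
    rw [Set.eq_univ_iff_forall]
    intro p
    rw [PrimeSpectrum.mem_zeroLocus]
    exact nilradical_le_prime p.asIdeal
  rw [this]
  exact Order.krullDim_eq_of_orderIso OrderIso.Set.univ

/-- a geometrically unibranch local ring is equidimensional (it has only one minimal prime) -/
theorem isEquidim_of_isGeomUnibranch (A : Type u) [CommRing A] [IsLocalRing A]
    (h : CAlg2.IsGeomUnibranch A) : EGA4.IsEquidim A := by
  have hdom : IsDomain (A ⧸ nilradical A) := h.1.1
  have hprime : (nilradical A).IsPrime := (Ideal.Quotient.isDomain_iff_prime _).mp hdom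
  intro p hp
  have hpp : p.IsPrime := hp.1.1
  have h1 : p = nilradical A :=
    le_antisymm (hp.2 ⟨hprime, bot_le⟩ (nilradical_le_prime p)) (nilradical_le_prime p)
  rw [h1]
  exact ringKrullDim_quotient_nilradical A

/-- the local rings of a scheme smooth over a geometrically unibranch point are equidimensional -/
theorem isEquidim_stalk_of_smooth_nhd {X Y : Scheme.{u}} (f : X ⟶ Y) (x : X) (U : X.Opens)
    (hxU : x ∈ U) [Smooth (U.ι ≫ f)]
    (hgu : CAlg2.IsGeomUnibranch (Y.presheaf.stalk (f.base x))) :
    EGA4.IsEquidim (X.presheaf.stalk x) := by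
  have h1 : CAlg2.IsGeomUnibranch (U.toScheme.presheaf.stalk (⟨x, hxU⟩ : U)) :=
    Groth.Agent.H66.SmoothGU.isGeomUnibranch_stalk_of_smooth (U.ι ≫ f) ⟨x, hxU⟩ hgu
  have hiso : IsIso (U.ι.stalkMap (⟨x, hxU⟩ : U)) := inferInstance
  have h2 : CAlg2.IsGeomUnibranch (X.presheaf.stalk x) :=
    Groth.Agent.H13.GUFlatDescent.isGeomUnibranch_of_ringEquiv
      (asIso (U.ι.stalkMap (⟨x, hxU⟩ : U))).commRingCatIsoToRingEquiv h1
  exact isEquidim_of_isGeomUnibranch _ h2

end Groth.Agent.H25.EquidimGU
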