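import Mathlib
import Groth.Agent.H25.EtaleAt

set_option autoImplicit false
universe u

namespace Groth.Agent.H25.EtaleAtFlat

/-- étale at `q` (finitely presented) implies flat at `q` -/
theorem flat_of_isEtaleAt (A B : Type u) [CommRing A] [CommRing B] [Algebra A B]
    [Algebra.FinitePresentation A B] (q : Ideal B) [q.IsPrime] (h : Algebra.IsEtaleAt A q) :
    Module.Flat A (Localization.AtPrime q) := by
  obtain ⟨s, hsq, hs⟩ := Algebra.exists_etale_of_isEtaleAt (R := A) q
  have hle : Submonoid.powers s ≤ q.primeCompl := by
    rintro _ ⟨n, rfl⟩
    exact fun hmem => hsq (Ideal.IsPrime.mem_of_pow_mem inferInstance n hmem)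
  let _ : Algebra (Localization.Away s) (Localization.AtPrime q) :=
    IsLocalization.localizationAlgebraOfSubmonoidLe (Localization.Away s) (Localization.AtPrime q)
      (Submonoid.powers s) q.primeCompl hle
  have t1 : IsScalarTower B (Localization.Away s) (Localization.AtPrime q) :=
    IsLocalization.localization_isScalarTower_of_submonoid_le _ _ (Submonoid.powers s)
      q.primeCompl hle
  have hloc : IsLocalization (q.primeCompl.map (algebraMap B (Localization.Away s)))
      (Localization.AtPrime q) :=
    IsLocalization.isLocalization_of_submonoid_le _ _ (Submonoid.powers s) q.primeCompl hle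
  have hfl1 : Module.Flat (Localization.Away s) (Localization.AtPrime q) :=
    IsLocalization.flat _ (q.primeCompl.map (algebraMap B (Localization.Away s)))
  have t2 : IsScalarTower A (Localization.Away s) (Localization.AtPrime q) := by
    refine IsScalarTower.of_algebraMap_eq fun r => ?_
    rw [IsScalarTower.algebraMap_apply A B (Localization.AtPrime q),
      IsScalarTower.algebraMap_apply A B (Localization.Away s),
      ← IsScalarTower.algebraMap_apply B (Localization.Away s) (Localization.AtPrime q)]
  have hfl2 : Module.Flat A (Localization.Away s) := inferInstance
  exact Module.Flat.trans A (Localization.Away s) (Localization.AtPrime q)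

end Groth.Agent.H25.EtaleAtFlat
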