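import Groth.Agent.H49.FibreStalk
import Groth.Agent.H25.StalkBC
import Groth.Prelude.Def_Found

set_option autoImplicit false
set_option linter.unusedSectionVars false
set_option linter.style.haveILetI false
universe u
open CategoryTheory CategoryTheory.Limits AlgebraicGeometry Topology IsLocalRing

namespace Groth.Agent.H25.FibreAlg

open Groth.Agent.H49.FibreStalk Groth.Agent.H25.StalkBC

variable {X Y : Scheme.{u}} (f : X ⟶ Y)

theorem quotientCongr_mk {x₁ x₂ : X} (e : x₁ = x₂) (a : X.presheaf.stalk x₁) :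
    quotientCongr f e (Ideal.Quotient.mk _ a) =
      Ideal.Quotient.mk _ ((X.presheaf.stalkSpecializes (specializes_of_eq e.symm)).hom a) := by
  subst e
  have : X.presheaf.stalkSpecializes (specializes_of_eq (rfl : x₁ = x₁)) = 𝟙 _ :=
    TopCat.Presheaf.stalkSpecializes_refl _ _
  rw [this]
  rfl

theorem quotientEquivStalkFiber_mk (y : Y) (x' : f.fiber y)
    (a : X.presheaf.stalk ((f.fiberι y).base x')) :
    quotientEquivStalkFiber f y x' (Ideal.Quotient.mk _ a) = ((f.fiberι y).stalkMap x').hom a := by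
  rfl

/-- the two ring maps `O_{Y,f x} → O_{F,x'}` agree -/
theorem comp_eq (x : X) :
    f.stalkMap x ≫ X.presheaf.stalkSpecializes (specializes_of_eq (f.fiberι_asFiber x)) ≫
        (f.fiberι (f.base x)).stalkMap (f.asFiber x) =
      Y.residue (f.base x) ≫
        CommRingCat.ofHom (stalkHom (f.fiberToSpecResidueField (f.base x)) (f.asFiber x)) := by
  apply Spec.map_injective
  rw [← cancel_mono (Y.fromSpecStalk (f.base x))]
  simp only [Spec.map_comp, Category.assoc]
  rw [Scheme.SpecMap_stalkMap_fromSpecStalk, Scheme.SpecMap_stalkSpecializes_fromSpecStalk_assoc,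
    Scheme.SpecMap_stalkMap_fromSpecStalk_assoc]
  have h := fromSpecStalk_comp (R := ResidueField (Y.presheaf.stalk (f.base x)))
    (f.fiberToSpecResidueField (f.base x)) (f.asFiber x)
  have h2 : Spec.map (Y.residue (f.base x)) ≫ Y.fromSpecStalk (f.base x) =
    Y.fromSpecResidueField (f.base x) := rfl
  rw [h2, f.fiber_fac, ← Category.assoc]
  exact congrArg (· ≫ Y.fromSpecResidueField (f.base x)) h

end Groth.Agent.H25.FibreAlg

namespace Groth.Agent.H25.FibreAlg

open Groth.Agent.H49.FibreStalk Groth.Agent.H25.StalkBC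

variable {X Y : Scheme.{u}} (f : X ⟶ Y)

theorem quotientEquivStalkAsFiber_mk_stalkMap (x : X) (b : Y.presheaf.stalk (f.base x)) :
    quotientEquivStalkAsFiber f x (Ideal.Quotient.mk _ ((f.stalkMap x).hom b)) =
      stalkHom (f.fiberToSpecResidueField (f.base x)) (f.asFiber x)
        (IsLocalRing.residue _ b) := by
  unfold quotientEquivStalkAsFiber
  rw [RingEquiv.trans_apply, quotientCongr_mk, quotientEquivStalkFiber_mk]
  exact congrArg (fun φ => φ.hom b) (comp_eq f x)

/-- transfer of geometric regularity along an algebra isomorphism -/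
theorem isGeometricallyRegular_of_algEquiv {k S S' : Type u} [Field k] [CommRing S] [CommRing S']
    [Algebra k S] [Algebra k S'] (e : S ≃ₐ[k] S') (h : CAlg.IsGeometricallyRegular k S) :
    CAlg.IsGeometricallyRegular k S' := by
  intro k' _ _ hfin
  haveI := h k' hfin
  exact IsRegularRing.of_ringEquiv (Algebra.TensorProduct.congr (AlgEquiv.refl (R := k) (A₁ := k')) e).toRingEquiv

/-- the local ring of the fibre at `x` is `O_{X,x} ⧸ 𝔪_{f x} O_{X,x}` as a `κ(f x)`-algebra -/
noncomputable def fibreAlgEquiv (x : X) :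
    letI φ := (f.stalkMap x).hom
    letI 𝔪 := IsLocalRing.maximalIdeal ↑(Y.presheaf.stalk (f.base x))
    letI : Algebra (IsLocalRing.ResidueField ↑(Y.presheaf.stalk (f.base x)))
        (↑(X.presheaf.stalk x) ⧸ 𝔪.map φ) :=
      (Ideal.quotientMap (𝔪.map φ) φ Ideal.le_comap_map).toAlgebra
    letI : Algebra (IsLocalRing.ResidueField ↑(Y.presheaf.stalk (f.base x)))
        ((f.fiber (f.base x)).presheaf.stalk (f.asFiber x)) :=
      (stalkHom (f.fiberToSpecResidueField (f.base x)) (f.asFiber x)).toAlgebra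
    (↑(X.presheaf.stalk x) ⧸ 𝔪.map φ) ≃ₐ[IsLocalRing.ResidueField ↑(Y.presheaf.stalk (f.base x))]
      ((f.fiber (f.base x)).presheaf.stalk (f.asFiber x)) := by
  letI φ := (f.stalkMap x).hom
  letI 𝔪 := IsLocalRing.maximalIdeal ↑(Y.presheaf.stalk (f.base x))
  letI : Algebra (IsLocalRing.ResidueField ↑(Y.presheaf.stalk (f.base x)))
      (↑(X.presheaf.stalk x) ⧸ 𝔪.map φ) :=
    (Ideal.quotientMap (𝔪.map φ) φ Ideal.le_comap_map).toAlgebra
  letI : Algebra (IsLocalRing.ResidueField ↑(Y.presheaf.stalk (f.base x)))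
      ((f.fiber (f.base x)).presheaf.stalk (f.asFiber x)) :=
    (stalkHom (f.fiberToSpecResidueField (f.base x)) (f.asFiber x)).toAlgebra
  refine AlgEquiv.ofRingEquiv (f := quotientEquivStalkAsFiber f x) ?_
  intro c
  obtain ⟨b, rfl⟩ := IsLocalRing.residue_surjective c
  exact quotientEquivStalkAsFiber_mk_stalkMap f x b

end Groth.Agent.H25.FibreAlg
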