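import Groth.Agent.H25.FibreAlg
import Groth.Agent.H25.GeomRegSmooth

set_option autoImplicit false
set_option linter.unusedSectionVars false
set_option linter.style.haveILetI false
universe u
open CategoryTheory CategoryTheory.Limits AlgebraicGeometry Topology IsLocalRing
attribute [local instance] Curv2.stalkAlgebra

namespace Groth.Agent.H25.FibreAlg

open Groth.Agent.H49.FibreStalk Groth.Agent.H25.StalkBC

variable {X Y : Scheme.{u}} (f : X ⟶ Y)

/-- geometric regularity of the local ring of the fibre at `x` means that the fibre is smooth at `x` -/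
theorem isGeometricallyRegular_iff_mem_smoothLocus [LocallyOfFinitePresentation f] (x : X)
    [LocallyOfFinitePresentation (f.fiberToSpecResidueField (f.base x))] :
    (letI φ := (f.stalkMap x).hom
    letI 𝔪 := IsLocalRing.maximalIdeal ↑(Y.presheaf.stalk (f.base x))
    letI : Algebra (IsLocalRing.ResidueField ↑(Y.presheaf.stalk (f.base x)))
        (↑(X.presheaf.stalk x) ⧸ 𝔪.map φ) :=
      (Ideal.quotientMap (𝔪.map φ) φ Ideal.le_comap_map).toAlgebra
    CAlg.IsGeometricallyRegular (IsLocalRing.ResidueField ↑(Y.presheaf.stalk (f.base x)))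
      (↑(X.presheaf.stalk x) ⧸ 𝔪.map φ)) ↔
      f.asFiber x ∈ (f.fiberToSpecResidueField (f.base x)).smoothLocus := by
  letI φ := (f.stalkMap x).hom
  letI 𝔪 := IsLocalRing.maximalIdeal ↑(Y.presheaf.stalk (f.base x))
  letI alg₁ : Algebra (IsLocalRing.ResidueField ↑(Y.presheaf.stalk (f.base x)))
      (↑(X.presheaf.stalk x) ⧸ 𝔪.map φ) :=
    (Ideal.quotientMap (𝔪.map φ) φ Ideal.le_comap_map).toAlgebra
  letI : (f.fiber (f.base x)).Over
      (Spec (CommRingCat.of (IsLocalRing.ResidueField ↑(Y.presheaf.stalk (f.base x))))) :=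
    ⟨f.fiberToSpecResidueField (f.base x)⟩
  haveI hlfp : LocallyOfFinitePresentation (f.fiber (f.base x) ↘
      Spec (CommRingCat.of (IsLocalRing.ResidueField ↑(Y.presheaf.stalk (f.base x))))) :=
    inferInstanceAs (LocallyOfFinitePresentation (f.fiberToSpecResidueField (f.base x)))
  haveI : IsLocallyNoetherian (f.fiber (f.base x)) :=
    LocallyOfFiniteType.isLocallyNoetherian (f.fiber (f.base x) ↘
      Spec (CommRingCat.of (IsLocalRing.ResidueField ↑(Y.presheaf.stalk (f.base x)))))
  have h1 := Groth.Agent.H25.GeomRegSmooth.isGeomRegularAt_iff_mem_smoothLocus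
    (IsLocalRing.ResidueField ↑(Y.presheaf.stalk (f.base x))) (f.fiber (f.base x)) (f.asFiber x)
  have h2 := Groth.Agent.H25.GeomRegAt.tfae_geomRegularAt
    (IsLocalRing.ResidueField ↑(Y.presheaf.stalk (f.base x))) (f.fiber (f.base x)) (f.asFiber x)
  have h3 : CAlg.IsGeometricallyRegular (IsLocalRing.ResidueField ↑(Y.presheaf.stalk (f.base x)))
      ((f.fiber (f.base x)).presheaf.stalk (f.asFiber x)) ↔
      f.asFiber x ∈ (f.fiberToSpecResidueField (f.base x)).smoothLocus := by
    rw [← h2.2, ← h2.1]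
    exact h1
  rw [← h3]
  exact ⟨isGeometricallyRegular_of_algEquiv (fibreAlgEquiv f x),
    isGeometricallyRegular_of_algEquiv (fibreAlgEquiv f x).symm⟩

end Groth.Agent.H25.FibreAlg
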