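import Groth.Agent.H25.FibreAlg2
import Groth.Agent.H25.GeomRedAt
import Groth.Agent.Lead.RegularLocal
import Groth.Prelude.Def_FDesc

set_option autoImplicit false
set_option linter.unusedSectionVars false
set_option linter.style.haveILetI false
universe u
open CategoryTheory CategoryTheory.Limits AlgebraicGeometry Topology IsLocalRing
attribute [local instance] Curv2.stalkAlgebra

namespace Groth.Agent.H25.FibreAlg

/-- a smooth point of a scheme locally of finite presentation over a field is a geometrically
reduced point -/
theorem isGeomReducedAt_of_mem_smoothLocus {k : Type u} [Field k] {F : Scheme.{u}}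
    (p : F ⟶ Spec (CommRingCat.of k)) [LocallyOfFinitePresentation p] (x : F)
    (hx : x ∈ p.smoothLocus) : FBase.IsGeomReducedAt p x := by
  letI : F.Over (Spec (CommRingCat.of k)) := ⟨p⟩
  haveI : LocallyOfFinitePresentation (F ↘ Spec (CommRingCat.of k)) :=
    inferInstanceAs (LocallyOfFinitePresentation p)
  have h1 : Curv2.IsGeomRegularAt k F x :=
    (Groth.Agent.H25.GeomRegSmooth.isGeomRegularAt_iff_mem_smoothLocus k F x).mpr hx
  have h2 : Curv2.IsGeomReducedAt k F x := by
    rw [Groth.Agent.H25.GeomRedAt.isGeomReducedAt_iff_purelyInseparable]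
    intro k' _ _ _ _ x' hx'
    haveI := h1 k' (IntermediateField.fg_top_iff.mpr inferInstance) x' hx'
    haveI := Groth.Agent.Lead.RLR.isDomain ((Curv2.bc k F k').presheaf.stalk x')
    infer_instance
  exact h2

end Groth.Agent.H25.FibreAlg
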