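import Groth.Agent.H25.OpenAt
import Groth.Agent.S0385

set_option autoImplicit false
universe u
open CategoryTheory AlgebraicGeometry CategoryTheory.Limits TopologicalSpace

namespace Groth.Agent.H25.FinBC

section Top
variable {A B A' B' : Type*} [TopologicalSpace A] [TopologicalSpace B] [TopologicalSpace A']
  [TopologicalSpace B']

/-- Openness at a point passes from `s'` to its restriction `s` along open embeddings. -/
theorem isOpenAt_down (a : A → A') (j : B → B') (s : A → B) (s' : A' → B')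
    (comm : ∀ p, s' (a p) = j (s p)) (ha : IsOpenMap a) (hj : Topology.IsEmbedding j) (x : A)
    (h : EGA43.IsOpenAt s' (a x)) : EGA43.IsOpenAt s x := by
  intro U hU
  have h1 : a '' U ∈ nhds (a x) := ha.image_mem_nhds hU
  have h2 := h _ h1
  rw [comm x] at h2
  rw [hj.isInducing.nhds_eq_comap]
  refine ⟨_, h2, ?_⟩
  rintro b ⟨_, ⟨p, hp, rfl⟩, hb⟩
  rw [comm p] at hb
  exact ⟨p, hp, hj.injective hb⟩

/-- Openness at a point passes from the restriction `s` to `s'` along open maps. -/
theorem isOpenAt_up (a : A → A') (j : B → B') (s : A → B) (s' : A' → B')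
    (comm : ∀ p, s' (a p) = j (s p)) (ha : Continuous a) (hj : IsOpenMap j) (x : A)
    (h : EGA43.IsOpenAt s x) : EGA43.IsOpenAt s' (a x) := by
  intro U hU
  have h1 : a ⁻¹' U ∈ nhds x := ha.continuousAt.preimage_mem_nhds hU
  have h2 := h _ h1
  have h3 : j '' (s '' (a ⁻¹' U)) ∈ nhds (j (s x)) := hj.image_mem_nhds h2
  rw [comm x]
  refine Filter.mem_of_superset h3 ?_
  rintro _ ⟨_, ⟨p, hp, rfl⟩, rfl⟩
  exact ⟨a p, hp, comm p⟩

end Top


/-- **Lemma B**: if every finite base change of `f` is open at the points over `x`, then so is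
every quasi-finite separated base change (Zariski's main theorem). -/
theorem isOpenAt_of_quasiFinite {X Y V : Scheme.{u}} [CompactSpace Y] [QuasiSeparatedSpace Y]
    (f : X ⟶ Y) (x : X)
    (H : ∀ (Y' : Scheme.{u}) (g : Y' ⟶ Y) [IsFinite g], ∀ x' : ↥(pullback f g),
      (pullback.fst f g).base x' = x → EGA43.IsOpenAt (pullback.snd f g).base x')
    (v : V ⟶ Y) [LocallyQuasiFinite v] [LocallyOfFiniteType v] [QuasiCompact v] [IsSeparated v]
    {P : Scheme.{u}} {fst : P ⟶ X} {snd : P ⟶ V} (sq : IsPullback fst snd f v)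
    (p : P) (hp : fst.base p = x) : EGA43.IsOpenAt snd.base p := by
  obtain ⟨T, j, π, hj, -, hπ, hfac⟩ := Groth.Agent.S0385.result v
  have cond : fst ≫ f = (snd ≫ j) ≫ π := by rw [Category.assoc, hfac, sq.w]
  let a : P ⟶ pullback f π := pullback.lift fst (snd ≫ j) cond
  have a1 : a ≫ pullback.fst f π = fst := pullback.lift_fst _ _ _
  have a2 : a ≫ pullback.snd f π = snd ≫ j := pullback.lift_snd _ _ _
  have sqL : IsPullback a snd (pullback.snd f π) j := by
    refine IsPullback.of_right ?_ a2 (IsPullback.of_hasPullback f π)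
    rw [a1, hfac]
    exact sq
  haveI : IsOpenImmersion a := MorphismProperty.of_isPullback sqL.flip hj
  refine isOpenAt_down a.base j.base snd.base (pullback.snd f π).base ?_
    a.isOpenEmbedding.isOpenMap j.isOpenEmbedding.isEmbedding p ?_
  · intro p'
    rw [← Scheme.Hom.comp_apply, a2, Scheme.Hom.comp_apply]
  · apply H T π
    rw [← Scheme.Hom.comp_apply, a1, hp]


/-- Universal openness at a point is local on the target. -/
theorem isUnivOpenAt_of_openImmersion {X Y W : Scheme.{u}} (f : X ⟶ Y) (ι : W ⟶ Y)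
    [IsOpenImmersion ι] (xW : ↥(pullback f ι))
    (h : EGA43.IsUnivOpenAt (pullback.snd f ι) xW) :
    EGA43.IsUnivOpenAt f ((pullback.fst f ι).base xW) := by
  intro Y' g p hp
  set j := pullback.fst g ι with hj
  set a := pullback.fst (pullback.snd f g) j with ha
  set sQ := pullback.snd (pullback.snd f g) j with hsQ
  have big : IsPullback (a ≫ pullback.fst f g) sQ f (pullback.snd g ι ≫ ι) := by
    have := (IsPullback.of_hasPullback (pullback.snd f g) j).paste_horiz
      (IsPullback.of_hasPullback f g)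
    rwa [pullback.condition] at this
  let b : pullback (pullback.snd f g) j ⟶ pullback f ι :=
    pullback.lift (a ≫ pullback.fst f g) (sQ ≫ pullback.snd g ι) (by rw [Category.assoc]; exact big.w)
  have b1 : b ≫ pullback.fst f ι = a ≫ pullback.fst f g := pullback.lift_fst _ _ _
  have b2 : b ≫ pullback.snd f ι = sQ ≫ pullback.snd g ι := pullback.lift_snd _ _ _
  have sqL : IsPullback b sQ (pullback.snd f ι) (pullback.snd g ι) := by
    refine IsPullback.of_right ?_ b2 (IsPullback.of_hasPullback f ι)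
    rw [b1]
    exact big
  -- the point of `Y'_W`
  have hpt : g.base ((pullback.snd f g).base p) = ι.base ((pullback.snd f ι).base xW) := by
    rw [← Scheme.Hom.comp_apply, ← pullback.condition, Scheme.Hom.comp_apply, hp,
      ← Scheme.Hom.comp_apply, ← Scheme.Hom.comp_apply, pullback.condition]
  obtain ⟨y', hy'1, hy'2⟩ := Scheme.Pullback.exists_preimage_pullback _ _ hpt
  obtain ⟨q, hq1, hq2⟩ := Scheme.Pullback.exists_preimage_pullback (f := pullback.snd f g)
    (g := j) p y' hy'1.symm
  have hbq : b.base q = xW := by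
    apply (pullback.fst f ι).isOpenEmbedding.injective
    rw [← Scheme.Hom.comp_apply, b1, Scheme.Hom.comp_apply]
    rw [hq1, hp]
  have hop : EGA43.IsOpenAt sQ.base q := isOpenAt_of_isPullback h sqL q hbq
  have := isOpenAt_up a.base j.base sQ.base (pullback.snd f g).base ?_ a.continuous
    j.isOpenEmbedding.isOpenMap q hop
  · rwa [show a.base q = p from hq1] at this
  · intro p'
    rw [← Scheme.Hom.comp_apply, ← Scheme.Hom.comp_apply, pullback.condition]


/-- **Lemma M**: points over a fibre-maximal point under a quasi-finite base change are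
fibre-maximal. -/
theorem maximal_of_quasiFinite {X Y V : Scheme.{u}} (f : X ⟶ Y) (v : V ⟶ Y)
    [LocallyQuasiFinite v] (x : X)
    (hmax : ∀ x₀ : X, f.base x₀ = f.base x → x ∈ closure {x₀} → x₀ = x)
    (x' : ↥(pullback f v)) (hx' : (pullback.fst f v).base x' = x)
    (z : ↥(pullback f v)) (hz : (pullback.snd f v).base z = (pullback.snd f v).base x')
    (hzx : x' ∈ closure {z}) : z = x' := by
  have hsp : z ⤳ x' := specializes_iff_mem_closure.mpr hzx
  have h1 : (pullback.fst f v).base z ⤳ x := by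
    rw [← hx']; exact hsp.map (pullback.fst f v).continuous
  have h2 : f.base ((pullback.fst f v).base z) = f.base x := by
    rw [← hx', ← Scheme.Hom.comp_apply, ← Scheme.Hom.comp_apply, pullback.condition,
      Scheme.Hom.comp_apply, Scheme.Hom.comp_apply, hz]
  have h3 : (pullback.fst f v).base z = x :=
    hmax _ h2 (specializes_iff_mem_closure.mp h1)
  have hdisc := (pullback.fst f v).isDiscrete_preimage_singleton x
  have hzS : z ∈ (pullback.fst f v).base ⁻¹' {x} := h3
  have hxS : x' ∈ (pullback.fst f v).base ⁻¹' {x} := hx'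
  haveI : DiscreteTopology ↥((pullback.fst f v).base ⁻¹' {x}) := hdisc.to_subtype
  have h4 : (⟨z, hzS⟩ : ↥((pullback.fst f v).base ⁻¹' {x})) ⤳ ⟨x', hxS⟩ := by
    exact (Topology.IsInducing.subtypeVal.specializes_iff (x := ⟨z, hzS⟩) (y := ⟨x', hxS⟩)).mp hsp
  have h5 := h4.eq
  exact congrArg Subtype.val h5


/-- Openness at a point descends along a finite family of closed, jointly surjective maps. -/
theorem isOpenAt_of_family {X Y : Scheme.{u}} (f : X ⟶ Y) (x : X) {ι : Type*} [Finite ι]
    (V : ι → Scheme.{u}) (v : ∀ i, V i ⟶ Y) (hv : ∀ i, IsClosedMap (v i).base)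
    (hs : ∀ y : Y, ∃ i, y ∈ Set.range (v i).base)
    (P : ι → Scheme.{u}) (fst : ∀ i, P i ⟶ X) (snd : ∀ i, P i ⟶ V i)
    (sq : ∀ i, IsPullback (fst i) (snd i) f (v i))
    (h : ∀ i (p : P i), (fst i).base p = x → EGA43.IsOpenAt (snd i).base p) :
    EGA43.IsOpenAt f.base x := by
  intro U hU
  obtain ⟨U', hU'U, hU'o, hxU'⟩ := mem_nhds_iff.1 hU
  set Wi : ∀ i, Set (V i) := fun i => interior ((snd i).base '' ((fst i).base ⁻¹' U')) with hWi
  have claim : ∀ i (y₁ : V i), (v i).base y₁ = f.base x → y₁ ∈ Wi i := by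
    intro i y₁ hy₁
    obtain ⟨x₁, hx₁, hx₁'⟩ := Scheme.exists_preimage_of_isPullback (sq i) x y₁ hy₁.symm
    have := h i x₁ hx₁ ((fst i).base ⁻¹' U')
      ((fst i).continuous.continuousAt.preimage_mem_nhds (hU'o.mem_nhds (hx₁ ▸ hxU')))
    rw [hx₁'] at this
    exact mem_interior_iff_mem_nhds.2 this
  have hC : IsClosed (⋃ i, (v i).base '' (Wi i)ᶜ) :=
    isClosed_iUnion_of_finite fun i => hv i _ isOpen_interior.isClosed_compl
  have hxN : f.base x ∈ (⋃ i, (v i).base '' (Wi i)ᶜ)ᶜ := by
    rintro hmem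
    obtain ⟨i, y₁, hy₁W, hy₁⟩ := Set.mem_iUnion.mp hmem
    exact hy₁W (claim i y₁ hy₁)
  refine Filter.mem_of_superset (hC.isOpen_compl.mem_nhds hxN) ?_
  intro y hy
  obtain ⟨i, y₁, rfl⟩ := hs y
  have hy₁W : y₁ ∈ Wi i := by
    by_contra hcon
    exact hy (Set.mem_iUnion.mpr ⟨i, y₁, hcon, rfl⟩)
  obtain ⟨z, hz, hz'⟩ := interior_subset hy₁W
  refine ⟨(fst i).base z, hU'U hz, ?_⟩
  rw [← hz', ← Scheme.Hom.comp_apply, ← Scheme.Hom.comp_apply, (sq i).w]

/-- Universal openness at a point descends along a finite, jointly surjective family of finite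
morphisms. -/
theorem isUnivOpenAt_of_family {X Y : Scheme.{u}} (f : X ⟶ Y) (x : X) {ι : Type*} [Finite ι]
    (V : ι → Scheme.{u}) (v : ∀ i, V i ⟶ Y) [∀ i, IsFinite (v i)]
    (hs : ∀ y : Y, ∃ i, y ∈ Set.range (v i).base)
    (h : ∀ i (x₁ : ↥(pullback f (v i))), (pullback.fst f (v i)).base x₁ = x →
      EGA43.IsUnivOpenAt (pullback.snd f (v i)) x₁) :
    EGA43.IsUnivOpenAt f x := by
  intro Y' g x' hx'
  refine isOpenAt_of_family (pullback.snd f g) x' (fun i => pullback (v i) g)
    (fun i => pullback.snd (v i) g) (fun i => (pullback.snd (v i) g).isClosedMap) ?_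
    (fun i => pullback (pullback.snd f g) (pullback.snd (v i) g))
    (fun i => pullback.fst _ _) (fun i => pullback.snd _ _)
    (fun i => IsPullback.of_hasPullback _ _) ?_
  · intro y'
    obtain ⟨i, y₁, hy₁⟩ := hs (g.base y')
    obtain ⟨z, -, hz⟩ := Scheme.Pullback.exists_preimage_pullback (f := v i) (g := g) y₁ y' hy₁
    exact ⟨i, z, hz⟩
  · intro i p hp
    exact isOpenAt_double_baseChange f (v i) g x (h i) x' hx' p hp

end Groth.Agent.H25.FinBC
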