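import Groth.Agent.H25.GUCover3

set_option autoImplicit false
universe u

namespace Groth.Agent.H25.GUCover

open IsLocalRing

attribute [local instance] Ideal.Quotient.field

section PI
variable (D : Type u) [CommRing D] [IsDomain D] (q : Ideal D) [q.IsPrime]
  (D' : Type u) [CommRing D'] [Algebra D D'] [Algebra D' (CAlg2.normRed (Localization.AtPrime q))]
  [IsScalarTower D D' (CAlg2.normRed (Localization.AtPrime q))]
  (q' : Ideal D') [q'.IsPrime]
  (C : Type u) [CommRing C] [Algebra D' C] [IsLocalization.AtPrime C q'] [IsLocalRing C]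
  (Dn : Type u) [CommRing Dn] [Algebra (CAlg2.normRed (Localization.AtPrime q)) Dn]
  [IsLocalization (Algebra.algebraMapSubmonoid (CAlg2.normRed (Localization.AtPrime q))
    q'.primeCompl) Dn]
  (hq' : q'.comap (algebraMap D D') = q)
  (hsep : Separates D q D')
  (M : Ideal Dn) [hM : M.IsMaximal]

include hq' in
theorem maximalIdeal_le_comap : maximalIdeal C ≤ M.comap (fC D q D' q' C Dn) := by
  have := comap_fC_eq D q D' q' C Dn hq' M
  exact this.ge

/-- the map of residue fields -/
noncomputable def chi : ResidueField C →+* Dn ⧸ M :=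
  Ideal.quotientMap M (fC D q D' q' C Dn) (maximalIdeal_le_comap D q D' q' C Dn hq' M)

theorem chi_residue (c : C) :
    chi D q D' q' C Dn hq' M (residue C c) = Ideal.Quotient.mk M (fC D q D' q' C Dn c) := by
  unfold chi
  exact Ideal.quotientMap_mk

theorem psiN_coe (d : D') :
    psiN D q Dn M (algebraMap D' (CAlg2.normRed (Localization.AtPrime q)) d) =
      chi D q D' q' C Dn hq' M (residue C (algebraMap D' C d)) := by
  rw [chi_residue, fC_algebraMap]
  rfl

theorem psibar_eq_chi (a : Localization.AtPrime q) :
    psibar D q D' q' C Dn hq' M (residue _ a) =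
      chi D q D' q' C Dn hq' M (residue C (gE D q D' q' C hq' a)) := by
  rw [psibar_residue, chi_residue]
  have := congrArg (fun g => g a) (fC_comp_gE D q D' q' C Dn hq')
  simp only [RingHom.comp_apply] at this
  rw [this]
  rfl


include hsep in
theorem emb_subsingleton :
    letI := (chi D q D' q' C Dn hq' M).toAlgebra
    Subsingleton (Field.Emb (ResidueField C) (Dn ⧸ M)) := by
  letI algk : Algebra (ResidueField C) (Dn ⧸ M) := (chi D q D' q' C Dn hq' M).toAlgebra
  letI algκ : Algebra (ResidueField (Localization.AtPrime q)) (Dn ⧸ M) :=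
    (psibar D q D' q' C Dn hq' M).toAlgebra
  haveI := isAlgebraic_quot D q D' q' C Dn hq' M
  haveI : Algebra.IsAlgebraic (ResidueField (Localization.AtPrime q))
      (AlgebraicClosure (Dn ⧸ M)) :=
    Algebra.IsAlgebraic.trans (ResidueField (Localization.AtPrime q)) (Dn ⧸ M)
      (AlgebraicClosure (Dn ⧸ M))
  let β : AlgebraicClosure (Dn ⧸ M) →ₐ[ResidueField (Localization.AtPrime q)]
      AlgebraicClosure (ResidueField (Localization.AtPrime q)) := IsAlgClosed.lift
  refine ⟨fun σ₁ σ₂ => ?_⟩
  -- the key computation: σ on the image of `chi`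
  have hσ : ∀ (σ : Field.Emb (ResidueField C) (Dn ⧸ M)) (z : ResidueField C),
      σ (chi D q D' q' C Dn hq' M z) = algebraMap (ResidueField C) (AlgebraicClosure (Dn ⧸ M)) z :=
    fun σ z => σ.commutes z
  have hρ : ∀ σ : Field.Emb (ResidueField C) (Dn ⧸ M),
      (β.toRingHom.comp σ.toRingHom).comp (psibar D q D' q' C Dn hq' M) =
      algebraMap (ResidueField (Localization.AtPrime q))
        (AlgebraicClosure (ResidueField (Localization.AtPrime q))) := by
    intro σ
    apply RingHom.ext
    intro a
    obtain ⟨a, rfl⟩ := residue_surjective a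
    have h1 : σ (psibar D q D' q' C Dn hq' M (residue _ a)) =
        algebraMap (ResidueField (Localization.AtPrime q)) (AlgebraicClosure (Dn ⧸ M))
          (residue _ a) := by
      rw [psibar_eq_chi, hσ, IsScalarTower.algebraMap_apply (ResidueField C) (Dn ⧸ M)
        (AlgebraicClosure (Dn ⧸ M)),
        IsScalarTower.algebraMap_apply (ResidueField (Localization.AtPrime q)) (Dn ⧸ M)
        (AlgebraicClosure (Dn ⧸ M))]
      congr 1
      exact (psibar_eq_chi D q D' q' C Dn hq' M a).symm
    change β (σ (psibar D q D' q' C Dn hq' M (residue _ a))) = _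
    rw [h1]
    exact β.commutes _
  set τ₁ := toClosureHom D q D' q' C Dn hq' M _ (hρ σ₁) with hτ₁
  set τ₂ := toClosureHom D q D' q' C Dn hq' M _ (hρ σ₂) with hτ₂
  have hτ : τ₁ = τ₂ := by
    by_contra hne
    obtain ⟨d, hd, -⟩ := hsep τ₁ τ₂ hne
    apply hd
    change β (σ₁ (psiN D q Dn M (algebraMap D' (CAlg2.normRed (Localization.AtPrime q)) d))) =
      β (σ₂ (psiN D q Dn M (algebraMap D' (CAlg2.normRed (Localization.AtPrime q)) d)))
    rw [psiN_coe D q D' q' C Dn hq' M d, hσ, hσ]
  have hN : ∀ n : CAlg2.normRed (Localization.AtPrime q),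
      σ₁ (psiN D q Dn M n) = σ₂ (psiN D q Dn M n) := by
    intro n
    have := congrArg (fun τ : Groth.Agent.H38.ClosureHom (Localization.AtPrime q) => τ.1 n) hτ
    exact β.toRingHom.injective this
  apply AlgHom.ext
  intro x
  obtain ⟨n, d, hd, hx⟩ := exists_psiN_div D q D' q' Dn M x
  have hne : psiN D q Dn M (algebraMap D' (CAlg2.normRed (Localization.AtPrime q)) d) ≠ 0 :=
    fun h => hd ((psiN_eq_zero_iff D q D' q' C Dn hq' M d).mp h)
  have h1 : σ₁ x * σ₁ (psiN D q Dn M (algebraMap D' (CAlg2.normRed (Localization.AtPrime q)) d)) =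
      σ₂ x * σ₁ (psiN D q Dn M (algebraMap D' (CAlg2.normRed (Localization.AtPrime q)) d)) := by
    rw [← map_mul, hx, hN n, ← hx, map_mul, hN]
  have h2 : σ₁ (psiN D q Dn M (algebraMap D' (CAlg2.normRed (Localization.AtPrime q)) d)) ≠ 0 :=
    (map_ne_zero σ₁).mpr hne
  exact mul_right_cancel₀ h2 h1


include hsep in
theorem isPurelyInseparable_quot :
    letI := (chi D q D' q' C Dn hq' M).toAlgebra
    IsPurelyInseparable (ResidueField C) (Dn ⧸ M) := by
  letI algk : Algebra (ResidueField C) (Dn ⧸ M) := (chi D q D' q' C Dn hq' M).toAlgebra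
  rw [isPurelyInseparable_iff_finSepDegree_eq_one, Field.finSepDegree,
    Nat.card_eq_one_iff_unique]
  exact ⟨emb_subsingleton D q D' q' C Dn hq' hsep M,
    ⟨IsScalarTower.toAlgHom (ResidueField C) (Dn ⧸ M) (AlgebraicClosure (Dn ⧸ M))⟩⟩

end PI

section Final
variable (D : Type u) [CommRing D] [IsDomain D] (q : Ideal D) [q.IsPrime]
  (D' : Type u) [CommRing D'] [Algebra D D'] [Algebra D' (CAlg2.normRed (Localization.AtPrime q))]
  [IsScalarTower D D' (CAlg2.normRed (Localization.AtPrime q))]
  (q' : Ideal D') [q'.IsPrime]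
  (C : Type u) [CommRing C] [Algebra D' C] [IsLocalization.AtPrime C q'] [IsLocalRing C]
  (hq' : q'.comap (algebraMap D D') = q)
  (hsep : Separates D q D')
  (hinj : Function.Injective (algebraMap D' (CAlg2.normRed (Localization.AtPrime q))))

theorem exists_Dn : ∃ (Dn : Type u) (_ : CommRing Dn)
    (_ : Algebra (CAlg2.normRed (Localization.AtPrime q)) Dn),
    IsLocalization (Algebra.algebraMapSubmonoid (CAlg2.normRed (Localization.AtPrime q))
      q'.primeCompl) Dn :=
  ⟨Localization (T D q D' q'), inferInstance, inferInstance, inferInstance⟩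

include hq' hsep hinj in
/-- **Key result**: if the algebra `D'` (inside the normalization) separates the
homomorphisms to the algebraic closure, then `D'` is geometrically unibranch at every prime
over `q`. -/
theorem isGeomUnibranch_of_separates : CAlg2.IsGeomUnibranch C := by
  obtain ⟨Dn, _, _, _⟩ := exists_Dn D q D' q'
  haveI hloc : IsLocalRing Dn := isLocalRing_Dn D q D' q' C Dn hq' hsep hinj
  haveI : IsDomain Dn := isDomain_Dn D q D' q' Dn hinj
  haveI : IsIntegrallyClosed Dn := isIntegrallyClosed_Dn D q D' q' Dn hinj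
  set M := maximalIdeal Dn with hM
  letI algk : Algebra (ResidueField C) (Dn ⧸ M) := (chi D q D' q' C Dn hq' M).toAlgebra
  haveI hpi := isPurelyInseparable_quot D q D' q' C Dn hq' hsep M
  obtain ⟨p, hexp⟩ : ∃ p, ExpChar (ResidueField C) p := ExpChar.exists _
  haveI := hexp
  refine Groth.Agent.H13.GUCrit.isGeomUnibranch_of_pi_normal C Dn (fC D q D' q' C Dn)
    (fC_isIntegral D q D' q' C Dn hq') ?_ p ?_ ?_
  · intro c hc
    have : c = 0 := fC_injective D q D' q' C Dn hinj (by rw [map_zero]; exact hc)
    rw [this]; exact Ideal.zero_mem _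
  · rcases expChar_is_prime_or_one (ResidueField C) p with hprime | h1
    · right
      refine ⟨hprime, ?_⟩
      haveI : CharP (ResidueField C) p := by
        rcases hexp with _ | ⟨_⟩
        · exact absurd hprime Nat.not_prime_one
        · assumption
      rw [← hM, ← Ideal.Quotient.eq_zero_iff_mem, map_natCast]
      have h0 : ((p : ℕ) : ResidueField C) = 0 := CharP.cast_eq_zero _ p
      have := congrArg (algebraMap (ResidueField C) (Dn ⧸ M)) h0
      rwa [map_natCast, map_zero] at this
    · left; exact h1
  · intro x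
    obtain ⟨n, c, hc⟩ := IsPurelyInseparable.pow_mem (ResidueField C) p (Ideal.Quotient.mk M x)
    obtain ⟨c, rfl⟩ := residue_surjective c
    refine ⟨n, c, ?_⟩
    rw [← hM, ← Ideal.Quotient.eq_zero_iff_mem, map_sub, map_pow, ← hc]
    rw [sub_eq_zero]
    exact chi_residue D q D' q' C Dn hq' M c

end Final

/-- **Finite geometrically unibranch cover** (cf. EGA IV 6.15.5/6.15.6): for a Noetherian domain
`D` and a prime `q`, there is a finite injective `D`-algebra `D'` (a domain, inside the
normalization of `D_q`) which is geometrically unibranch at every prime over `q`. -/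
theorem exists_finite_gu (D : Type u) [CommRing D] [IsDomain D] [IsNoetherianRing D]
    (q : Ideal D) [q.IsPrime] :
    ∃ (D' : Type u) (_ : CommRing D') (_ : IsDomain D') (_ : Algebra D D'),
      Module.Finite D D' ∧ Function.Injective (algebraMap D D') ∧
      ∀ (q' : Ideal D') [q'.IsPrime], q'.comap (algebraMap D D') = q →
        ∀ (C : Type u) [CommRing C] [IsLocalRing C] [Algebra D' C] [IsLocalization.AtPrime C q'],
          CAlg2.IsGeomUnibranch C := by
  haveI : Finite (Groth.Agent.H38.ClosureHom (Localization.AtPrime q)) :=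
    finite_closureHom (Localization.AtPrime q)
  obtain ⟨D', hfin, hsep⟩ := exists_finite_separating D q
  have hinjN : Function.Injective (algebraMap D (CAlg2.normRed (Localization.AtPrime q))) := by
    rw [IsScalarTower.algebraMap_eq D (Localization.AtPrime q)]
    exact (injective_algebraMap_normRed (Localization.AtPrime q)).comp
      (IsLocalization.injective (Localization.AtPrime q) q.primeCompl_le_nonZeroDivisors)
  refine ⟨D', inferInstance, inferInstance, inferInstance, hfin, ?_, ?_⟩
  · have : (algebraMap D (CAlg2.normRed (Localization.AtPrime q))) =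
        (algebraMap D' (CAlg2.normRed (Localization.AtPrime q))).comp (algebraMap D D') :=
      IsScalarTower.algebraMap_eq D D' _
    rw [this, RingHom.coe_comp] at hinjN
    exact Function.Injective.of_comp hinjN
  · intro q' _ hq' C _ _ _ _
    exact isGeomUnibranch_of_separates D q D' q' C hq' hsep Subtype.val_injective

end Groth.Agent.H25.GUCover
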