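import Groth.Agent.H25.FinBC
import Groth.Agent.H25.GUCover4
import Groth.Agent.S4934

set_option autoImplicit false
universe u
open CategoryTheory AlgebraicGeometry CategoryTheory.Limits TopologicalSpace

namespace Groth.Agent.H25.FinBC

/-- scheme-theoretic form of the finite geometrically unibranch cover -/
theorem exists_finite_gu_spec (D : Type u) [CommRing D] [IsDomain D] [IsNoetherianRing D]
    (q : Ideal D) [q.IsPrime] :
    ∃ (A : CommRingCat.{u}) (φ : CommRingCat.of D ⟶ A), φ.hom.Finite ∧ Function.Injective φ.hom ∧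
      ∀ t : PrimeSpectrum A, t.asIdeal.comap φ.hom = q →
        CAlg2.IsGeomUnibranch ((Spec A).presheaf.stalk t) := by
  obtain ⟨D', _, _, _, hfin, hinj, hgu⟩ := Groth.Agent.H25.GUCover.exists_finite_gu D q
  refine ⟨CommRingCat.of D', CommRingCat.ofHom (algebraMap D D'), ?_, hinj, ?_⟩
  · rw [CommRingCat.hom_ofHom, RingHom.finite_algebraMap]
    exact hfin
  · intro t ht
    letI k : Algebra D' ((Spec (CommRingCat.of D')).presheaf.stalk t) :=
      StructureSheaf.stalkAlgebra D' t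
    haveI : IsLocalization.AtPrime ((Spec (CommRingCat.of D')).presheaf.stalk t) t.asIdeal :=
      StructureSheaf.IsLocalization.to_stalk D' t
    exact hgu t.asIdeal ht _


/-- the affine case of EGA IV 14.4.7 (c ⇒ a) -/
theorem affine_case {X : Scheme.{u}} (R : CommRingCat.{u}) [IsNoetherianRing R]
    (f : X ⟶ Spec R) [LocallyOfFiniteType f] (x : X)
    (hmax : ∀ x₀ : X, f.base x₀ = f.base x → x ∈ closure {x₀} → x₀ = x)
    (H : ∀ (A : CommRingCat.{u}) (φ : R ⟶ A), φ.hom.Finite →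
      ∀ x' : ↥(pullback f (Spec.map φ)), (pullback.fst f (Spec.map φ)).base x' = x →
        EGA43.IsOpenAt (pullback.snd f (Spec.map φ)).base x') :
    EGA43.IsUnivOpenAt f x := by
  classical
  set y : PrimeSpectrum R := f.base x with hy
  haveI hfinι : Finite ↥(minimalPrimes R) :=
    (minimalPrimes.finite_of_isNoetherianRing R).to_subtype
  haveI hprime : ∀ 𝔭 : ↥(minimalPrimes R), 𝔭.1.IsPrime := fun 𝔭 => Ideal.IsMinimalPrime.isPrime 𝔭.2
  -- the prime of `R ⧸ 𝔭` to be treated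
  let q : ∀ 𝔭 : ↥(minimalPrimes R), Ideal (R ⧸ 𝔭.1) := fun 𝔭 =>
    if 𝔭.1 ≤ y.asIdeal then y.asIdeal.map (Ideal.Quotient.mk 𝔭.1) else ⊥
  haveI hq : ∀ 𝔭, (q 𝔭).IsPrime := by
    intro 𝔭
    by_cases h : 𝔭.1 ≤ y.asIdeal
    · simp only [q, if_pos h]
      apply Ideal.map_isPrime_of_surjective Ideal.Quotient.mk_surjective
      rwa [Ideal.mk_ker]
    · simp only [q, if_neg h]
      exact Ideal.isPrime_bot
  have hex := fun 𝔭 : ↥(minimalPrimes R) => exists_finite_gu_spec (R ⧸ 𝔭.1) (q 𝔭)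
  choose A φ hφfin hφinj hgu using hex
  let ψ : ∀ 𝔭 : ↥(minimalPrimes R), R ⟶ A 𝔭 := fun 𝔭 =>
    CommRingCat.ofHom (Ideal.Quotient.mk 𝔭.1) ≫ φ 𝔭
  have hψfin : ∀ 𝔭, (ψ 𝔭).hom.Finite := by
    intro 𝔭
    simp only [ψ, CommRingCat.hom_comp, CommRingCat.hom_ofHom]
    exact (hφfin 𝔭).comp (RingHom.Finite.of_surjective _ Ideal.Quotient.mk_surjective)
  have hψker : ∀ 𝔭, RingHom.ker (ψ 𝔭).hom = 𝔭.1 := by
    intro 𝔭
    ext r
    simp only [ψ, CommRingCat.hom_comp, CommRingCat.hom_ofHom, RingHom.mem_ker,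
      RingHom.comp_apply]
    rw [map_eq_zero_iff _ (hφinj 𝔭), Ideal.Quotient.eq_zero_iff_mem]
  haveI : ∀ 𝔭, IsFinite (Spec.map (ψ 𝔭)) := fun 𝔭 => (IsFinite.SpecMap_iff _).mpr (hψfin 𝔭)
  refine isUnivOpenAt_of_family f x (fun 𝔭 => Spec (A 𝔭)) (fun 𝔭 => Spec.map (ψ 𝔭)) ?_ ?_
  · -- joint surjectivity
    intro P
    obtain ⟨𝔭, h𝔭min, h𝔭le⟩ := Ideal.exists_minimalPrimes_le (I := (⊥ : Ideal R))
      (J := P.asIdeal) bot_le
    refine ⟨⟨𝔭, h𝔭min⟩, ?_⟩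
    letI := (ψ ⟨𝔭, h𝔭min⟩).hom.toAlgebra
    haveI : Algebra.IsIntegral R (A ⟨𝔭, h𝔭min⟩) := by
      have := (hψfin ⟨𝔭, h𝔭min⟩).to_isIntegral
      exact ⟨this⟩
    obtain ⟨Q, -, hQ, hQP⟩ := Ideal.exists_ideal_over_prime_of_isIntegral
      (S := A ⟨𝔭, h𝔭min⟩) P.asIdeal (⊥ : Ideal (A ⟨𝔭, h𝔭min⟩)) (by
        change RingHom.ker (ψ ⟨𝔭, h𝔭min⟩).hom ≤ _
        rw [hψker]; exact h𝔭le)
    refine ⟨⟨Q, hQ⟩, ?_⟩
    apply PrimeSpectrum.ext
    exact hQP
  · -- universal openness after base change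
    intro 𝔭 x₁ hx₁
    set t : PrimeSpectrum (A 𝔭) := (pullback.snd f (Spec.map (ψ 𝔭))).base x₁ with ht
    have ht1 : (Spec.map (ψ 𝔭)).base t = y := by
      rw [ht, ← Scheme.Hom.comp_apply, ← pullback.condition, Scheme.Hom.comp_apply, hx₁]
    have ht2 : t.asIdeal.comap (ψ 𝔭).hom = y.asIdeal := by
      rw [← ht1]; rfl
    have h𝔭le : 𝔭.1 ≤ y.asIdeal := by
      rw [← ht2, ← hψker 𝔭]
      exact Ideal.comap_mono bot_le
    have hq𝔭 : t.asIdeal.comap (φ 𝔭).hom = q 𝔭 := by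
      simp only [q, if_pos h𝔭le]
      rw [← ht2]
      have : t.asIdeal.comap (ψ 𝔭).hom =
          (t.asIdeal.comap (φ 𝔭).hom).comap (Ideal.Quotient.mk 𝔭.1) := by
        simp only [ψ, CommRingCat.hom_comp, CommRingCat.hom_ofHom]
        rw [Ideal.comap_comap]
      rw [this, Ideal.map_comap_of_surjective _ Ideal.Quotient.mk_surjective]
    have hGU := hgu 𝔭 t hq𝔭
    haveI : IsNoetherianRing (A 𝔭) := by
      letI := (ψ 𝔭).hom.toAlgebra
      haveI : Module.Finite R (A 𝔭) := hψfin 𝔭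
      exact Algebra.FiniteType.isNoetherianRing R (A 𝔭)
    have hmax' := maximal_of_quasiFinite f (Spec.map (ψ 𝔭)) x hmax x₁ hx₁
    have hopen := H (A 𝔭) (ψ 𝔭) (hψfin 𝔭) x₁ hx₁
    exact ((Groth.Agent.S4934.result (pullback.snd f (Spec.map (ψ 𝔭))) x₁ hmax' hGU).out 3 0).mp
      hopen

end Groth.Agent.H25.FinBC
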