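import Groth.Agent.H25.FinBCAffine

set_option autoImplicit false
open CategoryTheory AlgebraicGeometry
universe u v w
open EGA43

namespace Groth.Agent.H25.FinBC
open CategoryTheory.Limits

/-- EGA IV 14.4.7 (c ⇒ a) over a Noetherian base. -/
theorem isUnivOpenAt_of_finite_baseChange {X Y : Scheme.{u}} [IsNoetherian Y] (f : X ⟶ Y)
    [LocallyOfFiniteType f] (x : X)
    (hmax : ∀ x' : X, f.base x' = f.base x → x ∈ closure {x'} → x' = x)
    (H : ∀ (Y' : Scheme.{u}) (g : Y' ⟶ Y) [IsFinite g], ∀ x' : ↥(pullback f g),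
      (pullback.fst f g).base x' = x → EGA43.IsOpenAt (pullback.snd f g).base x') :
    EGA43.IsUnivOpenAt f x := by
  obtain ⟨W, hW, hyW⟩ : ∃ W : Y.Opens, IsAffineOpen W ∧ f.base x ∈ W := by
    obtain ⟨_, ⟨W, hW, rfl⟩, hy, -⟩ := Y.isBasis_affineOpens.exists_subset_of_mem_open
      (Set.mem_univ (f.base x)) isOpen_univ
    exact ⟨W, hW, hy⟩
  haveI : IsNoetherianRing Γ(Y, W) := IsLocallyNoetherian.component_noetherian ⟨W, hW⟩
  set ι := hW.fromSpec with hι
  have hy₀ : f.base x ∈ Set.range ι.base := by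
    rw [hι, hW.range_fromSpec]; exact hyW
  obtain ⟨y₀, hy₀⟩ := hy₀
  obtain ⟨xW, hxW1, hxW2⟩ := Scheme.Pullback.exists_preimage_pullback (f := f) (g := ι) x y₀
    hy₀.symm
  have key : EGA43.IsUnivOpenAt (pullback.snd f ι) xW := by
    apply affine_case Γ(Y, W) (pullback.snd f ι) xW
    · exact maximal_of_quasiFinite f ι x hmax xW hxW1
    · intro A φ hφ x' hx'
      haveI : IsFinite (Spec.map φ) := (IsFinite.SpecMap_iff _).mpr hφ
      have sq := (IsPullback.of_hasPullback (pullback.snd f ι) (Spec.map φ)).paste_horiz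
        (IsPullback.of_hasPullback f ι)
      refine isOpenAt_of_quasiFinite f x H (Spec.map φ ≫ ι) sq x' ?_
      rw [Scheme.Hom.comp_apply, hx', hxW1]
  have := isUnivOpenAt_of_openImmersion f ι xW key
  rwa [hxW1] at this

end Groth.Agent.H25.FinBC
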