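import Mathlib.RingTheory.Ideal.KrullsHeightTheorem
import Mathlib.RingTheory.Ideal.MinimalPrime.Noetherian
import Mathlib.RingTheory.Ideal.Operations
import Mathlib.RingTheory.Spectrum.Prime.Topology
import Mathlib.AlgebraicGeometry.Noetherian
import Mathlib.AlgebraicGeometry.AffineScheme
import Mathlib.AlgebraicGeometry.Morphisms.QuasiCompact

set_option autoImplicit false
universe u
open CategoryTheory AlgebraicGeometry TopologicalSpace Topology

namespace Groth.Agent.H25

open Ideal in
/-- Core lemma: in a Noetherian ring `A` with a smallest prime `P₀` and an element `f ∉ P₀` lying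
in every other prime, every prime `≠ P₀` is a minimal prime over `(f)`. -/
theorem mem_minimalPrimes_span_of_forall_mem {A : Type u} [CommRing A] [IsNoetherianRing A]
    (P₀ : Ideal A) [P₀.IsPrime] (hP₀ : ∀ p : Ideal A, p.IsPrime → P₀ ≤ p)
    (f : A) (hf₀ : f ∉ P₀) (hf : ∀ p : Ideal A, p.IsPrime → p ≠ P₀ → f ∈ p)
    (p : Ideal A) [hp : p.IsPrime] (hpne : p ≠ P₀) :
    p ∈ (Ideal.span {f}).minimalPrimes := by
  classical
  by_contra hpS
  have hfin := Ideal.finite_minimalPrimes_of_isNoetherianRing A (Ideal.span {f})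
  set S : Finset (Ideal A) := insert P₀ hfin.toFinset with hS
  have hSprime : ∀ q ∈ S, q.IsPrime := by
    intro q hq
    rcases Finset.mem_insert.1 hq with rfl | hq
    · infer_instance
    · exact ((Set.Finite.mem_toFinset hfin).1 hq).1.1
  have hnot : ¬ ((p : Set A) ⊆ ⋃ q ∈ (↑S : Set (Ideal A)), (id q : Ideal A)) := by
    rw [Ideal.subset_union_prime (f := id) (⊥ : Ideal A) ⊥ (fun q hq _ _ => hSprime q hq)]
    rintro ⟨q, hq, hpq⟩
    rcases Finset.mem_insert.1 hq with rfl | hq
    · exact hpne (le_antisymm hpq (hP₀ p hp))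
    · have hqmin := (Set.Finite.mem_toFinset hfin).1 hq
      have : q ≤ p := hqmin.2 ⟨hp, (Ideal.span_singleton_le_iff_mem _).2 (hf p hp hpne)⟩ hpq
      exact hpS (le_antisymm hpq this ▸ hqmin)
  rw [Set.not_subset] at hnot
  obtain ⟨g, hgp, hgS⟩ := hnot
  have hgS' : ∀ q ∈ S, g ∉ q := by
    intro q hq hgq
    exact hgS (Set.mem_biUnion (Finset.mem_coe.2 hq) hgq)
  obtain ⟨q', hq'min, hq'p⟩ := Ideal.exists_minimalPrimes_le
    (I := Ideal.span {g}) (J := p) ((Ideal.span_singleton_le_iff_mem _).2 hgp)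
  have hq'prime : q'.IsPrime := hq'min.1.1
  have hgq' : g ∈ q' := (Ideal.span_singleton_le_iff_mem _).1 hq'min.1.2
  have hht : q'.height ≤ 1 :=
    Ideal.height_le_one_of_isPrincipal_of_mem_minimalPrimes (Ideal.span {g}) q' hq'min
  have hq'ne : q' ≠ P₀ := by
    rintro rfl
    exact hgS' _ (Finset.mem_insert_self _ _) hgq'
  have hfq' : f ∈ q' := hf q' hq'prime hq'ne
  obtain ⟨q, hqmin, hqq'⟩ := Ideal.exists_minimalPrimes_le
    (I := Ideal.span {f}) (J := q') ((Ideal.span_singleton_le_iff_mem _).2 hfq')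
  have hqprime : q.IsPrime := hqmin.1.1
  have hqS : q ∈ S := Finset.mem_insert_of_mem ((Set.Finite.mem_toFinset hfin).2 hqmin)
  have hlt1 : q < q' := lt_of_le_of_ne hqq' (by
    rintro rfl
    exact hgS' _ hqS hgq')
  have hfq : f ∈ q := (Ideal.span_singleton_le_iff_mem _).1 hqmin.1.2
  have hlt0 : P₀ < q := lt_of_le_of_ne (hP₀ q hqprime) (by
    rintro rfl
    exact hf₀ hfq)
  have h1 := Ideal.height_add_one_le_of_lt_of_isPrime hlt1
  have h0 := Ideal.height_add_one_le_of_lt_of_isPrime hlt0
  have : (2 : ℕ∞) ≤ 1 := by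
    calc (2 : ℕ∞) = 0 + 1 + 1 := by norm_num
      _ ≤ P₀.height + 1 + 1 := by gcongr; exact zero_le
      _ ≤ q.height + 1 := by gcongr
      _ ≤ q'.height := h1
      _ ≤ 1 := hht
  exact absurd this (by norm_num)

/-- Noetherian ring whose spectrum has an open generic point: the spectrum is finite and all
non-generic points are pairwise incomparable. -/
theorem primeSpectrum_finite_of_isOpen_singleton {R : Type u} [CommRing R] [IsNoetherianRing R]
    (P₀ : PrimeSpectrum R) (hopen : IsOpen ({P₀} : Set (PrimeSpectrum R)))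
    (hgen : ∀ p : PrimeSpectrum R, P₀ ⤳ p) :
    Finite (PrimeSpectrum R) ∧ ∀ q p : PrimeSpectrum R, q ≠ P₀ → q ⤳ p → q = p := by
  obtain ⟨_, ⟨f, rfl⟩, hP₀f, hfsub⟩ :=
    PrimeSpectrum.isTopologicalBasis_basic_opens.exists_subset_of_mem_open
      (Set.mem_singleton P₀) hopen
  have hf₀ : f ∉ P₀.asIdeal := hP₀f
  have hle : ∀ p : Ideal R, p.IsPrime → P₀.asIdeal ≤ p := fun p hp =>
    (PrimeSpectrum.le_iff_specializes P₀ ⟨p, hp⟩).2 (hgen ⟨p, hp⟩)
  have hf : ∀ p : Ideal R, p.IsPrime → p ≠ P₀.asIdeal → f ∈ p := by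
    intro p hp hne
    by_contra hfp
    have : (⟨p, hp⟩ : PrimeSpectrum R) ∈ ({P₀} : Set (PrimeSpectrum R)) := hfsub hfp
    rw [Set.mem_singleton_iff] at this
    exact hne (by rw [← this])
  have key : ∀ p : PrimeSpectrum R, p ≠ P₀ → p.asIdeal ∈ (Ideal.span {f}).minimalPrimes := by
    intro p hp
    have := p.isPrime
    exact mem_minimalPrimes_span_of_forall_mem P₀.asIdeal hle f hf₀ hf p.asIdeal
      (fun h => hp (PrimeSpectrum.ext h))
  constructor
  · have hfin := Ideal.finite_minimalPrimes_of_isNoetherianRing R (Ideal.span {f})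
    have hfin' : (insert P₀.asIdeal (Ideal.span {f}).minimalPrimes).Finite := hfin.insert _
    have : Set.range (fun p : PrimeSpectrum R => p.asIdeal) ⊆
        insert P₀.asIdeal (Ideal.span {f}).minimalPrimes := by
      rintro _ ⟨p, rfl⟩
      by_cases hp : p = P₀
      · subst hp; exact Set.mem_insert _ _
      · exact Set.mem_insert_of_mem _ (key p hp)
    have hr := hfin'.subset this
    have hinj : Function.Injective (fun p : PrimeSpectrum R => p.asIdeal) :=
      fun p q h => PrimeSpectrum.ext h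
    exact (Set.finite_range_iff hinj).1 hr |> fun h => h
  · intro q p hq hqp
    have hqp' : q ≤ p := (PrimeSpectrum.le_iff_specializes q p).2 hqp
    have hp : p ≠ P₀ := by
      rintro rfl
      exact hq (le_antisymm hqp' ((PrimeSpectrum.le_iff_specializes _ _).2 (hgen q)))
    have hpm := key p hp
    have hqm := key q hq
    have : p.asIdeal ≤ q.asIdeal := hpm.2 hqm.1 hqp'
    exact le_antisymm hqp' this


/-- Affine-local version: `z` a point of a locally Noetherian scheme which is open in its closure.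
Then `closure {z}` meets every affine open in a finite set, and no non-generic point of
`closure {z}` has a proper specialization inside the affine open. -/
theorem finite_closure_inter_affine (X : Scheme.{u}) [IsLocallyNoetherian X] (z : X)
    (O : Set X) (hO : IsOpen O) (hOz : O ∩ closure {z} = {z})
    (U : X.Opens) (hU : IsAffineOpen U) :
    (closure ({z} : Set X) ∩ U).Finite ∧
      ∀ q p : X, p ∈ U → q ∈ closure ({z} : Set X) → q ≠ z → q ⤳ p → q = p := by
  by_cases hzU : z ∈ U
  swap
  · have hempty : ∀ y, y ∈ closure ({z} : Set X) → y ∈ U → False := by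
      intro y hy hyU
      exact hzU ((specializes_iff_mem_closure.2 hy).mem_open U.2 hyU)
    refine ⟨?_, ?_⟩
    · convert Set.finite_empty
      ext y
      simp only [Set.mem_inter_iff, Set.mem_empty_iff_false, iff_false, not_and]
      exact fun hy hyU => hempty y hy hyU
    · intro q p hp hq _ hqp
      exact (hempty q hq (hqp.mem_open U.2 hp)).elim
  have : IsNoetherianRing Γ(X, U) := IsLocallyNoetherian.component_noetherian ⟨U, hU⟩
  set j : PrimeSpectrum Γ(X, U) → X := ⇑hU.fromSpec with hj
  have hjemb : IsOpenEmbedding j := hU.fromSpec.isOpenEmbedding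
  have hjrange : Set.range j = U := hU.range_fromSpec
  set t : Set (PrimeSpectrum Γ(X, U)) := j ⁻¹' closure {z} with ht
  have htcl : IsClosed t := isClosed_closure.preimage hjemb.continuous
  set I : Ideal Γ(X, U) := PrimeSpectrum.vanishingIdeal t with hI
  have hzI : PrimeSpectrum.zeroLocus (I : Set Γ(X, U)) = t := by
    rw [hI, PrimeSpectrum.zeroLocus_vanishingIdeal_eq_closure, htcl.closure_eq]
  have hsurj : Function.Surjective (Ideal.Quotient.mk I) := Ideal.Quotient.mk_surjective
  set c : PrimeSpectrum (Γ(X, U) ⧸ I) → PrimeSpectrum Γ(X, U) :=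
    PrimeSpectrum.comap (Ideal.Quotient.mk I) with hc
  have hcemb : IsClosedEmbedding c := PrimeSpectrum.isClosedEmbedding_comap_of_surjective _ _ hsurj
  have hcrange : Set.range c = t := by
    rw [hc, range_comap_of_surjective _ _ hsurj, Ideal.mk_ker, hzI]
  set j' : PrimeSpectrum (Γ(X, U) ⧸ I) → X := j ∘ c with hj'
  have hj'emb : IsEmbedding j' := hjemb.isEmbedding.comp hcemb.isEmbedding
  have hj'range : Set.range j' = closure {z} ∩ U := by
    rw [hj', Set.range_comp, hcrange, ht, Set.image_preimage_eq_inter_range, hjrange]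
  have hj'mem : ∀ p, j' p ∈ closure ({z} : Set X) := fun p =>
    (hj'range ▸ Set.mem_range_self p : j' p ∈ closure {z} ∩ U).1
  obtain ⟨P₀, hP₀⟩ : z ∈ Set.range j' := by
    rw [hj'range]; exact ⟨subset_closure rfl, hzU⟩
  have hopen : IsOpen ({P₀} : Set (PrimeSpectrum (Γ(X, U) ⧸ I))) := by
    have : ({P₀} : Set (PrimeSpectrum (Γ(X, U) ⧸ I))) = j' ⁻¹' O := by
      ext p
      simp only [Set.mem_singleton_iff, Set.mem_preimage]
      constructor
      · rintro rfl
        rw [hP₀]
        have : z ∈ O ∩ closure {z} := by rw [hOz]; rfl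
        exact this.1
      · intro hp
        have : j' p ∈ O ∩ closure {z} := ⟨hp, hj'mem p⟩
        rw [hOz, Set.mem_singleton_iff, ← hP₀] at this
        exact hj'emb.injective this
    rw [this]
    exact hO.preimage hj'emb.continuous
  have hgen : ∀ p, P₀ ⤳ p := by
    intro p
    rw [← hj'emb.isInducing.specializes_iff, hP₀]
    exact specializes_iff_mem_closure.2 (hj'mem p)
  obtain ⟨hfin, hinc⟩ := primeSpectrum_finite_of_isOpen_singleton P₀ hopen hgen
  refine ⟨?_, ?_⟩
  · rw [← hj'range]
    exact Set.finite_range j'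
  · intro q p hp hq hqz hqp
    have hqU : q ∈ U := hqp.mem_open U.2 hp
    have hpz : p ∈ closure ({z} : Set X) :=
      specializes_iff_mem_closure.1 ((specializes_iff_mem_closure.2 hq).trans hqp)
    obtain ⟨q', rfl⟩ : q ∈ Set.range j' := by rw [hj'range]; exact ⟨hq, hqU⟩
    obtain ⟨p', rfl⟩ : p ∈ Set.range j' := by rw [hj'range]; exact ⟨hpz, hp⟩
    have hq'ne : q' ≠ P₀ := by
      rintro rfl
      exact hqz hP₀
    rw [hinc q' p' hq'ne (hj'emb.isInducing.specializes_iff.1 hqp)]

/-- `z` a point of a Noetherian scheme which is open in its closure. Then `closure {z}` is finite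
and no non-generic point of it has a proper specialization. -/
theorem finite_closure_of_isOpen_singleton (X : Scheme.{u}) [IsNoetherian X] (z : X)
    (O : Set X) (hO : IsOpen O) (hOz : O ∩ closure {z} = {z}) :
    (closure ({z} : Set X)).Finite ∧
      ∀ q p : X, q ∈ closure ({z} : Set X) → q ≠ z → q ⤳ p → q = p := by
  constructor
  · obtain ⟨s, hs, hs'⟩ := (isCompact_and_isOpen_iff_finite_and_eq_biUnion_affineOpens
      (X := X) (U := Set.univ)).1 ⟨isCompact_univ, isOpen_univ⟩
    have : closure ({z} : Set X) = ⋃ i ∈ s, (closure ({z} : Set X) ∩ (i : X.Opens)) := by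
      rw [← Set.inter_iUnion₂, ← hs', Set.inter_univ]
    rw [this]
    exact hs.biUnion fun i _ => (finite_closure_inter_affine X z O hO hOz i.1 i.2).1
  · intro q p hq hqz hqp
    obtain ⟨_, ⟨V, hV, rfl⟩, hpV, -⟩ :=
      (X.isBasis_affineOpens).exists_subset_of_mem_open (Set.mem_univ p) isOpen_univ
    exact (finite_closure_inter_affine X z O hO hOz V hV).2 q p hpV hq hqz hqp

end Groth.Agent.H25
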