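import Mathlib.AlgebraicGeometry.Morphisms.FiniteType
import Mathlib.AlgebraicGeometry.ResidueField
import Mathlib.AlgebraicGeometry.Morphisms.Finite
import Mathlib.RingTheory.Jacobson.Ring
import Mathlib.GroupTheory.FiniteAbelian.Basic

set_option autoImplicit false
universe u
open CategoryTheory AlgebraicGeometry

namespace Groth.Agent.H25

instance isJacobsonRing_int : IsJacobsonRing ℤ := by
  rw [isJacobsonRing_iff_prime_eq]
  intro P hP
  by_cases h0 : P = ⊥
  · subst h0
    refine le_antisymm ?_ Ideal.le_jacobson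
    intro x hx
    rw [Ideal.mem_jacobson_bot] at hx
    have h1 := hx x
    rw [Int.isUnit_iff] at h1
    have hx0 : x = 0 := by
      rcases h1 with h1 | h1
      · have : x * x = 0 := by linarith
        simpa using this
      · nlinarith [mul_self_nonneg x]
    simp [hx0]
  · have : P.IsMaximal := hP.isMaximal h0
    exact Ideal.jacobson_eq_self_of_isMaximal

instance : IsJacobsonRing (ULift.{u} ℤ) :=
  (isJacobsonRing_iso (ULift.ringEquiv (R := ℤ))).mpr inferInstance

/-- A field which is a finitely generated ℤ-module is finite. -/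
theorem finite_of_field_of_moduleFinite_int (K : Type*) [Field K] [Module.Finite ℤ K] : Finite K := by
  have hnotinj : ¬ Function.Injective (algebraMap ℤ K) := by
    intro hinj
    have : Algebra.IsIntegral ℤ K := inferInstance
    exact Int.not_isField (isField_of_isIntegral_of_isField hinj (Field.toIsField K))
  rw [injective_iff_map_eq_zero] at hnotinj
  push Not at hnotinj
  obtain ⟨n, hn0, hn⟩ := hnotinj
  apply Module.finite_of_fg_torsion
  intro x
  refine ⟨⟨n, mem_nonZeroDivisors_of_ne_zero hn⟩, ?_⟩
  change n • x = 0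
  rw [← algebraMap_smul K n x, hn0, zero_smul]

end Groth.Agent.H25

namespace Groth.Agent.H25

theorem isClosed_singleton_iff_finite_residueField (Y : Scheme.{u})
    [LocallyOfFiniteType (Limits.IsTerminal.from specULiftZIsTerminal Y)] (y : Y) :
    IsClosed ({y} : Set Y) ↔ Finite ↑(Y.residueField y) := by
  set t := Limits.IsTerminal.from specULiftZIsTerminal Y
  have hJ : JacobsonSpace Y := LocallyOfFiniteType.jacobsonSpace t
  let ψ : CommRingCat.of (ULift.{u} ℤ) ⟶ Y.residueField y :=
    CommRingCat.ofHom ((Int.castRingHom _).comp (ULift.ringEquiv (R := ℤ)).toRingHom)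
  have hcomp : Y.fromSpecResidueField y ≫ t = Spec.map ψ := specULiftZIsTerminal.hom_ext _ _
  constructor
  · intro hcl
    have := isClosed_singleton_iff_isClosedImmersion.mp hcl
    have h1 : LocallyOfFiniteType (Spec.map ψ) := hcomp ▸ inferInstance
    have h2 : IsFinite (Spec.map ψ) := isFinite_iff_locallyOfFiniteType_of_jacobsonSpace.mpr h1
    rw [IsFinite.SpecMap_iff] at h2
    have h3 : (algebraMap ℤ (Y.residueField y)).Finite := by
      have : algebraMap ℤ (Y.residueField y) =
          ψ.hom.comp (ULift.ringEquiv (R := ℤ)).symm.toRingHom := RingHom.ext_int _ _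
      rw [this]
      exact h2.comp (RingHom.Finite.of_surjective _ (ULift.ringEquiv (R := ℤ)).symm.surjective)
    have h4 : Module.Finite ℤ (Y.residueField y) := by
      exact RingHom.finite_algebraMap.mp h3
    exact finite_of_field_of_moduleFinite_int _
  · intro hfin
    have h2 : ψ.hom.Finite := by
      exact @Module.Finite.of_finite _ _ _ _ ψ.hom.toAlgebra.toModule hfin
    have h3 : IsFinite (Spec.map ψ) := (IsFinite.SpecMap_iff ψ).mpr h2
    have h4 : LocallyOfFiniteType (Y.fromSpecResidueField y ≫ t) := hcomp ▸ inferInstance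
    have := locallyOfFiniteType_of_comp (Y.fromSpecResidueField y) t
    exact isClosed_singleton_iff_locallyOfFiniteType.mpr this

end Groth.Agent.H25

namespace Groth.Agent.H25

theorem finite_ringHom_of_finiteType_int (A : Type*) [CommRing A] [Algebra.FiniteType ℤ A]
    (F : Type*) [CommRing F] [Finite F] : Finite (A →+* F) := by
  obtain ⟨s, hs⟩ := (Algebra.FiniteType.out : (⊤ : Subalgebra ℤ A).FG)
  let Φ : (A →+* F) → (s → F) := fun f a => f a
  refine Finite.of_injective Φ ?_
  intro f g hfg
  have : f.toIntAlgHom = g.toIntAlgHom := by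
    refine AlgHom.ext_of_adjoin_eq_top hs ?_
    intro a ha
    exact congrFun hfg ⟨a, ha⟩
  ext a
  exact congrArg (fun h : A →ₐ[ℤ] F => h a) this

theorem finiteType_int_of_isAffineOpen (Y : Scheme.{u})
    [LocallyOfFiniteType (Limits.IsTerminal.from specULiftZIsTerminal Y)]
    (U : Y.Opens) (hU : IsAffineOpen U) : Algebra.FiniteType ℤ Γ(Y, U) := by
  set t := Limits.IsTerminal.from specULiftZIsTerminal Y
  have h1 := HasRingHomProperty.appLE (P := @LocallyOfFiniteType) t inferInstance
    ⟨⊤, isAffineOpen_top _⟩ ⟨U, hU⟩ le_top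
  let R : CommRingCat.{u} := CommRingCat.of (ULift.{u} ℤ)
  let g : ℤ →+* Γ(Spec R, ⊤) :=
    (Scheme.ΓSpecIso R).inv.hom.comp (ULift.ringEquiv (R := ℤ)).symm.toRingHom
  have hg : Function.Surjective g := by
    have h2 : Function.Bijective (Scheme.ΓSpecIso R).inv.hom :=
      ConcreteCategory.bijective_of_isIso (Scheme.ΓSpecIso R).inv
    exact h2.surjective.comp (ULift.ringEquiv (R := ℤ)).symm.surjective
  have h3 : (algebraMap ℤ Γ(Y, U)).FiniteType := by
    have : algebraMap ℤ Γ(Y, U) = (t.appLE ⊤ U le_top).hom.comp g := RingHom.ext_int _ _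
    rw [this]
    exact h1.comp (RingHom.FiniteType.of_surjective _ hg)
  exact RingHom.finiteType_algebraMap.mp h3

end Groth.Agent.H25

namespace Groth.Agent.H25

theorem finite_setOf_residueField_hom_inter_affineOpen (Y : Scheme.{u})
    [LocallyOfFiniteType (Limits.IsTerminal.from specULiftZIsTerminal Y)]
    (U : Y.Opens) (hU : IsAffineOpen U) (F : Type*) [Field F] [Finite F] :
    ({y : Y | Nonempty (↑(Y.residueField y) →+* F)} ∩ U).Finite := by
  have hft : Algebra.FiniteType ℤ Γ(Y, U) := finiteType_int_of_isAffineOpen Y U hU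
  have hfin : Finite (Γ(Y, U) →+* F) := finite_ringHom_of_finiteType_int _ F
  rw [← Set.finite_coe_iff]
  let Φ : ↥({y : Y | Nonempty (↑(Y.residueField y) →+* F)} ∩ U) → (Γ(Y, U) →+* F) :=
    fun y => (y.2.1.some).comp (Y.evaluation U y.1 y.2.2).hom
  refine Finite.of_injective Φ ?_
  rintro ⟨y, hy, hyU⟩ ⟨y', hy', hyU'⟩ h
  have key : ∀ f : Γ(Y, U), y ∈ Y.basicOpen f ↔ y' ∈ Y.basicOpen f := by
    intro f
    rw [← Scheme.evaluation_ne_zero_iff_mem_basicOpen Y y hyU,
      ← Scheme.evaluation_ne_zero_iff_mem_basicOpen Y y' hyU']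
    have h1 : Φ ⟨y, hy, hyU⟩ f = Φ ⟨y', hy', hyU'⟩ f := by rw [h]
    simp only [Φ, RingHom.comp_apply] at h1
    rw [not_iff_not]
    constructor
    · intro h0
      have : (hy'.some) ((Y.evaluation U y' hyU').hom f) = 0 := by
        rw [← h1]
        change hy.some ((Y.evaluation U y hyU) f) = 0
        rw [h0, map_zero]
      exact (map_eq_zero_iff _ (RingHom.injective _)).1 this
    · intro h0
      have : (hy.some) ((Y.evaluation U y hyU).hom f) = 0 := by
        rw [h1]
        change hy'.some ((Y.evaluation U y' hyU') f) = 0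
        rw [h0, map_zero]
      exact (map_eq_zero_iff _ (RingHom.injective _)).1 this
  have hins : Inseparable y y' := by
    rw [inseparable_iff_forall_isOpen]
    intro V hV
    constructor
    · intro hyV
      obtain ⟨f, hfV, hyf⟩ := hU.exists_basicOpen_le (V := ⟨V, hV⟩) ⟨y, hyV⟩ hyU
      exact hfV ((key f).1 hyf)
    · intro hyV
      obtain ⟨f, hfV, hyf⟩ := hU.exists_basicOpen_le (V := ⟨V, hV⟩) ⟨y', hyV⟩ hyU'
      exact hfV ((key f).2 hyf)
  exact Subtype.ext hins.eq

end Groth.Agent.H25

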