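import Mathlib
import Groth.Agent.H2.Tor1

set_option autoImplicit false
universe u
open scoped TensorProduct
open Function (Injective Surjective Exact)

namespace Groth.Agent.H25.FlatExt
open Groth.Agent.H2

section ext

variable {R : Type u} [CommRing R] {M' M M'' : Type u} [AddCommGroup M'] [Module R M']
  [AddCommGroup M] [Module R M] [AddCommGroup M''] [Module R M'']

/-- an extension of flat modules is flat -/
theorem flat_of_exact (f : M' →ₗ[R] M) (g : M →ₗ[R] M'') (hf : Injective f) (hfg : Exact f g)
    (hg : Surjective g) [Module.Flat R M'] [Module.Flat R M''] : Module.Flat R M := by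
  rw [flat_iff_forall_tor1Zero]
  intro N _ _
  rw [tor1Zero_comm]
  exact tor1Zero_of_exact f g hf hfg hg tor1Zero_of_flat_left tor1Zero_of_flat_left

/-- the kernel of a surjection of flat modules is flat -/
theorem flat_ker_of_exact (f : M' →ₗ[R] M) (g : M →ₗ[R] M'') (hf : Injective f) (hfg : Exact f g)
    (hg : Surjective g) [Module.Flat R M] [Module.Flat R M''] : Module.Flat R M' := by
  rw [Module.Flat.iff_rTensor_injective']
  intro I
  have h1 : Injective (f.lTensor I) :=
    lTensor_injective_of_tor1Zero f g hf hfg hg (tor1Zero_of_flat_left)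
  have h2 : Injective (I.subtype.rTensor M) :=
    Module.Flat.rTensor_preserves_injective_linearMap _ (Submodule.injective_subtype I)
  have h3 : Injective ((f.lTensor R) ∘ₗ (I.subtype.rTensor M')) := by
    rw [LinearMap.lTensor_comp_rTensor, ← LinearMap.rTensor_comp_lTensor]
    exact h2.comp h1
  exact Function.Injective.of_comp h3

end ext


section loc

variable {A B : Type u} [CommRing A] [CommRing B] [Algebra A B]
  {N : Type u} [AddCommGroup N] [Module A N] [Module B N] [IsScalarTower A B N]

/-- the identification of `RestrictScalars A B N` with `N` -/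
def restrictScalarsEquiv : RestrictScalars A B N ≃ₗ[A] N :=
  { RestrictScalars.addEquiv A B N with
    map_smul' := fun a x => by
      simp only [AddEquiv.toFun_eq_coe, RingHom.id_apply]
      rw [RestrictScalars.addEquiv_map_smul, algebraMap_smul] }

theorem flat_restrictScalars_iff :
    Module.Flat A (RestrictScalars A B N) ↔ Module.Flat A N :=
  ⟨fun _ => Module.Flat.of_linearEquiv (restrictScalarsEquiv (A := A) (B := B) (N := N)).symm,
    fun _ => Module.Flat.of_linearEquiv (restrictScalarsEquiv (A := A) (B := B) (N := N))⟩

/-- localization (over `B`) of a module flat over `A` is flat over `A` -/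
theorem flat_localizedModule (S : Submonoid B) (h : Module.Flat A N) :
    Module.Flat A (LocalizedModule S N) := by
  have hsm : ∀ (a : A) (z : LocalizedModule S N), a • z = algebraMap A B a • z :=
    fun a z => (algebraMap_smul B a z).symm
  rw [Module.Flat.iff_forall_isTrivialRelation] at h ⊢
  intro l f x' hfx
  have h0 : ∑ i, algebraMap A B (f i) • x' i = 0 := by
    rw [← hfx]
    exact Finset.sum_congr rfl fun i _ => (hsm _ _).symm
  obtain ⟨b, hb⟩ := IsLocalizedModule.exist_integer_multiples_of_finite S
    (LocalizedModule.mkLinearMap S N) x'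
  choose m hm using hb
  have h1 : LocalizedModule.mkLinearMap S N (∑ i, algebraMap A B (f i) • m i) = 0 := by
    rw [map_sum]
    simp only [map_smul, hm]
    have : ∑ i, algebraMap A B (f i) • (b : B) • x' i =
        (b : B) • ∑ i, algebraMap A B (f i) • x' i := by
      rw [Finset.smul_sum]
      exact Finset.sum_congr rfl fun i _ => smul_comm _ _ _
    rw [this, h0, smul_zero]
  obtain ⟨t, ht⟩ := (IsLocalizedModule.eq_zero_iff S (LocalizedModule.mkLinearMap S N)).mp h1
  have h2 : ∑ i, f i • ((t : B) • m i) = 0 := by
    rw [← ht, Submonoid.smul_def, Finset.smul_sum]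
    refine Finset.sum_congr rfl fun i _ => ?_
    rw [algebraMap_smul, smul_comm]
  obtain ⟨k, a, y, hxy, hfa⟩ := h h2
  refine ⟨k, a, fun j => LocalizedModule.mk (y j) (t * b), ?_, hfa⟩
  intro i
  have hL : ∀ (s : S) (n : N), (LocalizedModule.divBy s) (LocalizedModule.mkLinearMap S N n) =
      LocalizedModule.mk n s := by
    intro s n
    rw [LocalizedModule.divBy_apply, LocalizedModule.mkLinearMap_apply, LocalizedModule.liftOn_mk,
      one_mul]
  have h3 : x' i = LocalizedModule.mk ((t : B) • m i) (t * b) := by
    have h4 := hm i
    rw [LocalizedModule.mkLinearMap_apply] at h4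
    have h5 : x' i = LocalizedModule.mk (m i) b := by
      apply IsLocalizedModule.smul_injective (LocalizedModule.mkLinearMap S N) b
      simp only
      rw [Submonoid.smul_def, ← h4, Submonoid.smul_def, LocalizedModule.smul'_mk,
        ← Submonoid.smul_def, LocalizedModule.mk_cancel]
    rw [h5, ← Submonoid.smul_def, LocalizedModule.mk_cancel_common_left]
  have hxy' := hxy i
  simp only at hxy'
  rw [h3, hxy', ← hL, map_sum, map_sum]
  refine Finset.sum_congr rfl fun j _ => ?_
  rw [← algebraMap_smul B (a i j) (y j), map_smul, map_smul, hL, hsm]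

/-- `RestrictScalars` form -/
theorem flat_restrictScalars_localizedModule (S : Submonoid B) (h : Module.Flat A N) :
    Module.Flat A (RestrictScalars A B (LocalizedModule S N)) := by
  exact (flat_restrictScalars_iff (A := A) (B := B) (N := LocalizedModule S N)).mpr
    (flat_localizedModule S h)

end loc

end Groth.Agent.H25.FlatExt
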