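import Mathlib

set_option autoImplicit false
universe u
open TensorProduct

namespace Groth.Agent.H25.FrobRed

variable {k : Type*} [Field k] (p : ℕ) [Fact p.Prime] [CharP k p]
  {S : Type*} [CommRing S] [Algebra k S]

theorem nontrivial_tensor (K' : Type*) [Field K'] [Algebra k K'] [Nontrivial S] :
    Nontrivial (K' ⊗[k] S) := by
  have hinj := Module.Flat.tensorProduct_mk_injective (R := k) (S := K') (M := S)
  refine ⟨⟨(1 : K') ⊗ₜ[k] (1 : S), 0, fun h => ?_⟩⟩
  have h' : TensorProduct.mk k K' S 1 (1 : S) = TensorProduct.mk k K' S 1 (0 : S) := by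
    rw [TensorProduct.mk_apply, TensorProduct.mk_apply, TensorProduct.tmul_zero]; exact h
  exact one_ne_zero (hinj h')

theorem subsingleton_tensor (K' : Type*) [Field K'] [Algebra k K'] [Subsingleton S] :
    Subsingleton (K' ⊗[k] S) := by
  apply subsingleton_of_zero_eq_one
  rw [Algebra.TensorProduct.one_def, Subsingleton.elim (1 : S) 0, TensorProduct.tmul_zero]

/-- MacLane: if `K' ⊗ S` is reduced for an extension `K'` containing `p`-th roots of all elements
of `k`, then `p`-th powers of a basis remain linearly independent. -/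
theorem linearIndependent_pow_of_isReduced (K' : Type*) [Field K'] [Algebra k K']
    (hroot : ∀ a : k, ∃ r : K', r ^ p = algebraMap k K' a) [IsReduced (K' ⊗[k] S)]
    {ι : Type*} (b : Module.Basis ι k S) : LinearIndependent k (fun i => b i ^ p) := by
  classical
  rcases subsingleton_or_nontrivial S with hS | hS
  · haveI : IsEmpty ι := ⟨fun i => b.ne_zero i (Subsingleton.elim _ _)⟩
    exact linearIndependent_empty_type
  haveI := nontrivial_tensor (k := k) (S := S) K'
  haveI : CharP K' p := charP_of_injective_algebraMap (algebraMap k K').injective p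
  haveI : CharP (K' ⊗[k] S) p :=
    charP_of_injective_algebraMap (algebraMap K' (K' ⊗[k] S)).injective p
  rw [linearIndependent_iff']
  intro s a ha i hi
  choose r hr using hroot
  let B := Algebra.TensorProduct.basis K' b
  set w : K' ⊗[k] S := ∑ j ∈ s, r (a j) • B j with hw
  have hwp : w ^ p = 0 := by
    rw [hw, sum_pow_char]
    have : ∀ j ∈ s, (r (a j) • B j) ^ p = (1 : K') ⊗ₜ[k] (a j • b j ^ p) := by
      intro j _
      rw [smul_pow, hr, Algebra.TensorProduct.basis_apply, Algebra.TensorProduct.tmul_pow,
        one_pow, TensorProduct.tmul_smul, algebraMap_smul]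
    rw [Finset.sum_congr rfl this, ← TensorProduct.tmul_sum, ha, TensorProduct.tmul_zero]
  have hw0 : w = 0 := IsReduced.eq_zero _ ⟨p, hwp⟩
  have := (linearIndependent_iff'.mp B.linearIndependent) s (fun j => r (a j)) hw0 i hi
  have h2 : algebraMap k K' (a i) = 0 := by rw [← hr, this, zero_pow (Fact.out : p.Prime).ne_zero]
  exact (map_eq_zero _).mp h2

theorem isGeometricallyReduced_of_pthRoots (K' : Type*) [Field K'] [Algebra k K']
    (hroot : ∀ a : k, ∃ r : K', r ^ p = algebraMap k K' a) [IsReduced (K' ⊗[k] S)] :
    Algebra.IsGeometricallyReduced k S := by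
  classical
  rw [Algebra.isGeometricallyReduced_field_iff]
  set K := AlgebraicClosure k
  rcases subsingleton_or_nontrivial S with hS | hS
  · haveI := subsingleton_tensor (k := k) (S := S) K
    infer_instance
  haveI := nontrivial_tensor (k := k) (S := S) K
  haveI : CharP K p := charP_of_injective_algebraMap (algebraMap k K).injective p
  haveI : CharP (K ⊗[k] S) p :=
    charP_of_injective_algebraMap (algebraMap K (K ⊗[k] S)).injective p
  let b := Module.Free.chooseBasis k S
  have hli := linearIndependent_pow_of_isReduced p K' hroot b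
  have hli' : LinearIndependent K (fun i => (1 : K) ⊗ₜ[k] (b i ^ p)) :=
    Module.Flat.linearIndependent_one_tmul hli
  let B := Algebra.TensorProduct.basis K b
  rw [isReduced_iff_pow_one_lt p (Fact.out : p.Prime).one_lt]
  intro z hz
  have hz' : z = ∑ i ∈ (B.repr z).support, B.repr z i • B i := by
    conv_lhs => rw [← B.linearCombination_repr z]
    rfl
  rw [hz', sum_pow_char] at hz
  have : ∀ j ∈ (B.repr z).support, (B.repr z j • B j) ^ p =
      (B.repr z j) ^ p • ((1 : K) ⊗ₜ[k] (b j ^ p)) := by
    intro j _
    rw [smul_pow, Algebra.TensorProduct.basis_apply, Algebra.TensorProduct.tmul_pow, one_pow]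
  rw [Finset.sum_congr rfl this] at hz
  have h0 := (linearIndependent_iff'.mp hli') _ _ hz
  rw [hz']
  apply Finset.sum_eq_zero
  intro j hj
  have := h0 j hj
  rw [pow_eq_zero_iff (Fact.out : p.Prime).ne_zero] at this
  rw [this, zero_smul]

end Groth.Agent.H25.FrobRed
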