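import Mathlib
import Groth.Prelude.Def_Curv2
import Groth.Agent.H25.FrobRed
import Groth.Agent.H25.GeomRedGlobal

set_option autoImplicit false
universe u
open CategoryTheory CategoryTheory.Limits AlgebraicGeometry TensorProduct
attribute [local instance] Curv2.stalkAlgebra

namespace Groth.Agent.H25.FrobRed

/-- `k` regarded as an extension of itself through the Frobenius endomorphism (a model of
`k^{1/p}`). -/
def FrobExt (k : Type u) (_p : ℕ) : Type u := k

noncomputable instance (k : Type u) [Field k] (p : ℕ) : Field (FrobExt k p) := inferInstanceAs (Field k)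

noncomputable instance (k : Type u) [Field k] (p : ℕ) [Fact p.Prime] [CharP k p] :
    Algebra k (FrobExt k p) := (frobenius k p).toAlgebra

theorem algebraMap_frobExt (k : Type u) [Field k] (p : ℕ) [Fact p.Prime] [CharP k p] (a : k) :
    algebraMap k (FrobExt k p) a = (a ^ p : k) := rfl

instance (k : Type u) [Field k] (p : ℕ) [Fact p.Prime] [CharP k p] :
    Algebra.IsIntegral k (FrobExt k p) := by
  refine ⟨fun r => ?_⟩
  let r' : k := r
  refine ⟨Polynomial.X ^ p - Polynomial.C r', Polynomial.monic_X_pow_sub_C r' (Fact.out : p.Prime).ne_zero, ?_⟩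
  simp only [Polynomial.eval₂_sub, Polynomial.eval₂_pow, Polynomial.eval₂_X, Polynomial.eval₂_C]
  rw [algebraMap_frobExt]
  exact sub_self _

variable (k : Type u) [Field k] (X : Scheme.{u}) [X.Over (Spec (CommRingCat.of k))]
  (p : ℕ) [Fact p.Prime] [CharP k p]

theorem geometricallyReduced_iff_frobenius :
    GeometricallyReduced (X ↘ (Spec (CommRingCat.of k))) ↔
      IsReduced ↑(pullback (X ↘ (Spec (CommRingCat.of k))) (Spec.map (CommRingCat.ofHom (frobenius k p)))) := by
  constructor
  · intro h
    exact GeometricallyReduced.geometrically_isReduced (f := X ↘ Spec (CommRingCat.of k))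
      (Spec.map (CommRingCat.ofHom (frobenius k p))) _ _ (IsPullback.of_hasPullback _ _)
  · intro hred
    apply Groth.Agent.H25.GeomRedGlobal.geometricallyReduced_of_forall_isGeomReducedAt
    intro x
    rw [Groth.Agent.H25.GeomRedAt.isGeomReducedAt_iff]
    haveI : IsReduced (Curv2.bc k X (FrobExt k p)) := hred
    haveI : IsReduced (FrobExt k p ⊗[k] X.presheaf.stalk x) :=
      Groth.Agent.H25.GeomRedAt.isReduced_tensor_of_stalks k X x (FrobExt k p)
        (fun x' _ => inferInstance)
    exact isGeometricallyReduced_of_pthRoots p (FrobExt k p) (fun a => ⟨a, rfl⟩)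

end Groth.Agent.H25.FrobRed
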