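import Mathlib
import Groth.Prelude.Def_CAlg2
import Groth.Agent.H38.BranchSum3
import Groth.Agent.H13.GUCrit
import Groth.Agent.H14.HensProp.GeomBranchCount
import Groth.Agent.H14.HensProp.Strict
import Groth.Agent.H3.StrictHensMain

set_option autoImplicit false
universe u

namespace Groth.Agent.H25.GUCover

open IsLocalRing

/-- For a Noetherian local ring, there are finitely many homomorphisms from the normalization
to the algebraic closure of the residue field. -/
theorem finite_closureHom (E : Type u) [CommRing E] [IsLocalRing E] [IsNoetherianRing E] :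
    Finite (Groth.Agent.H38.ClosureHom E) := by
  have hS := Groth.Agent.H3.SH.isStrictHenselization E
  haveI := hS
  haveI : IsNoetherianRing (Groth.Agent.H3.SH.S E) :=
    (Groth.Agent.H14.HensProp.isNoetherianRing_iff_of_isStrictHenselization E _).mp inferInstance
  have h1 := Groth.Agent.H14.HensProp.GeomBranchCount.card_minimalPrimes_strictHenselization E
    (Groth.Agent.H3.SH.S E)
  have h2 := Groth.Agent.H38.numGeomBranches_eq_card E
    (minimalPrimes.finite_of_isNoetherianRing E)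
  have hfin : (minimalPrimes (Groth.Agent.H3.SH.S E)).Finite :=
    minimalPrimes.finite_of_isNoetherianRing _
  rw [h2] at h1
  have : ENat.card (Groth.Agent.H38.ClosureHom E) < ⊤ := by
    rw [← h1]
    exact ENat.card_lt_top.mpr hfin.to_subtype
  exact ENat.card_lt_top.mp this

section
variable (E : Type u) [CommRing E] [IsDomain E]

instance : IsDomain (CAlg2.red E) := by
  have : (nilradical E).IsPrime := by
    rw [nilradical_eq_zero]; exact Ideal.isPrime_bot
  exact Ideal.Quotient.isDomain _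

instance : IsIntegrallyClosed (CAlg2.normRed E) :=
  integralClosure.isIntegrallyClosedOfFiniteExtension (FractionRing (CAlg2.red E))

theorem injective_algebraMap_normRed : Function.Injective (algebraMap E (CAlg2.normRed E)) := by
  have h1 : Function.Injective (algebraMap E (CAlg2.red E)) := by
    rw [injective_iff_map_eq_zero]
    intro a ha
    rw [Ideal.Quotient.algebraMap_eq, Ideal.Quotient.eq_zero_iff_mem, nilradical_eq_zero] at ha
    exact ha
  have h2 : Function.Injective (algebraMap (CAlg2.red E) (CAlg2.normRed E)) := by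
    have := IsFractionRing.injective (CAlg2.red E) (FractionRing (CAlg2.red E))
    intro a b hab
    apply this
    exact congrArg Subtype.val hab
  rw [IsScalarTower.algebraMap_eq E (CAlg2.red E) (CAlg2.normRed E)]
  exact h2.comp h1

end

section
variable (D : Type u) [CommRing D] [IsDomain D] (q : Ideal D) [q.IsPrime]

/-- elements of `D` outside `q` are not killed by the homomorphisms to the algebraic closure -/
theorem closureHom_algebraMap_ne_zero (τ : Groth.Agent.H38.ClosureHom (Localization.AtPrime q))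
    (s : D) (hs : s ∉ q) :
    τ.1 (algebraMap D (CAlg2.normRed (Localization.AtPrime q)) s) ≠ 0 := by
  have h1 : τ.1 (algebraMap D (CAlg2.normRed (Localization.AtPrime q)) s) =
      Brnch.toClosure (Localization.AtPrime q) (algebraMap D (Localization.AtPrime q) s) := by
    rw [IsScalarTower.algebraMap_apply D (Localization.AtPrime q)
      (CAlg2.normRed (Localization.AtPrime q))]
    exact congrArg (fun g => g (algebraMap D (Localization.AtPrime q) s)) τ.2
  rw [h1]
  unfold Brnch.toClosure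
  rw [RingHom.comp_apply]
  have hu : IsUnit (algebraMap D (Localization.AtPrime q) s) :=
    IsLocalization.map_units (Localization.AtPrime q) (⟨s, hs⟩ : q.primeCompl)
  have h2 : residue (Localization.AtPrime q) (algebraMap D (Localization.AtPrime q) s) ≠ 0 :=
    (hu.map (residue _)).ne_zero
  intro h3
  exact h2 ((map_eq_zero _).mp h3)

/-- The separation property of an algebra mapping to the normalization. -/
def Separates (D' : Type u) [CommRing D']
    [Algebra D' (CAlg2.normRed (Localization.AtPrime q))] : Prop :=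
  ∀ τ₁ τ₂ : Groth.Agent.H38.ClosureHom (Localization.AtPrime q), τ₁ ≠ τ₂ →
    ∃ d : D', τ₁.1 (algebraMap D' _ d) ≠ τ₂.1 (algebraMap D' _ d) ∧
      (RingHom.ker τ₁.1 ≠ RingHom.ker τ₂.1 →
        (τ₁.1 (algebraMap D' _ d) = 0 ∧ τ₂.1 (algebraMap D' _ d) ≠ 0) ∨
        (τ₂.1 (algebraMap D' _ d) = 0 ∧ τ₁.1 (algebraMap D' _ d) ≠ 0))

theorem exists_sep (τ₁ τ₂ : Groth.Agent.H38.ClosureHom (Localization.AtPrime q)) (h : τ₁ ≠ τ₂) :
    ∃ n : CAlg2.normRed (Localization.AtPrime q), τ₁.1 n ≠ τ₂.1 n ∧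
      (RingHom.ker τ₁.1 ≠ RingHom.ker τ₂.1 →
        (τ₁.1 n = 0 ∧ τ₂.1 n ≠ 0) ∨ (τ₂.1 n = 0 ∧ τ₁.1 n ≠ 0)) := by
  by_cases hk : RingHom.ker τ₁.1 = RingHom.ker τ₂.1
  · have : τ₁.1 ≠ τ₂.1 := fun e => h (Subtype.ext e)
    obtain ⟨n, hn⟩ : ∃ n, τ₁.1 n ≠ τ₂.1 n := by
      by_contra hcon
      push Not at hcon
      exact this (RingHom.ext hcon)
    exact ⟨n, hn, fun h' => absurd hk h'⟩
  · by_cases hle : RingHom.ker τ₁.1 ≤ RingHom.ker τ₂.1
    · have hnle : ¬ RingHom.ker τ₂.1 ≤ RingHom.ker τ₁.1 := fun h' => hk (le_antisymm hle h')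
      obtain ⟨n, hn2, hn1⟩ := Set.not_subset.mp hnle
      have hn2' : τ₂.1 n = 0 := hn2
      have hn1' : τ₁.1 n ≠ 0 := hn1
      refine ⟨n, ?_, fun _ => Or.inr ⟨hn2', hn1'⟩⟩
      rw [hn2']; exact hn1'
    · obtain ⟨n, hn1, hn2⟩ := Set.not_subset.mp hle
      have hn1' : τ₁.1 n = 0 := hn1
      have hn2' : τ₂.1 n ≠ 0 := hn2
      refine ⟨n, ?_, fun _ => Or.inl ⟨hn1', hn2'⟩⟩
      rw [hn1']; exact hn2'.symm


theorem exists_finite_separating [Finite (Groth.Agent.H38.ClosureHom (Localization.AtPrime q))] :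
    ∃ D' : Subalgebra D (CAlg2.normRed (Localization.AtPrime q)),
      Module.Finite D D' ∧ Separates D q D' := by
  classical
  -- choose separating elements
  have hsep := exists_sep D q
  choose! n hn using hsep
  -- choose multipliers
  have hmul : ∀ x : CAlg2.normRed (Localization.AtPrime q),
      ∃ m : q.primeCompl, IsIntegral D (m • x) := by
    intro x
    have hx : IsIntegral (Localization.AtPrime q) x := Algebra.IsIntegral.isIntegral x
    exact IsIntegral.exists_multiple_integral_of_isLocalization q.primeCompl x hx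
  choose m hm using hmul
  let G : Set (CAlg2.normRed (Localization.AtPrime q)) :=
    Set.range (fun p : Groth.Agent.H38.ClosureHom (Localization.AtPrime q) ×
      Groth.Agent.H38.ClosureHom (Localization.AtPrime q) => m (n p.1 p.2) • n p.1 p.2)
  have hGfin : G.Finite := Set.finite_range _
  have hGint : ∀ x ∈ G, IsIntegral D x := by
    rintro x ⟨p, rfl⟩
    exact hm _
  refine ⟨Algebra.adjoin D G, Algebra.finite_adjoin_of_finite_of_isIntegral hGfin hGint, ?_⟩
  intro τ₁ τ₂ h
  obtain ⟨h1, h2⟩ := hn τ₁ τ₂ h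
  have hmem : m (n τ₁ τ₂) • n τ₁ τ₂ ∈ Algebra.adjoin D G :=
    Algebra.subset_adjoin ⟨(τ₁, τ₂), rfl⟩
  have key : ∀ τ : Groth.Agent.H38.ClosureHom (Localization.AtPrime q),
      τ.1 (m (n τ₁ τ₂) • n τ₁ τ₂) =
        τ.1 (algebraMap D _ (m (n τ₁ τ₂) : D)) * τ.1 (n τ₁ τ₂) := by
    intro τ
    rw [← map_mul, ← Algebra.smul_def]
    rfl
  have hne : ∀ τ : Groth.Agent.H38.ClosureHom (Localization.AtPrime q),
      τ.1 (algebraMap D _ (m (n τ₁ τ₂) : D)) ≠ 0 :=
    fun τ => closureHom_algebraMap_ne_zero D q τ _ (m (n τ₁ τ₂)).2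
  have hc : τ₁.1 (algebraMap D _ (m (n τ₁ τ₂) : D)) = τ₂.1 (algebraMap D _ (m (n τ₁ τ₂) : D)) := by
    have e1 := congrArg (fun g => g (algebraMap D (Localization.AtPrime q) (m (n τ₁ τ₂) : D))) τ₁.2
    have e2 := congrArg (fun g => g (algebraMap D (Localization.AtPrime q) (m (n τ₁ τ₂) : D))) τ₂.2
    rw [IsScalarTower.algebraMap_apply D (Localization.AtPrime q)
      (CAlg2.normRed (Localization.AtPrime q))]
    exact e1.trans e2.symm
  refine ⟨⟨_, hmem⟩, ?_, ?_⟩
  · change τ₁.1 (m (n τ₁ τ₂) • n τ₁ τ₂) ≠ τ₂.1 (m (n τ₁ τ₂) • n τ₁ τ₂)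
    rw [key, key, hc]
    intro e
    exact h1 (mul_left_cancel₀ (hne τ₂) e)
  · intro hk
    change (τ₁.1 (m (n τ₁ τ₂) • n τ₁ τ₂) = 0 ∧ τ₂.1 (m (n τ₁ τ₂) • n τ₁ τ₂) ≠ 0) ∨
      (τ₂.1 (m (n τ₁ τ₂) • n τ₁ τ₂) = 0 ∧ τ₁.1 (m (n τ₁ τ₂) • n τ₁ τ₂) ≠ 0)
    rw [key, key]
    rcases h2 hk with ⟨a, b⟩ | ⟨a, b⟩
    · left
      exact ⟨by rw [a, mul_zero], mul_ne_zero (hne τ₂) b⟩
    · right
      exact ⟨by rw [a, mul_zero], mul_ne_zero (hne τ₁) b⟩

end
end Groth.Agent.H25.GUCover
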