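import Groth.Agent.H25.GUCover1

set_option autoImplicit false
universe u

namespace Groth.Agent.H25.GUCover

open IsLocalRing

section Main
variable (D : Type u) [CommRing D] [IsDomain D] (q : Ideal D) [q.IsPrime]
  (D' : Type u) [CommRing D'] [Algebra D D'] [Algebra D' (CAlg2.normRed (Localization.AtPrime q))]
  [IsScalarTower D D' (CAlg2.normRed (Localization.AtPrime q))]
  (q' : Ideal D') [q'.IsPrime]
  (C : Type u) [CommRing C] [Algebra D' C] [IsLocalization.AtPrime C q']
  (Dn : Type u) [CommRing Dn] [Algebra (CAlg2.normRed (Localization.AtPrime q)) Dn]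
  [IsLocalization (Algebra.algebraMapSubmonoid (CAlg2.normRed (Localization.AtPrime q))
    q'.primeCompl) Dn]

/-- the multiplicative set of the normalization -/
abbrev T : Submonoid (CAlg2.normRed (Localization.AtPrime q)) :=
  Algebra.algebraMapSubmonoid (CAlg2.normRed (Localization.AtPrime q)) q'.primeCompl

variable (hinj : Function.Injective (algebraMap D' (CAlg2.normRed (Localization.AtPrime q))))

include hinj in
theorem T_le_nonZeroDivisors : T D q D' q' ≤ nonZeroDivisors _ := by
  rintro _ ⟨d, hd, rfl⟩
  apply mem_nonZeroDivisors_of_ne_zero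
  intro h0
  have : d = 0 := hinj (by rw [h0, map_zero])
  exact hd (this ▸ q'.zero_mem)

include D' q' hinj in
theorem isDomain_Dn : IsDomain Dn :=
  IsLocalization.isDomain_of_le_nonZeroDivisors _ (T_le_nonZeroDivisors D q D' q' hinj)

include D' q' hinj in
theorem isIntegrallyClosed_Dn : IsIntegrallyClosed Dn :=
  isIntegrallyClosed_of_isLocalization _ (T D q D' q') (T_le_nonZeroDivisors D q D' q' hinj)

/-- the comparison map -/
noncomputable def fC : C →+* Dn :=
  IsLocalization.map (M := q'.primeCompl) (T := T D q D' q') Dn
    (algebraMap D' (CAlg2.normRed (Localization.AtPrime q)))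
    (show q'.primeCompl ≤ (T D q D' q').comap _ from Submonoid.le_comap_map _)

theorem fC_algebraMap (d : D') :
    fC D q D' q' C Dn (algebraMap D' C d) =
      algebraMap _ Dn (algebraMap D' (CAlg2.normRed (Localization.AtPrime q)) d) := by
  unfold fC
  rw [IsLocalization.map_eq]

include hinj in
theorem fC_injective : Function.Injective (fC D q D' q' C Dn) := by
  haveI : IsLocalization (Submonoid.map (algebraMap D' (CAlg2.normRed (Localization.AtPrime q)))
      q'.primeCompl) Dn :=
    (inferInstance : IsLocalization (T D q D' q') Dn)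
  have := IsLocalization.map_injective_of_injective q'.primeCompl C
    (g := algebraMap D' (CAlg2.normRed (Localization.AtPrime q))) Dn
    hinj
  exact this

variable (hq' : q'.comap (algebraMap D D') = q)

/-- the map from the local ring of `D` at `q` -/
noncomputable def gE : Localization.AtPrime q →+* C :=
  IsLocalization.lift (M := q.primeCompl) (g := (algebraMap D' C).comp (algebraMap D D'))
    (fun s => by
      have : algebraMap D D' (s : D) ∈ q'.primeCompl := by
        intro h
        have : (s : D) ∈ q'.comap (algebraMap D D') := h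
        rw [hq'] at this
        exact s.2 this
      exact IsLocalization.map_units C (⟨_, this⟩ : q'.primeCompl))

theorem fC_comp_gE :
    (fC D q D' q' C Dn).comp (gE D q D' q' C hq') =
      (algebraMap (CAlg2.normRed (Localization.AtPrime q)) Dn).comp
        (algebraMap (Localization.AtPrime q) (CAlg2.normRed (Localization.AtPrime q))) := by
  apply IsLocalization.ringHom_ext q.primeCompl
  ext d
  simp only [RingHom.comp_apply]
  unfold gE
  rw [IsLocalization.lift_eq, RingHom.comp_apply, fC_algebraMap]
  congr 1
  exact (IsScalarTower.algebraMap_apply D D' _ d).symm.trans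
    (IsScalarTower.algebraMap_apply D (Localization.AtPrime q) _ d)

include hq' in
theorem fC_isIntegralElem_algebraMap (n : CAlg2.normRed (Localization.AtPrime q)) :
    (fC D q D' q' C Dn).IsIntegralElem (algebraMap _ Dn n) := by
  have hn : IsIntegral (Localization.AtPrime q) n := Algebra.IsIntegral.isIntegral n
  obtain ⟨p, hp, hpe⟩ := hn
  refine ⟨p.map (gE D q D' q' C hq'), hp.map _, ?_⟩
  rw [Polynomial.eval₂_map, fC_comp_gE, ← Polynomial.hom_eval₂, hpe, map_zero]

include hq' in
theorem fC_isIntegral : (fC D q D' q' C Dn).IsIntegral := by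
  intro x
  obtain ⟨n, t, rfl⟩ := IsLocalization.exists_mk'_eq (T D q D' q') x
  obtain ⟨d, hd, hdt⟩ := t.2
  have h0 : fC D q D' q' C Dn (IsLocalization.mk' C 1 (⟨d, hd⟩ : q'.primeCompl)) *
      algebraMap _ Dn (t : CAlg2.normRed (Localization.AtPrime q)) = 1 := by
    rw [← hdt]
    have := fC_algebraMap D q D' q' C Dn d
    rw [← this, ← map_mul, IsLocalization.mk'_spec, map_one, map_one]
  have h1 : IsLocalization.mk' Dn n t =
      algebraMap _ Dn n *
        fC D q D' q' C Dn (IsLocalization.mk' C 1 (⟨d, hd⟩ : q'.primeCompl)) := by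
    rw [IsLocalization.mk'_eq_iff_eq_mul, mul_assoc, h0, mul_one]
  rw [h1]
  exact RingHom.IsIntegralElem.mul _ (fC_isIntegralElem_algebraMap D q D' q' C Dn hq' n)
    ((fC D q D' q' C Dn).isIntegralElem_map)

end Main
end Groth.Agent.H25.GUCover
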