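import Groth.Agent.H25.GUCover2

set_option autoImplicit false
universe u

namespace Groth.Agent.H25.GUCover

open IsLocalRing

attribute [local instance] Ideal.Quotient.field

section MaxIdeal
variable (D : Type u) [CommRing D] [IsDomain D] (q : Ideal D) [q.IsPrime]
  (D' : Type u) [CommRing D'] [Algebra D D'] [Algebra D' (CAlg2.normRed (Localization.AtPrime q))]
  [IsScalarTower D D' (CAlg2.normRed (Localization.AtPrime q))]
  (q' : Ideal D') [q'.IsPrime]
  (C : Type u) [CommRing C] [Algebra D' C] [IsLocalization.AtPrime C q']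
  (Dn : Type u) [CommRing Dn] [Algebra (CAlg2.normRed (Localization.AtPrime q)) Dn]
  [IsLocalization (Algebra.algebraMapSubmonoid (CAlg2.normRed (Localization.AtPrime q))
    q'.primeCompl) Dn]
  (hq' : q'.comap (algebraMap D D') = q)
  (M : Ideal Dn) [hM : M.IsMaximal]

/-- the map from the normalization to the residue field at `M` -/
noncomputable def psiN : CAlg2.normRed (Localization.AtPrime q) →+* Dn ⧸ M :=
  (Ideal.Quotient.mk M).comp (algebraMap _ Dn)

include hq' in
theorem comap_fC_eq :
    haveI : IsLocalRing C := IsLocalization.AtPrime.isLocalRing C q'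
    M.comap (fC D q D' q' C Dn) = maximalIdeal C := by
  haveI : IsLocalRing C := IsLocalization.AtPrime.isLocalRing C q'
  have : (M.comap (fC D q D' q' C Dn)).IsMaximal :=
    Ideal.isMaximal_comap_of_isIntegral_of_isMaximal' _ (fC_isIntegral D q D' q' C Dn hq') M
  exact IsLocalRing.eq_maximalIdeal this

include hq' C in
theorem psiN_eq_zero_iff (d : D') :
    psiN D q Dn M (algebraMap D' (CAlg2.normRed (Localization.AtPrime q)) d) = 0 ↔ d ∈ q' := by
  haveI : IsLocalRing C := IsLocalization.AtPrime.isLocalRing C q'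
  unfold psiN
  rw [RingHom.comp_apply, Ideal.Quotient.eq_zero_iff_mem, ← fC_algebraMap D q D' q' C Dn d,
    ← Ideal.mem_comap, comap_fC_eq D q D' q' C Dn hq' M,
    IsLocalization.AtPrime.to_map_mem_maximal_iff C q']


include hq' C D' q' in
theorem psiN_algebraMap_eq_zero (a : Localization.AtPrime q) (ha : a ∈ maximalIdeal (Localization.AtPrime q)) :
    psiN D q Dn M (algebraMap _ _ a) = 0 := by
  obtain ⟨d, s, rfl⟩ := IsLocalization.exists_mk'_eq q.primeCompl a
  rw [IsLocalization.AtPrime.mk'_mem_maximal_iff (Localization.AtPrime q) q] at ha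
  have hu : IsUnit (algebraMap D (Localization.AtPrime q) (s : D)) :=
    IsLocalization.map_units _ s
  have h1 : psiN D q Dn M (algebraMap _ _ (IsLocalization.mk' (Localization.AtPrime q) d s)) *
      psiN D q Dn M (algebraMap _ _ (algebraMap D (Localization.AtPrime q) (s : D))) =
      psiN D q Dn M (algebraMap _ _ (algebraMap D (Localization.AtPrime q) d)) := by
    rw [← map_mul, ← map_mul, IsLocalization.mk'_spec]
  have h2 : psiN D q Dn M (algebraMap _ _ (algebraMap D (Localization.AtPrime q) d)) = 0 := by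
    have hd : algebraMap D D' d ∈ q' := by
      have : d ∈ q'.comap (algebraMap D D') := by rw [hq']; exact ha
      exact this
    have := (psiN_eq_zero_iff D q D' q' C Dn hq' M (algebraMap D D' d)).mpr hd
    rw [← this]
    congr 1
    exact (IsScalarTower.algebraMap_apply D (Localization.AtPrime q) _ d).symm.trans
      (IsScalarTower.algebraMap_apply D D' _ d)
  have h3 : IsUnit (psiN D q Dn M (algebraMap _ _ (algebraMap D (Localization.AtPrime q) (s : D)))) :=
    (hu.map _).map _
  rw [h2] at h1
  exact (h3.mul_left_eq_zero).mp h1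

/-- the induced map on the residue field of `E` -/
noncomputable def psibar : ResidueField (Localization.AtPrime q) →+* Dn ⧸ M :=
  Ideal.Quotient.lift (maximalIdeal (Localization.AtPrime q))
    ((psiN D q Dn M).comp (algebraMap _ _))
    (fun a ha => psiN_algebraMap_eq_zero D q D' q' C Dn hq' M a ha)

theorem psibar_residue (a : Localization.AtPrime q) :
    psibar D q D' q' C Dn hq' M (residue _ a) = psiN D q Dn M (algebraMap _ _ a) := by
  unfold psibar
  exact Ideal.Quotient.lift_mk _ _ _

/-- images of elements of the normalization are integral over the residue field -/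
theorem psibar_isIntegralElem (n : CAlg2.normRed (Localization.AtPrime q)) :
    (psibar D q D' q' C Dn hq' M).IsIntegralElem (psiN D q Dn M n) := by
  have hn : IsIntegral (Localization.AtPrime q) n := Algebra.IsIntegral.isIntegral n
  obtain ⟨p, hp, hpe⟩ := hn
  refine ⟨p.map (residue _), hp.map _, ?_⟩
  have : (psibar D q D' q' C Dn hq' M).comp (residue _) =
      (psiN D q Dn M).comp (algebraMap _ _) := by
    ext a
    exact psibar_residue D q D' q' C Dn hq' M a
  rw [Polynomial.eval₂_map, this, ← Polynomial.hom_eval₂, hpe, map_zero]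


/-- every element of the residue field at `M` is a quotient of images of the normalization -/
theorem exists_psiN_div (x : Dn ⧸ M) :
    ∃ (n : CAlg2.normRed (Localization.AtPrime q)) (d : D'), d ∉ q' ∧
      x * psiN D q Dn M (algebraMap D' (CAlg2.normRed (Localization.AtPrime q)) d) = psiN D q Dn M n := by
  obtain ⟨x, rfl⟩ := Ideal.Quotient.mk_surjective x
  obtain ⟨n, t, rfl⟩ := IsLocalization.exists_mk'_eq (T D q D' q') x
  obtain ⟨d, hd, hdt⟩ := t.2
  refine ⟨n, d, hd, ?_⟩
  unfold psiN
  rw [RingHom.comp_apply, RingHom.comp_apply, ← map_mul]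
  congr 1
  rw [show (algebraMap D' (CAlg2.normRed (Localization.AtPrime q)) d) = (t : _) from hdt]
  exact IsLocalization.mk'_spec _ _ _

include hq' in
theorem isAlgebraic_quot :
    letI := (psibar D q D' q' C Dn hq' M).toAlgebra
    Algebra.IsAlgebraic (ResidueField (Localization.AtPrime q)) (Dn ⧸ M) := by
  letI := (psibar D q D' q' C Dn hq' M).toAlgebra
  refine ⟨fun x => ?_⟩
  apply IsIntegral.isAlgebraic
  obtain ⟨n, d, hd, hx⟩ := exists_psiN_div D q D' q' Dn M x
  have hne : psiN D q Dn M (algebraMap D' (CAlg2.normRed (Localization.AtPrime q)) d) ≠ 0 :=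
    fun h => hd ((psiN_eq_zero_iff D q D' q' C Dn hq' M d).mp h)
  have hxe : x = psiN D q Dn M n * (psiN D q Dn M (algebraMap D' (CAlg2.normRed (Localization.AtPrime q)) d))⁻¹ := by
    rw [← hx, mul_assoc, mul_inv_cancel₀ hne, mul_one]
  rw [hxe]
  have h1 : IsIntegral (ResidueField (Localization.AtPrime q)) (psiN D q Dn M n) :=
    psibar_isIntegralElem D q D' q' C Dn hq' M n
  have h2 : IsIntegral (ResidueField (Localization.AtPrime q))
      (psiN D q Dn M (algebraMap D' (CAlg2.normRed (Localization.AtPrime q)) d)) :=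
    psibar_isIntegralElem D q D' q' C Dn hq' M _
  exact h1.mul h2.inv


/-- a homomorphism from the residue field at `M` to the algebraic closure over the residue
field of `E` gives an element of `ClosureHom` -/
noncomputable def toClosureHom
    (ρ : Dn ⧸ M →+* AlgebraicClosure (ResidueField (Localization.AtPrime q)))
    (hρ : ρ.comp (psibar D q D' q' C Dn hq' M) =
      algebraMap (ResidueField (Localization.AtPrime q))
        (AlgebraicClosure (ResidueField (Localization.AtPrime q)))) :
    Groth.Agent.H38.ClosureHom (Localization.AtPrime q) :=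
  ⟨ρ.comp (psiN D q Dn M), by
    ext a
    rw [RingHom.comp_apply, RingHom.comp_apply, ← psibar_residue D q D' q' C Dn hq' M a,
      ← RingHom.comp_apply ρ, hρ]
    rfl⟩

include hq' in
theorem exists_lift_closure :
    ∃ ρ : Dn ⧸ M →+* AlgebraicClosure (ResidueField (Localization.AtPrime q)),
      ρ.comp (psibar D q D' q' C Dn hq' M) =
        algebraMap (ResidueField (Localization.AtPrime q))
          (AlgebraicClosure (ResidueField (Localization.AtPrime q))) := by
  letI := (psibar D q D' q' C Dn hq' M).toAlgebra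
  haveI := isAlgebraic_quot D q D' q' C Dn hq' M
  let ρ : Dn ⧸ M →ₐ[ResidueField (Localization.AtPrime q)]
      AlgebraicClosure (ResidueField (Localization.AtPrime q)) := IsAlgClosed.lift
  exact ⟨ρ.toRingHom, RingHom.ext fun a => ρ.commutes a⟩


theorem toClosureHom_apply (ρ : Dn ⧸ M →+* AlgebraicClosure (ResidueField (Localization.AtPrime q)))
    (hρ) (n : CAlg2.normRed (Localization.AtPrime q)) :
    (toClosureHom D q D' q' C Dn hq' M ρ hρ).1 n = ρ (psiN D q Dn M n) := rfl

theorem toClosureHom_eq_zero_iff (ρ : Dn ⧸ M →+* AlgebraicClosure (ResidueField (Localization.AtPrime q)))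
    (hρ) (n : CAlg2.normRed (Localization.AtPrime q)) :
    (toClosureHom D q D' q' C Dn hq' M ρ hρ).1 n = 0 ↔ algebraMap _ Dn n ∈ M := by
  rw [toClosureHom_apply, map_eq_zero]
  unfold psiN
  rw [RingHom.comp_apply, Ideal.Quotient.eq_zero_iff_mem]

end MaxIdeal

section Local
variable (D : Type u) [CommRing D] [IsDomain D] (q : Ideal D) [q.IsPrime]
  (D' : Type u) [CommRing D'] [Algebra D D'] [Algebra D' (CAlg2.normRed (Localization.AtPrime q))]
  [IsScalarTower D D' (CAlg2.normRed (Localization.AtPrime q))]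
  (q' : Ideal D') [q'.IsPrime]
  (C : Type u) [CommRing C] [Algebra D' C] [IsLocalization.AtPrime C q']
  (Dn : Type u) [CommRing Dn] [Algebra (CAlg2.normRed (Localization.AtPrime q)) Dn]
  [IsLocalization (Algebra.algebraMapSubmonoid (CAlg2.normRed (Localization.AtPrime q))
    q'.primeCompl) Dn]
  (hq' : q'.comap (algebraMap D D') = q)
  (hsep : Separates D q D')
  (hinj : Function.Injective (algebraMap D' (CAlg2.normRed (Localization.AtPrime q))))

include hsep hq' C in
theorem maximal_unique (M₁ M₂ : Ideal Dn) [M₁.IsMaximal] [M₂.IsMaximal] : M₁ = M₂ := by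
  obtain ⟨ρ₁, hρ₁⟩ := exists_lift_closure D q D' q' C Dn hq' M₁
  obtain ⟨ρ₂, hρ₂⟩ := exists_lift_closure D q D' q' C Dn hq' M₂
  set τ₁ := toClosureHom D q D' q' C Dn hq' M₁ ρ₁ hρ₁ with hτ₁
  set τ₂ := toClosureHom D q D' q' C Dn hq' M₂ ρ₂ hρ₂ with hτ₂
  by_contra hne
  have hk1 : RingHom.ker τ₁.1 = M₁.comap (algebraMap _ Dn) := by
    ext n
    rw [RingHom.mem_ker, toClosureHom_eq_zero_iff, Ideal.mem_comap]
  have hk2 : RingHom.ker τ₂.1 = M₂.comap (algebraMap _ Dn) := by
    ext n
    rw [RingHom.mem_ker, toClosureHom_eq_zero_iff, Ideal.mem_comap]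
  have hker : RingHom.ker τ₁.1 ≠ RingHom.ker τ₂.1 := by
    intro h
    apply hne
    rw [hk1, hk2] at h
    have h1 := IsLocalization.map_under (T D q D' q') Dn M₁
    have h2 := IsLocalization.map_under (T D q D' q') Dn M₂
    rw [← h1, ← h2]
    exact congrArg (Ideal.map (algebraMap _ Dn)) h
  have hτ : τ₁ ≠ τ₂ := fun h => hker (by rw [h])
  obtain ⟨d, -, hd⟩ := hsep τ₁ τ₂ hτ
  have e1 : τ₁.1 (algebraMap D' (CAlg2.normRed (Localization.AtPrime q)) d) = 0 ↔ d ∈ q' := by
    rw [toClosureHom_apply, map_eq_zero]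
    exact psiN_eq_zero_iff D q D' q' C Dn hq' M₁ d
  have e2 : τ₂.1 (algebraMap D' (CAlg2.normRed (Localization.AtPrime q)) d) = 0 ↔ d ∈ q' := by
    rw [toClosureHom_apply, map_eq_zero]
    exact psiN_eq_zero_iff D q D' q' C Dn hq' M₂ d
  rcases hd hker with ⟨a, b⟩ | ⟨a, b⟩
  · exact b (e2.mpr (e1.mp a))
  · exact b (e1.mpr (e2.mp a))

include hsep hq' C hinj in
theorem isLocalRing_Dn : IsLocalRing Dn := by
  haveI := isDomain_Dn D q D' q' Dn hinj
  obtain ⟨M, hM⟩ := Ideal.exists_maximal Dn
  exact IsLocalRing.of_unique_max_ideal ⟨M, hM, fun M' hM' =>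
    maximal_unique D q D' q' C Dn hq' hsep M' M⟩

end Local
end Groth.Agent.H25.GUCover
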