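import Mathlib

set_option autoImplicit false
universe u
open IsLocalRing

namespace Groth.Agent.H25.IdemConn

/-- idempotents of a local ring are trivial -/
theorem eq_zero_or_eq_one_of_isIdempotentElem {B : Type*} [CommRing B] [IsLocalRing B] (e : B)
    (he : IsIdempotentElem e) : e = 0 ∨ e = 1 := by
  have h0 : e * (1 - e) = 0 := by
    rw [mul_sub, mul_one, he.eq, sub_self]
  rcases IsLocalRing.isUnit_or_isUnit_one_sub_self e with h | h
  · right
    have : 1 - e = 0 := by
      have := congrArg (fun x => h.unit⁻¹.1 * x) h0
      simpa [← mul_assoc] using this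
    exact (sub_eq_zero.mp this).symm
  · left
    have := congrArg (fun x => x * h.unit⁻¹.1) h0
    simpa [mul_assoc] using this

variable {B : Type*} [CommRing B] [IsLocalRing B] (t : B) (hreg : ∀ b : B, t * b = 0 → b = 0)
  (hred : IsReduced (B ⧸ Ideal.span {t}))

include hreg in
theorem pow_mul_eq_zero (n : ℕ) (b : B) (h : t ^ n * b = 0) : b = 0 := by
  induction n with
  | zero => simpa using h
  | succ k ih =>
    apply ih
    apply hreg
    rw [← mul_assoc, ← pow_succ']
    exact h

include hreg hred in
/-- key: an idempotent of `B[1/t]` of the form `a / t^n` comes from `0` or `1` -/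
theorem idem_trivial (S : Type*) [CommRing S] [Algebra B S] [IsLocalization.Away t S] :
    ∀ (n : ℕ) (a : B) (e : S), IsIdempotentElem e → e * algebraMap B S (t ^ n) = algebraMap B S a →
      e = 0 ∨ e = 1 := by
  have hinj : ∀ b : B, algebraMap B S b = 0 → b = 0 := by
    intro b hb
    rw [IsLocalization.map_eq_zero_iff (Submonoid.powers t)] at hb
    obtain ⟨⟨_, m, rfl⟩, hm⟩ := hb
    exact pow_mul_eq_zero t hreg m b hm
  have hunit : IsUnit (algebraMap B S t) := IsLocalization.Away.algebraMap_isUnit t
  intro n
  induction n with
  | zero =>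
    intro a e he h
    rw [pow_zero, map_one, mul_one] at h
    have ha : IsIdempotentElem a := by
      have : algebraMap B S (a * a - a) = 0 := by
        rw [map_sub, map_mul, ← h, he.eq, sub_self]
      exact sub_eq_zero.mp (hinj _ this)
    rcases eq_zero_or_eq_one_of_isIdempotentElem a ha with rfl | rfl
    · left; rw [h, map_zero]
    · right; rw [h, map_one]
  | succ k ih =>
    intro a e he h
    -- a^2 = t^(k+1) a
    have h2 : a * a = t ^ (k + 1) * a := by
      have : algebraMap B S (a * a - t ^ (k + 1) * a) = 0 := by
        rw [map_sub, map_mul, map_mul, ← h]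
        have : e * algebraMap B S (t ^ (k + 1)) * (e * algebraMap B S (t ^ (k + 1))) =
            (e * e) * algebraMap B S (t ^ (k + 1)) * algebraMap B S (t ^ (k + 1)) := by ring
        rw [this, he.eq]
        ring
      exact sub_eq_zero.mp (hinj _ this)
    have hrad : (Ideal.span {t}).IsRadical := (Ideal.isRadical_iff_quotient_reduced _).mpr hred
    have hat : a ∈ Ideal.span {t} := by
      apply hrad
      refine ⟨2, ?_⟩
      rw [pow_two, h2, pow_succ, mul_assoc]
      exact Ideal.mul_mem_left _ _ (Ideal.mul_mem_right _ _ (Ideal.mem_span_singleton_self t))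
    obtain ⟨b, rfl⟩ := Ideal.mem_span_singleton'.mp hat
    apply ih b e he
    have h3 : (e * algebraMap B S (t ^ k)) * algebraMap B S t = algebraMap B S b * algebraMap B S t := by
      rw [mul_assoc, ← map_mul, ← pow_succ, h, map_mul]
    exact hunit.mul_left_injective h3

include hreg hred in
/-- For a local ring `B` and a nonzerodivisor `t` with `B/(t)` reduced, the open set `D(t)` of
`Spec B` is preconnected. -/
theorem isPreconnected_basicOpen :
    IsPreconnected (PrimeSpectrum.basicOpen t : Set (PrimeSpectrum B)) := by
  let S := Localization.Away t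
  have hS : PreconnectedSpace (PrimeSpectrum S) := by
    rw [preconnectedSpace_iff_clopen]
    intro s hs
    obtain ⟨e, he, rfl⟩ := PrimeSpectrum.isClopen_iff.mp hs
    obtain ⟨⟨a, ⟨_, n, rfl⟩⟩, ha⟩ := IsLocalization.surj (Submonoid.powers t) e
    rcases idem_trivial t hreg hred S n a e he ha with rfl | rfl
    · left; simp
    · right; simp
  have hrange := PrimeSpectrum.localization_away_comap_range S t
  rw [← hrange]
  rw [← Set.image_univ]
  exact (isPreconnected_univ (α := PrimeSpectrum S)).image _
    (PrimeSpectrum.continuous_comap (algebraMap B S)).continuousOn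

end Groth.Agent.H25.IdemConn
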