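import Groth.Agent.H99.DVRFlatOpen
import Groth.Agent.H25.IdemConn

set_option autoImplicit false
set_option linter.unusedSectionVars false
set_option linter.style.haveILetI false
universe u
open CategoryTheory CategoryTheory.Limits AlgebraicGeometry Topology Order TopologicalSpace IsLocalRing

namespace Groth.Agent.H25.GenConn

variable {A : Type u} [CommRing A] [IsDomain A] [IsDiscreteValuationRing A] {X : Scheme.{u}}
  (f : X ⟶ Spec (CommRingCat.of A)) [LocallyOfFiniteType f]

/-- the image `t` of a uniformizer in the local ring at a point of the closed fibre: it generates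
the fibre ideal, it cuts out the points over the closed point, and it is a nonzerodivisor as soon as
the local ring is flat over `A`. -/
theorem exists_uniformizer_data (x : X) (hx : f.base x = IsLocalRing.closedPoint A) :
    ∃ t : X.presheaf.stalk x, Groth.Agent.H49.FibreStalk.fibreIdeal f x = Ideal.span {t} ∧
      (∀ q : ↥(Spec (X.presheaf.stalk x)),
        t ∈ q.asIdeal ↔ f.base ((X.fromSpecStalk x).base q) = f.base x) ∧
      ((f.stalkMap x).hom.Flat → ∀ b : X.presheaf.stalk x, t * b = 0 → b = 0) := by
  obtain ⟨hdom, hdvr⟩ := Groth.Agent.H99.DVRFlatOpen.exists_dvr_stalk (f.base x) hx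
  haveI : IsDomain ((Spec (CommRingCat.of A)).presheaf.stalk (f.base x)) := hdom
  haveI : IsDiscreteValuationRing ((Spec (CommRingCat.of A)).presheaf.stalk (f.base x)) := hdvr
  set φ := (f.stalkMap x).hom with hφ
  obtain ⟨ϖ, hϖ⟩ := IsDiscreteValuationRing.exists_irreducible
    ((Spec (CommRingCat.of A)).presheaf.stalk (f.base x))
  have hmax : maximalIdeal ((Spec (CommRingCat.of A)).presheaf.stalk (f.base x)) =
      Ideal.span {ϖ} := hϖ.maximalIdeal_eq
  set t := φ ϖ with ht
  have hideal : Groth.Agent.H49.FibreStalk.fibreIdeal f x = Ideal.span {t} := by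
    rw [Groth.Agent.H49.FibreStalk.fibreIdeal, hmax, Ideal.map_span, Set.image_singleton]
  have hsq := Scheme.SpecMap_stalkMap_fromSpecStalk (f := f) (x := x)
  have hsq' : ∀ q : ↥(Spec (X.presheaf.stalk x)),
      ((Spec (CommRingCat.of A)).fromSpecStalk (f.base x)).base ((Spec.map (f.stalkMap x)).base q) =
        f.base ((X.fromSpecStalk x).base q) := by
    intro q
    exact congrArg (fun g => g.base q) hsq
  have hinjY : Function.Injective ((Spec (CommRingCat.of A)).fromSpecStalk (f.base x)).base :=
    ((Spec (CommRingCat.of A)).fromSpecStalk (f.base x)).isEmbedding.injective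
  refine ⟨t, hideal, ?_, ?_⟩
  · intro q
    have hcomap : ((Spec.map (f.stalkMap x)).base q).asIdeal = Ideal.comap φ q.asIdeal := rfl
    constructor
    · intro htq
      have h1 : maximalIdeal ((Spec (CommRingCat.of A)).presheaf.stalk (f.base x)) ≤
          ((Spec.map (f.stalkMap x)).base q).asIdeal := by
        rw [hmax, Ideal.span_singleton_le_iff_mem, hcomap, Ideal.mem_comap]
        exact htq
      have h2 : (Spec.map (f.stalkMap x)).base q =
          closedPoint ((Spec (CommRingCat.of A)).presheaf.stalk (f.base x)) := by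
        apply PrimeSpectrum.ext
        exact ((maximalIdeal.isMaximal _).eq_of_le
          ((Spec.map (f.stalkMap x)).base q).isPrime.ne_top h1).symm
      rw [← hsq', h2]
      exact Scheme.fromSpecStalk_closedPoint
    · intro hq
      have h2 : (Spec.map (f.stalkMap x)).base q =
          closedPoint ((Spec (CommRingCat.of A)).presheaf.stalk (f.base x)) := by
        apply hinjY
        rw [hsq', hq]
        exact Scheme.fromSpecStalk_closedPoint.symm
      have h3 : ϖ ∈ ((Spec.map (f.stalkMap x)).base q).asIdeal := by
        rw [h2]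
        change ϖ ∈ maximalIdeal _
        rw [hmax]; exact Ideal.mem_span_singleton_self ϖ
      rw [hcomap, Ideal.mem_comap] at h3
      exact h3
  · intro hflat
    letI := φ.toAlgebra
    haveI : Module.Flat ((Spec (CommRingCat.of A)).presheaf.stalk (f.base x))
      (X.presheaf.stalk x) := hflat
    have h1 : IsSMulRegular ((Spec (CommRingCat.of A)).presheaf.stalk (f.base x)) ϖ :=
      IsSMulRegular.of_ne_zero hϖ.ne_zero
    have h2 := IsSMulRegular.of_flat (S := X.presheaf.stalk x) h1
    intro b hb
    apply h2
    change t * b = t * 0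
    rw [hb, mul_zero]

/-- the generizations of a point `x` of the closed fibre lying in the generic fibre form a
nonempty preconnected set, if `f` is flat at `x` and the fibre is reduced at `x`. -/
theorem isPreconnected_generizations (x : X) (hx : f.base x = IsLocalRing.closedPoint A)
    (hflat : (f.stalkMap x).hom.Flat)
    (hred : _root_.IsReduced ((f.fiber (f.base x)).presheaf.stalk (f.asFiber x))) :
    _root_.IsPreconnected {a : X | a ⤳ x ∧ f.base a ≠ IsLocalRing.closedPoint A} ∧
      {a : X | a ⤳ x ∧ f.base a ≠ IsLocalRing.closedPoint A}.Nonempty := by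
  obtain ⟨t, hideal, hmem, hreg'⟩ := exists_uniformizer_data f x hx
  have hreg := hreg' hflat
  have hredB : _root_.IsReduced (X.presheaf.stalk x ⧸ Ideal.span {t}) := by
    rw [← hideal]
    exact isReduced_of_injective (Groth.Agent.H49.FibreStalk.quotientEquivStalkAsFiber f x)
      (Groth.Agent.H49.FibreStalk.quotientEquivStalkAsFiber f x).injective
  have hpre := Groth.Agent.H25.IdemConn.isPreconnected_basicOpen t hreg hredB
  have hset : {a : X | a ⤳ x ∧ f.base a ≠ IsLocalRing.closedPoint A} =
      (X.fromSpecStalk x).base '' (PrimeSpectrum.basicOpen t : Set (PrimeSpectrum _)) := by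
    ext a
    constructor
    · rintro ⟨ha1, ha2⟩
      obtain ⟨q, rfl⟩ : a ∈ Set.range (X.fromSpecStalk x).base := by
        rw [Scheme.range_fromSpecStalk]; exact ha1
      refine ⟨q, ?_, rfl⟩
      change t ∉ q.asIdeal
      rw [hmem q, hx]
      exact ha2
    · rintro ⟨q, hq, rfl⟩
      refine ⟨?_, ?_⟩
      · have : (X.fromSpecStalk x).base q ∈ Set.range (X.fromSpecStalk x).base := ⟨q, rfl⟩
        rw [Scheme.range_fromSpecStalk] at this
        exact this
      · have hq' : t ∉ q.asIdeal := hq
        rw [hmem q, hx] at hq'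
        exact hq'
  rw [hset]
  refine ⟨hpre.image _ (X.fromSpecStalk x).continuous.continuousOn, ?_⟩
  apply Set.Nonempty.image
  by_contra hempty
  rw [Set.not_nonempty_iff_eq_empty] at hempty
  have hbot : PrimeSpectrum.basicOpen t = ⊥ := by
    apply TopologicalSpace.Opens.ext
    exact hempty
  rw [PrimeSpectrum.basicOpen_eq_bot_iff] at hbot
  obtain ⟨n, hn⟩ := hbot
  have h1 : (1 : X.presheaf.stalk x) = 0 :=
    Groth.Agent.H25.IdemConn.pow_mul_eq_zero t hreg n 1 (by rw [mul_one, hn])
  exact one_ne_zero h1

end Groth.Agent.H25.GenConn
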