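import Groth.Agent.H25.SecBC4
import Groth.Agent.H17.Chev.FlatLC

set_option autoImplicit false
set_option linter.unusedSectionVars false
set_option linter.style.haveILetI false
universe u
open CategoryTheory CategoryTheory.Limits AlgebraicGeometry Topology Order TopologicalSpace

namespace Groth.Agent.H25.SecBC

open Groth.Agent.H17.Chev

/-- the generic point of the spectrum of a domain is the image of the point of the spectrum of
its fraction field -/
theorem genericPoint_spec_eq (A : Type u) [CommRing A] [IsDomain A] :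
    genericPoint ↥(Spec (CommRingCat.of A)) =
      (Spec.map (CommRingCat.ofHom (algebraMap A (FractionRing A)))).base
        (IsLocalRing.closedPoint (FractionRing A)) := by
  apply (genericPoint_spec ↥(Spec (CommRingCat.of A))).eq
  have hbot : ((Spec.map (CommRingCat.ofHom (algebraMap A (FractionRing A)))).base
      (IsLocalRing.closedPoint (FractionRing A))).asIdeal = ⊥ := by
    change Ideal.comap (algebraMap A (FractionRing A)) (IsLocalRing.maximalIdeal _) = ⊥
    rw [IsLocalRing.maximalIdeal_eq_bot, ← RingHom.ker_eq_comap_bot]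
    exact (RingHom.injective_iff_ker_eq_bot _).mp (IsFractionRing.injective A (FractionRing A))
  rw [IsGenericPoint, Set.eq_univ_iff_forall]
  intro z
  rw [← specializes_iff_mem_closure]
  refine (PrimeSpectrum.le_iff_specializes (R := A) _ z).mp ?_
  change _ ≤ z.asIdeal
  rw [hbot]
  exact bot_le

end Groth.Agent.H25.SecBC

namespace Groth.Agent.H25.SecBC

open Groth.Agent.H17.Chev Groth.Agent.H51

variable {X Y : Scheme.{u}} [IsLocallyNoetherian Y] (f : X ⟶ Y) [LocallyOfFiniteType f] (g : Y ⟶ X)
  (hg : g ≫ f = 𝟙 Y)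

variable (hgi : ∀ (y : Y) (K : Type u) [Field K]
      [Algebra (IsLocalRing.ResidueField (Y.presheaf.stalk y)) K],
      IsIrreducible ((FBase.bcπ (f.fiberToSpecResidueField y) K ≫ f.fiberι y).base ⁻¹'
        (connectedComponentIn (f.base ⁻¹' {y}) (g.base y))))

include hg hgi in
/-- key step of EGA IV 15.6.6 (iii): behaviour of the dimension of the section component under
generization. -/
theorem fibreDimAt_le_of_specializes (y₀ y' : Y) (hsp : y' ⤳ y₀)
    (hopen : ∀ ξ ∈ connectedComponentIn (f.base ⁻¹' {y₀}) (g.base y₀),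
      connectedComponentIn (f.base ⁻¹' {y₀}) (g.base y₀) ⊆ closure {ξ} → EGA43.IsUnivOpenAt f ξ) :
    (FBase.IsGeomReducedAt (f.fiberToSpecResidueField (f.base (g.base y₀)))
        (f.asFiber (g.base y₀)) →
      FlatMor.fibreDimAt f (g.base y₀) ≤ FlatMor.fibreDimAt f (g.base y')) ∧
    FlatMor.fibreDimAt f (g.base y₀) ≤ topologicalKrullDim ↥(f.fiber y') := by
  obtain ⟨A, _, _, _, g₁, ξ, hcomm, hcl, hξ⟩ :=
    Groth.Agent.H50.DVRSp.exists_dvr_of_specializes (𝟙 Y) y' y₀ hsp
  subst hcl
  haveI : IsLocallyNoetherian (Spec (CommRingCat.of A)) := by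
    rw [isLocallyNoetherian_Spec]; infer_instance
  have hη : g₁.base (genericPoint ↥(Spec (CommRingCat.of A))) = y' := by
    rw [genericPoint_spec_eq A, ← hξ]
    have h1 : ξ = Spec.map (CommRingCat.ofHom (algebraMap A (FractionRing A))) ≫ g₁ := by
      rw [← hcomm, Category.comp_id]
    rw [h1]
    rfl
  set fst := pullback.fst f g₁ with hfst
  set snd := pullback.snd f g₁ with hsnd
  haveI : LocallyOfFiniteType snd := inferInstance
  obtain ⟨ζ, hζmax, hζs, hζη, hdim⟩ := exists_max_generization' f g hg g₁ hgi (IsLocalRing.closedPoint A) hopen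
  have hpb : IsPullback fst snd f g₁ := IsPullback.of_hasPullback f g₁
  have hdim' : FlatMor.fibreDimAt f (fst.base ζ) = FlatMor.fibreDimAt f (g.base (g₁.base (IsLocalRing.closedPoint A))) := by
    rw [← hdim]
    exact (Groth.Agent.H49.FibreDimAtBC.fibreDimAt_eq_of_isPullback f g₁ snd fst hpb ζ).symm
  have hfζ : f.base (fst.base ζ) = y' := by
    rw [f_fst, hζη, hη]
  refine ⟨?_, ?_⟩
  · intro hα
    set x := (sec f g hg g₁).base (IsLocalRing.closedPoint A) with hx
    have hsx : snd.base x = IsLocalRing.closedPoint A := snd_sec f g hg g₁ _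
    have hfx : fst.base x = g.base (g₁.base (IsLocalRing.closedPoint A)) := fst_sec f g hg g₁ _
    have hxE : x ∈ E f g g₁ (snd.base x) := by
      rw [hsx]; exact sec_mem_E f g hg g₁ _
    have hopen' : ∀ ξ ∈ connectedComponentIn (f.base ⁻¹' {g₁.base (snd.base x)})
        (g.base (g₁.base (snd.base x))),
      connectedComponentIn (f.base ⁻¹' {g₁.base (snd.base x)})
        (g.base (g₁.base (snd.base x))) ⊆ closure {ξ} → EGA43.IsUnivOpenAt f ξ := by
      rw [hsx]; exact hopen
    have hred' : FBase.IsGeomReducedAt (f.fiberToSpecResidueField (g₁.base (snd.base x)))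
        ((fibreBC' f g₁ snd fst hpb (snd.base x)).base (snd.asFiber x)) := by
      refine (GeomRedFibreBC.isGeomReducedAt_congr f ?_ _ _ ?_).mp hα
      · rw [f_g f g hg, hsx]
      · rw [f.fiberι_asFiber]
        have h1 := fibreBC'_fiberι f g₁ snd fst hpb (snd.base x)
        have h2 : (f.fiberι (g₁.base (snd.base x))).base
            ((fibreBC' f g₁ snd fst hpb (snd.base x)).base (snd.asFiber x)) =
            fst.base ((snd.fiberι (snd.base x)).base (snd.asFiber x)) :=
          congrArg (fun φ : snd.fiber (snd.base x) ⟶ X => φ.base (snd.asFiber x)) h1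
        rw [h2, snd.fiberι_asFiber, hfx]
    have hred : _root_.IsReduced ((snd.fiber (snd.base x)).presheaf.stalk (snd.asFiber x)) :=
      GeomRedFibreBC.isReduced_stalk_fiber_of_isGeomReducedAt f g₁ snd fst hpb (snd.base x)
        (snd.asFiber x) hred'
    have hflat := flat_stalkMap_snd f g hg g₁ hgi x hxE hsx hopen' hred
    -- the fibre stalk is a domain
    obtain ⟨w', hw', -⟩ := exists_generic_Z f g hg g₁ hgi (snd.base x)
    have hasZ : snd.asFiber x ∈ Z f g g₁ (snd.base x) := by
      change (snd.fiberι (snd.base x)).base (snd.asFiber x) ∈ E f g g₁ (snd.base x)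
      rw [snd.fiberι_asFiber x]
      exact hxE
    have hsub := DomainLift.subsingleton_minimalPrimes_stalk (snd.fiber (snd.base x))
      (snd.asFiber x) w' (by
        intro z hz
        have hzZ : z ∈ Z f g g₁ (snd.base x) := hz.mem_open (isOpen_Z f g hg g₁ _) hasZ
        rw [specializes_iff_mem_closure, hw'.def]
        exact hzZ)
    haveI := hred
    have hdomF : IsDomain ((snd.fiber (snd.base x)).presheaf.stalk (snd.asFiber x)) :=
      DomainLift.isDomain_of_isReduced_of_subsingleton hsub
    haveI hdomO : IsDomain ((pullback f g₁).presheaf.stalk x) :=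
      DomainLift.isDomain_stalk_of_flat_of_isDomain_fibre snd x hsx hflat hdomF
    -- ζ generizes the section over the generic point
    have hση : (sec f g hg g₁).base (genericPoint ↥(Spec (CommRingCat.of A))) ⤳ x :=
      ((genericPoint_spec ↥(Spec (CommRingCat.of A))).specializes (Set.mem_univ (IsLocalRing.closedPoint A))).map (sec f g hg g₁).continuous
    have hζση : ζ ⤳ (sec f g hg g₁).base (genericPoint ↥(Spec (CommRingCat.of A))) :=
      DomainLift.specializes_of_isMax_of_isDomain (pullback f g₁) x ζ _ hζmax hζs hση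
    have hle := fibreDimAt_le_of_specializes_of_eq snd ζ _ hζση
      (by rw [hζη]; exact (snd_sec f g hg g₁ _).symm)
    rw [hdim, Groth.Agent.H49.FibreDimAtBC.fibreDimAt_eq_of_isPullback f g₁ snd fst hpb] at hle
    have h3 : fst.base ((sec f g hg g₁).base (genericPoint ↥(Spec (CommRingCat.of A)))) = g.base y' := by
      rw [← hη]; exact fst_sec f g hg g₁ _
    change _ ≤ FlatMor.fibreDimAt f (fst.base ((sec f g hg g₁).base (genericPoint ↥(Spec (CommRingCat.of A))))) at hle
    rw [h3] at hle
    exact hle
  · rw [← hdim', ← hfζ]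
    exact fibreDimAt_le_dim_fiber f (fst.base ζ)

end Groth.Agent.H25.SecBC
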