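import Groth.Agent.H25.Generize

set_option autoImplicit false
universe u

namespace Groth.Agent.H25

open TopologicalSpace

variable {X : Type*} [TopologicalSpace X]

/-- In a Noetherian quasi-sober space, a set stable under specialization and generization is
open. -/
theorem isOpen_of_stable_of_noetherian [NoetherianSpace X] [QuasiSober X] (W : Set X)
    (hs : StableUnderSpecialization W) (hg : StableUnderGeneralization W) : IsOpen W := by
  obtain ⟨S, hSf, hSc, hSi, hSU⟩ :=
    NoetherianSpace.exists_finite_set_isClosed_irreducible (isClosed_univ (X := X))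
  set T : Set X := ⋃₀ {t ∈ S | Disjoint t W} with hT
  have hTc : IsClosed T := by
    rw [hT, Set.sUnion_eq_biUnion]
    apply Set.Finite.isClosed_biUnion
    · exact hSf.subset (fun t ht => ht.1)
    · intro t ht; exact hSc t ht.1
  have hTW : Tᶜ ⊆ W := by
    intro p hp
    have hpu : p ∈ ⋃₀ S := by rw [← hSU]; trivial
    obtain ⟨t, htS, hpt⟩ := hpu
    have hnd : ¬ Disjoint t W := by
      intro hd
      exact hp ⟨t, ⟨htS, hd⟩, hpt⟩
    rw [Set.not_disjoint_iff] at hnd
    obtain ⟨w, hwt, hwW⟩ := hnd
    obtain ⟨γ, hγ⟩ := QuasiSober.sober (hSi t htS) (hSc t htS)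
    have h1 : γ ⤳ w := hγ.specializes hwt
    have h2 : γ ⤳ p := hγ.specializes hpt
    exact hs h2 (hg h1 hwW)
  have hWT : W ⊆ Tᶜ := by
    intro w hw hwT
    obtain ⟨t, ⟨_, hd⟩, hwt⟩ := hwT
    exact Set.disjoint_left.mp hd hwt hw
  have : W = Tᶜ := Set.Subset.antisymm hWT hTW
  rw [this]
  exact hTc.isOpen_compl

/-- In a locally Noetherian quasi-sober space, a set stable under specialization and generization
is open and closed. -/
theorem isClopen_of_stable [QuasiSober X]
    (hloc : ∀ x : X, ∃ U ∈ nhds x, NoetherianSpace ↥U) (W : Set X)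
    (hs : StableUnderSpecialization W) (hg : StableUnderGeneralization W) : IsClopen W := by
  have key : ∀ W : Set X, StableUnderSpecialization W → StableUnderGeneralization W →
      IsOpen W := by
    intro W hs hg
    rw [isOpen_iff_forall_mem_open]
    intro x hx
    obtain ⟨U, hU, hUn⟩ := hloc x
    obtain ⟨N, hNU, hNo, hxN⟩ := mem_nhds_iff.1 hU
    have hNn : NoetherianSpace ↥N :=
      (Topology.IsInducing.of_comp (f := Set.inclusion hNU) (g := Subtype.val)
        (continuous_inclusion hNU) continuous_subtype_val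
        Topology.IsInducing.subtypeVal).noetherianSpace
    have hNs : QuasiSober ↥N := hNo.isOpenEmbedding_subtypeVal.quasiSober
    have h1 : IsOpen (Subtype.val ⁻¹' W : Set ↥N) := by
      apply isOpen_of_stable_of_noetherian
      · intro a b hab ha
        exact hs (hab.map continuous_subtype_val) ha
      · intro a b hab ha
        exact hg (hab.map continuous_subtype_val) ha
    refine ⟨Subtype.val '' (Subtype.val ⁻¹' W : Set ↥N), ?_,
      hNo.isOpenMap_subtype_val _ h1, ⟨⟨x, hxN⟩, hx, rfl⟩⟩
    rintro _ ⟨a, ha, rfl⟩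
    exact ha
  refine ⟨?_, key W hs hg⟩
  rw [← isOpen_compl_iff]
  exact key Wᶜ hg.compl hs.compl

end Groth.Agent.H25
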