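import Groth.Agent.H25.GenConn1
import Groth.Agent.H25.SecBC5
import Groth.Agent.H25.StableClopen
import Groth.Agent.H87.SecComp

set_option autoImplicit false
set_option linter.unusedSectionVars false
set_option linter.style.haveILetI false
universe u
open CategoryTheory CategoryTheory.Limits AlgebraicGeometry Topology Order TopologicalSpace IsLocalRing

namespace Groth.Agent.H25.GenConn

open Groth.Agent.H25.SecBC Groth.Agent.H51

/-- the spectrum of a DVR has two points -/
theorem eq_closedPoint_or_eq_genericPoint (A : Type u) [CommRing A] [IsDomain A]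
    [IsDiscreteValuationRing A] (p : ↥(Spec (CommRingCat.of A))) :
    p = IsLocalRing.closedPoint A ∨ p = genericPoint ↥(Spec (CommRingCat.of A)) := by
  by_cases hp : p.asIdeal = ⊥
  · right
    symm
    apply (genericPoint_spec ↥(Spec (CommRingCat.of A))).eq
    rw [IsGenericPoint, Set.eq_univ_iff_forall]
    intro z
    rw [← specializes_iff_mem_closure]
    refine (PrimeSpectrum.le_iff_specializes (R := A) p z).mp ?_
    change p.asIdeal ≤ z.asIdeal
    rw [hp]; exact bot_le
  · left
    apply PrimeSpectrum.ext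
    have hmax : p.asIdeal.IsMaximal := Ring.DimensionLEOne.maximalOfPrime hp p.isPrime
    exact (IsLocalRing.eq_maximalIdeal hmax)

theorem genericPoint_ne_closedPoint (A : Type u) [CommRing A] [IsDomain A]
    [IsDiscreteValuationRing A] :
    genericPoint ↥(Spec (CommRingCat.of A)) ≠ IsLocalRing.closedPoint A := by
  intro h
  have h1 : (genericPoint ↥(Spec (CommRingCat.of A))).asIdeal = ⊥ := by
    rw [genericPoint_spec_eq A]
    change Ideal.comap (algebraMap A (FractionRing A)) (IsLocalRing.maximalIdeal _) = ⊥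
    rw [IsLocalRing.maximalIdeal_eq_bot, ← RingHom.ker_eq_comap_bot]
    exact (RingHom.injective_iff_ker_eq_bot _).mp (IsFractionRing.injective A (FractionRing A))
  rw [h] at h1
  exact IsDiscreteValuationRing.not_a_field A h1

end Groth.Agent.H25.GenConn

namespace Groth.Agent.H25.GenConn

open Groth.Agent.H25.SecBC Groth.Agent.H51

variable {X Y : Scheme.{u}} (f : X ⟶ Y) [LocallyOfFiniteType f] (g : Y ⟶ X)
  (hg : g ≫ f = 𝟙 Y)
  {A : Type u} [CommRing A] [IsDomain A] [IsDiscreteValuationRing A]
  (g₁ : Spec (CommRingCat.of A) ⟶ Y)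

include hg in
/-- `E τ` is the connected component of the section in the fibre of the base change -/
theorem E_eq_connectedComponentIn {T : Scheme.{u}} (g₁ : T ⟶ Y) (τ : T) :
    E f g g₁ τ =
      connectedComponentIn ((pullback.snd f g₁).base ⁻¹' {τ}) ((sec f g hg g₁).base τ) := by
  have hpb : IsPullback (pullback.fst f g₁) (pullback.snd f g₁) f g₁ :=
    IsPullback.of_hasPullback f g₁
  have hs' : sec f g hg g₁ ≫ pullback.snd f g₁ = 𝟙 T := pullback.lift_snd _ _ _
  have hs'g : sec f g hg g₁ ≫ pullback.fst f g₁ = g₁ ≫ g := pullback.lift_fst _ _ _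
  ext p
  constructor
  · rintro ⟨hp1, hp2⟩
    have hp2' : (pullback.snd f g₁).base p = τ := hp2
    have h1 : (pullback.fst f g₁).base p ∈ MoreMor.sectionComponents f g := by
      change (pullback.fst f g₁).base p ∈ connectedComponentIn
        (f.base ⁻¹' {f.base ((pullback.fst f g₁).base p)})
        (g.base (f.base ((pullback.fst f g₁).base p)))
      rw [f_fst, hp2']
      exact hp1
    have h2 := Groth.Agent.H87.SecComp.mem_of_map_mem f g hg (pullback.snd f g₁)
      (pullback.fst f g₁) g₁ hpb (sec f g hg g₁) hs' hs'g p h1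
    change p ∈ connectedComponentIn ((pullback.snd f g₁).base ⁻¹' {(pullback.snd f g₁).base p})
      ((sec f g hg g₁).base ((pullback.snd f g₁).base p)) at h2
    rw [hp2'] at h2
    exact h2
  · intro hp
    have hp2 : (pullback.snd f g₁).base p = τ := by
      have := connectedComponentIn_subset ((pullback.snd f g₁).base ⁻¹' {τ})
        ((sec f g hg g₁).base τ) hp
      exact this
    have h1 : p ∈ MoreMor.sectionComponents (pullback.snd f g₁) (sec f g hg g₁) := by
      change p ∈ connectedComponentIn
        ((pullback.snd f g₁).base ⁻¹' {(pullback.snd f g₁).base p})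
        ((sec f g hg g₁).base ((pullback.snd f g₁).base p))
      rw [hp2]; exact hp
    have h2 := Groth.Agent.H87.SecComp.map_mem_of_mem f g (pullback.snd f g₁)
      (pullback.fst f g₁) g₁ hpb (sec f g hg g₁) hs' hs'g p h1
    change (pullback.fst f g₁).base p ∈ connectedComponentIn
        (f.base ⁻¹' {f.base ((pullback.fst f g₁).base p)})
        (g.base (f.base ((pullback.fst f g₁).base p))) at h2
    rw [f_fst, hp2] at h2
    exact ⟨h2, hp2⟩

end Groth.Agent.H25.GenConn

namespace Groth.Agent.H25.GenConn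

open Groth.Agent.H25.SecBC Groth.Agent.H51

variable {X Y : Scheme.{u}} (f : X ⟶ Y) [LocallyOfFiniteType f] (g : Y ⟶ X)
  (hg : g ≫ f = 𝟙 Y)
  {A : Type u} [CommRing A] [IsDomain A] [IsDiscreteValuationRing A]
  (g₁ : Spec (CommRingCat.of A) ⟶ Y)

include hg in
/-- flatness and reducedness of the fibre at the points of the section component of the closed
fibre of the base change to a DVR -/
theorem flat_and_reduced_of_mem_E
    (H : ∀ x ∈ connectedComponentIn (f.base ⁻¹' {g₁.base (IsLocalRing.closedPoint A)})
        (g.base (g₁.base (IsLocalRing.closedPoint A))),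
      EGA43.IsUnivOpenAt f x ∧
        FBase.IsGeomReducedAt (f.fiberToSpecResidueField (f.base x)) (f.asFiber x))
    (x₁ : ↥(pullback f g₁)) (hx₁ : x₁ ∈ E f g g₁ (IsLocalRing.closedPoint A)) :
    ((pullback.snd f g₁).stalkMap x₁).hom.Flat ∧
      _root_.IsReduced (((pullback.snd f g₁).fiber ((pullback.snd f g₁).base x₁)).presheaf.stalk
        ((pullback.snd f g₁).asFiber x₁)) := by
  set fst := pullback.fst f g₁ with hfst
  set snd := pullback.snd f g₁ with hsnd
  haveI : LocallyOfFiniteType snd := inferInstance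
  have hpb : IsPullback fst snd f g₁ := IsPullback.of_hasPullback f g₁
  have hsx : snd.base x₁ = IsLocalRing.closedPoint A := hx₁.2
  have hred' : FBase.IsGeomReducedAt (f.fiberToSpecResidueField (g₁.base (snd.base x₁)))
      ((fibreBC' f g₁ snd fst hpb (snd.base x₁)).base (snd.asFiber x₁)) := by
    refine (GeomRedFibreBC.isGeomReducedAt_congr f ?_ _ _ ?_).mp (H (fst.base x₁) hx₁.1).2
    · exact f_fst f g₁ x₁
    · rw [f.fiberι_asFiber]
      have h1 := fibreBC'_fiberι f g₁ snd fst hpb (snd.base x₁)
      have h2 : (f.fiberι (g₁.base (snd.base x₁))).base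
          ((fibreBC' f g₁ snd fst hpb (snd.base x₁)).base (snd.asFiber x₁)) =
          fst.base ((snd.fiberι (snd.base x₁)).base (snd.asFiber x₁)) :=
        congrArg (fun φ : snd.fiber (snd.base x₁) ⟶ X => φ.base (snd.asFiber x₁)) h1
      rw [h2, snd.fiberι_asFiber]
  have hred : _root_.IsReduced ((snd.fiber (snd.base x₁)).presheaf.stalk (snd.asFiber x₁)) :=
    GeomRedFibreBC.isReduced_stalk_fiber_of_isGeomReducedAt f g₁ snd fst hpb (snd.base x₁)
      (snd.asFiber x₁) hred'
  refine ⟨?_, hred⟩
  refine Groth.Agent.H99.DVRFlatOpen.flat_stalkMap_of_isOpenAt snd x₁ hsx ?_ hred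
  intro z hz _
  obtain ⟨O, C, hO, hC, hEO, hEC⟩ := exists_open_closed_E f g hg g₁ (IsLocalRing.closedPoint A)
  have h1 : z ⤳ snd.asFiber x₁ := specializes_iff_mem_closure.mpr hz
  have h2 := h1.map (snd.fiberι (snd.base x₁)).continuous
  rw [snd.fiberι_asFiber] at h2
  have hzs : snd.base ((snd.fiberι (snd.base x₁)).base z) = IsLocalRing.closedPoint A := by
    have : (snd.fiberι (snd.base x₁)).base z ∈ Set.range (snd.fiberι (snd.base x₁)).base :=
      ⟨z, rfl⟩
    rw [Scheme.Hom.range_fiberι] at this
    exact this.trans hsx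
  have hzE : (snd.fiberι (snd.base x₁)).base z ∈ E f g g₁ (IsLocalRing.closedPoint A) := by
    rw [hEO]
    refine ⟨h2.mem_open hO ?_, hzs⟩
    have : x₁ ∈ O ∩ snd.base ⁻¹' {IsLocalRing.closedPoint A} := hEO ▸ hx₁
    exact this.1
  exact (H _ hzE.1).1 _ g₁ _ rfl

end Groth.Agent.H25.GenConn
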