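import Groth.Agent.H25.GenConn2

set_option autoImplicit false
set_option linter.unusedSectionVars false
set_option linter.style.haveILetI false
universe u
open CategoryTheory CategoryTheory.Limits AlgebraicGeometry Topology Order TopologicalSpace IsLocalRing

namespace Groth.Agent.H25.GenConn

open Groth.Agent.H25.SecBC Groth.Agent.H51

variable {X Y : Scheme.{u}} (f : X ⟶ Y) [LocallyOfFiniteType f] (g : Y ⟶ X)
  (hg : g ≫ f = 𝟙 Y)
  {A : Type u} [CommRing A] [IsDomain A] [IsDiscreteValuationRing A]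
  (g₁ : Spec (CommRingCat.of A) ⟶ Y)

include hg in
/-- over a DVR: the generizations (in the generic fibre) of the points of the section component of
the closed fibre lie in the section component of the generic fibre. -/
theorem generization_mem_sectionComponents
    (H : ∀ x ∈ connectedComponentIn (f.base ⁻¹' {g₁.base (IsLocalRing.closedPoint A)})
        (g.base (g₁.base (IsLocalRing.closedPoint A))),
      EGA43.IsUnivOpenAt f x ∧
        FBase.IsGeomReducedAt (f.fiberToSpecResidueField (f.base x)) (f.asFiber x))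
    (x₁ : ↥(pullback f g₁)) (hx₁ : x₁ ∈ E f g g₁ (IsLocalRing.closedPoint A))
    (a : ↥(pullback f g₁)) (ha : a ⤳ x₁)
    (has : (pullback.snd f g₁).base a ≠ IsLocalRing.closedPoint A) :
    (pullback.fst f g₁).base a ∈ MoreMor.sectionComponents f g := by
  set fst := pullback.fst f g₁ with hfst
  set snd := pullback.snd f g₁ with hsnd
  set s := IsLocalRing.closedPoint A with hs
  set η := genericPoint ↥(Spec (CommRingCat.of A)) with hη
  set σ := sec f g hg g₁ with hσ
  haveI : LocallyOfFiniteType snd := inferInstance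
  haveI : IsLocallyNoetherian (Spec (CommRingCat.of A)) := by
    rw [isLocallyNoetherian_Spec]; infer_instance
  haveI : IsLocallyNoetherian (pullback f g₁) := LocallyOfFiniteType.isLocallyNoetherian snd
  have hpb : IsPullback fst snd f g₁ := IsPullback.of_hasPullback f g₁
  -- the sets G(x)
  let G : ↥(pullback f g₁) → Set ↥(pullback f g₁) := fun x => {a | a ⤳ x ∧ snd.base a ≠ s}
  have hGη : ∀ x, G x ⊆ snd.base ⁻¹' {η} := by
    intro x b hb
    rcases eq_closedPoint_or_eq_genericPoint A (snd.base b) with h | h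
    · exact absurd h hb.2
    · exact h
  have hGpre : ∀ x ∈ E f g g₁ s, _root_.IsPreconnected (G x) ∧ (G x).Nonempty := by
    intro x hx
    obtain ⟨hflat, hred⟩ := flat_and_reduced_of_mem_E f g hg g₁ H x hx
    exact isPreconnected_generizations snd x hx.2 hflat hred
  set C₀ := connectedComponentIn (snd.base ⁻¹' {η}) (σ.base η) with hC₀
  have hσηF : σ.base η ∈ snd.base ⁻¹' {η} := snd_sec f g hg g₁ η
  -- the fibre scheme
  set F := snd.fiber s with hF
  set ι := snd.fiberι s with hι
  haveI : IsLocallyNoetherian F := by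
    have : LocallyOfFiniteType (snd.fiberToSpecResidueField s) :=
      inferInstanceAs (LocallyOfFiniteType
        (pullback.snd snd ((Spec (CommRingCat.of A)).fromSpecResidueField s)))
    exact LocallyOfFiniteType.isLocallyNoetherian (snd.fiberToSpecResidueField s)
  have hloc : ∀ w : F, ∃ U ∈ nhds w, NoetherianSpace ↥U := by
    intro w
    obtain ⟨_, ⟨(U : F.Opens), hU, rfl⟩, hwU, -⟩ :=
      F.isBasis_affineOpens.exists_subset_of_mem_open (Set.mem_univ w) isOpen_univ
    replace hU : IsAffineOpen U := hU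
    haveI : IsNoetherianRing Γ(F, U) := IsLocallyNoetherian.component_noetherian ⟨U, hU⟩
    exact ⟨(U : Set F), U.isOpen.mem_nhds hwU, noetherianSpace_of_isAffineOpen U hU⟩
  set Z' := Z f g g₁ s with hZ'
  let W : Set F := {w | w ∈ Z' ∧ G (ι.base w) ⊆ C₀}
  have hZo : IsOpen Z' := isOpen_Z f g hg g₁ s
  have hZc : IsClosed Z' := isClosed_Z f g hg g₁ s
  have hmono : ∀ w₁ w₂ : F, w₁ ⤳ w₂ → G (ι.base w₁) ⊆ G (ι.base w₂) := by
    intro w₁ w₂ h b hb
    exact ⟨hb.1.trans (h.map ι.continuous), hb.2⟩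
  have hWs : StableUnderSpecialization W := by
    intro w₁ w₂ h hw₁
    have hw₂Z : w₂ ∈ Z' := hZc.stableUnderSpecialization h hw₁.1
    refine ⟨hw₂Z, ?_⟩
    obtain ⟨hpre, hne⟩ := hGpre (ι.base w₂) hw₂Z
    obtain ⟨a₀, ha₀⟩ := (hGpre (ι.base w₁) hw₁.1).2
    have ha₀C : a₀ ∈ C₀ := hw₁.2 ha₀
    have ha₀2 : a₀ ∈ G (ι.base w₂) := hmono w₁ w₂ h ha₀
    have h1 := hpre.subset_connectedComponentIn ha₀2 (hGη _)
    rw [← connectedComponentIn_eq ha₀C] at h1
    exact h1
  have hWg : StableUnderGeneralization W := by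
    intro w₂ w₁ h hw₂
    have hw₁Z : w₁ ∈ Z' := h.mem_open hZo hw₂.1
    exact ⟨hw₁Z, (hmono w₁ w₂ h).trans hw₂.2⟩
  have hWclopen : IsClopen W := Groth.Agent.H25.isClopen_of_stable hloc W hWs hWg
  -- Z' is preconnected
  have hEpre : _root_.IsPreconnected (E f g g₁ s) := by
    rw [E_eq_connectedComponentIn f g hg g₁ s]
    exact isPreconnected_connectedComponentIn
  have hZpre : _root_.IsPreconnected Z' := by
    have himg : ι.base '' Z' = E f g g₁ s := by
      ext p
      constructor
      · rintro ⟨w, hw, rfl⟩; exact hw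
      · intro hp
        obtain ⟨w, rfl⟩ := E_subset_range f g g₁ s hp
        exact ⟨w, hp, rfl⟩
    rw [← ι.isEmbedding.isInducing.isPreconnected_image, himg]
    exact hEpre
  -- the section point
  obtain ⟨w₀, hw₀⟩ : ∃ w₀, ι.base w₀ = σ.base s :=
    E_subset_range f g g₁ s (sec_mem_E f g hg g₁ s)
  have hw₀Z : w₀ ∈ Z' := by
    change ι.base w₀ ∈ E f g g₁ s
    rw [hw₀]; exact sec_mem_E f g hg g₁ s
  have hw₀W : w₀ ∈ W := by
    refine ⟨hw₀Z, ?_⟩
    obtain ⟨hpre, -⟩ := hGpre (ι.base w₀) hw₀Z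
    have hσG : σ.base η ∈ G (ι.base w₀) := by
      refine ⟨?_, ?_⟩
      · rw [hw₀]
        exact ((genericPoint_spec ↥(Spec (CommRingCat.of A))).specializes
          (Set.mem_univ s)).map σ.continuous
      · change snd.base (σ.base η) ≠ s
        rw [snd_sec f g hg g₁ η]
        exact genericPoint_ne_closedPoint A
    exact hpre.subset_connectedComponentIn hσG (hGη _)
  have hZW : Z' ⊆ W := hZpre.subset_isClopen hWclopen ⟨w₀, hw₀Z, hw₀W⟩
  -- conclusion
  obtain ⟨w₁, hw₁⟩ : ∃ w₁, ι.base w₁ = x₁ := E_subset_range f g g₁ s hx₁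
  have hw₁Z : w₁ ∈ Z' := by
    change ι.base w₁ ∈ E f g g₁ s
    rw [hw₁]; exact hx₁
  have haG : a ∈ G (ι.base w₁) := by
    rw [hw₁]; exact ⟨ha, has⟩
  have haC : a ∈ C₀ := (hZW hw₁Z).2 haG
  have haη : snd.base a = η := hGη _ haG
  have h1 : a ∈ MoreMor.sectionComponents snd σ := by
    change a ∈ connectedComponentIn (snd.base ⁻¹' {snd.base a}) (σ.base (snd.base a))
    rw [haη]; exact haC
  exact Groth.Agent.H87.SecComp.map_mem_of_mem f g snd fst g₁ hpb σ
    (pullback.lift_snd _ _ _) (pullback.lift_fst _ _ _) a h1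

end Groth.Agent.H25.GenConn
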