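import Groth.Agent.H25.GenConn3

set_option autoImplicit false
set_option linter.unusedSectionVars false
set_option linter.style.haveILetI false
universe u
open CategoryTheory CategoryTheory.Limits AlgebraicGeometry Topology Order TopologicalSpace IsLocalRing

namespace Groth.Agent.H25.GenConn

open Groth.Agent.H25.SecBC Groth.Agent.H51

variable {X Y : Scheme.{u}} [IsLocallyNoetherian Y] (f : X ⟶ Y) [LocallyOfFiniteType f]
  (g : Y ⟶ X) (hg : g ≫ f = 𝟙 Y)

include hg in
/-- **Generization step** of EGA IV 15.6.7: if `f` is universally open and has geometrically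
reduced fibre at every point of the section component `X⁰_y`, every generization of a point of
`X⁰_y` lies in the union `X⁰` of the section components. -/
theorem mem_sectionComponents_of_specializes (y : Y)
    (H : ∀ x ∈ connectedComponentIn (f.base ⁻¹' {y}) (g.base y),
      EGA43.IsUnivOpenAt f x ∧
        FBase.IsGeomReducedAt (f.fiberToSpecResidueField (f.base x)) (f.asFiber x))
    (x : X) (hx : x ∈ connectedComponentIn (f.base ⁻¹' {y}) (g.base y)) (ζ : X) (hζ : ζ ⤳ x) :
    ζ ∈ MoreMor.sectionComponents f g := by
  haveI : IsLocallyNoetherian X := LocallyOfFiniteType.isLocallyNoetherian f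
  have hfx : f.base x = y := by
    have := connectedComponentIn_subset (f.base ⁻¹' {y}) (g.base y) hx
    exact this
  obtain ⟨A, _, _, _, h, ξ, hcomm, hcl, hξ⟩ :=
    Groth.Agent.H50.DVRSp.exists_dvr_of_specializes (𝟙 X) ζ x hζ
  set g₁ := h ≫ f with hg₁
  have hg₁s : g₁.base (IsLocalRing.closedPoint A) = y := by
    rw [← hfx, ← hcl]; rfl
  have H' : ∀ x ∈ connectedComponentIn (f.base ⁻¹' {g₁.base (IsLocalRing.closedPoint A)})
        (g.base (g₁.base (IsLocalRing.closedPoint A))),
      EGA43.IsUnivOpenAt f x ∧
        FBase.IsGeomReducedAt (f.fiberToSpecResidueField (f.base x)) (f.asFiber x) := by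
    rw [hg₁s]; exact H
  let t : Spec (CommRingCat.of A) ⟶ pullback f g₁ :=
    pullback.lift h (𝟙 _) (by rw [Category.id_comp])
  have ht1 : t ≫ pullback.fst f g₁ = h := pullback.lift_fst _ _ _
  have ht2 : t ≫ pullback.snd f g₁ = 𝟙 _ := pullback.lift_snd _ _ _
  have ht1' : ∀ p, (pullback.fst f g₁).base (t.base p) = h.base p := by
    intro p; rw [← Scheme.Hom.comp_apply, ht1]
  have ht2' : ∀ p, (pullback.snd f g₁).base (t.base p) = p := by
    intro p; rw [← Scheme.Hom.comp_apply, ht2]; rfl
  set η := genericPoint ↥(Spec (CommRingCat.of A)) with hη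
  have hx₁ : t.base (IsLocalRing.closedPoint A) ∈ E f g g₁ (IsLocalRing.closedPoint A) := by
    refine ⟨?_, ht2' _⟩
    change (pullback.fst f g₁).base (t.base (IsLocalRing.closedPoint A)) ∈
      connectedComponentIn (f.base ⁻¹' {g₁.base (IsLocalRing.closedPoint A)})
        (g.base (g₁.base (IsLocalRing.closedPoint A)))
    rw [ht1', hcl, hg₁s]
    exact hx
  have ha : t.base η ⤳ t.base (IsLocalRing.closedPoint A) :=
    ((genericPoint_spec ↥(Spec (CommRingCat.of A))).specializes
      (Set.mem_univ (IsLocalRing.closedPoint A))).map t.continuous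
  have has : (pullback.snd f g₁).base (t.base η) ≠ IsLocalRing.closedPoint A := by
    rw [ht2']; exact genericPoint_ne_closedPoint A
  have key := generization_mem_sectionComponents f g hg g₁ H' _ hx₁ _ ha has
  rw [ht1'] at key
  have hhη : h.base η = ζ := by
    rw [hη, genericPoint_spec_eq A, ← hξ]
    have h1 : ξ = Spec.map (CommRingCat.ofHom (algebraMap A (FractionRing A))) ≫ h := by
      rw [← hcomm, Category.comp_id]
    rw [h1]
    rfl
  rw [hhη] at key
  exact key

end Groth.Agent.H25.GenConn
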