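import Mathlib.Topology.Sober
import Mathlib.Topology.NoetherianSpace
import Mathlib.Topology.Connected.Basic
import Mathlib.Topology.Connected.Clopen

set_option autoImplicit false
universe u

namespace Groth.Agent.H25

open TopologicalSpace

variable {X : Type*} [TopologicalSpace X]

/-- In a Noetherian quasi-sober space, a point in the closure of an open set is a specialization
of a point of that open set. -/
theorem exists_specializes_of_mem_closure_of_noetherian [NoetherianSpace X] [QuasiSober X]
    {V : Set X} (hV : IsOpen V) {x : X} (hx : x ∈ closure V) : ∃ η ∈ V, η ⤳ x := by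
  obtain ⟨S, hSf, hSc, hSi, hSU⟩ :=
    NoetherianSpace.exists_finite_set_isClosed_irreducible (isClosed_univ (X := X))
  have hVeq : V = ⋃ t ∈ S, V ∩ t := by
    rw [← Set.inter_iUnion₂, ← Set.sUnion_eq_biUnion, ← hSU, Set.inter_univ]
  rw [hVeq, hSf.closure_biUnion] at hx
  obtain ⟨t, htS, hxt⟩ := Set.mem_iUnion₂.1 hx
  obtain ⟨η, hη⟩ := QuasiSober.sober (hSi t htS) (hSc t htS)
  have hne : (V ∩ t).Nonempty := by
    by_contra hcon
    rw [Set.not_nonempty_iff_eq_empty] at hcon
    rw [hcon, closure_empty] at hxt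
    exact hxt
  have hηV : η ∈ V := (hη.mem_open_set_iff hV).2 (by rwa [Set.inter_comm])
  refine ⟨η, hηV, hη.specializes ?_⟩
  exact (closure_minimal Set.inter_subset_right (hSc t htS)) hxt

/-- Same in a locally Noetherian quasi-sober space. -/
theorem exists_specializes_of_mem_closure [QuasiSober X]
    (hloc : ∀ x : X, ∃ U ∈ nhds x, NoetherianSpace ↥U)
    {V : Set X} (hV : IsOpen V) {x : X} (hx : x ∈ closure V) : ∃ η ∈ V, η ⤳ x := by
  obtain ⟨U, hU, hUn⟩ := hloc x
  obtain ⟨W, hWU, hWo, hxW⟩ := mem_nhds_iff.1 hU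
  have hWn : NoetherianSpace ↥W :=
    (Topology.IsInducing.of_comp (f := Set.inclusion hWU) (g := Subtype.val)
      (continuous_inclusion hWU) continuous_subtype_val
      Topology.IsInducing.subtypeVal).noetherianSpace
  have hWs : QuasiSober ↥W := hWo.isOpenEmbedding_subtypeVal.quasiSober
  have hx' : (⟨x, hxW⟩ : ↥W) ∈ closure (Subtype.val ⁻¹' V : Set ↥W) := by
    rw [mem_closure_iff]
    intro O hO hxO
    obtain ⟨O', hO', rfl⟩ := isOpen_induced_iff.1 hO
    have : x ∈ closure V := hx
    rw [mem_closure_iff] at this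
    obtain ⟨y, ⟨hyO', hyW⟩, hyV⟩ := this (O' ∩ W) (hO'.inter hWo) ⟨hxO, hxW⟩
    exact ⟨⟨y, hyW⟩, hyO', hyV⟩
  obtain ⟨η, hηV, hη⟩ := exists_specializes_of_mem_closure_of_noetherian
    (hV.preimage continuous_subtype_val) hx'
  exact ⟨η.1, hηV, hη.map continuous_subtype_val⟩

/-- In a quasi-sober T0 space every point of a closed set specializes from a point of that closed set
which is maximal for generization inside the closed set. -/
theorem exists_maximal_generization [QuasiSober X] [T0Space X] {F : Set X} (hF : IsClosed F)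
    {y : X} (hy : y ∈ F) : ∃ x ∈ F, x ⤳ y ∧ ∀ x' ∈ F, x' ⤳ x → x' = x := by
  -- work in the subspace F
  obtain ⟨T, hTi, hyT, hTmax⟩ := exists_preirreducible ({⟨y, hy⟩} : Set ↥F)
    isIrreducible_singleton.isPreirreducible
  have hyT' : (⟨y, hy⟩ : ↥F) ∈ T := hyT rfl
  have hTirr : IsIrreducible T := ⟨⟨_, hyT'⟩, hTi⟩
  -- the image in X
  have hSirr : IsIrreducible (closure (Subtype.val '' T : Set X)) :=
    (hTirr.image _ continuous_subtype_val.continuousOn).closure
  obtain ⟨x, hx⟩ := QuasiSober.sober hSirr isClosed_closure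
  have hSF : closure (Subtype.val '' T : Set X) ⊆ F :=
    closure_minimal (by rintro _ ⟨z, -, rfl⟩; exact z.2) hF
  refine ⟨x, hSF hx.mem, hx.specializes (subset_closure ⟨_, hyT', rfl⟩), ?_⟩
  intro x' hx'F hx'x
  -- closure {x'} ∩ F is an irreducible subset of F containing T
  have hirr' : IsPreirreducible (Subtype.val ⁻¹' (closure ({x'} : Set X)) : Set ↥F) := by
    have h1 : IsIrreducible (closure ({(⟨x', hx'F⟩ : ↥F)} : Set ↥F)) :=
      isIrreducible_singleton.closure
    have h2 : closure ({(⟨x', hx'F⟩ : ↥F)} : Set ↥F) = Subtype.val ⁻¹' (closure ({x'} : Set X)) := by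
      rw [Topology.IsInducing.subtypeVal.closure_eq_preimage_closure_image, Set.image_singleton]
    rw [← h2]
    exact h1.isPreirreducible
  have hsub : T ⊆ (Subtype.val ⁻¹' (closure ({x'} : Set X)) : Set ↥F) := by
    intro z hz
    have : z.1 ∈ closure (Subtype.val '' T : Set X) := subset_closure ⟨z, hz, rfl⟩
    rw [← hx.def] at this
    exact (closure_minimal (Set.singleton_subset_iff.2 hx'x.mem_closure) isClosed_closure) this
  have heq := hTmax _ hirr' hsub
  -- hence x' lies in closure of T
  have hx'T : (⟨x', hx'F⟩ : ↥F) ∈ T := by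
    rw [← heq]
    exact subset_closure rfl
  have hx'S : x' ∈ closure (Subtype.val '' T : Set X) := subset_closure ⟨_, hx'T, rfl⟩
  have h3 : x ⤳ x' := hx.specializes hx'S
  exact (h3.antisymm hx'x).eq.symm

end Groth.Agent.H25
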