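import Mathlib
import Groth.Prelude.Def_FDesc
import Groth.Prelude.Def_Curv2
import Groth.Agent.H25.GenFibre
import Groth.Agent.H25.ResProp
import Groth.Agent.H38.GalTop
import Groth.Agent.H38.GalTower
import Groth.Agent.H38.GalAct

set_option autoImplicit false
universe u
open CategoryTheory CategoryTheory.Limits AlgebraicGeometry TensorProduct
attribute [local instance] Curv2.resAlgebra

namespace Groth.Agent.H25.PrimaryConn

variable (k : Type u) [Field k] (X : Scheme.{u}) [X.Over (Spec (CommRingCat.of k))]

/-- Key criterion: if `T ⊆ X` is closed and preconnected and there is a connected saturated subset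
of `X_{k^sep}` mapping into `T`, then the preimage of `T` in every `X_K` is connected. -/
theorem isConnected_preimage_of_saturated (T : Set X) (hT : IsClosed T) (hTc : _root_.IsPreconnected T)
    (C : Set (Curv2.bc k X (SeparableClosure k))) (hC : _root_.IsConnected C)
    (hsat : Curv2.bcFst k X (SeparableClosure k) ⁻¹'
      (Curv2.bcFst k X (SeparableClosure k) '' C) ⊆ C)
    (hCT : Curv2.bcFst k X (SeparableClosure k) '' C ⊆ T)
    (K : Type u) [Field K] [Algebra k K] :
    _root_.IsConnected (Curv2.bcFst k X K ⁻¹' T) := by
  apply Groth.Agent.H38.GalTower.isConnected_preimage_of_sepClosure k X K T hT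
  refine ⟨?_, Groth.Agent.H38.GalTop.isPreconnected_preimage_of_saturated
    (Groth.Agent.H38.GalAct.isOpenMap_bcFst k X _) (Groth.Agent.H38.GalAct.isClosedMap_bcFst k X _)
    hC.nonempty hC.isPreconnected hsat hTc hCT⟩
  obtain ⟨c, hc⟩ := hC.nonempty
  exact ⟨c, hCT ⟨c, hc, rfl⟩⟩

/-- the fibre over a point with primary residue field is irreducible -/
theorem isIrreducible_fiber_of_primary (x : X)
    (hx : separableClosure k (X.residueField x) = ⊥) (K : Type u) [Field K] [Algebra k K] :
    IsIrreducible ((Curv2.bcFst k X K).base ⁻¹' {x}) := by
  rw [Groth.Agent.H25.GenFibre.irreducibleSpace_fiber_iff]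
  refine (Groth.Agent.H48.geomIrr_iff_sepClosedIn (k := k) (K := X.residueField x)).mpr ?_ K
  intro α hα
  have : α ∈ separableClosure k (X.residueField x) := mem_separableClosure_iff.mpr hα
  rw [hx] at this
  exact IntermediateField.mem_bot.mp this

/-- connected component of a point with primary residue field is geometrically connected -/
theorem isConnected_preimage_connectedComponent_of_primary (x : X)
    (hx : separableClosure k (X.residueField x) = ⊥) (K : Type u) [Field K] [Algebra k K] :
    _root_.IsConnected (Curv2.bcFst k X K ⁻¹' connectedComponent x) := by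
  apply isConnected_preimage_of_saturated k X (connectedComponent x) isClosed_connectedComponent
    isPreconnected_connectedComponent ((Curv2.bcFst k X (SeparableClosure k)).base ⁻¹' {x})
    (isIrreducible_fiber_of_primary k X x hx _).isConnected
  · rintro y ⟨c, hc, hcy⟩
    simp only [Set.mem_preimage, Set.mem_singleton_iff] at hc ⊢
    rw [← hcy]; exact hc
  · rintro _ ⟨c, hc, rfl⟩
    simp only [Set.mem_preimage, Set.mem_singleton_iff] at hc
    rw [hc]; exact mem_connectedComponent

end Groth.Agent.H25.PrimaryConn
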