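import Mathlib
import Groth.Prelude.Def_Curv2
import Groth.Agent.H25.GeomIrrComp
import Groth.Agent.H25.PrimaryConn
import Groth.Agent.H38.ConnCompImage2

set_option autoImplicit false
universe u
open CategoryTheory CategoryTheory.Limits AlgebraicGeometry TensorProduct
attribute [local instance] Curv2.resAlgebra

namespace Groth.Agent.H25.GeomConnComp

open Groth.Agent.H25.GeomIrrComp

variable (k : Type u) [Field k] (X : Scheme.{u}) [X.Over (Spec (CommRingCat.of k))]
  (L : Type u) [Field L] [Algebra k L] [FiniteDimensional k L] [IsGalois k L]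

attribute [local instance] overL

/-- If every connected component of `X` contains a point `x` such that the separable closure of `k`
in `κ(x)` is finite over `k` and embeds in the Galois extension `L`, then all connected components
of `X_L` are geometrically connected over `L`. -/
theorem isConnected_preimage_of_galois (x' : ↥(Curv2.bc k X L))
    (hfin : ∃ x : X, x ∈ connectedComponent ((Curv2.bcFst k X L).base x') ∧
      FiniteDimensional k (separableClosure k (X.residueField x)) ∧
        Nonempty (separableClosure k (X.residueField x) →ₐ[k] L))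
    (K : Type u) [Field K] [Algebra L K] :
    _root_.IsConnected ((Curv2.bcFst L (Curv2.bc k X L) K).base ⁻¹' connectedComponent x') := by
  obtain ⟨x, hxc, hfd, ⟨σ₀⟩⟩ := hfin
  rw [← Groth.Agent.H38.ConnCompImage.image_connectedComponent k X L x'] at hxc
  obtain ⟨y', hy'c, hy'x⟩ := hxc
  obtain ⟨ζ, hζ⟩ := (Groth.Agent.H25.GeomPtInt.surjective_bcFst
    (Curv2.bcSnd k X L) (SeparableClosure L)).surj y'
  have hsing : (Curv2.bcFst L (Curv2.bc k X L) (SeparableClosure L)).base ⁻¹' {y'} = {ζ} := by
    ext ζ'
    simp only [Set.mem_preimage, Set.mem_singleton_iff]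
    constructor
    · intro h
      exact fibre_subsingleton k X L x σ₀ ζ' ζ (h.trans hζ.symm) (by rw [h]; exact hy'x)
    · rintro rfl
      exact hζ
  apply Groth.Agent.H25.PrimaryConn.isConnected_preimage_of_saturated L (Curv2.bc k X L)
    (connectedComponent x') isClosed_connectedComponent isPreconnected_connectedComponent
    ((Curv2.bcFst L (Curv2.bc k X L) (SeparableClosure L)).base ⁻¹' {y'})
  · rw [hsing]; exact isConnected_singleton
  · rintro z ⟨c, hc, hcz⟩
    simp only [Set.mem_preimage, Set.mem_singleton_iff] at hc ⊢
    rw [← hcz]; exact hc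
  · rintro _ ⟨c, hc, rfl⟩
    simp only [Set.mem_preimage, Set.mem_singleton_iff] at hc
    rw [hc]; exact hy'c

end Groth.Agent.H25.GeomConnComp
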