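import Mathlib
import Groth.Prelude.Def_Curv2
import Groth.Prelude.Def_Pi1
import Groth.Agent.H25.BCTower
import Groth.Agent.H25.StalkBC
import Groth.Agent.H25.GeomRedBC
import Groth.Agent.H25.GeomRedAt
import Groth.Agent.H13.NormalDescent
import Groth.Agent.H21.GeomRed
import Groth.Agent.H47.NormalSepExt
import Groth.Agent.H26.FormalFibreQuot

set_option autoImplicit false
universe u
open CategoryTheory CategoryTheory.Limits AlgebraicGeometry TensorProduct
attribute [local instance] Curv2.stalkAlgebra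

namespace Groth.Agent.H25.GeomNormalAt

open Groth.Agent.H25.BCTower Groth.Agent.H25.StalkBC Groth.Agent.H25.GeomRedBC
  Groth.Agent.H25.GeomRedAt

/-- normality of local rings descends along flat morphisms -/
theorem normal_stalk_of_flat {W U : Scheme.{u}} (g : W ⟶ U) [Flat g] (w : W)
    (h : IsDomain (W.presheaf.stalk w) ∧ IsIntegrallyClosed (W.presheaf.stalk w)) :
    IsDomain (U.presheaf.stalk (g w)) ∧ IsIntegrallyClosed (U.presheaf.stalk (g w)) := by
  have hfl := Flat.stalkMap g w
  letI : Algebra (U.presheaf.stalk (g w)) (W.presheaf.stalk w) := (g.stalkMap w).hom.toAlgebra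
  haveI : Module.Flat (U.presheaf.stalk (g w)) (W.presheaf.stalk w) := hfl
  haveI : IsLocalHom (algebraMap (U.presheaf.stalk (g w)) (W.presheaf.stalk w)) :=
    g.toLRSHom.prop w
  haveI : Module.FaithfullyFlat (U.presheaf.stalk (g w)) (W.presheaf.stalk w) :=
    Module.FaithfullyFlat.of_flat_of_isLocalHom
  haveI := h.1
  haveI := h.2
  exact Groth.Agent.H13.isDomain_and_isIntegrallyClosed_of_faithfullyFlat _ (W.presheaf.stalk w)

theorem normal_of_ringEquiv {A B : Type u} [CommRing A] [CommRing B] (e : A ≃+* B)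
    (h : IsDomain B ∧ IsIntegrallyClosed B) : IsDomain A ∧ IsIntegrallyClosed A := by
  haveI := h.1
  haveI := h.2
  exact ⟨e.injective.isDomain e.toRingHom, IsIntegrallyClosed.of_equiv e.symm⟩

variable (k : Type u) [Field k] (X : Scheme.{u}) [X.Over (Spec (CommRingCat.of k))]

/-- S7600 -/
theorem geomNormalAt_of_bc (k' : Type u) [Field k'] [Algebra k k'] (x' : ↥(Curv2.bc k X k'))
    (h : letI : (Curv2.bc k X k').Over (Spec (CommRingCat.of k')) := ⟨Curv2.bcSnd k X k'⟩
      ∀ (k'' : Type u) [Field k''] [Algebra k' k''] (x'' : ↥(Curv2.bc k' (Curv2.bc k X k') k'')),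
        Curv2.bcFst k' (Curv2.bc k X k') k'' x'' = x' →
          IsDomain ↥((Curv2.bc k' (Curv2.bc k X k') k'').presheaf.stalk x'') ∧
          IsIntegrallyClosed ↥((Curv2.bc k' (Curv2.bc k X k') k'').presheaf.stalk x'')) :
    ∀ (K : Type u) [Field K] [Algebra k K] (y : ↥(Curv2.bc k X K)),
      Curv2.bcFst k X K y = (Curv2.bcFst k X k' x') →
          IsDomain ↥((Curv2.bc k X K).presheaf.stalk y) ∧
          IsIntegrallyClosed ↥((Curv2.bc k X K).presheaf.stalk y) := by
  intro K _ _ y hy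
  obtain ⟨L, _, _, _, _, _, _, z, hz1, hz2, -⟩ :=
    exists_compositum_point (X ↘ Spec (CommRingCat.of k)) k' K x' y hy.symm
  let τ := tauIso (X ↘ Spec (CommRingCat.of k)) k' L
  have hx'' : @Curv2.bcFst k' _ (Curv2.bc k X k') ⟨Curv2.bcSnd k X k'⟩ L _ _ (τ.hom z) = x' := by
    rw [← hz1]
    change (τ.hom ≫ BC.fst (BC.snd (X ↘ Spec (CommRingCat.of k)) k') L) z = _
    rw [tauIso_hom_fst]
  have h1 := h L (τ.hom z) hx''
  have h2 : IsDomain ((Curv2.bc k X L).presheaf.stalk z) ∧
      IsIntegrallyClosed ((Curv2.bc k X L).presheaf.stalk z) :=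
    normal_of_ringEquiv (stalkEquivOfIso τ z).symm h1
  haveI := flat_bcMap (X ↘ Spec (CommRingCat.of k)) K L
  have := normal_stalk_of_flat (bcMap (X ↘ Spec (CommRingCat.of k)) K L) z h2
  rw [hz2] at this
  exact this

/-- S7602 -/
theorem isNormalScheme_bc (hX : Pi1.IsNormalScheme X)
    (K : Type u) [Field K] [Algebra k K]
    [GeometricallyReduced (Spec.map (CommRingCat.ofHom (algebraMap k K)))] :
    Pi1.IsNormalScheme (Curv2.bc k X K) := by
  intro x'
  obtain ⟨Q, hQ, -, ⟨e⟩⟩ := exists_prime_of_point_stalk (X ↘ Spec (CommRingCat.of k))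
    (Curv2.bcFst k X K x') (stalkAlgebra_eq k X _) K x' rfl
  haveI : IsReduced (K ⊗[k] AlgebraicClosure k) :=
    Groth.Agent.H21.GeomRed.isReduced_tensorProduct_of_geometricallyReduced
  haveI : Algebra.IsGeometricallyReduced k K := by
    rw [Algebra.isGeometricallyReduced_field_iff]
    exact isReduced_of_ringEquiv (Algebra.TensorProduct.comm k (AlgebraicClosure k) K).toRingEquiv
  obtain ⟨hd, hic⟩ := hX (Curv2.bcFst k X K x')
  have hN : EGA4.IsNormalRing (X.presheaf.stalk (Curv2.bcFst k X K x')) :=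
    Groth.Agent.H47.SN.isNormalRing_of_isIntegrallyClosed _
  have hN2 : EGA4.IsNormalRing (K ⊗[k] X.presheaf.stalk (Curv2.bcFst k X K x')) :=
    Groth.Agent.H47.NSE.isNormalRing_tensor_of_isGeometricallyReduced k K _ hN
  have hN3 : EGA4.IsNormalRing (X.presheaf.stalk (Curv2.bcFst k X K x') ⊗[k] K) :=
    Groth.Agent.H26.FormalFibreQuot.isNormalRing_of_ringEquiv
      (Algebra.TensorProduct.comm k K _).toRingEquiv hN2
  exact normal_of_ringEquiv e (hN3 Q)

end Groth.Agent.H25.GeomNormalAt
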