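import Mathlib
import Groth.Prelude.Def_Curv2
import Groth.Prelude.Def_Pi1
import Groth.Agent.H25.StalkBC
import Groth.Agent.H25.GeomRedAt
import Groth.Agent.H25.GeomNormalAt
import Groth.Agent.H48.GeomNormal
import Groth.Agent.H47.SmoothNormal
import Groth.Agent.H26.FormalFibreQuot

set_option autoImplicit false
universe u
open CategoryTheory CategoryTheory.Limits AlgebraicGeometry TensorProduct
attribute [local instance] Curv2.stalkAlgebra

namespace Groth.Agent.H25.GeomNormalAt

open Groth.Agent.H25.StalkBC Groth.Agent.H25.GeomRedAt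

variable (k : Type u) [Field k] (X : Scheme.{u}) [X.Over (Spec (CommRingCat.of k))] (x : X)

/-- if `k' ⊗ O_{X,x}` is a normal ring then all stalks of `X_{k'}` over `x` are normal domains -/
theorem normal_stalk_of_tensor (k' : Type u) [Field k'] [Algebra k k']
    (hT : EGA4.IsNormalRing (k' ⊗[k] X.presheaf.stalk x)) (x' : Curv2.bc k X k')
    (hx' : Curv2.bcFst k X k' x' = x) :
    IsDomain ((Curv2.bc k X k').presheaf.stalk x') ∧
      IsIntegrallyClosed ((Curv2.bc k X k').presheaf.stalk x') := by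
  obtain ⟨Q, hQ, -, ⟨e⟩⟩ := exists_prime_of_point_stalk (X ↘ Spec (CommRingCat.of k)) x
    (stalkAlgebra_eq k X x) k' x' hx'
  have hN3 : EGA4.IsNormalRing (X.presheaf.stalk x ⊗[k] k') :=
    Groth.Agent.H26.FormalFibreQuot.isNormalRing_of_ringEquiv
      (Algebra.TensorProduct.comm k k' _).toRingEquiv hT
  exact normal_of_ringEquiv e (hN3 Q)

/-- for `k'/k` algebraic: if all stalks of `X_{k'}` over `x` are normal domains then
`k' ⊗ O_{X,x}` is a normal ring -/
theorem isNormalRing_tensor_of_stalks (k' : Type u) [Field k'] [Algebra k k']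
    [Algebra.IsIntegral k k']
    (h : ∀ x' : Curv2.bc k X k', Curv2.bcFst k X k' x' = x →
      IsDomain ((Curv2.bc k X k').presheaf.stalk x') ∧
      IsIntegrallyClosed ((Curv2.bc k X k').presheaf.stalk x')) :
    EGA4.IsNormalRing (k' ⊗[k] X.presheaf.stalk x) := by
  suffices hT : EGA4.IsNormalRing (X.presheaf.stalk x ⊗[k] k') from
    Groth.Agent.H26.FormalFibreQuot.isNormalRing_of_ringEquiv
      (Algebra.TensorProduct.comm k _ k').toRingEquiv hT
  intro P hP
  obtain ⟨Q, hQ, hPQ⟩ := Ideal.exists_le_maximal P hP.ne_top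
  have hmax : (Q.comap (algebraMap (X.presheaf.stalk x)
      (X.presheaf.stalk x ⊗[k] k'))).IsMaximal :=
    Ideal.isMaximal_comap_of_isIntegral_of_isMaximal Q
  have hQ' : Q.comap (Algebra.TensorProduct.includeLeftRingHom :
      X.presheaf.stalk x →+* X.presheaf.stalk x ⊗[k] k') =
      IsLocalRing.maximalIdeal (X.presheaf.stalk x) := IsLocalRing.eq_maximalIdeal hmax
  obtain ⟨x', hx', ⟨e⟩⟩ := exists_point_of_prime_stalk (X ↘ Spec (CommRingCat.of k)) x
    (stalkAlgebra_eq k X x) k' Q hQ'
  obtain ⟨h1, h2⟩ := normal_of_ringEquiv e.symm (h x' hx')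
  haveI := h1
  haveI := h2
  have hS : EGA4.IsNormalRing (Localization.AtPrime Q) :=
    Groth.Agent.H47.SN.isNormalRing_of_isIntegrallyClosed _
  refine Groth.Agent.H47.SN.normalAt_of_isLocalization Q.primeCompl hS P ?_
  rw [Set.disjoint_left]
  intro a ha haP
  exact ha (hPQ haP)

/-- S7599 -/
theorem tfae_geomNormalAt :
    ((∀ (k' : Type u) [Field k'] [Algebra k k'] (x' : ↥(Curv2.bc k X k')),
        Curv2.bcFst k X k' x' = x →
          IsDomain ↥((Curv2.bc k X k').presheaf.stalk x') ∧
          IsIntegrallyClosed ↥((Curv2.bc k X k').presheaf.stalk x')) ↔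
      (∀ (k' : Type u) [Field k'] [Algebra k k'] [FiniteDimensional k k']
        [IsPurelyInseparable k k'] (x' : ↥(Curv2.bc k X k')), Curv2.bcFst k X k' x' = x →
          IsDomain ↥((Curv2.bc k X k').presheaf.stalk x') ∧
          IsIntegrallyClosed ↥((Curv2.bc k X k').presheaf.stalk x'))) ∧
    ((∀ (k' : Type u) [Field k'] [Algebra k k'] [FiniteDimensional k k']
        [IsPurelyInseparable k k'] (x' : ↥(Curv2.bc k X k')), Curv2.bcFst k X k' x' = x →
          IsDomain ↥((Curv2.bc k X k').presheaf.stalk x') ∧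
          IsIntegrallyClosed ↥((Curv2.bc k X k').presheaf.stalk x')) ↔
      ∀ (k' : Type u) [Field k'] [Algebra k k'],
        EGA4.IsNormalRing (k' ⊗[k] ↥(X.presheaf.stalk x))) := by
  have h23 : (∀ (k' : Type u) [Field k'] [Algebra k k'] [FiniteDimensional k k']
        [IsPurelyInseparable k k'] (x' : ↥(Curv2.bc k X k')), Curv2.bcFst k X k' x' = x →
          IsDomain ↥((Curv2.bc k X k').presheaf.stalk x') ∧
          IsIntegrallyClosed ↥((Curv2.bc k X k').presheaf.stalk x')) →
      ∀ (k' : Type u) [Field k'] [Algebra k k'],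
        EGA4.IsNormalRing (k' ⊗[k] ↥(X.presheaf.stalk x)) := by
    intro h K _ _
    refine Groth.Agent.H48.GeomNormal.isNormalRing_of_purelyInseparable ?_ K
    intro k' _ _ hfin hpi
    haveI := hfin
    haveI := hpi
    exact isNormalRing_tensor_of_stalks k X x k' (h k')
  have h31 : (∀ (k' : Type u) [Field k'] [Algebra k k'],
        EGA4.IsNormalRing (k' ⊗[k] ↥(X.presheaf.stalk x))) →
      (∀ (k' : Type u) [Field k'] [Algebra k k'] (x' : ↥(Curv2.bc k X k')),
        Curv2.bcFst k X k' x' = x →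
          IsDomain ↥((Curv2.bc k X k').presheaf.stalk x') ∧
          IsIntegrallyClosed ↥((Curv2.bc k X k').presheaf.stalk x')) :=
    fun h k' _ _ x' hx' => normal_stalk_of_tensor k X x k' (h k') x' hx'
  refine ⟨⟨fun h k' _ _ _ _ x' hx' => h k' x' hx', fun h => h31 (h23 h)⟩,
    ⟨h23, fun h k' _ _ _ _ x' hx' => h31 h k' x' hx'⟩⟩

/-- S1668 -/
theorem isNormalScheme_bc_of_purelyInseparable
    (h : ∀ (k' : Type u) [Field k'] [Algebra k k'] [FiniteDimensional k k']
      [IsPurelyInseparable k k'], Pi1.IsNormalScheme (Curv2.bc k X k'))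
    (K : Type u) [Field K] [Algebra k K] : Pi1.IsNormalScheme (Curv2.bc k X K) := by
  intro x'
  exact ((tfae_geomNormalAt k X (Curv2.bcFst k X K x')).1.2
    (fun k' _ _ _ _ x'' _ => h k' x'')) K x' rfl

end Groth.Agent.H25.GeomNormalAt
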