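import Groth.Agent.H25.GeomRedFibreBC
import Groth.Agent.H25.GeomRedBC

set_option autoImplicit false
set_option linter.unusedSectionVars false
set_option linter.style.haveILetI false
universe u
open CategoryTheory CategoryTheory.Limits AlgebraicGeometry Topology Order TopologicalSpace

namespace Groth.Agent.H25.GeomRedDescent

open Groth.Agent.H51 Groth.Agent.H25.GeomRedFibreBC

/-- transport of geometric reducedness at a point along an isomorphism of `k`-schemes -/
theorem isGeomReducedAt_of_iso {k : Type u} [Field k] {P P' : Scheme.{u}} (e : P ≅ P')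
    (φ : P ⟶ Spec (CommRingCat.of k)) (φ' : P' ⟶ Spec (CommRingCat.of k))
    (he : e.hom ≫ φ' = φ) (q : P) (h : FBase.IsGeomReducedAt φ q) :
    FBase.IsGeomReducedAt φ' (e.hom.base q) := by
  intro K _ _ z hz
  have hinv : e.inv ≫ φ = φ' := by rw [← he, Iso.inv_hom_id_assoc]
  have h1 : IsPullback (FBase.bcπ φ' K) (FBase.bcStr φ' K) φ'
      (Spec.map (CommRingCat.ofHom (algebraMap k K))) := IsPullback.of_hasPullback _ _
  have h2 : IsPullback e.inv φ' φ (𝟙 (Spec (CommRingCat.of k))) :=
    IsPullback.of_horiz_isIso ⟨by rw [hinv, Category.comp_id]⟩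
  have h3 := h1.paste_horiz h2
  rw [Category.comp_id] at h3
  refine isReduced_stalk_of_isPullback φ q h K _ _ h3 z ?_
  rw [Scheme.Hom.comp_apply, hz, ← Scheme.Hom.comp_apply, Iso.hom_inv_id]
  rfl

/-- descent of geometric reducedness at a point along a field extension (`FBase` form of
`GeomRedBC.isGeomReducedAt_iff_bc`) -/
theorem isGeomReducedAt_of_bc {k : Type u} [Field k] {X : Scheme.{u}}
    (φ : X ⟶ Spec (CommRingCat.of k)) (k' : Type u) [Field k'] [Algebra k k']
    (x' : ↥(FBase.bc φ k')) (h : FBase.IsGeomReducedAt (FBase.bcStr φ k') x') :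
    FBase.IsGeomReducedAt φ ((FBase.bcπ φ k').base x') := by
  letI : X.Over (Spec (CommRingCat.of k)) := ⟨φ⟩
  exact (Groth.Agent.H25.GeomRedBC.isGeomReducedAt_iff_bc k X k' _ x' rfl).mpr h

/-- descent of geometric reducedness at a point along an arbitrary pullback square over a field
extension -/
theorem isGeomReducedAt_of_isPullback {k : Type u} [Field k] {X : Scheme.{u}}
    (φ : X ⟶ Spec (CommRingCat.of k)) (k' : Type u) [Field k'] [Algebra k k']
    {P : Scheme.{u}} (p1 : P ⟶ X) (φ' : P ⟶ Spec (CommRingCat.of k'))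
    (hp : IsPullback p1 φ' φ (Spec.map (CommRingCat.ofHom (algebraMap k k'))))
    (q : P) (h : FBase.IsGeomReducedAt φ' q) : FBase.IsGeomReducedAt φ (p1.base q) := by
  let e : P ≅ FBase.bc φ k' := hp.isoPullback
  have he1 : e.hom ≫ FBase.bcπ φ k' = p1 := hp.isoPullback_hom_fst
  have he2 : e.hom ≫ FBase.bcStr φ k' = φ' := hp.isoPullback_hom_snd
  have h1 := isGeomReducedAt_of_iso e φ' (FBase.bcStr φ k') he2 q h
  have h2 := isGeomReducedAt_of_bc φ k' _ h1
  rw [← Scheme.Hom.comp_apply, he1] at h2
  exact h2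

variable {X Y X' Y' : Scheme.{u}} (f : X ⟶ Y)
    (g : Y' ⟶ Y) (f' : X' ⟶ Y') (g' : X' ⟶ X) (hc : IsPullback g' f' f g)

include hc in
/-- If a fibre of a base change `f'` of `f` is geometrically reduced at a point `q`, the
corresponding fibre of `f` is geometrically reduced at the image of `q`. -/
theorem isGeomReducedAt_fibre_of_isPullback (y' : Y') (q : ↥(f'.fiber y'))
    (hred : FBase.IsGeomReducedAt (f'.fiberToSpecResidueField y') q) :
    FBase.IsGeomReducedAt (f.fiberToSpecResidueField (g.base y'))
      ((fibreBC' f g f' g' hc y').base q) := by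
  letI : Algebra (IsLocalRing.ResidueField (Y.presheaf.stalk (g.base y')))
      (IsLocalRing.ResidueField (Y'.presheaf.stalk y')) :=
    (g.residueFieldMap y').hom.toAlgebra
  have hpb := fibreBC'_isPullback f g f' g' hc y'
  exact isGeomReducedAt_of_isPullback
    (k := IsLocalRing.ResidueField (Y.presheaf.stalk (g.base y')))
    (f.fiberToSpecResidueField (g.base y'))
    (IsLocalRing.ResidueField (Y'.presheaf.stalk y')) (fibreBC' f g f' g' hc y')
    (f'.fiberToSpecResidueField y') hpb q hred

end Groth.Agent.H25.GeomRedDescent
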