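import Groth.Agent.H25.GeomRedDescent

set_option autoImplicit false
set_option linter.unusedSectionVars false
set_option linter.style.haveILetI false
universe u
open CategoryTheory CategoryTheory.Limits AlgebraicGeometry Topology Order TopologicalSpace

namespace Groth.Agent.H25.GeomRedDescent

open Groth.Agent.H51 Groth.Agent.H25.GeomRedFibreBC

/-- base change direction of `GeomRedBC.isGeomReducedAt_iff_bc` in `FBase` form -/
theorem isGeomReducedAt_bc {k : Type u} [Field k] {X : Scheme.{u}}
    (φ : X ⟶ Spec (CommRingCat.of k)) (k' : Type u) [Field k'] [Algebra k k']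
    (x' : ↥(FBase.bc φ k')) (h : FBase.IsGeomReducedAt φ ((FBase.bcπ φ k').base x')) :
    FBase.IsGeomReducedAt (FBase.bcStr φ k') x' := by
  letI : X.Over (Spec (CommRingCat.of k)) := ⟨φ⟩
  exact (Groth.Agent.H25.GeomRedBC.isGeomReducedAt_iff_bc k X k' _ x' rfl).mp h

/-- geometric reducedness at a point passes to an arbitrary pullback along a field extension -/
theorem isGeomReducedAt_isPullback {k : Type u} [Field k] {X : Scheme.{u}}
    (φ : X ⟶ Spec (CommRingCat.of k)) (k' : Type u) [Field k'] [Algebra k k']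
    {P : Scheme.{u}} (p1 : P ⟶ X) (φ' : P ⟶ Spec (CommRingCat.of k'))
    (hp : IsPullback p1 φ' φ (Spec.map (CommRingCat.ofHom (algebraMap k k'))))
    (q : P) (h : FBase.IsGeomReducedAt φ (p1.base q)) : FBase.IsGeomReducedAt φ' q := by
  let e : P ≅ FBase.bc φ k' := hp.isoPullback
  have he1 : e.hom ≫ FBase.bcπ φ k' = p1 := hp.isoPullback_hom_fst
  have he2 : e.hom ≫ FBase.bcStr φ k' = φ' := hp.isoPullback_hom_snd
  have h1 : FBase.IsGeomReducedAt (FBase.bcStr φ k') (e.hom.base q) := by
    apply isGeomReducedAt_bc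
    rw [← Scheme.Hom.comp_apply, he1]
    exact h
  have he3 : e.symm.hom ≫ φ' = FBase.bcStr φ k' := by
    rw [← he2]
    change e.inv ≫ e.hom ≫ _ = _
    rw [Iso.inv_hom_id_assoc]
  have h2 := isGeomReducedAt_of_iso e.symm (FBase.bcStr φ k') φ' he3 _ h1
  have h3 : e.symm.hom.base (e.hom.base q) = q := by
    change e.inv.base (e.hom.base q) = q
    rw [← Scheme.Hom.comp_apply, Iso.hom_inv_id]
    rfl
  rw [h3] at h2
  exact h2

variable {X Y X' Y' : Scheme.{u}} (f : X ⟶ Y)
    (g : Y' ⟶ Y) (f' : X' ⟶ Y') (g' : X' ⟶ X) (hc : IsPullback g' f' f g)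

include hc in
/-- If a fibre of `f` is geometrically reduced at a point, the fibres of a base change `f'` of `f`
are geometrically reduced at the points above it. -/
theorem isGeomReducedAt_fibre_bc (y' : Y') (q : ↥(f'.fiber y'))
    (hred : FBase.IsGeomReducedAt (f.fiberToSpecResidueField (g.base y'))
      ((fibreBC' f g f' g' hc y').base q)) :
    FBase.IsGeomReducedAt (f'.fiberToSpecResidueField y') q := by
  letI : Algebra (IsLocalRing.ResidueField (Y.presheaf.stalk (g.base y')))
      (IsLocalRing.ResidueField (Y'.presheaf.stalk y')) :=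
    (g.residueFieldMap y').hom.toAlgebra
  have hpb := fibreBC'_isPullback f g f' g' hc y'
  exact isGeomReducedAt_isPullback
    (k := IsLocalRing.ResidueField (Y.presheaf.stalk (g.base y')))
    (f.fiberToSpecResidueField (g.base y'))
    (IsLocalRing.ResidueField (Y'.presheaf.stalk y')) (fibreBC' f g f' g' hc y')
    (f'.fiberToSpecResidueField y') hpb q hred

end Groth.Agent.H25.GeomRedDescent
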