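import Groth.Agent.H51.FibreStalkBC2
import Groth.Prelude.Def_FDesc

set_option autoImplicit false
set_option linter.unusedSectionVars false
set_option linter.style.haveILetI false
universe u
open CategoryTheory CategoryTheory.Limits AlgebraicGeometry Topology Order TopologicalSpace

namespace Groth.Agent.H25.GeomRedFibreBC

open Groth.Agent.H51

/-- general form: stalks of any pullback of a `k`-scheme to a field extension `K` at points over a
geometrically reduced point are reduced. -/
theorem isReduced_stalk_of_isPullback {k : Type u} [Field k] {X : Scheme.{u}}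
    (φ : X ⟶ Spec (CommRingCat.of k)) (x : X) (h : FBase.IsGeomReducedAt φ x)
    (K : Type u) [Field K] [Algebra k K] {P : Scheme.{u}} (p1 : P ⟶ X)
    (p2 : P ⟶ Spec (CommRingCat.of K))
    (hp : IsPullback p1 p2 φ (Spec.map (CommRingCat.ofHom (algebraMap k K))))
    (q : P) (hq : p1.base q = x) : _root_.IsReduced (P.presheaf.stalk q) := by
  let e : P ≅ FBase.bc φ K := hp.isoPullback
  have he : e.hom ≫ FBase.bcπ φ K = p1 := hp.isoPullback_hom_fst
  have h1 : _root_.IsReduced ((FBase.bc φ K).presheaf.stalk (e.hom.base q)) := by
    apply h K (e.hom.base q)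
    rw [← Scheme.Hom.comp_apply, he, hq]
  have hiso : IsIso (e.hom.stalkMap q) := inferInstance
  exact isReduced_of_injective (asIso (e.hom.stalkMap q)).commRingCatIsoToRingEquiv.symm.toRingHom
    (asIso (e.hom.stalkMap q)).commRingCatIsoToRingEquiv.symm.injective

variable {X Y : Scheme.{u}} (f : X ⟶ Y)

/-- transport of `IsGeomReducedAt` along an equality of base points -/
theorem isGeomReducedAt_congr {y y' : Y} (h : y = y') (w : ↥(f.fiber y)) (w' : ↥(f.fiber y'))
    (hw : (f.fiberι y).base w = (f.fiberι y').base w') :
    FBase.IsGeomReducedAt (f.fiberToSpecResidueField y) w ↔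
      FBase.IsGeomReducedAt (f.fiberToSpecResidueField y') w' := by
  subst h
  have : w = w' := (f.fiberι y).isEmbedding.injective hw
  subst this
  rfl

variable {X' Y' : Scheme.{u}} (g : Y' ⟶ Y) (f' : X' ⟶ Y') (g' : X' ⟶ X)
  (hc : IsPullback g' f' f g)

include hc in
/-- If the fibre of `f` is geometrically reduced at a point, the fibres of any base change of `f`
have reduced local rings at the points above it. -/
theorem isReduced_stalk_fiber_of_isGeomReducedAt (y' : Y') (q : ↥(f'.fiber y'))
    (hred : FBase.IsGeomReducedAt (f.fiberToSpecResidueField (g.base y'))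
      ((fibreBC' f g f' g' hc y').base q)) :
    _root_.IsReduced ((f'.fiber y').presheaf.stalk q) := by
  letI : Algebra (IsLocalRing.ResidueField (Y.presheaf.stalk (g.base y')))
      (IsLocalRing.ResidueField (Y'.presheaf.stalk y')) :=
    (g.residueFieldMap y').hom.toAlgebra
  have hpb := fibreBC'_isPullback f g f' g' hc y'
  exact isReduced_stalk_of_isPullback (k := IsLocalRing.ResidueField (Y.presheaf.stalk (g.base y')))
    (f.fiberToSpecResidueField (g.base y')) _ hred
    (IsLocalRing.ResidueField (Y'.presheaf.stalk y')) (fibreBC' f g f' g' hc y')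
    (f'.fiberToSpecResidueField y') hpb q rfl

end Groth.Agent.H25.GeomRedFibreBC
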