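import Mathlib
import Groth.Prelude.Def_Curv2
import Groth.Agent.H25.FlatBCpt
import Groth.Agent.Lead.RegularFlatDescent
import Groth.Agent.H47.RegularDescent

set_option autoImplicit false
universe u
open CategoryTheory CategoryTheory.Limits AlgebraicGeometry

namespace Groth.Agent.H25.GeomRegDescent

open Curv2 in
theorem isGeomRegularAt_of_flat (k : Type u) [Field k] (X Y : Scheme.{u}) [X.Over (Spec (CommRingCat.of k))] [Y.Over (Spec (CommRingCat.of k))]
    (f : X ⟶ Y) (hf : f ≫ (Y ↘ (Spec (CommRingCat.of k))) = X ↘ (Spec (CommRingCat.of k)))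
    (x : X) (hflat : (f.stalkMap x).hom.Flat) (hx : Curv2.IsGeomRegularAt k X x) :
    Curv2.IsGeomRegularAt k Y (f.base x) := by
  intro k' _ _ hfg y' hy'
  let g := Spec.map (CommRingCat.ofHom (algebraMap k k'))
  let f' : bc k X k' ⟶ bc k Y k' :=
    pullback.map _ _ _ _ f (𝟙 _) (𝟙 _) (by simp [hf]) (by simp)
  have hw1 : f' ≫ bcFst k Y k' = bcFst k X k' ≫ f := pullback.lift_fst _ _ _
  have hw2 : f' ≫ bcSnd k Y k' = bcSnd k X k' := (pullback.lift_snd _ _ _).trans (Category.comp_id _)
  have hpb : IsPullback (bcFst k X k') f' f (bcFst k Y k') := by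
    have hR : IsPullback (bcFst k Y k') (bcSnd k Y k') (Y ↘ Spec (CommRingCat.of k)) g :=
      IsPullback.of_hasPullback _ _
    have hB : IsPullback (bcFst k X k') (bcSnd k X k') (X ↘ Spec (CommRingCat.of k)) g :=
      IsPullback.of_hasPullback _ _
    refine (IsPullback.of_right (t := hR.flip) ?_ hw1 ).flip
    rw [hw2, hf]
    exact hB.flip
  obtain ⟨z, hz1, hz2⟩ := Scheme.Pullback.exists_preimage_pullback (f := f) (g := bcFst k Y k')
    x y' hy'.symm
  let x' : bc k X k' := hpb.isoPullback.inv z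
  have hx'1 : bcFst k X k' x' = x := by
    rw [← hz1]
    change (hpb.isoPullback.inv ≫ bcFst k X k') z = _
    rw [hpb.isoPullback_inv_fst]
  have hx'2 : f' x' = y' := by
    rw [← hz2]
    change (hpb.isoPullback.inv ≫ f') z = _
    rw [hpb.isoPullback_inv_snd]
  have hreg : IsRegularLocalRing ((bc k X k').presheaf.stalk x') := hx k' hfg x' hx'1
  have hfl : (f'.stalkMap x').hom.Flat :=
    FlatBCpt.flat_stalkMap_of_isPullback hpb x' (by rw [hx'1]; exact hflat)
  subst hx'2
  letI : Algebra ((bc k Y k').presheaf.stalk (f' x')) ((bc k X k').presheaf.stalk x') :=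
    (f'.stalkMap x').hom.toAlgebra
  haveI : Module.Flat ((bc k Y k').presheaf.stalk (f' x')) ((bc k X k').presheaf.stalk x') := hfl
  haveI : IsLocalHom (algebraMap ((bc k Y k').presheaf.stalk (f' x'))
      ((bc k X k').presheaf.stalk x')) := f'.toLRSHom.prop x'
  haveI : Module.FaithfullyFlat ((bc k Y k').presheaf.stalk (f' x'))
      ((bc k X k').presheaf.stalk x') := Module.FaithfullyFlat.of_flat_of_isLocalHom
  haveI : IsNoetherianRing ((bc k Y k').presheaf.stalk (f' x')) :=
    Groth.Agent.H47.isNoetherianRing_of_faithfullyFlat _ ((bc k X k').presheaf.stalk x')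
  exact Groth.Agent.Lead.RLR.isRegularLocalRing_of_flat _ ((bc k X k').presheaf.stalk x')

end Groth.Agent.H25.GeomRegDescent
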