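import Mathlib
import Groth.Agent.H25.FibreSmoothPt

set_option autoImplicit false
universe u
open CategoryTheory CategoryTheory.Limits MonoidalCategory CartesianMonoidalCategory MonObj GrpObj AlgebraicGeometry

namespace Groth.Agent.H25.GrpSmooth

/-- a flat, locally finitely presented morphism with smooth fibres is smooth -/
theorem smooth_of_flat_of_smooth_fibres {X S : Scheme.{u}} (f : X ⟶ S)
    [LocallyOfFinitePresentation f] [Flat f]
    (h : ∀ s : S, Smooth (f.fiberToSpecResidueField s)) : Smooth f := by
  rw [← Scheme.Hom.smoothLocus_eq_top_iff, ← top_le_iff]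
  rintro x -
  have := h (f x)
  have hlfp : LocallyOfFinitePresentation (f.fiberToSpecResidueField (f x)) := inferInstance
  refine FibreSmoothPt.mem_smoothLocus_of_flat_of_fibre f x (Flat.stalkMap f x) ?_
  rw [(f.fiberToSpecResidueField (f x)).smoothLocus_eq_top]
  trivial

/-- a flat group scheme locally of finite presentation with geometrically reduced fibres is
smooth -/
theorem smooth_of_grpObj_of_flat {S : Scheme.{u}} (G : Over S) [GrpObj G] [Flat G.hom]
    [LocallyOfFinitePresentation G.hom] [GeometricallyReduced G.hom] : Smooth G.hom := by
  refine smooth_of_flat_of_smooth_fibres G.hom fun s => ?_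
  have hG : GrpObj (Over.mk G.hom) := ‹GrpObj G›
  let K : Type u := S.residueField s
  let t : Spec (CommRingCat.of K) ⟶ S := S.fromSpecResidueField s
  have hgrp : GrpObj (Over.mk (pullback.snd G.hom t)) := Over.grpObjMkPullbackSnd
  have hlft : LocallyOfFiniteType (pullback.snd G.hom t) := inferInstance
  have hgr : GeometricallyReduced (pullback.snd G.hom t) := inferInstance
  exact smooth_of_grpObj (pullback.snd G.hom t)

end Groth.Agent.H25.GrpSmooth
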