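import Mathlib.RingTheory.Henselian
import Mathlib.RingTheory.Etale.StandardEtale
import Mathlib.RingTheory.Unramified.LocalStructure
import Mathlib.RingTheory.LocalRing.ResidueField.Basic
import Mathlib.RingTheory.Smooth.Locus

set_option autoImplicit false
universe u
open Polynomial IsLocalRing

namespace Groth.Agent.H25

/-- Hensel's lemma for a standard étale pair over a henselian local ring. -/
theorem exists_hasMap_of_hasMap_residue {A : Type*} [CommRing A] [HenselianLocalRing A]
    (Q : StandardEtalePair A) (xbar : ResidueField A) (hx : Q.HasMap xbar) :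
    ∃ y : A, Q.HasMap y ∧ residue A y = xbar := by
  obtain ⟨a₀, rfl⟩ := residue_surjective xbar
  have hres : ∀ (b : A) (p : A[X]), aeval (residue A b) p = residue A (p.eval b) := by
    intro b p
    rw [aeval_def, ← Polynomial.eval₂_at_apply]
    rfl
  have h1 : Q.f.eval a₀ ∈ maximalIdeal A := by
    rw [← residue_eq_zero_iff, ← hres]; exact hx.1
  have h2 : IsUnit (Q.f.derivative.eval a₀) := by
    have hu := hx.isUnit_derivative_f
    rw [hres] at hu
    by_contra hnu
    have h0 : residue A (Q.f.derivative.eval a₀) = 0 := (residue_eq_zero_iff _).2 hnu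
    rw [h0] at hu
    exact not_isUnit_zero hu
  obtain ⟨a, ha, haa₀⟩ := HenselianLocalRing.is_henselian Q.f Q.monic_f a₀ h1 h2
  have hra : residue A a = residue A a₀ := by
    rw [← sub_eq_zero, ← map_sub]; exact (residue_eq_zero_iff _).2 haa₀
  refine ⟨a, ⟨?_, ?_⟩, hra⟩
  · rw [Polynomial.aeval_def, Polynomial.eval₂_eq_eval_map]
    simpa using ha
  · have hu := hx.2
    rw [← hra, hres] at hu
    have : IsUnit (Q.g.eval a) := by
      by_contra hnu
      have h0 : residue A (Q.g.eval a) = 0 := (residue_eq_zero_iff _).2 hnu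
      rw [h0] at hu
      exact not_isUnit_zero hu
    simpa [Polynomial.aeval_def] using this

/-- Sections of a standard étale algebra over (a retract of) a base over a henselian local ring. -/
theorem exists_algHom_of_standardEtalePresentation {A R₀ S : Type*} [CommRing A]
    [HenselianLocalRing A] [CommRing R₀] [Algebra A R₀] [CommRing S] [Algebra R₀ S] [Algebra A S]
    [IsScalarTower A R₀ S] (Pr : StandardEtalePresentation R₀ S) (ev : R₀ →ₐ[A] A)
    (β' : S →ₐ[A] ResidueField A)
    (hcomp : ∀ r : R₀, β' (algebraMap R₀ S r) = residue A (ev r)) :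
    ∃ s : S →ₐ[A] A, ∀ b, residue A (s b) = β' b := by
  set Q' : StandardEtalePair A := Pr.P.map (ev : R₀ →+* A) with hQ'def
  have hhom : (algebraMap A (ResidueField A)).comp (ev : R₀ →+* A) =
      (β' : S →+* ResidueField A).comp (algebraMap R₀ S) := by
    ext r
    exact (hcomp r).symm
  have key : ∀ p : R₀[X], aeval (β' Pr.x) (p.map (ev : R₀ →+* A)) = β' (aeval Pr.x p) := by
    intro p
    rw [aeval_def, Polynomial.eval₂_map, hhom, aeval_def]
    exact (Polynomial.hom_eval₂ p (algebraMap R₀ S) (β' : S →+* ResidueField A) Pr.x).symm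
  have hQ' : Q'.HasMap (β' Pr.x) := by
    refine ⟨?_, ?_⟩
    · change aeval (β' Pr.x) (Pr.P.f.map (ev : R₀ →+* A)) = 0
      rw [key, Pr.hasMap.1, map_zero]
    · change IsUnit (aeval (β' Pr.x) (Pr.P.g.map (ev : R₀ →+* A)))
      rw [key]
      exact Pr.hasMap.2.map β'
  obtain ⟨y, hy, hyx⟩ := exists_hasMap_of_hasMap_residue Q' _ hQ'
  let : Algebra R₀ A := (ev : R₀ →+* A).toAlgebra
  have key2 : ∀ p : R₀[X], aeval y p = aeval y (p.map (ev : R₀ →+* A)) := by
    intro p
    rw [aeval_def, aeval_def, Polynomial.eval₂_map]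
    rfl
  have hy' : Pr.P.HasMap y := ⟨by rw [key2]; exact hy.1, by rw [key2]; exact hy.2⟩
  let s₀ : S →ₐ[R₀] A := (Pr.P.lift y hy').comp Pr.equivRing.toAlgHom
  have hs₀x : s₀ Pr.x = y := by
    simp [s₀]
  let s : S →ₐ[A] A :=
    { (s₀ : S →+* A) with
      commutes' := fun a => by
        change s₀ (algebraMap A S a) = a
        rw [IsScalarTower.algebraMap_apply A R₀ S, s₀.commutes]
        change ev (algebraMap A R₀ a) = a
        rw [ev.commutes]; rfl }
  refine ⟨s, ?_⟩
  let : Algebra R₀ (ResidueField A) := ((residue A).comp (ev : R₀ →+* A)).toAlgebra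
  let f₁ : S →ₐ[R₀] ResidueField A :=
    { (residue A).comp (s₀ : S →+* A) with
      commutes' := fun r => by
        change residue A (s₀ (algebraMap R₀ S r)) = residue A (ev r)
        rw [s₀.commutes]; rfl }
  let f₂ : S →ₐ[R₀] ResidueField A :=
    { (β' : S →+* ResidueField A) with
      commutes' := fun r => hcomp r }
  have h12 : f₁ = f₂ := by
    apply Pr.hom_ext
    change residue A (s₀ Pr.x) = β' Pr.x
    rw [hs₀x, hyx]
  intro b
  exact congr($h12 b)

/-- Sections of a smooth algebra over a henselian local ring lift residue-field points. -/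
theorem exists_algHom_of_smooth {A B : Type u} [CommRing A] [HenselianLocalRing A] [CommRing B]
    [Algebra A B] [Algebra.Smooth A B] (β : B →ₐ[A] ResidueField A) :
    ∃ s : B →ₐ[A] A, ∀ b, residue A (s b) = β b := by
  set p : Ideal B := RingHom.ker (β : B →+* ResidueField A) with hp
  have hpp : p.IsPrime := RingHom.ker_isPrime _
  have hsm : Algebra.IsSmoothAt A p := inferInstance
  obtain ⟨g, hg, n, alg, tower, hstd⟩ :=
    Algebra.IsSmoothAt.exists_isStandardEtale_mvPolynomial (R := A) (S := B) (p := p)
  have hβg : β g ≠ 0 := fun h => hg ((RingHom.mem_ker).2 h)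
  have hunits : ∀ y : Submonoid.powers g, IsUnit (β y) := by
    rintro ⟨_, m, rfl⟩
    rw [map_pow]
    exact (IsUnit.mk0 _ hβg).pow m
  let β' : Localization.Away g →ₐ[A] ResidueField A :=
    IsLocalization.liftAlgHom (M := Submonoid.powers g) (f := β) hunits
  have hβ' : ∀ b : B, β' (algebraMap B (Localization.Away g) b) = β b := by
    intro b
    simp [β']
  choose a ha using fun i : Fin n =>
    residue_surjective (β' (algebraMap (MvPolynomial (Fin n) A) (Localization.Away g)
      (MvPolynomial.X i)))
  let ev : MvPolynomial (Fin n) A →ₐ[A] A := MvPolynomial.aeval a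
  have hcomp : ∀ r : MvPolynomial (Fin n) A,
      β' (algebraMap (MvPolynomial (Fin n) A) (Localization.Away g) r) = residue A (ev r) := by
    intro r
    have h1 : (β'.comp (IsScalarTower.toAlgHom A (MvPolynomial (Fin n) A) (Localization.Away g))) =
        (IsScalarTower.toAlgHom A A (ResidueField A)).comp ev := by
      apply MvPolynomial.algHom_ext
      intro i
      simp only [AlgHom.comp_apply, IsScalarTower.coe_toAlgHom', ev, MvPolynomial.aeval_X]
      exact (ha i).symm
    exact congr($h1 r)
  obtain ⟨Pr⟩ := hstd.nonempty_standardEtalePresentation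
  obtain ⟨s', hs'⟩ := exists_algHom_of_standardEtalePresentation Pr ev β' hcomp
  refine ⟨s'.comp (IsScalarTower.toAlgHom A B (Localization.Away g)), fun b => ?_⟩
  rw [AlgHom.comp_apply, hs', IsScalarTower.coe_toAlgHom', hβ']

end Groth.Agent.H25
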