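import Mathlib.Topology.LocallyClosed
import Mathlib.Topology.Sets.Opens
import Mathlib.Topology.NoetherianSpace
import Mathlib.Topology.JacobsonSpace

set_option autoImplicit false
universe u

namespace Groth.Agent.H25

variable {X : Type*} [TopologicalSpace X]

/-- finite union of locally closed sets -/
def IsQC (Z : Set X) : Prop :=
  ∃ T : Set (Set X), T.Finite ∧ (∀ t ∈ T, IsLocallyClosed t) ∧ Z = ⋃₀ T

/-- locally a finite union of locally closed sets -/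
def IsLQC (Z : Set X) : Prop :=
  ∀ x : X, ∃ U : Set X, IsOpen U ∧ x ∈ U ∧
    ∃ T : Set (Set X), T.Finite ∧ (∀ t ∈ T, IsLocallyClosed t) ∧ U ∩ Z = ⋃₀ T

theorem IsQC.isLQC {Z : Set X} (h : IsQC Z) : IsLQC Z := by
  intro x
  obtain ⟨T, hT, hT', rfl⟩ := h
  exact ⟨Set.univ, isOpen_univ, trivial, T, hT, hT', Set.univ_inter _⟩

theorem IsLocallyClosed.isQC {Z : Set X} (h : IsLocallyClosed Z) : IsQC Z :=
  ⟨{Z}, Set.finite_singleton _, by simpa using h, by simp⟩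

theorem isQC_empty : IsQC (∅ : Set X) :=
  ⟨∅, Set.finite_empty, by simp, by simp⟩

theorem IsLQC.inter_isOpen {Z : Set X} (h : IsLQC Z) {W : Set X} (hW : IsOpen W) :
    IsLQC (W ∩ Z) := by
  intro x
  obtain ⟨U, hU, hxU, T, hT, hT', e⟩ := h x
  refine ⟨U, hU, hxU, (fun t => W ∩ t) '' T, hT.image _, ?_, ?_⟩
  · rintro _ ⟨t, ht, rfl⟩
    exact hW.isLocallyClosed.inter (hT' t ht)
  · rw [Set.sUnion_image, ← Set.inter_iUnion₂, ← Set.sUnion_eq_biUnion, ← e]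
    ext y
    simp only [Set.mem_inter_iff]
    tauto

theorem IsLQC.inter_isLocallyClosed {Z : Set X} (h : IsLQC Z) {W : Set X} (hW : IsLocallyClosed W) :
    IsLQC (W ∩ Z) := by
  intro x
  obtain ⟨U, hU, hxU, T, hT, hT', e⟩ := h x
  refine ⟨U, hU, hxU, (fun t => W ∩ t) '' T, hT.image _, ?_, ?_⟩
  · rintro _ ⟨t, ht, rfl⟩
    exact hW.inter (hT' t ht)
  · rw [Set.sUnion_image, ← Set.inter_iUnion₂, ← Set.sUnion_eq_biUnion, ← e]
    ext y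
    simp only [Set.mem_inter_iff]
    tauto

/-- shrink a locally closed neighbourhood to avoid finitely many locally closed sets -/
theorem exists_locallyClosed_avoid {T : Set (Set X)} (hT : T.Finite)
    (hT' : ∀ t ∈ T, IsLocallyClosed t) (y : X) (hy : y ∉ ⋃₀ T) (L₀ : Set X)
    (hL₀ : IsLocallyClosed L₀) (hyL₀ : y ∈ L₀) :
    ∃ L, IsLocallyClosed L ∧ y ∈ L ∧ L ⊆ L₀ ∧ L ∩ ⋃₀ T = ∅ := by
  induction T, hT using Set.Finite.induction_on with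
  | empty => exact ⟨L₀, hL₀, hyL₀, subset_rfl, by simp⟩
  | @insert a S _ _ ih =>
    have hyS : y ∉ ⋃₀ S := fun h => hy (by
      rw [Set.sUnion_insert]; exact Or.inr h)
    have hya : y ∉ a := fun h => hy (by
      rw [Set.sUnion_insert]; exact Or.inl h)
    obtain ⟨L, hL, hyL, hLL₀, hLS⟩ := ih (fun t ht => hT' t (Set.mem_insert_of_mem _ ht)) hyS
    obtain ⟨O, C, hO, hC, rfl⟩ := hT' a (Set.mem_insert _ _)
    by_cases hyO : y ∈ O
    · have hyC : y ∉ C := fun h => hya ⟨hyO, h⟩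
      refine ⟨L ∩ Cᶜ, hL.inter hC.isOpen_compl.isLocallyClosed, ⟨hyL, hyC⟩,
        Set.inter_subset_left.trans hLL₀, ?_⟩
      rw [Set.sUnion_insert, Set.inter_union_distrib_left]
      have h1 : L ∩ Cᶜ ∩ (O ∩ C) = ∅ := by
        ext z; simp only [Set.mem_inter_iff, Set.mem_compl_iff, Set.mem_empty_iff_false]; tauto
      have h2 : L ∩ Cᶜ ∩ ⋃₀ S = ∅ := by
        apply Set.eq_empty_of_subset_empty
        rw [← hLS]
        exact Set.inter_subset_inter_left _ Set.inter_subset_left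
      rw [h1, h2, Set.union_empty]
    · refine ⟨L ∩ Oᶜ, hL.inter hO.isClosed_compl.isLocallyClosed, ⟨hyL, hyO⟩,
        Set.inter_subset_left.trans hLL₀, ?_⟩
      rw [Set.sUnion_insert, Set.inter_union_distrib_left]
      have h1 : L ∩ Oᶜ ∩ (O ∩ C) = ∅ := by
        ext z; simp only [Set.mem_inter_iff, Set.mem_compl_iff, Set.mem_empty_iff_false]; tauto
      have h2 : L ∩ Oᶜ ∩ ⋃₀ S = ∅ := by
        apply Set.eq_empty_of_subset_empty
        rw [← hLS]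
        exact Set.inter_subset_inter_left _ Set.inter_subset_left
      rw [h1, h2, Set.union_empty]

/-- a point of an lqc set has a locally closed neighbourhood inside it -/
theorem IsLQC.exists_locallyClosed_mem {Z : Set X} (hZ : IsLQC Z) {y : X} (hy : y ∈ Z) :
    ∃ L, IsLocallyClosed L ∧ y ∈ L ∧ L ⊆ Z := by
  obtain ⟨U, hU, hyU, T, hT, hT', e⟩ := hZ y
  have : y ∈ ⋃₀ T := by rw [← e]; exact ⟨hyU, hy⟩
  obtain ⟨t, ht, hyt⟩ := this
  refine ⟨t, hT' t ht, hyt, ?_⟩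
  intro z hz
  have : z ∈ U ∩ Z := by rw [e]; exact ⟨t, ht, hz⟩
  exact this.2

/-- separation of two lqc sets by a locally closed set -/
theorem IsLQC.exists_locallyClosed_sep {Z Z' : Set X} (hZ : IsLQC Z) (hZ' : IsLQC Z') {y : X}
    (hy : y ∈ Z) (hy' : y ∉ Z') :
    ∃ L, IsLocallyClosed L ∧ y ∈ L ∧ L ⊆ Z ∧ L ∩ Z' = ∅ := by
  obtain ⟨t, ht, hyt, htZ⟩ := hZ.exists_locallyClosed_mem hy
  obtain ⟨U', hU', hyU', T', hT', hT'', e'⟩ := hZ' y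
  have hyT' : y ∉ ⋃₀ T' := by
    rw [← e']; exact fun h => hy' h.2
  obtain ⟨L, hL, hyL, hLL₀, hLT'⟩ := exists_locallyClosed_avoid hT' hT'' y hyT' (t ∩ U')
    (ht.inter hU'.isLocallyClosed) ⟨hyt, hyU'⟩
  refine ⟨L, hL, hyL, fun z hz => htZ (hLL₀ hz).1, ?_⟩
  apply Set.eq_empty_of_subset_empty
  rw [← hLT', ← e']
  intro z hz
  exact ⟨hz.1, (hLL₀ hz.1).2, hz.2⟩

/-- If `X₀` meets every nonempty locally closed set, lqc sets are determined by their trace. -/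
theorem IsLQC.eq_of_inter_eq {X₀ : Set X}
    (h : ∀ Z : Set X, IsLocallyClosed Z → Z.Nonempty → (Z ∩ X₀).Nonempty)
    {Z Z' : Set X} (hZ : IsLQC Z) (hZ' : IsLQC Z') (e : Z ∩ X₀ = Z' ∩ X₀) : Z = Z' := by
  apply subset_antisymm
  · intro y hy
    by_contra hy'
    obtain ⟨L, hL, hyL, hLZ, hLZ'⟩ := hZ.exists_locallyClosed_sep hZ' hy hy'
    obtain ⟨x, hxL, hx₀⟩ := h L hL ⟨y, hyL⟩
    have : x ∈ Z' ∩ X₀ := by rw [← e]; exact ⟨hLZ hxL, hx₀⟩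
    have : x ∈ L ∩ Z' := ⟨hxL, this.1⟩
    rw [hLZ'] at this
    exact this
  · intro y hy
    by_contra hy'
    obtain ⟨L, hL, hyL, hLZ, hLZ'⟩ := hZ'.exists_locallyClosed_sep hZ hy hy'
    obtain ⟨x, hxL, hx₀⟩ := h L hL ⟨y, hyL⟩
    have : x ∈ Z ∩ X₀ := by rw [e]; exact ⟨hLZ hxL, hx₀⟩
    have : x ∈ L ∩ Z := ⟨hxL, this.1⟩
    rw [hLZ'] at this
    exact this

end Groth.Agent.H25

namespace Groth.Agent.H25

variable {X : Type*} [TopologicalSpace X]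

theorem IsQC.inter_isOpen {Z : Set X} (h : IsQC Z) {W : Set X} (hW : IsOpen W) :
    IsQC (W ∩ Z) := by
  obtain ⟨T, hT, hT', rfl⟩ := h
  refine ⟨(fun t => W ∩ t) '' T, hT.image _, ?_, ?_⟩
  · rintro _ ⟨t, ht, rfl⟩
    exact hW.isLocallyClosed.inter (hT' t ht)
  · rw [Set.sUnion_image, ← Set.inter_iUnion₂, ← Set.sUnion_eq_biUnion]

/-- local lifting of an lqc subset of a subspace -/
theorem exists_local_lift (X₀ : Set X) (Z₀ : Set ↥X₀) (hZ₀ : IsLQC Z₀) (x₀ : ↥X₀) :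
    ∃ U Zx : Set X, IsOpen U ∧ x₀.1 ∈ U ∧ Zx ⊆ U ∧ IsQC Zx ∧
      (Subtype.val ⁻¹' Zx : Set ↥X₀) = Subtype.val ⁻¹' U ∩ Z₀ := by
  classical
  obtain ⟨U₀, hU₀, hxU₀, T₀, hT₀, hT₀', e⟩ := hZ₀ x₀
  obtain ⟨U, hU, rfl⟩ := isOpen_induced_iff.1 hU₀
  have hex : ∀ s₀ : Set ↥X₀, ∃ s : Set X, IsLocallyClosed s₀ →
      IsLocallyClosed s ∧ Subtype.val ⁻¹' s = s₀ := by
    intro s₀
    by_cases h : IsLocallyClosed s₀
    · obtain ⟨s, hs, rfl⟩ := (Topology.IsInducing.subtypeVal.isLocallyClosed_iff).1 h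
      exact ⟨s, fun _ => ⟨hs, rfl⟩⟩
    · exact ⟨∅, fun h' => absurd h' h⟩
  choose F hF using hex
  refine ⟨U, U ∩ ⋃₀ (F '' T₀), hU, hxU₀, Set.inter_subset_left, ?_, ?_⟩
  · apply IsQC.inter_isOpen _ hU
    refine ⟨F '' T₀, hT₀.image _, ?_, rfl⟩
    rintro _ ⟨t₀, ht₀, rfl⟩
    exact (hF t₀ (hT₀' t₀ ht₀)).1
  · have e2 : (Subtype.val ⁻¹' (⋃₀ (F '' T₀)) : Set ↥X₀) = ⋃₀ T₀ := by
      rw [Set.sUnion_image, Set.preimage_iUnion₂, Set.sUnion_eq_biUnion]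
      apply Set.iUnion₂_congr
      intro t₀ ht₀
      exact (hF t₀ (hT₀' t₀ ht₀)).2
    rw [Set.preimage_inter, e2, ← e]
    ext y
    simp only [Set.mem_inter_iff, Set.mem_preimage]
    tauto

/-- every lqc subset of a very dense subspace is the trace of an lqc subset -/
theorem exists_lift_of_veryDense (X₀ : Set X)
    (h : ∀ Z : Set X, IsLocallyClosed Z → Z.Nonempty → (Z ∩ X₀).Nonempty)
    (Z₀ : Set ↥X₀) (hZ₀ : IsLQC Z₀) :
    ∃ Z : Set X, IsLQC Z ∧ Subtype.val ⁻¹' Z = Z₀ := by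
  choose U Zx hU hxU hZxU hZxQ hZx using exists_local_lift X₀ Z₀ hZ₀
  have hcov : ∀ x : X, ∃ x₀ : ↥X₀, x ∈ U x₀ := by
    intro x
    by_contra hcon
    push Not at hcon
    have hcl : IsClosed (⋃ x₀, U x₀)ᶜ := (isOpen_iUnion hU).isClosed_compl
    obtain ⟨y, hy, hy₀⟩ := h _ hcl.isLocallyClosed ⟨x, by simpa using hcon⟩
    exact hy (Set.mem_iUnion.2 ⟨⟨y, hy₀⟩, hxU ⟨y, hy₀⟩⟩)
  have hglue : ∀ x₀ x₁ : ↥X₀, U x₀ ∩ Zx x₁ = U x₁ ∩ Zx x₀ := by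
    intro x₀ x₁
    apply IsLQC.eq_of_inter_eq h ((hZxQ x₁).inter_isOpen (hU x₀)).isLQC
      ((hZxQ x₀).inter_isOpen (hU x₁)).isLQC
    have e : (Subtype.val ⁻¹' (U x₀ ∩ Zx x₁) : Set ↥X₀) = Subtype.val ⁻¹' (U x₁ ∩ Zx x₀) := by
      rw [Set.preimage_inter, Set.preimage_inter, hZx, hZx]
      ext y
      simp only [Set.mem_inter_iff, Set.mem_preimage]
      tauto
    ext y
    constructor
    · rintro ⟨hy, hy₀⟩
      exact ⟨Set.ext_iff.1 e ⟨y, hy₀⟩ |>.1 hy, hy₀⟩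
    · rintro ⟨hy, hy₀⟩
      exact ⟨Set.ext_iff.1 e ⟨y, hy₀⟩ |>.2 hy, hy₀⟩
  refine ⟨⋃ x₀, Zx x₀, ?_, ?_⟩
  · intro x
    obtain ⟨x₀, hx₀⟩ := hcov x
    obtain ⟨T, hT, hT', eT⟩ := hZxQ x₀
    refine ⟨U x₀, hU x₀, hx₀, T, hT, hT', ?_⟩
    rw [← eT]
    apply subset_antisymm
    · rw [Set.inter_iUnion]
      apply Set.iUnion_subset
      intro x₁
      rw [hglue]
      exact Set.inter_subset_right
    · intro y hy
      exact ⟨hZxU x₀ hy, Set.mem_iUnion.2 ⟨x₀, hy⟩⟩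
  · rw [Set.preimage_iUnion]
    simp_rw [hZx]
    rw [← Set.iUnion_inter]
    apply Set.inter_eq_right.2
    intro y _
    exact Set.mem_iUnion.2 ⟨y, hxU y⟩

end Groth.Agent.H25
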