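import Mathlib.AlgebraicGeometry.Morphisms.Smooth
import Mathlib.RingTheory.RingHom.Smooth
import Mathlib.AlgebraicGeometry.Stalk

set_option autoImplicit false
universe u
open CategoryTheory CategoryTheory.Limits AlgebraicGeometry TopologicalSpace

namespace Groth.Agent.H25

theorem exists_lift_of_formallySmooth {R A B B' : Type*} [CommRing R] [CommRing A] [CommRing B]
    [CommRing B'] (s : R →+* A) (hs : s.FormallySmooth) (φ : B' →+* B)
    (hφ : Function.Surjective φ) (hker : IsNilpotent (RingHom.ker φ))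
    (a : A →+* B) (b : R →+* B') (h : φ.comp b = a.comp s) :
    ∃ c : A →+* B', φ.comp c = a ∧ c.comp s = b := by
  let := s.toAlgebra
  let := b.toAlgebra
  let := (φ.comp b).toAlgebra
  have : Algebra.FormallySmooth R A := hs
  let a' : A →ₐ[R] B := ⟨a, fun r => (congrFun (congrArg DFunLike.coe h) r).symm⟩
  let φ' : B' →ₐ[R] B := ⟨φ, fun r => rfl⟩
  let c := Algebra.FormallySmooth.liftOfSurjective a' φ' hφ hker
  refine ⟨c, ?_, ?_⟩
  · ext z
    exact Algebra.FormallySmooth.liftOfSurjective_apply a' φ' hφ hker z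
  · ext r
    exact c.commutes r

theorem isLocalRing_of_surjective_of_isNilpotent_ker {S A : Type*} [CommRing S] [CommRing A]
    [IsLocalRing A] (φ : S →+* A) (hφ : Function.Surjective φ) (hker : IsNilpotent (RingHom.ker φ)) :
    IsLocalRing S := by
  have hloc : IsLocalHom φ := by
    refine ⟨fun a ha => ?_⟩
    obtain ⟨b, hb⟩ := hφ (ha.unit⁻¹ : Aˣ)
    have h1 : a * b - 1 ∈ RingHom.ker φ := by
      rw [RingHom.mem_ker, map_sub, map_mul, hb, map_one]
      simp
    obtain ⟨n, hn⟩ := hker
    have h2 : IsNilpotent (a * b - 1) := ⟨n, by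
      have := Ideal.pow_mem_pow h1 n
      rw [hn] at this
      simpa using this⟩
    have h3 : IsUnit (a * b) := by
      have := h2.isUnit_add_one
      simpa using this
    exact isUnit_of_mul_isUnit_left h3
  have : Nontrivial S := φ.domain_nontrivial
  exact RingHom.domain_isLocalRing φ


theorem formallySmooth_of_exists_lift {R A : Type u} [CommRing R] [CommRing A] [IsLocalRing A]
    (s : R →+* A)
    (H : ∀ (B' : Type u) [CommRing B'] [IsLocalRing B'] (φ : B' →+* A), Function.Surjective φ →
      RingHom.ker φ ^ 2 = ⊥ → ∀ (b : R →+* B'), φ.comp b = s →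
      ∃ c : A →+* B', φ.comp c = RingHom.id A ∧ c.comp s = b) : s.FormallySmooth := by
  let := s.toAlgebra
  change Algebra.FormallySmooth R A
  let P := Algebra.Generators.self R A
  let f : P.Ring →ₐ[R] A := IsScalarTower.toAlgHom R P.Ring A
  have surj : Function.Surjective f.kerSquareLift :=
    Ideal.Quotient.lift_surjective_of_surjective _ _ P.algebraMap_surjective
  have sqz : RingHom.ker f.kerSquareLift.toRingHom ^ 2 = ⊥ := by
    rw [AlgHom.ker_kerSquareLift, Ideal.cotangentIdeal_square]
  have hloc : IsLocalRing (P.Ring ⧸ RingHom.ker f.toRingHom ^ 2) :=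
    isLocalRing_of_surjective_of_isNilpotent_ker f.kerSquareLift.toRingHom surj ⟨2, sqz⟩
  obtain ⟨c, hc1, hc2⟩ := H (P.Ring ⧸ RingHom.ker f.toRingHom ^ 2) f.kerSquareLift.toRingHom surj sqz
    (algebraMap R _) (by ext r; exact f.kerSquareLift.commutes r)
  let g : A →ₐ[R] P.Ring ⧸ RingHom.ker f.toRingHom ^ 2 :=
    ⟨c, fun r => congrFun (congrArg DFunLike.coe hc2) r⟩
  refine Algebra.FormallySmooth.of_split f g ?_
  ext z
  exact congrFun (congrArg DFunLike.coe hc1) z

end Groth.Agent.H25

namespace Groth.Agent.H25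

theorem exists_factor_fromSpecStalk {X : Scheme.{u}} (R : CommRingCat.{u}) [IsLocalRing R]
    (g : Spec R ⟶ X) (x : X) (hx : g.base (IsLocalRing.closedPoint R) = x) :
    ∃ c : X.presheaf.stalk x ⟶ R, IsLocalHom c.hom ∧ Spec.map c ≫ X.fromSpecStalk x = g := by
  subst hx
  exact ⟨Scheme.stalkClosedPointTo g, inferInstance, Scheme.Spec_stalkClosedPointTo_fromSpecStalk g⟩

/-- closed point of a surjection of local rings -/
theorem SpecMap_closedPoint_of_surjective {B B' : Type u} [CommRing B] [CommRing B'] [IsLocalRing B]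
    [IsLocalRing B'] (φ : B' →+* B) (hφ : Function.Surjective φ) :
    (Spec.map (CommRingCat.ofHom φ)).base (IsLocalRing.closedPoint B) = IsLocalRing.closedPoint B' := by
  have : IsLocalHom φ := hφ.isLocalHom
  exact IsLocalRing.comap_closedPoint φ

end Groth.Agent.H25

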