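import Groth.Agent.H25.UnramLocal
import Mathlib.AlgebraicGeometry.Morphisms.UniversallyInjective
import Mathlib.FieldTheory.PurelyInseparable.Basic

/-! Fibre criterion helper for monomorphisms (helper25). -/

set_option autoImplicit false
universe u
open CategoryTheory CategoryTheory.Limits AlgebraicGeometry TopologicalSpace

namespace Groth.Agent.H25
open IsLocalRing

theorem bijective_quotientMap_iff {R S : Type*} [CommRing R] [CommRing S] [IsLocalRing R]
    [IsLocalRing S] (φ : R →+* S) [IsLocalHom φ] (hφ : φ.EssFiniteType) :
    Function.Bijective (Ideal.quotientMap ((maximalIdeal R).map φ) φ Ideal.le_comap_map) ↔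
      φ.FormallyUnramified ∧ Function.Surjective (ResidueField.map φ) := by
  have hle : (maximalIdeal R).map φ ≤ maximalIdeal S :=
    ((local_hom_TFAE φ).out 0 2).1 ‹IsLocalHom φ›
  constructor
  · intro hb
    constructor
    · rw [formallyUnramified_iff_quotient φ hφ]
      letI : Field (R ⧸ maximalIdeal R) := Ideal.Quotient.field _
      let := (Ideal.quotientMap ((maximalIdeal R).map φ) φ Ideal.le_comap_map).toAlgebra
      refine ⟨?_, ?_, ?_⟩
      · exact (RingEquiv.ofBijective _ hb).symm.toMulEquiv.isField
          (Field.toIsField (R ⧸ maximalIdeal R))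
      · exact Module.Finite.of_surjective (Algebra.linearMap (R ⧸ maximalIdeal R)
          (S ⧸ (maximalIdeal R).map φ)) hb.2
      · constructor
        intro z
        obtain ⟨k, rfl⟩ := hb.2 z
        exact isSeparable_algebraMap k
    · intro z
      obtain ⟨s, rfl⟩ := IsLocalRing.residue_surjective z
      obtain ⟨r', hr'⟩ := hb.2 (Ideal.Quotient.mk _ s)
      obtain ⟨r, rfl⟩ := Ideal.Quotient.mk_surjective r'
      refine ⟨residue R r, ?_⟩
      rw [Ideal.quotientMap_mk, Ideal.Quotient.eq] at hr'
      rw [ResidueField.map_residue]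
      exact Ideal.Quotient.eq.2 (hle hr')
  · rintro ⟨hu, hs⟩
    let := φ.toAlgebra
    have : IsLocalHom (algebraMap R S) := ‹IsLocalHom φ›
    have : Algebra.EssFiniteType R S := hφ
    have : Algebra.FormallyUnramified R S := hu
    have hmap : (maximalIdeal R).map φ = maximalIdeal S :=
      Algebra.FormallyUnramified.map_maximalIdeal
    constructor
    · have : Nontrivial (S ⧸ (maximalIdeal R).map φ) := by
        rw [hmap]; infer_instance
      letI : Field (R ⧸ maximalIdeal R) := Ideal.Quotient.field _
      exact RingHom.injective _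
    · intro z
      obtain ⟨s, rfl⟩ := Ideal.Quotient.mk_surjective z
      obtain ⟨r', hr'⟩ := hs (residue S s)
      obtain ⟨r, rfl⟩ := IsLocalRing.residue_surjective r'
      refine ⟨Ideal.Quotient.mk _ r, ?_⟩
      rw [Ideal.quotientMap_mk, Ideal.Quotient.eq, hmap]
      rw [ResidueField.map_residue] at hr'
      exact Ideal.Quotient.eq.1 hr'

end Groth.Agent.H25
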