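import Mathlib
import Groth.Prelude.Def_FDesc
import Groth.Agent.H25.PrimaryConn

set_option autoImplicit false
universe u
open CategoryTheory CategoryTheory.Limits AlgebraicGeometry TensorProduct

namespace Groth.Agent.H25.MorBC

variable {k : Type u} [Field k] {X Y : Scheme.{u}}
  (f : X ⟶ Spec (CommRingCat.of k)) (g : Y ⟶ Spec (CommRingCat.of k)) (h : Y ⟶ X) (w : h ≫ f = g)
  (L : Type u) [Field L] [Algebra k L]

/-- the base change `Y_L ⟶ X_L` of a `k`-morphism -/
noncomputable def mapBC : FBase.bc g L ⟶ FBase.bc f L :=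
  pullback.map g _ f _ h (𝟙 _) (𝟙 _) (by simp [w]) (by simp)

@[reassoc (attr := simp)]
theorem mapBC_fst : mapBC f g h w L ≫ FBase.bcπ f L = FBase.bcπ g L ≫ h := by
  exact pullback.lift_fst _ _ _

@[reassoc (attr := simp)]
theorem mapBC_snd : mapBC f g h w L ≫ FBase.bcStr f L = FBase.bcStr g L := by
  exact (pullback.lift_snd _ _ _).trans (Category.comp_id _)

theorem isPullback_mapBC :
    IsPullback (mapBC f g h w L) (FBase.bcπ g L) (FBase.bcπ f L) h := by
  subst w
  have hB : IsPullback (FBase.bcStr (h ≫ f) L) (FBase.bcπ (h ≫ f) L)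
      (Spec.map (CommRingCat.ofHom (algebraMap k L))) (h ≫ f) := (IsPullback.of_hasPullback _ _).flip
  rw [← mapBC_snd f (h ≫ f) h rfl L] at hB
  exact IsPullback.of_right hB (mapBC_fst f (h ≫ f) h rfl L) (IsPullback.of_hasPullback _ _).flip

/-- every point of `X_L` over `h y` comes from `Y_L` -/
theorem exists_mapBC_eq (z : ↥(FBase.bc f L)) (y : Y) (hz : FBase.bcπ f L z = h y) :
    ∃ v : ↥(FBase.bc g L), mapBC f g h w L v = z ∧ FBase.bcπ g L v = y := by
  obtain ⟨v, hv1, hv2⟩ := Scheme.Pullback.exists_preimage_pullback z y hz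
  refine ⟨(isPullback_mapBC f g h w L).isoPullback.inv v, ?_, ?_⟩
  · rw [← Scheme.Hom.comp_apply, IsPullback.isoPullback_inv_fst]; exact hv1
  · rw [← Scheme.Hom.comp_apply, IsPullback.isoPullback_inv_snd]; exact hv2

/-- the image of `Y_L` in `X_L` is saturated for `X_L → X` -/
theorem range_mapBC :
    Set.range (mapBC f g h w L) = FBase.bcπ f L ⁻¹' Set.range h := by
  ext z
  constructor
  · rintro ⟨v, rfl⟩
    refine ⟨FBase.bcπ g L v, ?_⟩
    rw [← Scheme.Hom.comp_apply, ← Scheme.Hom.comp_apply, mapBC_fst]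
  · rintro ⟨y, hy⟩
    obtain ⟨v, hv, -⟩ := exists_mapBC_eq f g h w L z y hy.symm
    exact ⟨v, hv⟩

end Groth.Agent.H25.MorBC
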