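import Groth.Agent.H25.StableClopen

set_option autoImplicit false
universe u

namespace Groth.Agent.H25

open TopologicalSpace Topology

variable {X : Type*} [TopologicalSpace X]

/-- Noetherian neighbourhood criterion: `E` is a neighbourhood of `x` as soon as for every
generization `ζ` of `x`, `E` contains a nonempty open part of `closure {ζ}` around `ζ`. -/
theorem mem_nhds_of_forall_generization_of_noetherian [NoetherianSpace X] [QuasiSober X]
    (E : Set X) (x : X)
    (h : ∀ ζ : X, ζ ⤳ x → ∃ O : Set X, IsOpen O ∧ ζ ∈ O ∧ O ∩ closure {ζ} ⊆ E) : E ∈ 𝓝 x := by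
  by_contra hcon
  have hx : x ∈ closure Eᶜ := by
    rw [closure_compl]
    intro hint
    exact hcon (mem_interior_iff_mem_nhds.mp hint)
  -- minimal closed set F with x ∈ closure (Eᶜ ∩ F)
  let P : Set (Closeds X) := {F | x ∈ closure (Eᶜ ∩ (F : Set X))}
  have hPne : P.Nonempty := ⟨⊤, by
    change x ∈ closure (Eᶜ ∩ (Set.univ : Set X))
    rw [Set.inter_univ]; exact hx⟩
  obtain ⟨F, hFP, hFmin⟩ := (wellFounded_lt (α := Closeds X)).has_min P hPne
  have hxF : x ∈ (F : Set X) :=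
    (closure_minimal Set.inter_subset_right F.isClosed) hFP
  -- F is irreducible
  have hFirr : IsIrreducible (F : Set X) := by
    refine ⟨⟨x, hxF⟩, ?_⟩
    rw [isPreirreducible_iff_isClosed_union_isClosed]
    intro Z₁ Z₂ hZ₁ hZ₂ hsub
    by_contra hne
    rw [not_or] at hne
    obtain ⟨h1, h2⟩ := hne
    have hcov : Eᶜ ∩ (F : Set X) = (Eᶜ ∩ ((F : Set X) ∩ Z₁)) ∪ (Eᶜ ∩ ((F : Set X) ∩ Z₂)) := by
      ext p
      constructor
      · rintro ⟨hp1, hp2⟩
        rcases hsub hp2 with hz | hz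
        · exact Or.inl ⟨hp1, hp2, hz⟩
        · exact Or.inr ⟨hp1, hp2, hz⟩
      · rintro (⟨hp1, hp2, -⟩ | ⟨hp1, hp2, -⟩) <;> exact ⟨hp1, hp2⟩
    have hFP' : x ∈ closure (Eᶜ ∩ (F : Set X)) := hFP
    rw [hcov, closure_union] at hFP'
    rcases hFP' with hc | hc
    · let F₁ : Closeds X := ⟨(F : Set X) ∩ Z₁, F.isClosed.inter hZ₁⟩
      have hlt : F₁ < F := by
        refine lt_of_le_of_ne (fun p hp => hp.1) ?_
        intro heq
        apply h1
        intro p hp
        have : p ∈ (F₁ : Set X) := by rw [heq]; exact hp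
        exact this.2
      exact hFmin F₁ hc hlt
    · let F₂ : Closeds X := ⟨(F : Set X) ∩ Z₂, F.isClosed.inter hZ₂⟩
      have hlt : F₂ < F := by
        refine lt_of_le_of_ne (fun p hp => hp.1) ?_
        intro heq
        apply h2
        intro p hp
        have : p ∈ (F₂ : Set X) := by rw [heq]; exact hp
        exact this.2
      exact hFmin F₂ hc hlt
  obtain ⟨γ, hγ⟩ := QuasiSober.sober hFirr F.isClosed
  have hγx : γ ⤳ x := hγ.specializes hxF
  obtain ⟨O, hO, hγO, hOE⟩ := h γ hγx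
  rw [hγ.def] at hOE
  let F' : Closeds X := ⟨(F : Set X) ∩ Oᶜ, F.isClosed.inter hO.isClosed_compl⟩
  have hlt : F' < F := by
    refine lt_of_le_of_ne (fun p hp => hp.1) ?_
    intro heq
    have hγF : γ ∈ (F : Set X) := by rw [← hγ.def]; exact subset_closure rfl
    have : γ ∈ (F' : Set X) := by rw [heq]; exact hγF
    exact this.2 hγO
  have hF'P : F' ∈ P := by
    change x ∈ closure (Eᶜ ∩ ((F : Set X) ∩ Oᶜ))
    have : Eᶜ ∩ ((F : Set X) ∩ Oᶜ) = Eᶜ ∩ (F : Set X) := by
      ext p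
      constructor
      · rintro ⟨hp1, hp2, -⟩; exact ⟨hp1, hp2⟩
      · rintro ⟨hp1, hp2⟩
        refine ⟨hp1, hp2, ?_⟩
        intro hpO
        exact hp1 (hOE ⟨hpO, hp2⟩)
    rw [this]; exact hFP
  exact hFmin F' hF'P hlt

/-- local version -/
theorem mem_nhds_of_forall_generization [QuasiSober X]
    (hloc : ∀ x : X, ∃ U ∈ 𝓝 x, NoetherianSpace ↥U) (E : Set X) (x : X)
    (h : ∀ ζ : X, ζ ⤳ x → ∃ O : Set X, IsOpen O ∧ ζ ∈ O ∧ O ∩ closure {ζ} ⊆ E) : E ∈ 𝓝 x := by
  obtain ⟨U, hU, hUn⟩ := hloc x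
  obtain ⟨N, hNU, hNo, hxN⟩ := mem_nhds_iff.1 hU
  have hNn : NoetherianSpace ↥N :=
    (Topology.IsInducing.of_comp (f := Set.inclusion hNU) (g := Subtype.val)
      (continuous_inclusion hNU) continuous_subtype_val
      Topology.IsInducing.subtypeVal).noetherianSpace
  have hNs : QuasiSober ↥N := hNo.isOpenEmbedding_subtypeVal.quasiSober
  have h1 : (Subtype.val ⁻¹' E : Set ↥N) ∈ 𝓝 (⟨x, hxN⟩ : ↥N) := by
    apply mem_nhds_of_forall_generization_of_noetherian
    intro ζ hζ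
    obtain ⟨O, hO, hζO, hOE⟩ := h ζ.1 (hζ.map continuous_subtype_val)
    refine ⟨Subtype.val ⁻¹' O, hO.preimage continuous_subtype_val, hζO, ?_⟩
    rintro p ⟨hpO, hpc⟩
    apply hOE
    refine ⟨hpO, ?_⟩
    have : ζ ⤳ p := specializes_iff_mem_closure.mpr hpc
    exact (this.map continuous_subtype_val).mem_closure
  have h2 := hNo.isOpenEmbedding_subtypeVal.isOpenMap.image_mem_nhds h1
  refine Filter.mem_of_superset h2 ?_
  rintro _ ⟨a, ha, rfl⟩
  exact ha

end Groth.Agent.H25
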