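import Mathlib
import Groth.Agent.H2.Tor1

set_option autoImplicit false
universe u

namespace Groth.Agent.H25.NilFlat
open scoped TensorProduct
open Groth.Agent.H2

/-- If `M` is `A`-flat then `Tor₁^B(B/JB, M) = 0`. -/
theorem rTensor_map_injective {A B : Type u} [CommRing A] [CommRing B] [Algebra A B]
    (J : Ideal A) (M : Type u) [AddCommGroup M] [Module B M] [Module A M] [IsScalarTower A B M]
    [Module.Flat A M] :
    Function.Injective ((J.map (algebraMap A B)).subtype.rTensor M) := by
  set JB := J.map (algebraMap A B) with hJB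
  -- the comparison map
  let φ : J ⊗[A] M →ₗ[A] JB ⊗[B] M := TensorProduct.lift
    { toFun := fun j =>
        { toFun := fun m => (⟨algebraMap A B j, Ideal.mem_map_of_mem _ j.2⟩ : JB) ⊗ₜ[B] m
          map_add' := fun m m' => TensorProduct.tmul_add _ _ _
          map_smul' := fun a m => by simp }
      map_add' := fun j j' => by
        ext m
        simp only [Submodule.coe_add, map_add, LinearMap.coe_mk, AddHom.coe_mk,
          LinearMap.add_apply]
        rw [← TensorProduct.add_tmul]
        rfl
      map_smul' := fun a j => by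
        ext m
        simp only [SetLike.val_smul, smul_eq_mul, map_mul, LinearMap.coe_mk, AddHom.coe_mk,
          RingHom.id_apply, LinearMap.smul_apply]
        rw [TensorProduct.smul_tmul']
        congr 1
        apply Subtype.ext
        simp [Algebra.smul_def] }
  have hφ : ∀ (j : J) (m : M), φ (j ⊗ₜ m) =
      (⟨algebraMap A B j, Ideal.mem_map_of_mem _ j.2⟩ : JB) ⊗ₜ[B] m := fun j m => rfl
  have hsurj : Function.Surjective φ := by
    intro x
    induction x using TensorProduct.induction_on with
    | zero => exact ⟨0, map_zero _⟩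
    | add x y hx hy =>
      obtain ⟨x', rfl⟩ := hx
      obtain ⟨y', rfl⟩ := hy
      exact ⟨x' + y', map_add _ _ _⟩
    | tmul c m =>
      obtain ⟨c, hc⟩ := c
      revert m
      refine Submodule.span_induction (p := fun c hc => ∀ m : M,
        ∃ y, φ y = (⟨c, hc⟩ : JB) ⊗ₜ[B] m) ?_ ?_ ?_ ?_ hc
      · rintro _ ⟨j, hj, rfl⟩ m
        exact ⟨(⟨j, hj⟩ : J) ⊗ₜ m, hφ _ _⟩
      · intro m
        refine ⟨0, ?_⟩
        rw [map_zero]
        exact (TensorProduct.zero_tmul _ _).symm
      · intro c c' hc hc' ih ih' m
        obtain ⟨y, hy⟩ := ih m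
        obtain ⟨y', hy'⟩ := ih' m
        refine ⟨y + y', ?_⟩
        rw [map_add, hy, hy', ← TensorProduct.add_tmul]
        rfl
      · intro b c hc ih m
        obtain ⟨y, hy⟩ := ih (b • m)
        refine ⟨y, ?_⟩
        rw [hy, ← TensorProduct.smul_tmul]
        rfl
  have hcomp : Function.Injective ((TensorProduct.lid B M).toLinearMap.restrictScalars A ∘ₗ
      ((JB.subtype.rTensor M).restrictScalars A) ∘ₗ φ) := by
    have h1 : Function.Injective ((TensorProduct.lid A M).toLinearMap ∘ₗ J.subtype.rTensor M) :=
      (TensorProduct.lid A M).injective.comp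
        (Module.Flat.rTensor_preserves_injective_linearMap _ (Submodule.injective_subtype J))
    have h2 : ((TensorProduct.lid B M).toLinearMap.restrictScalars A ∘ₗ
      ((JB.subtype.rTensor M).restrictScalars A) ∘ₗ φ) =
        (TensorProduct.lid A M).toLinearMap ∘ₗ J.subtype.rTensor M := by
      ext j m
      simp [hφ]
    rw [h2]
    exact h1
  intro x y hxy
  obtain ⟨x', rfl⟩ := hsurj x
  obtain ⟨y', rfl⟩ := hsurj y
  have : x' = y' := hcomp (by simp [hxy])
  rw [this]

end Groth.Agent.H25.NilFlat
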