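import Mathlib
import Groth.Prelude.Def_Curv2
import Groth.Agent.H13.NoethDescent
import Groth.Agent.H25.GeomPtInt

set_option autoImplicit false
universe u
open CategoryTheory CategoryTheory.Limits AlgebraicGeometry TensorProduct

namespace Groth.Agent.H25.NoethBC

variable (k : Type u) [Field k] (X : Scheme.{u}) [X.Over (Spec (CommRingCat.of k))]
  (k' : Type u) [Field k'] [Algebra k k']

theorem isNoetherianRing_top_pullback_spec [Algebra.EssFiniteType k k'] (R : CommRingCat.{u})
    [IsNoetherianRing R] (a : Spec R ⟶ Spec (CommRingCat.of k)) :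
    IsNoetherianRing Γ(pullback a (Spec.map (CommRingCat.ofHom (algebraMap k k'))), ⊤) := by
  letI : Algebra k R := (Spec.preimage a).hom.toAlgebra
  have ha : a = Spec.map (CommRingCat.ofHom (algebraMap k R)) := (Spec.map_preimage a).symm
  let e : pullback a (Spec.map (CommRingCat.ofHom (algebraMap k k'))) ≅
      Spec (CommRingCat.of (R ⊗[k] k')) :=
    pullback.congrHom ha rfl ≪≫ pullbackSpecIso k R k'
  haveI : IsNoetherianRing (R ⊗[k] k') := Algebra.EssFiniteType.isNoetherianRing R (R ⊗[k] k')
  haveI : IsLocallyNoetherian (Spec (CommRingCat.of (R ⊗[k] k'))) := inferInstance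
  haveI : IsLocallyNoetherian (pullback a (Spec.map (CommRingCat.ofHom (algebraMap k k')))) :=
    isLocallyNoetherian_of_isOpenImmersion e.hom
  exact IsLocallyNoetherian.component_noetherian ⟨⊤, isAffineOpen_top _⟩

theorem isLocallyNoetherian_bc [Algebra.EssFiniteType k k'] [IsLocallyNoetherian X] :
    IsLocallyNoetherian (Curv2.bc k X k') := by
  let 𝒱 := Scheme.Pullback.openCoverOfLeft X.affineCover (X ↘ Spec (CommRingCat.of k))
    (Spec.map (CommRingCat.ofHom (algebraMap k k')))
  haveI : ∀ i, IsAffine (𝒱.X i) := fun i => by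
    change IsAffine (pullback _ _)
    infer_instance
  rw [isLocallyNoetherian_iff_of_affine_openCover 𝒱]
  intro i
  have h1 : IsNoetherianRing Γ(X.affineCover.X i, ⊤) :=
    (isLocallyNoetherian_iff_of_affine_openCover X.affineCover).mp inferInstance i
  haveI h2 : IsNoetherianRing Γ(Spec (X.affineOpenCover.X i), ⊤) := h1
  haveI : IsNoetherianRing (X.affineOpenCover.X i) :=
    isNoetherianRing_of_ringEquiv _ (Scheme.ΓSpecIso (X.affineOpenCover.X i)).commRingCatIsoToRingEquiv
  exact isNoetherianRing_top_pullback_spec k k' (X.affineOpenCover.X i) _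

/-- S7605 -/
theorem isLocallyNoetherian_iff_bc (hfg : (⊤ : IntermediateField k k').FG) :
    IsLocallyNoetherian X ↔ IsLocallyNoetherian (Curv2.bc k X k') := by
  haveI : Algebra.EssFiniteType k k' := IntermediateField.fg_top_iff.mp hfg
  constructor
  · intro h
    exact isLocallyNoetherian_bc k X k'
  · intro h
    haveI := Groth.Agent.H25.GeomPtInt.surjective_bcFst (X ↘ Spec (CommRingCat.of k)) k'
    haveI := Groth.Agent.H25.GeomPtInt.flat_bcFst (X ↘ Spec (CommRingCat.of k)) k'
    haveI : QuasiCompact (Curv2.bcFst k X k') := by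
      unfold Curv2.bcFst
      infer_instance
    exact Groth.Agent.H13.isLocallyNoetherian_of_flat_surjective_quasiCompact (Curv2.bcFst k X k')

end Groth.Agent.H25.NoethBC
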