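import Mathlib
import Groth.Agent.H2.LocalCrit

set_option autoImplicit false
universe u
open scoped TensorProduct Pointwise
open Function (Injective Surjective Exact)

namespace Groth.Agent.H25.NormFlat

open Groth.Agent.H2 RingTheory.Sequence

section tor

variable {R : Type u} [CommRing R]
variable {N N' N'' M : Type u} [AddCommGroup N] [Module R N] [AddCommGroup N'] [Module R N']
  [AddCommGroup N''] [Module R N''] [AddCommGroup M] [Module R M]

/-- invariance of `Tor1Zero` under isomorphism in the first variable -/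
theorem tor1Zero_congr (e : N ≃ₗ[R] N') (h : Tor1Zero R N M) : Tor1Zero R N' M := by
  intro K F _ _ _ _ _ i p hi hip hp
  have h1 := h K F i p hi hip hp
  have hcomm : (i.lTensor N') ∘ₗ (e.toLinearMap.rTensor K) =
      (e.toLinearMap.rTensor F) ∘ₗ (i.lTensor N) := by
    rw [LinearMap.lTensor_comp_rTensor, LinearMap.rTensor_comp_lTensor]
  have h2 : Injective ((e.toLinearMap.rTensor F) ∘ₗ (i.lTensor N)) :=
    (e.rTensor F).injective.comp h1
  rw [← hcomm] at h2
  intro a b hab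
  obtain ⟨a', rfl⟩ := (e.rTensor K).surjective a
  obtain ⟨b', rfl⟩ := (e.rTensor K).surjective b
  have := h2 (a₁ := a') (a₂ := b') hab
  rw [this]

/-- The piece `Tor₁(N, M) → Tor₁(N'', M) → N' ⊗ M → N ⊗ M` of the long exact sequence, in
vanishing form. -/
theorem tor1Zero_of_exact_of_rTensor_injective (f : N' →ₗ[R] N) (g : N →ₗ[R] N'')
    (hfg : Exact f g) (hg : Surjective g) (hN : Tor1Zero R N M)
    (hinj : Injective (f.rTensor M)) : Tor1Zero R N'' M := by
  intro K F _ _ _ _ _ i p hi hip hp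
  rw [injective_iff_map_eq_zero]
  intro x hx
  obtain ⟨y, rfl⟩ := LinearMap.rTensor_surjective K hg x
  have h2 : g.rTensor F (i.lTensor N y) = 0 := by
    rw [← LinearMap.comp_apply, LinearMap.rTensor_comp_lTensor, ← LinearMap.lTensor_comp_rTensor,
      LinearMap.comp_apply, hx]
  obtain ⟨z, hz⟩ := (rTensor_exact F hfg hg (i.lTensor N y)).mp h2
  have h4 : f.rTensor M (p.lTensor N' z) = 0 := by
    rw [← LinearMap.comp_apply, LinearMap.rTensor_comp_lTensor, ← LinearMap.lTensor_comp_rTensor,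
      LinearMap.comp_apply, hz, ← LinearMap.comp_apply, ← LinearMap.lTensor_comp,
      hip.linearMap_comp_eq_zero, LinearMap.lTensor_zero, LinearMap.zero_apply]
  have h4' : p.lTensor N' z = 0 := hinj (by rw [h4, map_zero])
  obtain ⟨w, rfl⟩ := (lTensor_exact N' hip hp z).mp h4'
  have h6 : i.lTensor N (f.rTensor K w) = i.lTensor N y := by
    rw [← hz, ← LinearMap.comp_apply, LinearMap.lTensor_comp_rTensor,
      ← LinearMap.rTensor_comp_lTensor, LinearMap.comp_apply]
  have h7 : f.rTensor K w = y := hN K F i p hi hip hp h6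
  rw [← h7, ← LinearMap.comp_apply, ← LinearMap.rTensor_comp, hfg.linearMap_comp_eq_zero,
    LinearMap.rTensor_zero, LinearMap.zero_apply]

end tor


section regular

variable {B : Type u} [CommRing B] (N : Type u) [AddCommGroup N] [Module B N]

theorem tor1Zero_quot_ofList : ∀ (rs : List B) (C : Type u) [AddCommGroup C] [Module B C],
    IsWeaklyRegular C rs → IsWeaklyRegular (C ⊗[B] N) rs → Tor1Zero B C N →
    Tor1Zero B (C ⧸ (Ideal.ofList rs • ⊤ : Submodule B C)) N := by
  intro rs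
  induction rs with
  | nil =>
    intro C _ _ _ _ h
    refine tor1Zero_congr (Submodule.quotEquivOfEqBot _ ?_).symm h
    simp
  | cons r rs ih =>
    intro C _ _ h1 h2 h
    rw [isWeaklyRegular_cons_iff] at h1 h2
    have e := QuotSMulTop.quotSMulTopTensorEquivQuotSMulTop r N C
    have h2' : IsWeaklyRegular (QuotSMulTop r C ⊗[B] N) rs :=
      (e.isWeaklyRegular_congr rs).mpr h2.2
    have h3 : Tor1Zero B (QuotSMulTop r C) N := by
      refine tor1Zero_of_exact_of_rTensor_injective (LinearMap.lsmul B C r)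
        (Submodule.mkQ (r • (⊤ : Submodule B C))) ?_ (Submodule.mkQ_surjective _) h ?_
      · intro c
        rw [Submodule.mkQ_apply, Submodule.Quotient.mk_eq_zero,
          Submodule.mem_smul_pointwise_iff_exists]
        simp [eq_comm]
      · have : (LinearMap.lsmul B C r).rTensor N = LinearMap.lsmul B (C ⊗[B] N) r := by
          ext c n
          simp [TensorProduct.smul_tmul']
        rw [this]
        exact h2.1
    exact tor1Zero_congr (Submodule.quotOfListConsSMulTopEquivQuotSMulTopInner C r rs).symm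
      (ih _ h1.2 h2' h3)

end regular


section core

variable {B : Type u} [CommRing B] (N : Type u) [AddCommGroup N] [Module B N]

theorem flat_of_isWeaklyRegular [IsNoetherianRing B] [Module.Finite B N] (rs : List B)
    (hrad : ∀ r ∈ rs, r ∈ (⊥ : Ideal B).jacobson)
    (hB : IsWeaklyRegular B rs) (hN : IsWeaklyRegular N rs)
    [Module.Flat (B ⧸ Ideal.ofList rs) ((B ⧸ Ideal.ofList rs) ⊗[B] N)] : Module.Flat B N := by
  have h1 : Tor1Zero B (B ⧸ (Ideal.ofList rs • ⊤ : Submodule B B)) N :=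
    tor1Zero_quot_ofList N rs B hB (((TensorProduct.lid B N).isWeaklyRegular_congr rs).mpr hN)
      tor1Zero_of_flat_left
  have h2 : Tor1Zero B (B ⧸ Ideal.ofList rs) N :=
    tor1Zero_congr (Submodule.quotEquivOfEq _ _ (by simp)) h1
  refine flat_of_rTensor_injective_of_flat_quotient (S := B) (Ideal.ofList rs) ?_
    ((tor1Zero_quotient_iff _).mp h2)
  rw [Algebra.algebraMap_self, Ideal.map_id]
  exact Ideal.span_le.mpr hrad

theorem flat_of_isWeaklyRegular' [IsNoetherianRing B] [Module.Finite B N] (rs : List B)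
    (hrad : ∀ r ∈ rs, r ∈ (⊥ : Ideal B).jacobson)
    (hB : IsWeaklyRegular B rs) (hN : IsWeaklyRegular N rs) (I : Ideal B)
    (hI : Ideal.ofList rs = I)
    [Module.Flat (B ⧸ I) ((B ⧸ I) ⊗[B] N)] : Module.Flat B N := by
  subst hI
  exact flat_of_isWeaklyRegular N rs hrad hB hN

theorem isWeaklyRegular_of_flat [Module.Flat B N] (rs : List B) (hB : IsWeaklyRegular B rs) :
    IsWeaklyRegular N rs :=
  ((TensorProduct.rid B N).isWeaklyRegular_congr rs).mp (hB.isWeaklyRegular_lTensor (M₂ := N))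

end core


section transfer

/-- flatness is invariant under semilinear isomorphism -/
theorem flat_of_semilinear {C₁ C₂ P₁ P₂ : Type u} [CommRing C₁] [CommRing C₂] [AddCommGroup P₁]
    [Module C₁ P₁] [AddCommGroup P₂] [Module C₂ P₂]
    (σ : C₁ ≃+* C₂) (e : P₁ ≃+ P₂) (he : ∀ (c : C₁) (p : P₁), e (c • p) = σ c • e p)
    (h : Module.Flat C₁ P₁) : Module.Flat C₂ P₂ := by
  rw [Module.Flat.iff_forall_isTrivialRelation] at h ⊢
  intro l f x hfx
  have h1 : ∑ i, (σ.symm (f i)) • (e.symm (x i)) = 0 := by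
    apply e.injective
    rw [map_sum, map_zero]
    simpa [he] using hfx
  obtain ⟨k, a, y, hxy, hfa⟩ := h h1
  refine ⟨k, fun i j => σ (a i j), fun j => e (y j), ?_, ?_⟩
  · intro i
    have := congrArg e (hxy i)
    simpa [he, map_sum] using this
  · intro j
    have := congrArg σ (hfa j)
    simpa [map_sum] using this

/-- flatness over quotients of a base ring only depends on the module structure over the base
ring -/
theorem flat_of_algEquiv_of_linearEquiv {A C₁ C₂ P₁ P₂ : Type u} [CommRing A] [CommRing C₁]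
    [CommRing C₂] [Algebra A C₁] [Algebra A C₂] [AddCommGroup P₁] [Module A P₁]
    [Module C₁ P₁] [IsScalarTower A C₁ P₁] [AddCommGroup P₂] [Module A P₂] [Module C₂ P₂]
    [IsScalarTower A C₂ P₂] (hsurj : Surjective (algebraMap A C₁))
    (σ : C₁ ≃ₐ[A] C₂) (e : P₁ ≃ₗ[A] P₂) (h : Module.Flat C₁ P₁) : Module.Flat C₂ P₂ := by
  refine flat_of_semilinear σ.toRingEquiv e.toAddEquiv ?_ h
  intro c p
  obtain ⟨a, rfl⟩ := hsurj c
  simp only [algebraMap_smul, LinearEquiv.coe_toAddEquiv,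
    AlgEquiv.coe_ringEquiv, AlgEquiv.commutes]
  exact e.map_smul a p

end transfer


section main

variable {A : Type u} [CommRing A] (𝔯 : Ideal A) (J : Ideal A)
  (N : Type u) [AddCommGroup N] [Module A N] [Module (A ⧸ 𝔯) N] [IsScalarTower A (A ⧸ 𝔯) N]

/-- `(A/𝔯)/J(A/𝔯) ⊗ N ≃ N/(𝔯+J)N` -/
noncomputable def tensorEquivQuot :
    (((A ⧸ 𝔯) ⧸ J.map (Ideal.Quotient.mkₐ A 𝔯)) ⊗[A ⧸ 𝔯] N) ≃ₗ[A]
      (N ⧸ ((𝔯 ⊔ J) • ⊤ : Submodule A N)) :=
  ((TensorProduct.quotTensorEquivQuotSMul N (J.map (Ideal.Quotient.mkₐ A 𝔯))).restrictScalars A) ≪≫ₗ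
    (Submodule.Quotient.restrictScalarsEquiv A _).symm ≪≫ₗ
    Submodule.quotEquivOfEq _ _ (by
      have h1 : (𝔯 • ⊤ : Submodule A N) = ⊥ := by
        rw [eq_bot_iff, Submodule.smul_le]
        intro a ha x _
        rw [Submodule.mem_bot, ← algebraMap_smul (A ⧸ 𝔯) a x]
        have : algebraMap A (A ⧸ 𝔯) a = 0 := by
          rw [Ideal.Quotient.algebraMap_eq, Ideal.Quotient.eq_zero_iff_mem]
          exact ha
        rw [this, zero_smul]
      rw [Submodule.sup_smul, h1, bot_sup_eq]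
      exact Ideal.smul_restrictScalars J (⊤ : Submodule (A ⧸ 𝔯) N))

end main


section main2

variable {A : Type u} [CommRing A] (𝔯 : Ideal A) {n : ℕ} (f : Fin n → A)
  (N : Type u) [AddCommGroup N] [Module A N] [Module (A ⧸ 𝔯) N] [IsScalarTower A (A ⧸ 𝔯) N]

theorem ofList_ofFn_map :
    Ideal.ofList ((List.ofFn f).map (algebraMap A (A ⧸ 𝔯))) =
      (Ideal.span (Set.range f)).map (Ideal.Quotient.mkₐ A 𝔯) := by
  rw [← Ideal.map_ofList]
  congr 1
  rw [Ideal.ofList]
  congr 1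
  ext a
  simp [List.mem_ofFn]

theorem mem_jacobson_map {a : A} (ha : a ∈ (⊥ : Ideal A).jacobson) :
    algebraMap A (A ⧸ 𝔯) a ∈ (⊥ : Ideal (A ⧸ 𝔯)).jacobson := by
  rw [Ideal.mem_jacobson_bot] at ha ⊢
  intro y
  obtain ⟨y, rfl⟩ := Ideal.Quotient.mk_surjective y
  have := (ha y).map (algebraMap A (A ⧸ 𝔯))
  simpa using this

/-- Hironaka's criterion, one graded piece -/
theorem flat_iff [IsNoetherianRing A] [Module.Finite A N]
    (hrad : ∀ i, f i ∈ (⊥ : Ideal A).jacobson)
    (hreg : IsWeaklyRegular (A ⧸ 𝔯) (List.ofFn f)) :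
    Module.Flat (A ⧸ 𝔯) N ↔
      Module.Flat (A ⧸ (𝔯 ⊔ Ideal.span (Set.range f)))
        (N ⧸ ((𝔯 ⊔ Ideal.span (Set.range f)) • ⊤ : Submodule A N)) ∧
      IsWeaklyRegular N (List.ofFn f) := by
  set rs := (List.ofFn f).map (algebraMap A (A ⧸ 𝔯)) with hrs
  have hI := ofList_ofFn_map 𝔯 f
  have hB : IsWeaklyRegular (A ⧸ 𝔯) rs :=
    (isWeaklyRegular_map_algebraMap_iff (A ⧸ 𝔯) (A ⧸ 𝔯) (List.ofFn f)).mpr hreg
  have hradB : ∀ r ∈ rs, r ∈ (⊥ : Ideal (A ⧸ 𝔯)).jacobson := by
    intro r hr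
    rw [hrs, List.mem_map] at hr
    obtain ⟨a, ha, rfl⟩ := hr
    rw [List.mem_ofFn] at ha
    obtain ⟨i, rfl⟩ := ha
    exact mem_jacobson_map 𝔯 (hrad i)
  have hfin : Module.Finite (A ⧸ 𝔯) N := Module.Finite.of_restrictScalars_finite A (A ⧸ 𝔯) N
  have hNiff : IsWeaklyRegular N rs ↔ IsWeaklyRegular N (List.ofFn f) :=
    isWeaklyRegular_map_algebraMap_iff (A ⧸ 𝔯) N (List.ofFn f)
  have hs1 : Surjective (algebraMap A
      ((A ⧸ 𝔯) ⧸ (Ideal.span (Set.range f)).map (Ideal.Quotient.mkₐ A 𝔯))) := by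
    rw [IsScalarTower.algebraMap_eq A (A ⧸ 𝔯)]
    exact Ideal.Quotient.mk_surjective.comp Ideal.Quotient.mk_surjective
  have hs2 : Surjective (algebraMap A (A ⧸ (𝔯 ⊔ Ideal.span (Set.range f)))) :=
    Ideal.Quotient.mk_surjective
  constructor
  · intro hflat
    refine ⟨?_, hNiff.mp (isWeaklyRegular_of_flat N rs hB)⟩
    exact flat_of_algEquiv_of_linearEquiv hs1
      (DoubleQuot.quotQuotEquivQuotSupₐ A 𝔯 (Ideal.span (Set.range f)))
      (tensorEquivQuot 𝔯 (Ideal.span (Set.range f)) N) inferInstance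
  · rintro ⟨hflat, hN⟩
    have : Module.Flat ((A ⧸ 𝔯) ⧸ (Ideal.span (Set.range f)).map (Ideal.Quotient.mkₐ A 𝔯))
        (((A ⧸ 𝔯) ⧸ (Ideal.span (Set.range f)).map (Ideal.Quotient.mkₐ A 𝔯)) ⊗[A ⧸ 𝔯] N) :=
      flat_of_algEquiv_of_linearEquiv hs2
        (DoubleQuot.quotQuotEquivQuotSupₐ A 𝔯 (Ideal.span (Set.range f))).symm
        (tensorEquivQuot 𝔯 (Ideal.span (Set.range f)) N).symm hflat
    exact flat_of_isWeaklyRegular' N rs hradB hB (hNiff.mpr hN) _ hI

end main2

end Groth.Agent.H25.NormFlat
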