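import Mathlib
import Groth.Agent.H25.StalkBC

set_option autoImplicit false
universe u
open CategoryTheory CategoryTheory.Limits AlgebraicGeometry TensorProduct

namespace Groth.Agent.H25.StalkProd

open Groth.Agent.H25.StalkBC

variable {k : Type u} [CommRing k] {X Y : Scheme.{u}} (p : X ⟶ Spec (CommRingCat.of k))
  (q : Y ⟶ Spec (CommRingCat.of k))

/-- the stalk of `X ×_k Y` at a point `z` over `x` and over the affine open `V ⊆ Y` is a
localization of `O_{X,x} ⊗_k Γ(Y,V)` at a prime -/
theorem exists_prime_of_point_prod (z : ↑(pullback p q)) (x : X) (hx : pullback.fst p q z = x)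
    (V : Y.Opens) (hV : IsAffineOpen V) (hz : pullback.snd p q z ∈ V)
    [Algebra k (X.presheaf.stalk x)] (halg : algebraMap k (X.presheaf.stalk x) = stalkHom p x)
    [Algebra k Γ(Y, V)]
    (halgV : hV.fromSpec ≫ q = Spec.map (CommRingCat.ofHom (algebraMap k Γ(Y, V)))) :
    ∃ (Q : Ideal (X.presheaf.stalk x ⊗[k] Γ(Y, V))) (_ : Q.IsPrime),
      Nonempty ((pullback p q).presheaf.stalk z ≃+* Localization.AtPrime Q) := by
  let j := hV.fromSpec
  let a : pullback (pullback.snd p q) j ⟶ pullback p q := pullback.fst _ _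
  have hza : z ∈ Set.range a := by
    rw [Scheme.Pullback.range_fst, hV.range_fromSpec]
    exact hz
  obtain ⟨z'', hz''⟩ := hza
  let ι : pullback (pullback.snd p q) j ≅
      pullback p (Spec.map (CommRingCat.ofHom (algebraMap k Γ(Y, V)))) :=
    pullbackLeftPullbackSndIso p q j ≪≫ pullback.congrHom rfl halgV
  have hι : ι.hom ≫ pullback.fst _ _ = a ≫ pullback.fst p q := by
    rw [Iso.trans_hom, pullback.congrHom_hom, Category.assoc, pullback.lift_fst,
      Category.comp_id, pullbackLeftPullbackSndIso_hom_fst]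
  have hfst : pullback.fst p (Spec.map (CommRingCat.ofHom (algebraMap k Γ(Y, V)))) (ι.hom z'') =
      x := by
    rw [← hx, ← hz'']
    change (ι.hom ≫ pullback.fst _ _) z'' = (a ≫ pullback.fst p q) z''
    rw [hι]
  obtain ⟨Q, hQ, -, ⟨e⟩⟩ := exists_prime_of_point_stalk p x halg Γ(Y, V) (ι.hom z'') hfst
  refine ⟨Q, hQ, ⟨?_⟩⟩
  let e1 : (pullback p q).presheaf.stalk (a z'') ≃+*
      (pullback (pullback.snd p q) j).presheaf.stalk z'' :=
    (asIso (a.stalkMap z'')).commRingCatIsoToRingEquiv
  let e2 : (pullback p (Spec.map (CommRingCat.ofHom (algebraMap k Γ(Y, V))))).presheaf.stalk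
      (ι.hom z'') ≃+* (pullback (pullback.snd p q) j).presheaf.stalk z'' :=
    (asIso (ι.hom.stalkMap z'')).commRingCatIsoToRingEquiv
  have e12 := e1.trans (e2.symm.trans e)
  rw [hz''] at e12
  exact e12

end Groth.Agent.H25.StalkProd
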