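import Mathlib
import Groth.Prelude.Def_Curv2
import Groth.Prelude.Def_Pi1
import Groth.Agent.H25.StalkProd
import Groth.Agent.H25.GeomNormalAt2
import Groth.Agent.H38.NormUP2
import Groth.Agent.H48.TensorNormal4

set_option autoImplicit false
universe u
open CategoryTheory CategoryTheory.Limits AlgebraicGeometry TensorProduct
attribute [local instance] Curv2.stalkAlgebra

namespace Groth.Agent.H25.ProdNormal

open Groth.Agent.H25.StalkProd Groth.Agent.H25.GeomRedAt Groth.Agent.H25.GeomNormalAt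

theorem ega4_isNormalRing_sections {Z : Scheme.{u}} (hZ : Pi1.IsNormalScheme Z) {W : Z.Opens}
    (hW : IsAffineOpen W) : EGA4.IsNormalRing Γ(Z, W) := by
  intro p hp
  obtain ⟨L, _, _, hloc, hd, hic⟩ := Groth.Agent.H38.NormUP.isNormalRing_sections hZ hW p
  haveI := hloc
  let e : Localization.AtPrime p ≃+* L :=
    (IsLocalization.algEquiv p.primeCompl (Localization.AtPrime p) L).toRingEquiv
  exact normal_of_ringEquiv e ⟨hd, hic⟩

theorem isNormalScheme_prod (k : Type u) [Field k] (X : Scheme.{u}) [X.Over (Spec (CommRingCat.of k))] (Y : Scheme.{u}) [Y.Over (Spec (CommRingCat.of k))]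
    (hX : ∀ (K : Type u) [Field K] [Algebra k K], Pi1.IsNormalScheme (Curv2.bc k X K)) (hY : Pi1.IsNormalScheme Y) :
    Pi1.IsNormalScheme (pullback (X ↘ (Spec (CommRingCat.of k))) (Y ↘ (Spec (CommRingCat.of k)))) := by
  intro z
  set x := pullback.fst (X ↘ (Spec (CommRingCat.of k))) (Y ↘ (Spec (CommRingCat.of k))) z with hx
  obtain ⟨_, ⟨V, hV : IsAffineOpen V, rfl⟩, hyV, -⟩ :=
    Y.isBasis_affineOpens.exists_subset_of_mem_open
      (Set.mem_univ (pullback.snd (X ↘ (Spec (CommRingCat.of k))) (Y ↘ (Spec (CommRingCat.of k))) z))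
      isOpen_univ
  letI : Algebra k Γ(Y, V) :=
    (Spec.preimage (hV.fromSpec ≫ (Y ↘ (Spec (CommRingCat.of k))))).hom.toAlgebra
  have halgV : hV.fromSpec ≫ (Y ↘ (Spec (CommRingCat.of k))) =
      Spec.map (CommRingCat.ofHom (algebraMap k Γ(Y, V))) := (Spec.map_preimage _).symm
  obtain ⟨Q, hQ, ⟨e⟩⟩ := exists_prime_of_point_prod (X ↘ (Spec (CommRingCat.of k)))
    (Y ↘ (Spec (CommRingCat.of k))) z x hx.symm V hV hyV (stalkAlgebra_eq k X x) halgV
  have hA : EGA4.IsGeomNormal k (X.presheaf.stalk x) := by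
    intro k' _ _ hfin
    haveI := hfin
    exact isNormalRing_tensor_of_stalks k X x k' (fun x' _ => hX k' x')
  have hB : EGA4.IsNormalRing Γ(Y, V) := ega4_isNormalRing_sections hY hV
  have hT : EGA4.IsNormalRing (X.presheaf.stalk x ⊗[k] Γ(Y, V)) :=
    Groth.Agent.H48.TensorNormal.isNormalRing_tensor k _ _ hA hB
  exact normal_of_ringEquiv e (hT Q)

end Groth.Agent.H25.ProdNormal
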