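import Mathlib
import Groth.Agent.H13.ReducedTensor

set_option autoImplicit false
universe u v w
open TensorProduct

namespace Groth.Agent.H25.RedTensor

variable (k : Type u) [Field k]

theorem isReduced_tensorProduct_of_isNoetherianRing (A : Type w) [CommRing A] [Algebra k A]
    [Algebra.IsGeometricallyReduced k A] (D : Type v) [CommRing D] [Algebra k D]
    [IsNoetherianRing D] [IsReduced D] : IsReduced (A ⊗[k] D) := by
  obtain ⟨ι, _, _, L, _, _, φ, hφ⟩ := Groth.Agent.H13.exists_injective_algHom_pi_field k D
  have hinj : Function.Injective (Algebra.TensorProduct.map (AlgHom.id A A) φ) :=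
    Module.Flat.lTensor_preserves_injective_linearMap (M := A) φ.toLinearMap hφ
  haveI : ∀ i, IsReduced (A ⊗[k] L i) := fun i => by
    haveI : IsReduced (L i ⊗[k] A) :=
      Groth.Agent.H13.isReduced_tensorProduct_of_isGeometricallyReduced k A (L i)
    exact isReduced_of_injective (Algebra.TensorProduct.comm k A (L i))
      (Algebra.TensorProduct.comm k A (L i)).injective
  haveI : IsReduced (∀ i, A ⊗[k] L i) := inferInstance
  haveI : IsReduced (A ⊗[k] (∀ i, L i)) :=
    isReduced_of_injective (Algebra.TensorProduct.piRight k k A L)
      (Algebra.TensorProduct.piRight k k A L).injective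
  exact isReduced_of_injective _ hinj

/-- geometrically reduced ⊗ reduced is reduced -/
theorem isReduced_tensorProduct (A : Type w) [CommRing A]
    [Algebra k A] [Algebra.IsGeometricallyReduced k A] (B : Type v) [CommRing B] [Algebra k B]
    [IsReduced B] : IsReduced (A ⊗[k] B) := by
  apply IsReduced.tensorProduct_of_flat_of_forall_fg
  intro D hD
  haveI : Algebra.FiniteType k D := (Subalgebra.fg_iff_finiteType D).mp hD
  haveI : IsNoetherianRing D := Algebra.FiniteType.isNoetherianRing k D
  haveI : IsReduced D := isReduced_of_injective D.val Subtype.val_injective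
  exact isReduced_tensorProduct_of_isNoetherianRing k A D

end Groth.Agent.H25.RedTensor
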