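import Mathlib
import Groth.Prelude.Def_Curv2
import Groth.Agent.H25.StalkProd
import Groth.Agent.H25.RedTensor
import Groth.Agent.H25.GeomRedAt

set_option autoImplicit false
universe u
open CategoryTheory CategoryTheory.Limits AlgebraicGeometry TensorProduct
attribute [local instance] Curv2.stalkAlgebra

namespace Groth.Agent.H25.ProdRed

open Groth.Agent.H25.StalkProd Groth.Agent.H25.GeomRedAt

theorem isReduced_stalk_prod (k : Type u) [Field k] (X : Scheme.{u}) [X.Over (Spec (CommRingCat.of k))] (Y : Scheme.{u}) [Y.Over (Spec (CommRingCat.of k))] [IsReduced Y]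
    (x : ↥X) (hx : Curv2.IsGeomReducedAt k X x) (z : ↥(pullback (X ↘ (Spec (CommRingCat.of k))) (Y ↘ (Spec (CommRingCat.of k)))))
    (hz : pullback.fst (X ↘ (Spec (CommRingCat.of k))) (Y ↘ (Spec (CommRingCat.of k))) z = x) :
    _root_.IsReduced ↥((pullback (X ↘ (Spec (CommRingCat.of k))) (Y ↘ (Spec (CommRingCat.of k)))).presheaf.stalk z) := by
  obtain ⟨_, ⟨V, hV : IsAffineOpen V, rfl⟩, hyV, -⟩ :=
    Y.isBasis_affineOpens.exists_subset_of_mem_open
      (Set.mem_univ (pullback.snd (X ↘ (Spec (CommRingCat.of k))) (Y ↘ (Spec (CommRingCat.of k))) z))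
      isOpen_univ
  letI : Algebra k Γ(Y, V) :=
    (Spec.preimage (hV.fromSpec ≫ (Y ↘ (Spec (CommRingCat.of k))))).hom.toAlgebra
  have halgV : hV.fromSpec ≫ (Y ↘ (Spec (CommRingCat.of k))) =
      Spec.map (CommRingCat.ofHom (algebraMap k Γ(Y, V))) := (Spec.map_preimage _).symm
  obtain ⟨Q, hQ, ⟨e⟩⟩ := exists_prime_of_point_prod (X ↘ (Spec (CommRingCat.of k)))
    (Y ↘ (Spec (CommRingCat.of k))) z x hz V hV hyV (stalkAlgebra_eq k X x) halgV
  haveI : Algebra.IsGeometricallyReduced k (X.presheaf.stalk x) := (isGeomReducedAt_iff k X x).mp hx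
  haveI : IsReduced (X.presheaf.stalk x ⊗[k] Γ(Y, V)) :=
    Groth.Agent.H25.RedTensor.isReduced_tensorProduct k _ _
  exact isReduced_of_ringEquiv e

end Groth.Agent.H25.ProdRed
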