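import Mathlib

set_option autoImplicit false
universe u
open CategoryTheory CategoryTheory.Limits AlgebraicGeometry TopologicalSpace

namespace Groth.Agent.H25.PtIntCount

section Top

variable {Y : Type*} [TopologicalSpace Y]

/-- the connected component containing an irreducible component -/
noncomputable def comp (Z : ↥(irreducibleComponents Y)) : _root_.ConnectedComponents Y :=
  _root_.ConnectedComponents.mk Z.2.1.nonempty.some

theorem comp_eq (Z : ↥(irreducibleComponents Y)) {z : Y} (hz : z ∈ Z.1) :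
    comp Z = _root_.ConnectedComponents.mk z := by
  unfold comp
  rw [ConnectedComponents.coe_eq_coe']
  exact (IsIrreducible.isConnected Z.2.1).isPreconnected.subset_connectedComponent hz
    Z.2.1.nonempty.some_mem

theorem comp_surjective : Function.Surjective (comp (Y := Y)) := by
  intro c
  obtain ⟨y, rfl⟩ := ConnectedComponents.surjective_coe c
  exact ⟨⟨irreducibleComponent y, irreducibleComponent_mem_irreducibleComponents y⟩,
    comp_eq _ mem_irreducibleComponent⟩

theorem disjoint_of_comp_injective (h : Function.Injective (comp (Y := Y)))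
    (Z₁ Z₂ : ↥(irreducibleComponents Y)) {y : Y} (h₁ : y ∈ Z₁.1) (h₂ : y ∈ Z₂.1) : Z₁ = Z₂ :=
  h ((comp_eq Z₁ h₁).trans (comp_eq Z₂ h₂).symm)

theorem comp_injective_of_disjoint (hfin : (irreducibleComponents Y).Finite)
    (hdisj : ∀ Z₁ Z₂ : ↥(irreducibleComponents Y), ∀ y : Y, y ∈ Z₁.1 → y ∈ Z₂.1 → Z₁ = Z₂) :
    Function.Injective (comp (Y := Y)) := by
  intro Z₁ Z₂ h
  obtain ⟨z₁, hz₁⟩ := Z₁.2.1.nonempty
  obtain ⟨z₂, hz₂⟩ := Z₂.2.1.nonempty
  rw [comp_eq Z₁ hz₁, comp_eq Z₂ hz₂, ConnectedComponents.coe_eq_coe'] at h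
  -- `Z₂` is clopen
  have hopen : IsOpen Z₂.1 := by
    have hcl : IsClosed (⋃₀ (irreducibleComponents Y \ {Z₂.1})) := by
      rw [Set.sUnion_eq_biUnion]
      exact (hfin.subset Set.sdiff_subset).isClosed_biUnion
        fun W hW => isClosed_of_mem_irreducibleComponents W hW.1
    have heq : Z₂.1 = (⋃₀ (irreducibleComponents Y \ {Z₂.1}))ᶜ := by
      ext y
      constructor
      · rintro hy ⟨W, ⟨hW, hWne⟩, hyW⟩
        exact hWne (congrArg Subtype.val (hdisj ⟨W, hW⟩ Z₂ y hyW hy))
      · intro hy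
        by_contra hyZ
        apply hy
        refine ⟨irreducibleComponent y, ⟨irreducibleComponent_mem_irreducibleComponents y, ?_⟩,
          mem_irreducibleComponent⟩
        intro heq
        exact hyZ (heq ▸ mem_irreducibleComponent)
    rw [heq]
    exact hcl.isOpen_compl
  have hclopen : IsClopen Z₂.1 := ⟨isClosed_of_mem_irreducibleComponents _ Z₂.2, hopen⟩
  have hsub : connectedComponent z₂ ⊆ Z₂.1 := hclopen.connectedComponent_subset hz₂
  exact hdisj Z₁ Z₂ z₁ hz₁ (hsub h)

theorem card_eq_iff_disjoint (hfin : (irreducibleComponents Y).Finite) :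
    Nat.card ↥(irreducibleComponents Y) = Nat.card (_root_.ConnectedComponents Y) ↔
      ∀ Z₁ Z₂ : ↥(irreducibleComponents Y), ∀ y : Y, y ∈ Z₁.1 → y ∈ Z₂.1 → Z₁ = Z₂ := by
  haveI : Finite ↥(irreducibleComponents Y) := hfin.to_subtype
  constructor
  · intro hcard Z₁ Z₂ y h₁ h₂
    have hbij : Function.Bijective (comp (Y := Y)) :=
      (Nat.bijective_iff_surjective_and_card _).mpr ⟨comp_surjective, hcard⟩
    exact disjoint_of_comp_injective hbij.injective Z₁ Z₂ h₁ h₂
  · intro hdisj
    exact Nat.card_congr (Equiv.ofBijective _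
      ⟨comp_injective_of_disjoint hfin hdisj, comp_surjective⟩)

end Top

section Sch

variable (Y : Scheme.{u})

/-- if the local ring at `y` is a domain then `y` lies on a unique irreducible component -/
theorem eq_of_mem_of_isDomain_stalk (y : Y) [IsDomain (Y.presheaf.stalk y)]
    (Z₁ Z₂ : ↥(irreducibleComponents Y)) (h₁ : y ∈ Z₁.1) (h₂ : y ∈ Z₂.1) : Z₁ = Z₂ := by
  have key : ∀ Z : ↥(irreducibleComponents Y), y ∈ Z.1 →
      Z.1 = closure {(Y.fromSpecStalk y).base ⟨⊥, Ideal.isPrime_bot⟩} := by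
    intro Z hy
    obtain ⟨ξ, hξ⟩ := QuasiSober.sober Z.2.1 (isClosed_of_mem_irreducibleComponents _ Z.2)
    have h1 : ξ ⤳ y := by
      rw [specializes_iff_mem_closure, hξ.def]; exact hy
    obtain ⟨p, hp⟩ : ξ ∈ Set.range (Y.fromSpecStalk y).base := by
      rw [Scheme.range_fromSpecStalk]; exact h1
    have h2 : (⟨⊥, Ideal.isPrime_bot⟩ : PrimeSpectrum (Y.presheaf.stalk y)) ⤳ p :=
      (PrimeSpectrum.le_iff_specializes _ _).mp bot_le
    have h3 : (Y.fromSpecStalk y).base ⟨⊥, Ideal.isPrime_bot⟩ ⤳ ξ :=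
      hp ▸ h2.map (Y.fromSpecStalk y).continuous
    have h4 : Z.1 ⊆ closure {(Y.fromSpecStalk y).base ⟨⊥, Ideal.isPrime_bot⟩} := by
      rw [← hξ.def]
      exact closure_minimal (Set.singleton_subset_iff.mpr (specializes_iff_mem_closure.mp h3))
        isClosed_closure
    exact subset_antisymm h4 (Z.2.2 isIrreducible_singleton.closure h4)
  exact Subtype.ext ((key Z₁ h₁).trans (key Z₂ h₂).symm)

/-- on a reduced Noetherian scheme with pairwise disjoint irreducible components all local rings
are domains -/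
theorem isDomain_stalk_of_disjoint [IsNoetherian Y] [IsReduced Y]
    (hdisj : ∀ Z₁ Z₂ : ↥(irreducibleComponents Y), ∀ y : Y, y ∈ Z₁.1 → y ∈ Z₂.1 → Z₁ = Z₂)
    (y : Y) : IsDomain (Y.presheaf.stalk y) := by
  have hZ := irreducibleComponent_mem_irreducibleComponents y
  have hyW : y ∈ Y.irreducibleComponentOpen (irreducibleComponent y) := by
    rintro ⟨Z', ⟨hZ', hne⟩, hyZ'⟩
    exact hne (congrArg Subtype.val (hdisj ⟨Z', hZ'⟩ ⟨_, hZ⟩ y hyZ' mem_irreducibleComponent))
  have hWZ : (Y.irreducibleComponentOpen (irreducibleComponent y) : Set Y) ⊆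
      irreducibleComponent y := by
    intro w hw
    by_contra hwZ
    exact hw ⟨irreducibleComponent w, ⟨irreducibleComponent_mem_irreducibleComponents w,
      fun h => hwZ (h ▸ mem_irreducibleComponent)⟩, mem_irreducibleComponent⟩
  have hWirr : IsIrreducible (Y.irreducibleComponentOpen (irreducibleComponent y) : Set Y) :=
    ⟨⟨y, hyW⟩, isIrreducible_irreducibleComponent.isPreirreducible.open_subset
      (Y.irreducibleComponentOpen (irreducibleComponent y)).2 hWZ⟩
  haveI : IrreducibleSpace ↥(Y.irreducibleComponentOpen (irreducibleComponent y) : Scheme) :=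
    (isIrreducible_iff_irreducibleSpace).mp hWirr
  haveI : IsIntegral (Y.irreducibleComponentOpen (irreducibleComponent y) : Scheme) :=
    isIntegral_of_irreducibleSpace_of_isReduced _
  have hdom : IsDomain ((Y.irreducibleComponentOpen (irreducibleComponent y) : Scheme).presheaf.stalk
      ⟨y, hyW⟩) := inferInstance
  exact MulEquiv.isDomain _
    ((Y.irreducibleComponentOpen (irreducibleComponent y)).stalkIso
      ⟨y, hyW⟩).commRingCatIsoToRingEquiv.symm.toMulEquiv

theorem forall_isDomain_stalk_iff [IsNoetherian Y] :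
    (∀ y : Y, IsDomain (Y.presheaf.stalk y)) ↔
      (IsReduced Y ∧ Nat.card ↥(irreducibleComponents Y) =
        Nat.card (_root_.ConnectedComponents Y)) := by
  have hfin : (irreducibleComponents Y).Finite :=
    TopologicalSpace.NoetherianSpace.finite_irreducibleComponents
  rw [card_eq_iff_disjoint hfin]
  constructor
  · intro h
    refine ⟨?_, fun Z₁ Z₂ y h₁ h₂ => ?_⟩
    · haveI : ∀ y : Y, _root_.IsReduced (Y.presheaf.stalk y) := fun y =>
        haveI := h y
        inferInstance
      exact isReduced_of_isReduced_stalk Y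
    · haveI := h y
      exact eq_of_mem_of_isDomain_stalk Y y Z₁ Z₂ h₁ h₂
  · rintro ⟨hred, hdisj⟩ y
    exact isDomain_stalk_of_disjoint Y hdisj y

end Sch

end Groth.Agent.H25.PtIntCount
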