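import Mathlib.AlgebraicGeometry.PullbackCarrier

set_option autoImplicit false
universe u
open CategoryTheory CategoryTheory.Limits AlgebraicGeometry TopologicalSpace

/-! Points of a fibre product with prescribed projections (helper25). -/

namespace Groth.Agent.H25

open AlgebraicGeometry.Scheme.Pullback in
/-- If the residue field extension at `T.y` is an isomorphism, the fibre of `X ×[S] Y` over the
triplet `T` is a single point. -/
lemma subsingleton_spec_tensor {X Y S : Scheme.{u}} {f : X ⟶ S} {g : Y ⟶ S} (T : Triplet f g)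
    [IsIso (g.residueFieldMap T.y)] : Subsingleton (Spec T.tensor) := by
  have h0 : IsIso ((S.residueFieldCongr T.hy).inv ≫ g.residueFieldMap T.y) := inferInstance
  have hiso : IsIso (T.tensorInl) := by
    unfold Triplet.tensorInl
    exact pushout_inl_iso_of_right_iso _ _
  let e : X.residueField T.x ≃+* T.tensor := (asIso T.tensorInl).commRingCatIsoToRingEquiv
  have hbot : ∀ p : PrimeSpectrum T.tensor, p.asIdeal = ⊥ := by
    intro p
    rw [eq_bot_iff]
    intro a ha
    by_contra hne
    have hu : IsUnit a := by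
      have h1 : e.symm a ≠ 0 := fun h => hne (by simpa using congrArg e h)
      have h2 : IsUnit (e.symm a) := isUnit_iff_ne_zero.mpr h1
      simpa using h2.map e
    exact p.isPrime.ne_top (Ideal.eq_top_of_isUnit_mem _ ha hu)
  refine ⟨fun p q => ?_⟩
  exact PrimeSpectrum.ext ((hbot p).trans (hbot q).symm)

open AlgebraicGeometry.Scheme.Pullback in
lemma eq_of_fst_eq_of_snd_eq {X Y S : Scheme.{u}} {f : X ⟶ S} {g : Y ⟶ S}
    (t₁ t₂ : ↑(pullback f g)) (h1 : pullback.fst f g t₁ = pullback.fst f g t₂)
    (h2 : pullback.snd f g t₁ = pullback.snd f g t₂)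
    [IsIso (g.residueFieldMap (pullback.snd f g t₂))] : t₁ = t₂ := by
  apply carrierEquiv.injective
  rw [carrierEquiv_eq_iff]
  have e : Triplet.ofPoint t₁ = Triplet.ofPoint t₂ := Triplet.ext h1 h2
  refine ⟨e, ?_⟩
  have : IsIso (g.residueFieldMap (Triplet.ofPoint t₂).y) :=
    ‹IsIso (g.residueFieldMap (pullback.snd f g t₂))›
  have hs : Subsingleton (Spec (Triplet.ofPoint t₂).tensor) :=
    subsingleton_spec_tensor (Triplet.ofPoint t₂)
  exact hs.elim _ _

end Groth.Agent.H25
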