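import Groth.Agent.H25.LQC

set_option autoImplicit false
universe u

namespace Groth.Agent.H25

variable {X Y : Type*} [TopologicalSpace X] [TopologicalSpace Y]

/-- quasi-homeomorphism: taking preimages is a bijection on open sets -/
def IsQuasiHomeo (f : X → Y) : Prop :=
  (∀ U₁ U₂ : Set Y, IsOpen U₁ → IsOpen U₂ → f ⁻¹' U₁ = f ⁻¹' U₂ → U₁ = U₂) ∧
    (∀ V : Set X, IsOpen V → ∃ U : Set Y, IsOpen U ∧ f ⁻¹' U = V)

theorem isQuasiHomeo_iff_bijective {f : X → Y} (hf : Continuous f) :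
    Function.Bijective (fun U : TopologicalSpace.Opens Y =>
      (⟨f ⁻¹' (U : Set Y), U.isOpen.preimage hf⟩ : TopologicalSpace.Opens X)) ↔
      IsQuasiHomeo f := by
  constructor
  · rintro ⟨hi, hs⟩
    refine ⟨fun U₁ U₂ h₁ h₂ e => ?_, fun V hV => ?_⟩
    · have := @hi ⟨U₁, h₁⟩ ⟨U₂, h₂⟩ (TopologicalSpace.Opens.ext e)
      exact congrArg (fun U : TopologicalSpace.Opens Y => (U : Set Y)) this
    · obtain ⟨U, hU⟩ := hs ⟨V, hV⟩
      exact ⟨U, U.isOpen, congrArg (fun U : TopologicalSpace.Opens X => (U : Set X)) hU⟩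
  · rintro ⟨hi, hs⟩
    refine ⟨fun U₁ U₂ e => ?_, fun V => ?_⟩
    · apply TopologicalSpace.Opens.ext
      exact hi _ _ U₁.isOpen U₂.isOpen
        (congrArg (fun U : TopologicalSpace.Opens X => (U : Set X)) e)
    · obtain ⟨U, hU, e⟩ := hs V V.isOpen
      exact ⟨⟨U, hU⟩, TopologicalSpace.Opens.ext e⟩

namespace IsQuasiHomeo

variable {f : X → Y}

theorem preimage_subset_iff (h : IsQuasiHomeo f) {U₁ U₂ : Set Y} (h₁ : IsOpen U₁)
    (h₂ : IsOpen U₂) : f ⁻¹' U₁ ⊆ f ⁻¹' U₂ ↔ U₁ ⊆ U₂ := by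
  refine ⟨fun hsub => ?_, fun hsub => Set.preimage_mono hsub⟩
  have : f ⁻¹' (U₁ ∪ U₂) = f ⁻¹' U₂ := by
    rw [Set.preimage_union]; exact Set.union_eq_self_of_subset_left hsub
  have := h.1 _ _ (h₁.union h₂) h₂ this
  rw [← this]; exact Set.subset_union_left

/-- the image of a quasi-homeomorphism meets every nonempty locally closed set -/
theorem nonempty_preimage (h : IsQuasiHomeo f) {L : Set Y} (hL : IsLocallyClosed L)
    (hne : L.Nonempty) : (f ⁻¹' L).Nonempty := by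
  obtain ⟨U, C, hU, hC, rfl⟩ := hL
  by_contra hcon
  rw [Set.not_nonempty_iff_eq_empty] at hcon
  have h1 : f ⁻¹' U ⊆ f ⁻¹' Cᶜ := by
    intro x hx hxC
    have : x ∈ f ⁻¹' (U ∩ C) := ⟨hx, hxC⟩
    rw [hcon] at this; exact this
  have h2 := (h.preimage_subset_iff hU hC.isOpen_compl).1 h1
  obtain ⟨y, hyU, hyC⟩ := hne
  exact h2 hyU hyC

theorem inter_range_nonempty (h : IsQuasiHomeo f) (L : Set Y) (hL : IsLocallyClosed L)
    (hne : L.Nonempty) : (L ∩ Set.range f).Nonempty := by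
  obtain ⟨x, hx⟩ := h.nonempty_preimage hL hne
  exact ⟨f x, hx, x, rfl⟩

theorem eq_of_preimage_eq (h : IsQuasiHomeo f) {Z Z' : Set Y} (hZ : IsLQC Z) (hZ' : IsLQC Z')
    (e : f ⁻¹' Z = f ⁻¹' Z') : Z = Z' := by
  refine IsLQC.eq_of_inter_eq h.inter_range_nonempty hZ hZ' ?_
  ext y
  constructor
  · rintro ⟨hy, x, rfl⟩
    have : x ∈ f ⁻¹' Z' := by rw [← e]; exact hy
    exact ⟨this, x, rfl⟩
  · rintro ⟨hy, x, rfl⟩
    have : x ∈ f ⁻¹' Z := by rw [e]; exact hy
    exact ⟨this, x, rfl⟩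

/-- restriction of a quasi-homeomorphism to a locally quasi-constructible subset -/
theorem restrictPreimage (h : IsQuasiHomeo f) {Y' : Set Y} (hY' : IsLQC Y') :
    IsQuasiHomeo (Y'.restrictPreimage f) := by
  constructor
  · intro U₁ U₂ h₁ h₂ e
    obtain ⟨W₁, hW₁, rfl⟩ := isOpen_induced_iff.1 h₁
    obtain ⟨W₂, hW₂, rfl⟩ := isOpen_induced_iff.1 h₂
    have key : W₁ ∩ Y' = W₂ ∩ Y' := by
      apply h.eq_of_preimage_eq (hY'.inter_isOpen hW₁) (hY'.inter_isOpen hW₂)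
      ext x
      constructor
      · rintro ⟨hx1, hx2⟩
        have : (⟨x, hx2⟩ : f ⁻¹' Y') ∈ Y'.restrictPreimage f ⁻¹' (Subtype.val ⁻¹' W₂) := by
          rw [← e]; exact hx1
        exact ⟨this, hx2⟩
      · rintro ⟨hx1, hx2⟩
        have : (⟨x, hx2⟩ : f ⁻¹' Y') ∈ Y'.restrictPreimage f ⁻¹' (Subtype.val ⁻¹' W₁) := by
          rw [e]; exact hx1
        exact ⟨this, hx2⟩
    ext ⟨y, hy⟩
    constructor
    · intro hy1
      have : y ∈ W₂ ∩ Y' := by rw [← key]; exact ⟨hy1, hy⟩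
      exact this.1
    · intro hy1
      have : y ∈ W₁ ∩ Y' := by rw [key]; exact ⟨hy1, hy⟩
      exact this.1
  · intro V hV
    obtain ⟨W, hW, rfl⟩ := isOpen_induced_iff.1 hV
    obtain ⟨U, hU, rfl⟩ := h.2 W hW
    exact ⟨Subtype.val ⁻¹' U, hU.preimage continuous_subtype_val, rfl⟩

theorem compactSpace_iff (h : IsQuasiHomeo f) (hf : Continuous f) :
    CompactSpace Y ↔ CompactSpace X := by
  constructor
  · intro hY
    refine ⟨isCompact_of_finite_subcover ?_⟩
    intro ι V hV hcov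
    choose U hU hUV using fun i => h.2 (V i) (hV i)
    have hcovY : (Set.univ : Set Y) ⊆ ⋃ i, U i := by
      have : f ⁻¹' (⋃ i, U i) = f ⁻¹' Set.univ := by
        rw [Set.preimage_iUnion, Set.preimage_univ]
        apply Set.eq_univ_of_univ_subset
        simpa [hUV] using hcov
      rw [h.1 _ _ (isOpen_iUnion hU) isOpen_univ this]
    obtain ⟨t, ht⟩ := isCompact_univ.elim_finite_subcover U hU hcovY
    refine ⟨t, ?_⟩
    intro x _
    have : f x ∈ ⋃ i ∈ t, U i := ht trivial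
    simp only [Set.mem_iUnion] at this ⊢
    obtain ⟨i, hi, hx⟩ := this
    refine ⟨i, hi, ?_⟩
    rw [← hUV i]; exact hx
  · intro hX
    refine ⟨isCompact_of_finite_subcover ?_⟩
    intro ι U hU hcov
    have hcovX : (Set.univ : Set X) ⊆ ⋃ i, f ⁻¹' U i := by
      rw [← Set.preimage_iUnion]
      intro x _
      exact hcov trivial
    obtain ⟨t, ht⟩ := isCompact_univ.elim_finite_subcover (fun i => f ⁻¹' U i)
      (fun i => (hU i).preimage hf) hcovX
    refine ⟨t, ?_⟩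
    have : f ⁻¹' (⋃ i ∈ t, U i) = f ⁻¹' Set.univ := by
      rw [Set.preimage_univ]
      apply Set.eq_univ_of_univ_subset
      simpa [Set.preimage_iUnion] using ht
    have e := h.1 _ _ (isOpen_biUnion fun i _ => hU i) isOpen_univ this
    exact e.symm.subset

theorem isCompact_iff (h : IsQuasiHomeo f) (hf : Continuous f) {Y' : Set Y} (hY' : IsLQC Y') :
    IsCompact Y' ↔ IsCompact (f ⁻¹' Y') := by
  rw [isCompact_iff_compactSpace, isCompact_iff_compactSpace]
  exact (h.restrictPreimage hY').compactSpace_iff hf.restrictPreimage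

theorem noetherianSpace_iff (h : IsQuasiHomeo f) (hf : Continuous f) :
    TopologicalSpace.NoetherianSpace Y ↔ TopologicalSpace.NoetherianSpace X := by
  rw [TopologicalSpace.noetherianSpace_iff_opens, TopologicalSpace.noetherianSpace_iff_opens]
  constructor
  · intro hY V
    obtain ⟨U, hU, e⟩ := h.2 V V.isOpen
    rw [← e]
    exact (h.isCompact_iff hf (IsLocallyClosed.isQC hU.isLocallyClosed).isLQC).1 (hY ⟨U, hU⟩)
  · intro hX U
    exact (h.isCompact_iff hf (IsLocallyClosed.isQC U.isOpen.isLocallyClosed).isLQC).2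
      (hX ⟨f ⁻¹' U, U.isOpen.preimage hf⟩)

end IsQuasiHomeo

end Groth.Agent.H25
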