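import Groth.Agent.H25.SchDomField
import Groth.Agent.H22.RedImm
import Groth.Prelude.Def_FDesc

set_option autoImplicit false
universe u
open CategoryTheory CategoryTheory.Limits AlgebraicGeometry TopologicalSpace Opposite

namespace Groth.Agent.H25.RedClosureBC

open Groth.Agent.H25.SchDom

section General

/-- the kernel of a morphism from a reduced scheme is the vanishing ideal of the closure of its
range. -/
theorem ker_eq_vanishingIdeal_of_isReduced {W X : Scheme.{u}} [IsReduced W] (f : W ⟶ X) :
    f.ker = Scheme.IdealSheafData.vanishingIdeal (.closure (Set.range f)) := by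
  rw [← Scheme.IdealSheafData.map_bot, ← Scheme.nilradical_eq_bot (X := W),
    ← Scheme.IdealSheafData.vanishingIdeal_top, Scheme.IdealSheafData.map_vanishingIdeal]
  congr 2
  simp

variable {Y : Scheme.{u}} {ι : Type u} {Z : ι → Scheme.{u}} {h : ∀ i, Z i ⟶ Y}

/-- the target of a schematically dominant family of reduced schemes is reduced. -/
theorem isReduced_of_isSchDom [∀ i, IsReduced (Z i)] (hd : IsSchDom Z h) : IsReduced Y := by
  refine ⟨fun V => ⟨fun t ht => ?_⟩⟩
  apply hd
  intro i
  exact (ht.map ((h i).app V).hom).eq_zero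

/-- a jointly dominant family into a reduced scheme is schematically dominant. -/
theorem isSchDom_of_dense [IsReduced Y] (hdense : Dense (⋃ i, Set.range (h i))) :
    IsSchDom Z h := by
  intro V t ht
  rw [← basicOpen_eq_bot_iff]
  by_contra hne
  have hne' : ((Y.basicOpen t : Y.Opens) : Set Y).Nonempty := by
    rw [Set.nonempty_iff_ne_empty]
    intro h0
    exact hne (Opens.ext h0)
  obtain ⟨y, hy, hy'⟩ := hdense.inter_open_nonempty _ (Y.basicOpen t).2 hne'
  obtain ⟨i, z, rfl⟩ := Set.mem_iUnion.mp hy'
  have hz : z ∈ (h i) ⁻¹ᵁ (Y.basicOpen t) := hy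
  rw [Scheme.preimage_basicOpen, ht i, Scheme.basicOpen_zero] at hz
  exact hz

end General

section Main
variable {k : Type u} [Field k] {X S' : Scheme.{u}} (p : X ⟶ Spec (CommRingCat.of k))
  (q : S' ⟶ Spec (CommRingCat.of k)) {ι : Type u} (Z : ι → Scheme.{u}) (f : ∀ i, Z i ⟶ X)

theorem range_bcMap (i : ι) :
    Set.range (bcMap p q f i) = (pullback.fst p q) ⁻¹' Set.range (f i) := by
  have H := isPullback_bcMap p q f i
  have e : H.isoPullback.hom ≫ pullback.snd (f i) (pullback.fst p q) = bcMap p q f i :=
    H.isoPullback_hom_snd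
  have hs : Set.range H.isoPullback.hom = Set.univ :=
    Set.range_eq_univ.mpr H.isoPullback.hom.homeomorph.surjective
  rw [← e, Scheme.Hom.comp_base, TopCat.coe_comp, Set.range_comp, hs, Set.image_univ,
    Scheme.Pullback.range_snd]

/-- **Reduced closure of a geometrically reduced family commutes with base change.** -/
theorem vanishingIdeal_closure_bc (hopen : IsOpenMap (pullback.fst p q))
    (hZ : ∀ i, IsReduced (Z i)) (hZ' : ∀ i, IsReduced (pullback (f i ≫ p) q)) :
    Scheme.IdealSheafData.vanishingIdeal (Closeds.closure (⋃ i, Set.range (bcMap p q f i))) =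
      (Scheme.IdealSheafData.vanishingIdeal (Closeds.closure (⋃ i, Set.range (f i)))).comap
        (pullback.fst p q) := by
  set C : Closeds X := Closeds.closure (⋃ i, Set.range (f i)) with hC
  set I := Scheme.IdealSheafData.vanishingIdeal C with hI
  haveI : IsReduced I.subscheme := Groth.Agent.H22.isReduced_subscheme_vanishingIdeal C
  have hle : ∀ i, I.subschemeι.ker ≤ (f i).ker := by
    intro i
    rw [Scheme.IdealSheafData.ker_subschemeι, ker_eq_vanishingIdeal_of_isReduced]
    apply Scheme.IdealSheafData.vanishingIdeal_antimono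
    rw [← SetLike.coe_subset_coe]
    exact closure_mono (Set.subset_iUnion (fun i => Set.range (f i)) i)
  let h : ∀ i, Z i ⟶ I.subscheme := fun i => IsClosedImmersion.lift I.subschemeι (f i) (hle i)
  have hfac : ∀ i, h i ≫ I.subschemeι = f i := fun i => IsClosedImmersion.lift_fac _ _ _
  have hj := I.subschemeι.isClosedEmbedding
  have hdense : Dense (⋃ i, Set.range (h i)) := by
    rw [dense_iff_closure_eq]
    apply hj.injective.image_injective
    rw [← hj.closure_image_eq, Set.image_iUnion, Set.image_univ,
      Scheme.IdealSheafData.range_subschemeι, Scheme.IdealSheafData.coe_support_vanishingIdeal]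
    have : ∀ i, I.subschemeι '' Set.range (h i) = Set.range (f i) := by
      intro i
      rw [← Set.range_comp, ← hfac i]
      rfl
    simp_rw [this]
    rfl
  have hd : IsSchDom Z h := isSchDom_of_dense hdense
  have hd' := isSchDom_pullback_of_field (I.subschemeι ≫ p) q hd
  have hsrc : ∀ i, IsReduced (pullback (h i ≫ I.subschemeι ≫ p) q) := by
    intro i
    have e : h i ≫ I.subschemeι ≫ p = f i ≫ p := by rw [← Category.assoc, hfac]
    rw [e]
    exact hZ' i
  haveI : IsReduced (pullback (I.subschemeι ≫ p) q) :=
    isReduced_of_isSchDom (Z := fun i => pullback (h i ≫ I.subschemeι ≫ p) q)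
      (h := bcMap (I.subschemeι ≫ p) q h) hd'
  let e : pullback (pullback.fst p q) I.subschemeι ≅ pullback (I.subschemeι ≫ p) q :=
    pullbackSymmetry _ _ ≪≫ pullbackRightPullbackFstIso p q I.subschemeι
  haveI : IsReduced (pullback (pullback.fst p q) I.subschemeι) :=
    isReduced_of_isOpenImmersion e.hom
  show _ = (pullback.fst (pullback.fst p q) I.subschemeι).ker
  rw [ker_eq_vanishingIdeal_of_isReduced]
  congr 1
  apply Closeds.ext
  rw [Closeds.coe_closure, Closeds.coe_closure, Scheme.Pullback.range_fst,
    Scheme.IdealSheafData.range_subschemeι, Scheme.IdealSheafData.coe_support_vanishingIdeal]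
  simp_rw [range_bcMap]
  rw [← Set.preimage_iUnion, ← hopen.preimage_closure_eq_closure_preimage
    (pullback.fst p q).continuous]
  have : ((C : Closeds X) : Set X) = closure (⋃ i, Set.range (f i)) := rfl
  rw [this, ((isClosed_closure).preimage (pullback.fst p q).continuous).closure_eq]

end Main

section Geom
variable {k : Type u} [Field k] {W : Scheme.{u}} (g : W ⟶ Spec (CommRingCat.of k))

theorem isReduced_bc_of_isGeomReducedAt (hg : ∀ w, FBase.IsGeomReducedAt g w)
    (K : Type u) [Field K] [Algebra k K] :
    IsReduced (pullback g (Spec.map (CommRingCat.ofHom (algebraMap k K)))) := by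
  haveI : ∀ x' : ↥(pullback g (Spec.map (CommRingCat.ofHom (algebraMap k K)))),
      _root_.IsReduced ((pullback g (Spec.map (CommRingCat.ofHom (algebraMap k K)))).presheaf.stalk
        x') := fun x' => hg _ K x' rfl
  exact isReduced_of_isReduced_stalk _

theorem isReduced_of_isGeomReducedAt (hg : ∀ w, FBase.IsGeomReducedAt g w) : IsReduced W := by
  haveI := isReduced_bc_of_isGeomReducedAt g hg k
  haveI : IsIso (Spec.map (CommRingCat.ofHom (algebraMap k k))) := by
    rw [show CommRingCat.ofHom (algebraMap k k) = 𝟙 _ from rfl, Spec.map_id]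
    infer_instance
  let e : pullback g (Spec.map (CommRingCat.ofHom (algebraMap k k))) ≅ W :=
    asIso (pullback.fst g (Spec.map (CommRingCat.ofHom (algebraMap k k))))
  exact isReduced_of_isOpenImmersion e.inv

end Geom

end Groth.Agent.H25.RedClosureBC
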