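import Groth.Prelude.Def_CAlg2
import Groth.Agent.S1451
import Groth.Agent.H51.EtSource

set_option autoImplicit false
universe u
open FlatMor

namespace Groth.Agent.H25.S1452Aux

open AlgebraicGeometry CategoryTheory Limits

theorem part1 {X Y Z : Scheme.{u}} (f : X ⟶ Y) (g : Y ⟶ Z) [IsIntegral Y] (x : X)
    (hY : CAlg2.IsGeomUnibranch (Y.presheaf.stalk (f x))) (U : X.Opens) (hxU : x ∈ U)
    (het : Etale (U.ι ≫ f ≫ g))
    (hsp : ∃ x' : X, x' ⤳ x ∧ f x' = genericPoint ↑Y) :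
    ∃ U' : X.Opens, x ∈ U' ∧ U' ≤ U ∧ Etale (U'.ι ≫ f) := by
  have het' : Etale ((U.ι ≫ f) ≫ g) := by rwa [Category.assoc]
  haveI : LocallyOfFiniteType ((U.ι ≫ f) ≫ g) := inferInstance
  haveI : LocallyOfFiniteType (U.ι ≫ f) := locallyOfFiniteType_of_comp (U.ι ≫ f) g
  haveI : FormallyUnramified ((U.ι ≫ f) ≫ g) := inferInstance
  haveI : FormallyUnramified (U.ι ≫ f) := FormallyUnramified.of_comp (U.ι ≫ f) g
  let xU : (U : Scheme.{u}) := ⟨x, hxU⟩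
  have hxU' : (U.ι ≫ f) xU = f x := rfl
  obtain ⟨x', hx'x, hx'⟩ := hsp
  have hx'U : x' ∈ U := hx'x.mem_open U.isOpen hxU
  let x'U : (U : Scheme.{u}) := ⟨x', hx'U⟩
  have hsp' : x'U ⤳ xU := by
    rw [← U.ι.isOpenEmbedding.isInducing.specializes_iff]
    exact hx'x
  have h1 := Groth.Agent.S1451.result (U.ι ≫ f) xU (by rw [hxU']; exact hY)
    ⟨x'U, hsp', hx'⟩
    ⟨⊤, trivial, by
      haveI : FormallyUnramified ((⊤ : (U : Scheme.{u}).Opens).ι) := inferInstance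
      exact MorphismProperty.comp_mem _ _ _ this ‹FormallyUnramified (U.ι ≫ f)›⟩
  obtain ⟨W, hW, hWet⟩ := h1
  refine ⟨U.ι ''ᵁ W, ⟨xU, hW, rfl⟩, ?_, ?_⟩
  · rintro _ ⟨a, _, rfl⟩
    exact a.2
  · have : (U.ι ''ᵁ W).ι ≫ f = (U.ι.isoImage W).inv ≫ W.ι ≫ U.ι ≫ f := by
      rw [← Scheme.Hom.isoImage_inv_ι U.ι W]
      simp only [Category.assoc]
    rw [this]
    exact MorphismProperty.comp_mem _ _ _ (inferInstanceAs (Etale (U.ι.isoImage W).inv)) hWet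

theorem part2 {X Y Z : Scheme.{u}} (f : X ⟶ Y) (g : Y ⟶ Z) (x : X)
    (U' : X.Opens) (hxU' : x ∈ U') (het1 : Etale (U'.ι ≫ f)) (het2 : Etale (U'.ι ≫ f ≫ g)) :
    ∃ V : Y.Opens, f x ∈ V ∧ Etale (V.ι ≫ g) := by
  let e := U'.ι ≫ f
  let V : Y.Opens := ⟨Set.range e, e.isOpenMap.isOpen_range⟩
  have hle : Set.range e ⊆ Set.range V.ι := by simp [V]
  let e' : (U' : Scheme.{u}) ⟶ (V : Scheme.{u}) := IsOpenImmersion.lift V.ι e hle
  have he' : e' ≫ V.ι = e := IsOpenImmersion.lift_fac _ _ _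
  have h1 : Etale e' := by
    have : Etale (e' ≫ V.ι) := by rw [he']; exact het1
    exact MorphismProperty.of_postcomp (W := @Etale) (W' := @IsOpenImmersion) e' V.ι
      inferInstance this
  have h2 : Surjective e' := ⟨fun ⟨y, ⟨z, hz⟩⟩ ↦
    ⟨z, by apply V.ι.injective; simp [← Scheme.Hom.comp_apply, he', hz]⟩⟩
  refine ⟨V, ⟨⟨x, hxU'⟩, rfl⟩, ?_⟩
  refine Groth.Agent.H51.etale_of_comp_etale_surjective e' (V.ι ≫ g) ?_
  rw [← Category.assoc, he']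
  simpa [e] using het2

end Groth.Agent.H25.S1452Aux
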