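import Groth.Agent.H25.SepFamAlg

set_option autoImplicit false
universe u
open CategoryTheory CategoryTheory.Limits AlgebraicGeometry TopologicalSpace Opposite TensorProduct

namespace Groth.Agent.H25.SchDom

open Groth.Agent.H25.SepFamAlg

variable {X : Scheme.{u}} {ι : Type u} (Z : ι → Scheme.{u}) (f : ∀ i, Z i ⟶ X)

/-- schematic dominance of a family. -/
def IsSchDom : Prop := ∀ (V : X.Opens) (t : Γ(X, V)), (∀ i, (f i).app V t = 0) → t = 0

/-- affine opens of the `Z i` lying over `U`. -/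
def Idx (U : X.Opens) : Type u :=
  Σ i : ι, {W : (Z i).Opens // IsAffineOpen W ∧ W ≤ (f i) ⁻¹ᵁ U}

variable {Z f}

/-- the ring of the chart. -/
abbrev Idx.ring {U : X.Opens} (j : Idx Z f U) : Type u := Γ(Z j.1, j.2.1)

noncomputable instance Idx.algebra {U : X.Opens} (j : Idx Z f U) : Algebra Γ(X, U) j.ring :=
  ((f j.1).appLE U j.2.1 j.2.2.2).hom.toAlgebra

theorem Idx.algebraMap_apply {U : X.Opens} (j : Idx Z f U) (x : Γ(X, U)) :
    algebraMap Γ(X, U) j.ring x = (f j.1).appLE U j.2.1 j.2.2.2 x := rfl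

theorem sep_of_isSchDom (h : IsSchDom Z f) {U : X.Opens} (hU : IsAffineOpen U) :
    Sep (fun j : Idx Z f U => Algebra.linearMap Γ(X, U) j.ring) := by
  intro a m hm
  have hloc := hU.isLocalization_basicOpen a
  have h0 : algebraMap Γ(X, U) Γ(X, X.basicOpen a) m = 0 := by
    apply h
    intro i
    refine (Z i).IsSheaf.section_ext (fun z hz => ?_)
    have hzU : z ∈ (f i) ⁻¹ᵁ U := X.basicOpen_le a hz
    obtain ⟨W, hW, hzW, hWle⟩ := exists_isAffineOpen_mem_and_subset hzU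
    let j : Idx Z f U := ⟨i, W, hW, hWle⟩
    obtain ⟨n, hn⟩ := hm j
    refine ⟨W ⊓ (f i) ⁻¹ᵁ (X.basicOpen a), inf_le_right, ⟨hzW, hz⟩, ?_⟩
    rw [map_zero]
    -- the unit
    have hunit : IsUnit ((f i).appLE (X.basicOpen a) (W ⊓ (f i) ⁻¹ᵁ (X.basicOpen a)) inf_le_right
        (algebraMap Γ(X, U) Γ(X, X.basicOpen a) a)) :=
      (IsLocalization.Away.algebraMap_isUnit a).map _
    have key : ∀ x : Γ(X, U), (Z i).presheaf.map (homOfLE (inf_le_right :
          W ⊓ (f i) ⁻¹ᵁ (X.basicOpen a) ≤ (f i) ⁻¹ᵁ (X.basicOpen a))).op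
          ((f i).app (X.basicOpen a) (algebraMap Γ(X, U) Γ(X, X.basicOpen a) x)) =
        (Z i).presheaf.map (homOfLE (inf_le_left : W ⊓ (f i) ⁻¹ᵁ (X.basicOpen a) ≤ W)).op
          ((f i).appLE U W hWle x) := by
      intro x
      change ((X.presheaf.map (homOfLE (X.basicOpen_le a)).op ≫ (f i).app (X.basicOpen a)) ≫
        (Z i).presheaf.map _) x = ((f i).appLE U W hWle ≫ (Z i).presheaf.map _) x
      rw [Scheme.Hom.appLE_map, Category.assoc, ← Scheme.Hom.appLE, Scheme.Hom.map_appLE]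
    have e1 := key (a ^ n * m)
    have e2 : (f i).appLE U W hWle (a ^ n * m) = 0 := by
      have : (f i).appLE U W hWle (a ^ n) * (f i).appLE U W hWle m = 0 := hn
      rw [map_mul]
      exact this
    rw [e2, map_zero, map_mul, map_mul, map_mul, map_pow, map_pow, map_pow] at e1
    have hunit' : IsUnit ((Z i).presheaf.map (homOfLE (inf_le_right :
          W ⊓ (f i) ⁻¹ᵁ (X.basicOpen a) ≤ (f i) ⁻¹ᵁ (X.basicOpen a))).op
          ((f i).app (X.basicOpen a) (algebraMap Γ(X, U) Γ(X, X.basicOpen a) a))) := hunit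
    exact ((hunit'.pow n).mul_right_eq_zero).mp e1
  obtain ⟨⟨c, n, rfl⟩, hc⟩ := (IsLocalization.map_eq_zero_iff (Submonoid.powers a) _ m).mp h0
  exact ⟨n, hc⟩

section Chart
variable {X X' Z : Scheme.{u}}

/-- Chart lemma: in a cartesian square `Y = Z ×_X X'`, a function `t` on an affine `U' ⊆ X'`
whose pullback to `Y` vanishes has `1 ⊗ t = 0` in `Γ(Z, W) ⊗ Γ(X', U')` for every affine
`W ⊆ Z` over the affine `U ⊆ X`. -/
theorem one_tmul_eq_zero {Y : Scheme.{u}} {f : Z ⟶ X} {g : X' ⟶ X} {p₁ : Y ⟶ Z} {p₂ : Y ⟶ X'}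
    (H : IsPullback p₁ p₂ f g)
    {U : X.Opens} {U' : X'.Opens} {W : Z.Opens} (hU : IsAffineOpen U) (hU' : IsAffineOpen U')
    (hW : IsAffineOpen W) (e : U' ≤ g ⁻¹ᵁ U) (eW : W ≤ f ⁻¹ᵁ U)
    (t : Γ(X', U')) (ht : p₂.app U' t = 0) :
    letI := (g.appLE U U' e).hom.toAlgebra
    letI := (f.appLE U W eW).hom.toAlgebra
    (1 : Γ(Z, W)) ⊗ₜ[Γ(X, U)] t = 0 := by
  letI := (g.appLE U U' e).hom.toAlgebra
  letI := (f.appLE U W eW).hom.toAlgebra
  have hiso := isIso_pushoutSection_of_isAffineOpen H e eW (UY := p₁ ⁻¹ᵁ W ⊓ p₂ ⁻¹ᵁ U') rfl hU hU' hW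
  have P := (isIso_pushoutSection_iff H e eW (UY := p₁ ⁻¹ᵁ W ⊓ p₂ ⁻¹ᵁ U') rfl).mp hiso
  have Q := CommRingCat.isPushout_tensorProduct Γ(X, U) Γ(Z, W) Γ(X', U')
  have h1 := IsPushout.inr_isoIsPushout_hom _ _ P Q
  have h2 : p₂.appLE U' (p₁ ⁻¹ᵁ W ⊓ p₂ ⁻¹ᵁ U') (by simp) t = 0 := by
    rw [Scheme.Hom.appLE, CommRingCat.comp_apply, ht, map_zero]
  have h3 := congr($h1 t)
  rw [CommRingCat.comp_apply, h2, map_zero] at h3
  exact h3.symm

end Chart

section Main
variable {X X' : Scheme.{u}} {ι : Type u} {Z : ι → Scheme.{u}} {f : ∀ i, Z i ⟶ X}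

/-- **Schematic dominance is stable under flat base change locally of finite presentation.** -/
theorem isSchDom_pullback_of_flat_of_locallyOfFinitePresentation (g : X' ⟶ X) [Flat g]
    [LocallyOfFinitePresentation g] (h : IsSchDom Z f) (V : X'.Opens) (t : Γ(X', V))
    (ht : ∀ i, (pullback.snd (f i) g).app V t = 0) : t = 0 := by
  refine X'.IsSheaf.section_ext (fun x' hx' => ?_)
  obtain ⟨U, hU, hxU, -⟩ := exists_isAffineOpen_mem_and_subset (x := g x') (U := ⊤) trivial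
  have hx'' : x' ∈ V ⊓ g ⁻¹ᵁ U := ⟨hx', hxU⟩
  obtain ⟨U', hU', hxU', hU'le⟩ := exists_isAffineOpen_mem_and_subset hx''
  have e : U' ≤ g ⁻¹ᵁ U := fun y hy => (hU'le hy).2
  have eV : U' ≤ V := fun y hy => (hU'le hy).1
  refine ⟨U', eV, hxU', ?_⟩
  rw [map_zero]
  set t' : Γ(X', U') := X'.presheaf.map (homOfLE eV).op t with ht'def
  have ht' : ∀ i, (pullback.snd (f i) g).app U' t' = 0 := by
    intro i
    have := (pullback.snd (f i) g).naturality (homOfLE eV).op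
    have h2 := congr($this t)
    rw [CommRingCat.comp_apply, CommRingCat.comp_apply, ht i, map_zero] at h2
    exact h2
  letI := (g.appLE U U' e).hom.toAlgebra
  haveI : Module.Flat Γ(X, U) Γ(X', U') := g.flat_appLE hU hU' e
  haveI : Algebra.FinitePresentation Γ(X, U) Γ(X', U') := g.finitePresentation_appLE hU hU' e
  have h0 : (1 : Γ(X, U)) ⊗ₜ[Γ(X, U)] t' = 0 := by
    refine eq_zero_of_flat_of_finitePresentation Γ(X', U') (sep_of_isSchDom h hU) _ (fun j => ?_)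
    rw [LinearMap.rTensor_tmul, Algebra.linearMap_apply, map_one]
    exact one_tmul_eq_zero (IsPullback.of_hasPullback (f j.1) g) hU hU' j.2.2.1 e j.2.2.2 t'
      (ht' j.1)
  have := congrArg (TensorProduct.lid Γ(X, U) Γ(X', U')) h0
  rwa [TensorProduct.lid_tmul, one_smul, map_zero] at this

end Main
end Groth.Agent.H25.SchDom
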