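import Groth.Agent.H25.SepFamField

set_option autoImplicit false
universe u v
open TensorProduct

namespace Groth.Agent.H25.SepFamFG

open Groth.Agent.H25.SepFamAlg

variable {k : Type u} [CommRing k] {A : Type u} [CommRing A] [Algebra k A]
  (B : Type u) [CommRing B] [Algebra k B]

/-- the map `A ⊗ B₁ → A ⊗ B` for a subalgebra `B₁ ⊆ B`. -/
noncomputable def rho (B₁ : Subalgebra k B) : A ⊗[k] B₁ →ₐ[A] A ⊗[k] B :=
  Algebra.TensorProduct.map (AlgHom.id A A) B₁.val

variable {B}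

theorem rho_range_mono {B₁ B₂ : Subalgebra k B} (h : B₁ ≤ B₂) :
    (rho (A := A) B B₁).range ≤ (rho (A := A) B B₂).range := by
  rintro _ ⟨x, rfl⟩
  refine ⟨Algebra.TensorProduct.map (AlgHom.id A A) (Subalgebra.inclusion h) x, ?_⟩
  induction x using TensorProduct.induction_on with
  | zero => simp
  | tmul a b => simp [rho]
  | add x y hx hy => simp only [map_add, hx, hy]

theorem exists_fg_mem_range (r : A ⊗[k] B) :
    ∃ B₁ : Subalgebra k B, B₁.FG ∧ r ∈ (rho (A := A) B B₁).range := by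
  induction r using TensorProduct.induction_on with
  | zero => exact ⟨⊥, Subalgebra.fg_bot, zero_mem _⟩
  | tmul a b =>
    refine ⟨Algebra.adjoin k {b}, ?_, ?_⟩
    · have := Subalgebra.fg_adjoin_finset (R := k) ({b} : Finset B)
      simpa using this
    · exact ⟨a ⊗ₜ ⟨b, Algebra.subset_adjoin (Set.mem_singleton b)⟩, by simp [rho]⟩
  | add x y hx hy =>
    obtain ⟨B₁, h1, hx⟩ := hx
    obtain ⟨B₂, h2, hy⟩ := hy
    exact ⟨B₁ ⊔ B₂, h1.sup h2, add_mem (rho_range_mono le_sup_left hx) (rho_range_mono le_sup_right hy)⟩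

variable (B)
/-- the map `(A ⊗ B₁) ⊗_A X → (A ⊗ B) ⊗_A X`. -/
noncomputable def rhoX (B₁ : Subalgebra k B) (X : Type u) [AddCommGroup X] [Module A X] :
    (A ⊗[k] B₁) ⊗[A] X →ₗ[A] (A ⊗[k] B) ⊗[A] X :=
  LinearMap.rTensor X (rho (A := A) B B₁).toLinearMap
variable {B}

theorem rhoX_tmul (B₁ : Subalgebra k B) (X : Type u) [AddCommGroup X] [Module A X]
    (r : A ⊗[k] B₁) (x : X) : rhoX B B₁ X (r ⊗ₜ x) = rho B B₁ r ⊗ₜ x := rfl

theorem rhoX_smul (B₁ : Subalgebra k B) (X : Type u) [AddCommGroup X] [Module A X]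
    (r : A ⊗[k] B₁) (z : (A ⊗[k] B₁) ⊗[A] X) :
    rhoX B B₁ X (r • z) = rho B B₁ r • rhoX B B₁ X z := by
  induction z using TensorProduct.induction_on with
  | zero => simp
  | tmul s x => rw [smul_tmul', rhoX_tmul, rhoX_tmul, smul_tmul', smul_eq_mul, smul_eq_mul, map_mul]
  | add x y hx hy => simp only [smul_add, map_add, hx, hy]

/-- for an `A`-module `X` flat over `k`, the map `(A ⊗ B₁) ⊗_A X → (A ⊗ B) ⊗_A X` is injective. -/
theorem rhoX_injective_of_flat (B₁ : Subalgebra k B) (X : Type u) [AddCommGroup X] [Module A X]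
    [Module k X] [IsScalarTower k A X] [Module.Flat k X] :
    Function.Injective (rhoX (A := A) B B₁ X) := by
  let e₁ : (A ⊗[k] B₁) ⊗[A] X ≃ₗ[A] X ⊗[k] B₁ :=
    (TensorProduct.comm A _ _) ≪≫ₗ TensorProduct.AlgebraTensorModule.cancelBaseChange k A A X B₁
  let e : (A ⊗[k] B) ⊗[A] X ≃ₗ[A] X ⊗[k] B :=
    (TensorProduct.comm A _ _) ≪≫ₗ TensorProduct.AlgebraTensorModule.cancelBaseChange k A A X B
  have hsq : ∀ z, e (rhoX B B₁ X z) = LinearMap.lTensor X B₁.val.toLinearMap (e₁ z) := by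
    intro z
    induction z using TensorProduct.induction_on with
    | zero => simp
    | tmul r x =>
      induction r using TensorProduct.induction_on with
      | zero => simp
      | tmul a b => simp [e, e₁, rhoX_tmul, rho]
      | add r s hr hs => simp only [add_tmul, map_add, hr, hs]
    | add x y hx hy => simp only [map_add, hx, hy]
  have hinj := Module.Flat.lTensor_preserves_injective_linearMap (M := X) B₁.val.toLinearMap
    Subtype.val_injective
  intro z₁ z₂ hz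
  apply e₁.injective
  apply hinj
  rw [← hsq, ← hsq, hz]

theorem rhoX_range_mono {B₁ B₂ : Subalgebra k B} (h : B₁ ≤ B₂) (X : Type u) [AddCommGroup X]
    [Module A X] : LinearMap.range (rhoX (A := A) B B₁ X) ≤ LinearMap.range (rhoX (A := A) B B₂ X) := by
  rintro _ ⟨z, rfl⟩
  induction z using TensorProduct.induction_on with
  | zero => simp
  | tmul r x =>
    obtain ⟨r', hr'⟩ := rho_range_mono (A := A) h ⟨r, rfl⟩
    exact ⟨r' ⊗ₜ x, by rw [rhoX_tmul, rhoX_tmul]; exact congrArg (· ⊗ₜ[A] x) hr'⟩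
  | add x y hx hy => rw [map_add]; exact add_mem hx hy

theorem exists_fg_mem_rangeX (X : Type u) [AddCommGroup X] [Module A X] (τ : (A ⊗[k] B) ⊗[A] X) :
    ∃ B₁ : Subalgebra k B, B₁.FG ∧ τ ∈ LinearMap.range (rhoX (A := A) B B₁ X) := by
  induction τ using TensorProduct.induction_on with
  | zero => exact ⟨⊥, Subalgebra.fg_bot, zero_mem _⟩
  | tmul r x =>
    obtain ⟨B₁, h1, r', rfl⟩ := exists_fg_mem_range (A := A) r
    exact ⟨B₁, h1, r' ⊗ₜ x, rfl⟩
  | add x y hx hy =>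
    obtain ⟨B₁, h1, hx⟩ := hx
    obtain ⟨B₂, h2, hy⟩ := hy
    exact ⟨B₁ ⊔ B₂, h1.sup h2,
      add_mem (rhoX_range_mono le_sup_left X hx) (rhoX_range_mono le_sup_right X hy)⟩

theorem rhoX_baseChange (B₁ : Subalgebra k B) {X Y : Type u} [AddCommGroup X] [Module A X]
    [AddCommGroup Y] [Module A Y] (φ : X →ₗ[A] Y) (z : (A ⊗[k] B₁) ⊗[A] X) :
    φ.baseChange (A ⊗[k] B) (rhoX B B₁ X z) = rhoX B B₁ Y (φ.baseChange (A ⊗[k] B₁) z) := by
  induction z using TensorProduct.induction_on with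
  | zero => simp
  | tmul r x => simp [rhoX_tmul]
  | add x y hx hy => simp only [map_add, hx, hy]

variable (B) in
/-- **Reduction to finitely generated subalgebras**: for a family of homomorphisms into modules flat
over `k`, separatedness after `⊗_k B` follows from separatedness after `⊗_k B₁` for all finitely
generated subalgebras `B₁ ⊆ B`. -/
theorem sep_baseChange_of_fg {M : Type u} [AddCommGroup M] [Module A M]
    {ι : Type v} {N : ι → Type u} [∀ i, AddCommGroup (N i)] [∀ i, Module A (N i)]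
    [∀ i, Module k (N i)] [∀ i, IsScalarTower k A (N i)] [∀ i, Module.Flat k (N i)]
    {u : ∀ i, M →ₗ[A] N i}
    (H : ∀ B₁ : Subalgebra k B, B₁.FG →
      Sep (D := A ⊗[k] B₁) (Q := (A ⊗[k] B₁) ⊗[A] M) (P := fun i => (A ⊗[k] B₁) ⊗[A] N i)
        (fun i => (u i).baseChange (A ⊗[k] B₁))) :
    Sep (fun i => (u i).baseChange (A ⊗[k] B)) := by
  intro h τ hτ
  obtain ⟨B₃, hfg, ⟨h₁, rfl⟩, ⟨τ₁, rfl⟩⟩ : ∃ B₃ : Subalgebra k B, B₃.FG ∧
      h ∈ (rho (A := A) B B₃).range ∧ τ ∈ LinearMap.range (rhoX (A := A) B B₃ M) := by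
    obtain ⟨B₁, hB₁, hh⟩ := exists_fg_mem_range (A := A) h
    obtain ⟨B₂, hB₂, hτ₂⟩ := exists_fg_mem_rangeX M τ
    exact ⟨B₁ ⊔ B₂, hB₁.sup hB₂, rho_range_mono (A := A) le_sup_left hh,
      rhoX_range_mono (A := A) le_sup_right M hτ₂⟩
  have hsep := H B₃ hfg
  have key : ∀ (X : Type u) [AddCommGroup X] [Module A X] (n : ℕ) (z : (A ⊗[k] B₃) ⊗[A] X),
      rhoX B B₃ X (h₁ ^ n • z) = (rho B B₃ h₁) ^ n • rhoX B B₃ X z := by
    intro X _ _ n z
    rw [rhoX_smul, map_pow]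
  obtain ⟨n, hn⟩ := hsep h₁ τ₁ (fun i => by
    obtain ⟨n, hn⟩ := hτ i
    refine ⟨n, rhoX_injective_of_flat B₃ (N i) ?_⟩
    rw [map_zero, key, ← rhoX_baseChange]
    exact hn)
  refine ⟨n, ?_⟩
  have := key M n τ₁
  rw [hn, map_zero] at this
  exact this.symm

end Groth.Agent.H25.SepFamFG
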