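import Mathlib
import Groth.Agent.H17.GenFreeFP

set_option autoImplicit false
universe u v
open TensorProduct

namespace Groth.Agent.H25.SepFamAlg

section Core
variable {D : Type u} [CommRing D] {Q : Type u} [AddCommGroup Q] [Module D Q]
  {ι : Type v} {P : ι → Type u} [∀ i, AddCommGroup (P i)] [∀ i, Module D (P i)]

/-- the family `v` is separating on every basic open of `Spec D`. -/
def Sep (v : ∀ i, Q →ₗ[D] P i) : Prop :=
  ∀ (g : D) (q : Q), (∀ i, ∃ n : ℕ, g ^ n • v i q = 0) → ∃ n : ℕ, g ^ n • q = 0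
theorem comm_rTensor {Q' : Type u} [AddCommGroup Q'] [Module D Q'] (R : Type u) [AddCommGroup R]
    [Module D R] (φ : Q →ₗ[D] Q') (w : Q ⊗[D] R) :
    LinearMap.lTensor R φ (TensorProduct.comm D Q R w) =
      TensorProduct.comm D Q' R (LinearMap.rTensor R φ w) := by
  induction w using TensorProduct.induction_on with
  | zero => simp
  | tmul x y => simp
  | add x y hx hy => simp only [map_add, hx, hy]

/-- if `v` is separating then it is jointly injective after tensoring with a localization away. -/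
theorem eq_zero_of_sep_away {v : ∀ i, Q →ₗ[D] P i} (hv : Sep v) (f : D)
    (R : Type u) [CommRing R] [Algebra D R] [IsLocalization.Away f R]
    (w : Q ⊗[D] R) (hw : ∀ i, LinearMap.rTensor R (v i) w = 0) : w = 0 := by
  obtain ⟨⟨q, s⟩, hqs⟩ := IsLocalizedModule.surj (Submonoid.powers f) (TensorProduct.mk D R Q 1)
    (TensorProduct.comm D Q R w)
  obtain ⟨k, hk⟩ := s.2
  rw [Submonoid.smul_def] at hqs
  have hunit : ∀ (X : Type u) [AddCommGroup X] [Module D X] (n : ℕ) (z : R ⊗[D] X),
      f ^ n • z = 0 → z = 0 := by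
    intro X _ _ n z hz
    have hu : IsUnit (algebraMap D R (f ^ n)) := by
      rw [map_pow]; exact (IsLocalization.Away.algebraMap_isUnit f).pow n
    rw [← algebraMap_smul R (f ^ n) z] at hz
    exact (hu.smul_eq_zero).mp hz
  have h1 : ∀ i, ∃ n : ℕ, f ^ n • v i q = 0 := by
    intro i
    have e1 : LinearMap.lTensor R (v i) (TensorProduct.comm D Q R w) = 0 := by
      rw [comm_rTensor, hw i, map_zero]
    have e2 : TensorProduct.mk D R (P i) 1 (v i q) = 0 := by
      have : LinearMap.lTensor R (v i) ((s : D) • (TensorProduct.comm D Q R w)) = 0 := by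
        rw [map_smul, e1, smul_zero]
      rw [hqs] at this
      simpa using this
    obtain ⟨c, hc⟩ := (IsLocalizedModule.eq_zero_iff (Submonoid.powers f)
      (TensorProduct.mk D R (P i) 1)).mp e2
    obtain ⟨n, hn⟩ := c.2
    refine ⟨n, ?_⟩
    rw [Submonoid.smul_def, ← hn] at hc
    exact hc
  obtain ⟨n, hn⟩ := hv f q h1
  have h3 : TensorProduct.mk D R Q 1 q = 0 := by
    apply hunit Q n
    rw [← map_smul, hn, map_zero]
  have h4 : TensorProduct.comm D Q R w = 0 := by
    apply hunit Q k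
    have : (s : D) • (TensorProduct.comm D Q R w) = 0 := by rw [hqs, h3]
    rw [← hk] at this
    exact this
  exact (TensorProduct.comm D Q R).map_eq_zero_iff.mp h4

theorem leftComm_lTensor_mk (R B : Type u) [CommRing R] [Algebra D R] [AddCommGroup B] [Module D B]
    (t : Q ⊗[D] B) :
    TensorProduct.leftComm D Q R B (LinearMap.lTensor Q (TensorProduct.mk D R B 1) t) =
      TensorProduct.mk D R (Q ⊗[D] B) 1 t := by
  induction t using TensorProduct.induction_on with
  | zero => simp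
  | tmul x y => simp
  | add x y hx hy => simp only [map_add, hx, hy]

/-- **Core lemma**: over a domain, a section of `Q ⊗ B` killed by a separating family is torsion. -/
theorem exists_ne_zero_smul_eq_zero [IsDomain D] (B : Type u) [CommRing B] [Algebra D B]
    [Algebra.FiniteType D B] {v : ∀ i, Q →ₗ[D] P i} (hv : Sep v)
    (t : Q ⊗[D] B) (ht : ∀ i, LinearMap.rTensor B (v i) t = 0) : ∃ g : D, g ≠ 0 ∧ g • t = 0 := by
  classical
  obtain ⟨f, hf, -, hfree, -, -⟩ := Groth.Agent.H17.generic_freeness (R := D) (S := B) (M := B)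
  let R := Localization.Away f
  let β := Module.Free.ChooseBasisIndex R (R ⊗[D] B)
  let b : Module.Basis β R (R ⊗[D] B) := Module.Free.chooseBasis R (R ⊗[D] B)
  let e : (R ⊗[D] B) ≃ₗ[D] (β →₀ R) := b.repr.restrictScalars D
  let c : β → (B →ₗ[D] R) := fun i =>
    (Finsupp.lapply i : (β →₀ R) →ₗ[D] R) ∘ₗ e.toLinearMap ∘ₗ (TensorProduct.mk D R B 1)
  -- Step A
  have hA : ∀ i : β, LinearMap.lTensor Q (c i) t = 0 := by
    intro i
    refine eq_zero_of_sep_away hv f R _ (fun j => ?_)
    rw [← LinearMap.comp_apply, LinearMap.rTensor_comp_lTensor, ← LinearMap.lTensor_comp_rTensor,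
      LinearMap.comp_apply, ht j, map_zero]
  -- Step B
  have hB : LinearMap.lTensor Q (TensorProduct.mk D R B 1) t = 0 := by
    have h1 : TensorProduct.finsuppRight D D Q R β
        (LinearMap.lTensor Q e.toLinearMap (LinearMap.lTensor Q (TensorProduct.mk D R B 1) t)) = 0 := by
      ext i
      rw [TensorProduct.finsuppRight_apply, ← LinearMap.comp_apply, ← LinearMap.comp_apply,
        ← LinearMap.lTensor_comp, ← LinearMap.lTensor_comp]
      exact hA i
    have h2 := (TensorProduct.finsuppRight D D Q R β).map_eq_zero_iff.mp h1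
    have h3 : (LinearEquiv.lTensor Q e) (LinearMap.lTensor Q (TensorProduct.mk D R B 1) t) = 0 := h2
    exact (LinearEquiv.lTensor Q e).map_eq_zero_iff.mp h3
  -- Step C
  have hC : TensorProduct.mk D R (Q ⊗[D] B) 1 t = 0 := by
    rw [← leftComm_lTensor_mk, hB, map_zero]
  obtain ⟨s, hs⟩ := (IsLocalizedModule.eq_zero_iff (Submonoid.powers f)
    (TensorProduct.mk D R (Q ⊗[D] B) 1)).mp hC
  obtain ⟨n, hn⟩ := s.2
  refine ⟨f ^ n, pow_ne_zero n hf, ?_⟩
  rw [Submonoid.smul_def, ← hn] at hs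
  exact hs

end Core

section Nat
variable {R : Type u} [CommRing R] {A : Type u} [CommRing A] [Algebra R A]
  {M M' : Type u} [AddCommGroup M] [Module A M] [Module R M] [IsScalarTower R A M]
  [AddCommGroup M'] [Module A M'] [Module R M'] [IsScalarTower R A M']
  (N : Type u) [AddCommGroup N] [Module R N]

theorem cancel_rTensor (φ : M →ₗ[A] M') (z : M ⊗[A] (A ⊗[R] N)) :
    TensorProduct.AlgebraTensorModule.cancelBaseChange R A A M' N (LinearMap.rTensor _ φ z) =
      LinearMap.rTensor N (φ.restrictScalars R)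
        (TensorProduct.AlgebraTensorModule.cancelBaseChange R A A M N z) := by
  induction z using TensorProduct.induction_on with
  | zero => simp
  | tmul q w =>
    induction w using TensorProduct.induction_on with
    | zero => simp
    | tmul d b => simp
    | add x y hx hy => simp only [tmul_add, map_add, hx, hy]
  | add x y hx hy => simp only [map_add, hx, hy]
end Nat

section Step4
variable {A₀ : Type u} [CommRing A₀] (𝔭 : Ideal A₀) [𝔭.IsPrime]
  {Q : Type u} [AddCommGroup Q] [Module A₀ Q] [Module (A₀ ⧸ 𝔭) Q] [IsScalarTower A₀ (A₀ ⧸ 𝔭) Q]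
  {ι : Type v} {P : ι → Type u} [∀ i, AddCommGroup (P i)] [∀ i, Module A₀ (P i)]
  [∀ i, Module (A₀ ⧸ 𝔭) (P i)] [∀ i, IsScalarTower A₀ (A₀ ⧸ 𝔭) (P i)]
  (B₀ : Type u) [CommRing B₀] [Algebra A₀ B₀] [Algebra.FiniteType A₀ B₀]

theorem exists_notMem_smul_eq_zero {v : ∀ i, Q →ₗ[A₀ ⧸ 𝔭] P i} (hv : Sep v)
    (t : Q ⊗[A₀] B₀) (ht : ∀ i, LinearMap.rTensor B₀ ((v i).restrictScalars A₀) t = 0) :
    ∃ g : A₀, g ∉ 𝔭 ∧ g • t = 0 := by
  let D := A₀ ⧸ 𝔭
  let e := fun (X : Type u) [AddCommGroup X] [Module A₀ X] [Module D X] [IsScalarTower A₀ D X] =>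
    TensorProduct.AlgebraTensorModule.cancelBaseChange A₀ D D X B₀
  obtain ⟨g', hg', hg⟩ := exists_ne_zero_smul_eq_zero (D := D) (D ⊗[A₀] B₀) hv ((e Q).symm t)
    (fun i => by
      apply (e (P i)).injective
      rw [cancel_rTensor, LinearEquiv.apply_symm_apply, ht i, map_zero])
  obtain ⟨g, rfl⟩ := Ideal.Quotient.mk_surjective g'
  refine ⟨g, fun h => hg' (Ideal.Quotient.eq_zero_iff_mem.mpr h), ?_⟩
  have h1 : (Ideal.Quotient.mk 𝔭 g) • t = 0 := by
    have := congrArg (e Q) hg
    rwa [map_smul, LinearEquiv.apply_symm_apply, map_zero] at this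
  rw [← h1]
  exact (algebraMap_smul D g t).symm

end Step4

section Main
variable {A₀ : Type u} [CommRing A₀] [IsNoetherianRing A₀]
  {A : Type u} [CommRing A] [Algebra A₀ A]
  (B₀ : Type u) [CommRing B₀] [Algebra A₀ B₀] [Algebra.FiniteType A₀ B₀]

/-- the `𝔭`-torsion `A`-submodule -/
def tors (A : Type u) [CommRing A] [Algebra A₀ A] (𝔭 : Ideal A₀) (M : Type u) [AddCommGroup M] [Module A M] [Module A₀ M]
    [IsScalarTower A₀ A M] : Submodule A M where
  carrier := {m | ∀ a ∈ 𝔭, a • m = 0}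
  add_mem' := fun {x y} hx hy a ha => by rw [smul_add, hx a ha, hy a ha, add_zero]
  zero_mem' := fun a _ => smul_zero a
  smul_mem' := fun r x hx a ha => by rw [smul_comm, hx a ha, smul_zero]

variable {M : Type u} [AddCommGroup M] [Module A M] [Module A₀ M] [IsScalarTower A₀ A M]
  {ι : Type v} {N : ι → Type u} [∀ i, AddCommGroup (N i)] [∀ i, Module A (N i)]
  [∀ i, Module A₀ (N i)] [∀ i, IsScalarTower A₀ A (N i)]

theorem piLeft_apply {κ : Type u} [Fintype κ] [DecidableEq κ] (A' : Type u) [AddCommGroup A']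
    [Module A A'] (z : (κ → M) ⊗[A] A') (a : κ) :
    TensorProduct.piLeft A A' (fun _ : κ => M) z a =
      LinearMap.rTensor A' (LinearMap.proj a : (κ → M) →ₗ[A] M) z := by
  induction z using TensorProduct.induction_on with
  | zero => simp
  | tmul x y => simp
  | add x y hx hy => simp only [map_add, Pi.add_apply, hx, hy]


set_option maxHeartbeats 800000 in
theorem main_aux [Module.Flat A (A ⊗[A₀] B₀)] {u : ∀ i, M →ₗ[A] N i} (hu : Sep u)
    (t : M ⊗[A] (A ⊗[A₀] B₀)) (ht : ∀ i, LinearMap.rTensor (A ⊗[A₀] B₀) (u i) t = 0) : t = 0 := by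
  classical
  by_contra hne
  -- Step 2: an associated prime
  let S := Submodule.span A₀ {t}
  haveI : Nontrivial S :=
    ⟨⟨⟨t, Submodule.mem_span_singleton_self t⟩, 0, fun h => hne (congrArg Subtype.val h)⟩⟩
  obtain ⟨𝔭, h𝔭⟩ := associatedPrimes.nonempty A₀ S
  rw [AssociatedPrimes.mem_iff, isAssociatedPrime_iff] at h𝔭
  obtain ⟨hprime, ⟨x, hx⟩, h𝔭x⟩ := h𝔭
  obtain ⟨c, rfl⟩ := Submodule.mem_span_singleton.mp hx
  have hann : ∀ a : A₀, a ∈ 𝔭 ↔ a • (c • t) = 0 := by
    intro a
    rw [h𝔭x, Submodule.mem_colon_singleton, Submodule.mem_bot]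
    constructor
    · intro h; exact congrArg Subtype.val h
    · intro h; exact Subtype.ext h
  have ht' : ∀ i, LinearMap.rTensor (A ⊗[A₀] B₀) (u i) (c • t) = 0 := by
    intro i
    rw [LinearMap.map_smul_of_tower, ht i, smul_zero]
  -- Step 3: `c • t` comes from the torsion submodule
  obtain ⟨s, hs⟩ := (IsNoetherian.noetherian 𝔭 : 𝔭.FG)
  let φ : M →ₗ[A] (s → M) := LinearMap.pi (fun a => (algebraMap A₀ A a.1) • LinearMap.id)
  have hker : LinearMap.ker φ = tors A 𝔭 M := by
    ext m
    rw [LinearMap.mem_ker]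
    constructor
    · intro h a ha
      have hle : 𝔭 ≤ (Submodule.span A₀ {m}).annihilator.comap (RingHom.id A₀) := by
        rw [← hs, Ideal.span_le]
        intro b hb
        have := congrFun h ⟨b, hb⟩
        simp only [φ, LinearMap.pi_apply, LinearMap.smul_apply, LinearMap.id_apply,
          algebraMap_smul, Pi.zero_apply] at this
        rw [SetLike.mem_coe, Ideal.mem_comap, RingHom.id_apply, Submodule.mem_annihilator_span_singleton]
        exact this
      have := hle ha
      rwa [Ideal.mem_comap, RingHom.id_apply, Submodule.mem_annihilator_span_singleton] at this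
    · intro h
      ext a
      simp only [φ, LinearMap.pi_apply, LinearMap.smul_apply, LinearMap.id_apply,
        algebraMap_smul, Pi.zero_apply]
      exact h a.1 (hs ▸ Ideal.subset_span a.2)
  have hex : Function.Exact (LinearMap.rTensor (A ⊗[A₀] B₀) (tors A 𝔭 M).subtype)
      (LinearMap.rTensor (A ⊗[A₀] B₀) φ) := by
    apply Module.Flat.rTensor_exact
    rw [← hker]
    exact LinearMap.exact_subtype_ker_map φ
  have hφt : LinearMap.rTensor (A ⊗[A₀] B₀) φ (c • t) = 0 := by
    apply (TensorProduct.piLeft A (A ⊗[A₀] B₀) (fun _ : s => M)).injective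
    rw [map_zero]
    ext a
    rw [piLeft_apply, ← LinearMap.comp_apply, ← LinearMap.rTensor_comp]
    have h1 : (LinearMap.proj a : (s → M) →ₗ[A] M) ∘ₗ φ = (algebraMap A₀ A a.1) • LinearMap.id := by
      ext m; simp [φ]
    rw [h1, LinearMap.rTensor_smul, LinearMap.rTensor_id, LinearMap.smul_apply,
      LinearMap.id_apply, algebraMap_smul]
    exact (hann a.1).mp (hs ▸ Ideal.subset_span a.2)
  obtain ⟨tQ, htQ⟩ := (hex (c • t)).mp hφt
  -- Step 4
  let v : ∀ i, tors A 𝔭 M →ₗ[A] tors A 𝔭 (N i) := fun i =>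
    (u i).restrict (fun m hm a ha => by rw [← LinearMap.map_smul_of_tower, hm a ha, map_zero])
  have hv0 : ∀ i, LinearMap.rTensor (A ⊗[A₀] B₀) (v i) tQ = 0 := by
    intro i
    apply Module.Flat.rTensor_preserves_injective_linearMap (M := A ⊗[A₀] B₀)
      (tors A 𝔭 (N i)).subtype (Submodule.injective_subtype _)
    rw [map_zero, ← LinearMap.comp_apply, ← LinearMap.rTensor_comp]
    have : (tors A 𝔭 (N i)).subtype ∘ₗ v i = u i ∘ₗ (tors A 𝔭 M).subtype := by ext m; rfl
    rw [this, LinearMap.rTensor_comp, LinearMap.comp_apply, htQ, ht' i]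
  have hQ : Module.IsTorsionBySet A₀ (tors A 𝔭 M) 𝔭 := by
    intro x a
    apply Subtype.ext
    rw [ZeroMemClass.coe_zero]
    exact (Submodule.coe_smul_of_tower _ _).trans (x.2 a.1 a.2)
  have hP : ∀ i, Module.IsTorsionBySet A₀ (tors A 𝔭 (N i)) 𝔭 := by
    intro i x a
    apply Subtype.ext
    rw [ZeroMemClass.coe_zero]
    exact (Submodule.coe_smul_of_tower _ _).trans (x.2 a.1 a.2)
  letI : Module (A₀ ⧸ 𝔭) (tors A 𝔭 M) := hQ.module
  letI : ∀ i, Module (A₀ ⧸ 𝔭) (tors A 𝔭 (N i)) := fun i => (hP i).module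
  haveI : IsScalarTower A₀ (A₀ ⧸ 𝔭) (tors A 𝔭 M) := hQ.isScalarTower
  haveI : ∀ i, IsScalarTower A₀ (A₀ ⧸ 𝔭) (tors A 𝔭 (N i)) := fun i => (hP i).isScalarTower
  let v' : ∀ i, tors A 𝔭 M →ₗ[A₀ ⧸ 𝔭] tors A 𝔭 (N i) := fun i =>
    { toFun := v i
      map_add' := map_add _
      map_smul' := by
        intro d x
        obtain ⟨a, rfl⟩ := Ideal.Quotient.mk_surjective d
        show v i (a • x) = a • v i x
        exact LinearMap.map_smul_of_tower (v i) a x }
  have hv' : Sep v' := by
    intro g' q hq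
    obtain ⟨g, rfl⟩ := Ideal.Quotient.mk_surjective g'
    have key : ∀ (X : Type u) [AddCommGroup X] [Module A X] [Module A₀ X] [IsScalarTower A₀ A X]
        (n : ℕ) (y : X), (algebraMap A₀ A g) ^ n • y = g ^ n • y := by
      intro X _ _ _ _ n y
      rw [← map_pow, algebraMap_smul]
    obtain ⟨n, hn⟩ := hu (algebraMap A₀ A g) q.1 (fun i => by
      obtain ⟨n, hn⟩ := hq i
      refine ⟨n, ?_⟩
      rw [key]
      have h2 : (Ideal.Quotient.mk 𝔭 g) ^ n • v' i q = g ^ n • v i q := by
        rw [← map_pow]; rfl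
      rw [h2] at hn
      exact congrArg Subtype.val hn)
    refine ⟨n, ?_⟩
    rw [key] at hn
    have h2 : (Ideal.Quotient.mk 𝔭 g) ^ n • q = g ^ n • q := by
      rw [← map_pow]; rfl
    rw [h2]
    exact Subtype.ext hn
  -- transport to `tors ⊗[A₀] B₀`
  have hs0 : ∀ i, LinearMap.rTensor B₀ ((v' i).restrictScalars A₀)
      (TensorProduct.AlgebraTensorModule.cancelBaseChange A₀ A A (tors A 𝔭 M) B₀ tQ) = 0 := by
    intro i
    have : (v' i).restrictScalars A₀ = (v i).restrictScalars A₀ := rfl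
    rw [this, ← cancel_rTensor, hv0 i, map_zero]
  obtain ⟨g, hg𝔭, hg⟩ := exists_notMem_smul_eq_zero 𝔭 B₀ hv' _ hs0
  have h1 : g • tQ = 0 := by
    apply (TensorProduct.AlgebraTensorModule.cancelBaseChange A₀ A A (tors A 𝔭 M) B₀).injective
    rw [map_zero, ← algebraMap_smul A g tQ, map_smul, algebraMap_smul]
    exact hg
  apply hg𝔭
  rw [hann, ← htQ, ← algebraMap_smul A g, ← map_smul, algebraMap_smul, h1, map_zero]

end Main

section Final
variable {A : Type u} [CommRing A] {M : Type u} [AddCommGroup M] [Module A M]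
  {ι : Type v} {N : ι → Type u} [∀ i, AddCommGroup (N i)] [∀ i, Module A (N i)]

/-- **Separating families are stable under flat finitely presented base change** (affine form,
EGA IV 11.9.? / 11.10.5 (ii)). -/
theorem eq_zero_of_flat_of_finitePresentation (A' : Type u) [CommRing A'] [Algebra A A']
    [Module.Flat A A'] [Algebra.FinitePresentation A A'] {u : ∀ i, M →ₗ[A] N i} (hu : Sep u)
    (t : M ⊗[A] A') (ht : ∀ i, LinearMap.rTensor A' (u i) t = 0) : t = 0 := by
  obtain ⟨A₀, B₀, _, _, hfg, hfp, ⟨e⟩⟩ := Groth.Agent.H17.exists_noetherian_model' A A'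
  have hft : Algebra.FiniteType ℤ A₀ := (Subalgebra.fg_iff_finiteType A₀).mp hfg
  haveI hN : IsNoetherianRing A₀ := Algebra.FiniteType.isNoetherianRing ℤ A₀
  haveI : IsScalarTower A₀ A M := IsScalarTower.of_algebraMap_smul (fun r x => rfl)
  haveI : ∀ i, IsScalarTower A₀ A (N i) := fun i => IsScalarTower.of_algebraMap_smul (fun r x => rfl)
  haveI : Module.Flat A (A ⊗[A₀] B₀) := Module.Flat.of_linearEquiv e.symm.toLinearEquiv
  haveI : Algebra.FiniteType A₀ B₀ := inferInstance
  have h0 : LinearMap.lTensor M e.toLinearMap t = 0 := by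
    apply main_aux B₀ hu
    intro i
    rw [← LinearMap.comp_apply, LinearMap.rTensor_comp_lTensor, ← LinearMap.lTensor_comp_rTensor,
      LinearMap.comp_apply, ht i, map_zero]
  have h1 : (LinearEquiv.lTensor M e.toLinearEquiv) t = 0 := h0
  exact (LinearEquiv.lTensor M e.toLinearEquiv).map_eq_zero_iff.mp h1

end Final
end Groth.Agent.H25.SepFamAlg
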