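import Mathlib
import Groth.Agent.H25.SepFamAlg

set_option autoImplicit false
universe u v
open TensorProduct

namespace Groth.Agent.H25.SepFamAlg

section SepForm
variable {A : Type u} [CommRing A] {M : Type u} [AddCommGroup M] [Module A M]
  {ι : Type v} {N : ι → Type u} [∀ i, AddCommGroup (N i)] [∀ i, Module A (N i)]

/-- joint injectivity in the orientation `A' ⊗ M`. -/
theorem eq_zero_of_flat_of_finitePresentation' (A' : Type u) [CommRing A'] [Algebra A A']
    [Module.Flat A A'] [Algebra.FinitePresentation A A'] {u : ∀ i, M →ₗ[A] N i} (hu : Sep u)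
    (z : A' ⊗[A] M) (hz : ∀ i, (u i).baseChange A' z = 0) : z = 0 := by
  have h1 : (TensorProduct.comm A M A').symm z = 0 := by
    apply eq_zero_of_flat_of_finitePresentation A' hu
    intro i
    apply (TensorProduct.comm A (N i) A').injective
    rw [← comm_rTensor, LinearEquiv.apply_symm_apply, map_zero]
    exact hz i
  exact (TensorProduct.comm A M A').symm.map_eq_zero_iff.mp h1

/-- **Sep form**: the base change of a separating family along a flat finitely presented algebra
is separating (on all basic opens of the new spectrum). -/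
theorem sep_baseChange (A' : Type u) [CommRing A'] [Algebra A A']
    [Module.Flat A A'] [Algebra.FinitePresentation A A'] {u : ∀ i, M →ₗ[A] N i} (hu : Sep u) :
    Sep (fun i => (u i).baseChange A') := by
  intro h τ hτ
  let A'' := Localization.Away h
  haveI : Module.Flat A A'' := Module.Flat.trans A A' A''
  haveI : Algebra.FinitePresentation A' A'' := IsLocalization.Away.finitePresentation h
  haveI : Algebra.FinitePresentation A A'' := Algebra.FinitePresentation.trans A A' A''
  let g := fun (X : Type u) [AddCommGroup X] [Module A X] =>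
    TensorProduct.AlgebraTensorModule.rTensor A X (Algebra.linearMap A' A'')
  have hloc : ∀ (X : Type u) [AddCommGroup X] [Module A X],
      IsLocalizedModule (Submonoid.powers h) (g X) := fun X _ _ => inferInstance
  have hnat : ∀ i (x : A' ⊗[A] M), (u i).baseChange A'' (g M x) = g (N i) ((u i).baseChange A' x) := by
    intro i x
    induction x using TensorProduct.induction_on with
    | zero => simp
    | tmul a m => simp [g]
    | add x y hx hy => simp only [map_add, hx, hy]
  have h0 : g M τ = 0 := by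
    apply eq_zero_of_flat_of_finitePresentation' A'' hu
    intro i
    rw [hnat]
    obtain ⟨n, hn⟩ := hτ i
    have h2 : h ^ n • g (N i) ((u i).baseChange A' τ) = 0 := by
      rw [← map_smul, hn, map_zero]
    have hu' : IsUnit (algebraMap A' A'' (h ^ n)) := by
      rw [map_pow]; exact (IsLocalization.Away.algebraMap_isUnit h).pow n
    rw [← algebraMap_smul A'' (h ^ n)] at h2
    exact (hu'.smul_eq_zero).mp h2
  obtain ⟨c, hc⟩ := (IsLocalizedModule.eq_zero_iff (Submonoid.powers h) (g M)).mp h0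
  obtain ⟨n, hn⟩ := c.2
  refine ⟨n, ?_⟩
  rw [Submonoid.smul_def, ← hn] at hc
  exact hc

end SepForm

section Field
variable {k : Type u} [Field k] {A : Type u} [CommRing A] [Algebra k A]
  (B : Type u) [CommRing B] [Algebra k B]

/-- the map `A ⊗ B₁ → A ⊗ B` for a subalgebra. -/
noncomputable def rho (B₁ : Subalgebra k B) : A ⊗[k] B₁ →ₐ[A] A ⊗[k] B :=
  Algebra.TensorProduct.map (AlgHom.id A A) B₁.val

variable {B}

theorem rho_range_mono {B₁ B₂ : Subalgebra k B} (h : B₁ ≤ B₂) :
    (rho (A := A) B B₁).range ≤ (rho (A := A) B B₂).range := by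
  rintro _ ⟨x, rfl⟩
  refine ⟨Algebra.TensorProduct.map (AlgHom.id A A) (Subalgebra.inclusion h) x, ?_⟩
  induction x using TensorProduct.induction_on with
  | zero => simp
  | tmul a b => simp [rho]
  | add x y hx hy => simp only [map_add, hx, hy]

theorem exists_fg_mem_range (r : A ⊗[k] B) :
    ∃ B₁ : Subalgebra k B, B₁.FG ∧ r ∈ (rho (A := A) B B₁).range := by
  induction r using TensorProduct.induction_on with
  | zero => exact ⟨⊥, Subalgebra.fg_bot, zero_mem _⟩
  | tmul a b =>
    refine ⟨Algebra.adjoin k {b}, ?_, ?_⟩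
    · have := Subalgebra.fg_adjoin_finset (R := k) ({b} : Finset B)
      simpa using this
    · exact ⟨a ⊗ₜ ⟨b, Algebra.subset_adjoin (Set.mem_singleton b)⟩, by simp [rho]⟩
  | add x y hx hy =>
    obtain ⟨B₁, h1, hx⟩ := hx
    obtain ⟨B₂, h2, hy⟩ := hy
    exact ⟨B₁ ⊔ B₂, h1.sup h2, add_mem (rho_range_mono le_sup_left hx) (rho_range_mono le_sup_right hy)⟩


variable (B)
/-- the map `(A ⊗ B₁) ⊗_A X → (A ⊗ B) ⊗_A X`. -/
noncomputable def rhoX (B₁ : Subalgebra k B) (X : Type u) [AddCommGroup X] [Module A X] :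
    (A ⊗[k] B₁) ⊗[A] X →ₗ[A] (A ⊗[k] B) ⊗[A] X :=
  LinearMap.rTensor X (rho (A := A) B B₁).toLinearMap
variable {B}

theorem rhoX_tmul (B₁ : Subalgebra k B) (X : Type u) [AddCommGroup X] [Module A X]
    (r : A ⊗[k] B₁) (x : X) : rhoX B B₁ X (r ⊗ₜ x) = rho B B₁ r ⊗ₜ x := rfl

theorem rhoX_smul (B₁ : Subalgebra k B) (X : Type u) [AddCommGroup X] [Module A X]
    (r : A ⊗[k] B₁) (z : (A ⊗[k] B₁) ⊗[A] X) :
    rhoX B B₁ X (r • z) = rho B B₁ r • rhoX B B₁ X z := by
  induction z using TensorProduct.induction_on with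
  | zero => simp
  | tmul s x => rw [smul_tmul', rhoX_tmul, rhoX_tmul, smul_tmul', smul_eq_mul, smul_eq_mul, map_mul]
  | add x y hx hy => simp only [smul_add, map_add, hx, hy]

theorem rhoX_injective (B₁ : Subalgebra k B) (X : Type u) [AddCommGroup X] [Module A X] :
    Function.Injective (rhoX (A := A) B B₁ X) := by
  obtain ⟨σ, hσ⟩ := LinearMap.exists_leftInverse_of_injective B₁.val.toLinearMap
    (LinearMap.ker_eq_bot.mpr Subtype.val_injective)
  have h1 : (σ.baseChange A) ∘ₗ (rho (A := A) B B₁).toLinearMap = LinearMap.id := by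
    apply TensorProduct.AlgebraTensorModule.curry_injective
    ext b
    have : σ (b : B) = b := congr($hσ b)
    simp [rho, this]
  have h2 : (LinearMap.rTensor X (σ.baseChange A)) ∘ₗ rhoX B B₁ X = LinearMap.id := by
    rw [rhoX, ← LinearMap.rTensor_comp, h1, LinearMap.rTensor_id]
  exact Function.LeftInverse.injective (g := LinearMap.rTensor X (σ.baseChange A))
    (fun z => congr($h2 z))

theorem rhoX_range_mono {B₁ B₂ : Subalgebra k B} (h : B₁ ≤ B₂) (X : Type u) [AddCommGroup X]
    [Module A X] : LinearMap.range (rhoX (A := A) B B₁ X) ≤ LinearMap.range (rhoX (A := A) B B₂ X) := by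
  rintro _ ⟨z, rfl⟩
  induction z using TensorProduct.induction_on with
  | zero => simp
  | tmul r x =>
    obtain ⟨r', hr'⟩ := rho_range_mono (A := A) h ⟨r, rfl⟩
    exact ⟨r' ⊗ₜ x, by rw [rhoX_tmul, rhoX_tmul]; exact congrArg (· ⊗ₜ[A] x) hr'⟩
  | add x y hx hy => rw [map_add]; exact add_mem hx hy

theorem exists_fg_mem_rangeX (X : Type u) [AddCommGroup X] [Module A X] (τ : (A ⊗[k] B) ⊗[A] X) :
    ∃ B₁ : Subalgebra k B, B₁.FG ∧ τ ∈ LinearMap.range (rhoX (A := A) B B₁ X) := by
  induction τ using TensorProduct.induction_on with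
  | zero => exact ⟨⊥, Subalgebra.fg_bot, zero_mem _⟩
  | tmul r x =>
    obtain ⟨B₁, h1, r', rfl⟩ := exists_fg_mem_range (A := A) r
    exact ⟨B₁, h1, r' ⊗ₜ x, rfl⟩
  | add x y hx hy =>
    obtain ⟨B₁, h1, hx⟩ := hx
    obtain ⟨B₂, h2, hy⟩ := hy
    exact ⟨B₁ ⊔ B₂, h1.sup h2,
      add_mem (rhoX_range_mono le_sup_left X hx) (rhoX_range_mono le_sup_right X hy)⟩

theorem rhoX_baseChange (B₁ : Subalgebra k B) {X Y : Type u} [AddCommGroup X] [Module A X]
    [AddCommGroup Y] [Module A Y] (φ : X →ₗ[A] Y) (z : (A ⊗[k] B₁) ⊗[A] X) :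
    φ.baseChange (A ⊗[k] B) (rhoX B B₁ X z) = rhoX B B₁ Y (φ.baseChange (A ⊗[k] B₁) z) := by
  induction z using TensorProduct.induction_on with
  | zero => simp
  | tmul r x => simp [rhoX_tmul]
  | add x y hx hy => simp only [map_add, hx, hy]

variable (B) in
/-- **Base field case**: a separating family stays separating after `⊗_k B` for every
`k`-algebra `B`. -/
theorem sep_baseChange_field {M : Type u} [AddCommGroup M] [Module A M]
    {ι : Type v} {N : ι → Type u} [∀ i, AddCommGroup (N i)] [∀ i, Module A (N i)]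
    {u : ∀ i, M →ₗ[A] N i} (hu : Sep u) :
    Sep (fun i => (u i).baseChange (A ⊗[k] B)) := by
  intro h τ hτ
  obtain ⟨B₃, hfg, ⟨h₁, rfl⟩, ⟨τ₁, rfl⟩⟩ : ∃ B₃ : Subalgebra k B, B₃.FG ∧
      h ∈ (rho (A := A) B B₃).range ∧ τ ∈ LinearMap.range (rhoX (A := A) B B₃ M) := by
    obtain ⟨B₁, hB₁, hh⟩ := exists_fg_mem_range (A := A) h
    obtain ⟨B₂, hB₂, hτ₂⟩ := exists_fg_mem_rangeX M τ
    exact ⟨B₁ ⊔ B₂, hB₁.sup hB₂, rho_range_mono (A := A) le_sup_left hh,
      rhoX_range_mono (A := A) le_sup_right M hτ₂⟩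
  haveI : Algebra.FiniteType k B₃ := (Subalgebra.fg_iff_finiteType B₃).mp hfg
  haveI : Algebra.FinitePresentation k B₃ := Algebra.FinitePresentation.of_finiteType.mp inferInstance
  have hsep := sep_baseChange (A ⊗[k] B₃) hu
  have key : ∀ (X : Type u) [AddCommGroup X] [Module A X] (n : ℕ) (z : (A ⊗[k] B₃) ⊗[A] X),
      rhoX B B₃ X (h₁ ^ n • z) = (rho B B₃ h₁) ^ n • rhoX B B₃ X z := by
    intro X _ _ n z
    rw [rhoX_smul, map_pow]
  obtain ⟨n, hn⟩ := hsep h₁ τ₁ (fun i => by
    obtain ⟨n, hn⟩ := hτ i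
    refine ⟨n, rhoX_injective B₃ (N i) ?_⟩
    rw [map_zero, key, ← rhoX_baseChange]
    exact hn)
  refine ⟨n, ?_⟩
  have := key M n τ₁
  rw [hn, map_zero] at this
  exact this.symm

end Field
end Groth.Agent.H25.SepFamAlg
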