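import Groth.Agent.H25.SepFam
import Groth.Agent.H25.SepFamField

set_option autoImplicit false
universe u v
open CategoryTheory AlgebraicGeometry Scheme.Modules TopologicalSpace Opposite TensorProduct

namespace Groth.Agent.H25.SepFam

open Groth.Agent.H44 Groth.Agent.H25.SepFamAlg

section Alg
variable {A : Type u} [CommRing A] {M : Type u} [AddCommGroup M] [Module A M]
  {ι : Type v} {N : ι → Type u} [∀ i, AddCommGroup (N i)] [∀ i, Module A (N i)]

/-- transfer of separatedness of a base-changed family along an isomorphism of algebras. -/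
theorem sep_baseChange_of_algEquiv {C R : Type u} [CommRing C] [CommRing R] [Algebra A C]
    [Algebra A R] (e : C ≃ₐ[A] R) {u : ∀ i, M →ₗ[A] N i}
    (h : Sep (fun i => (u i).baseChange R)) : Sep (fun i => (u i).baseChange C) := by
  let E := fun (X : Type u) [AddCommGroup X] [Module A X] =>
    LinearEquiv.rTensor X e.toLinearEquiv
  have hsmul : ∀ (X : Type u) [AddCommGroup X] [Module A X] (c : C) (z : C ⊗[A] X),
      E X (c • z) = e c • E X z := by
    intro X _ _ c z
    induction z using TensorProduct.induction_on with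
    | zero => simp
    | tmul s x => simp [E, smul_tmul']
    | add x y hx hy => simp only [smul_add, map_add, hx, hy]
  have hnat : ∀ i (z : C ⊗[A] M), (u i).baseChange R (E M z) = E (N i) ((u i).baseChange C z) := by
    intro i z
    induction z using TensorProduct.induction_on with
    | zero => simp
    | tmul s x => simp [E]
    | add x y hx hy => simp only [map_add, hx, hy]
  intro c τ hτ
  obtain ⟨n, hn⟩ := h (e c) (E M τ) (fun i => by
    obtain ⟨n, hn⟩ := hτ i
    refine ⟨n, ?_⟩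
    show e c ^ n • (u i).baseChange R (E M τ) = 0
    rw [hnat, ← map_pow, ← hsmul]
    have : c ^ n • (u i).baseChange C τ = 0 := hn
    rw [this, map_zero])
  refine ⟨n, (E M).injective ?_⟩
  rw [map_zero, hsmul, map_pow]
  exact hn

end Alg

section Conv
variable {X' : Scheme.{u}} (F' : X'.Modules) [F'.IsQuasicoherent] {ι : Type u} (G' : ι → X'.Modules)
  [∀ i, (G' i).IsQuasicoherent] (v : ∀ i, F' ⟶ G' i)

open Groth.Agent.H18 in
/-- a family of homomorphisms of quasi-coherent modules is separating as soon as it is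
algebraically separating on the members of an affine open cover. -/
theorem isSep_of_sep_affine
    (H : ∀ x' : X', ∃ U₀ : X'.Opens, IsAffineOpen U₀ ∧ x' ∈ U₀ ∧ Sep (fun i => appL (v i) U₀)) :
    IsSep F' G' v := by
  apply isSep_of_basis
  intro V x hxV
  obtain ⟨U₀, hU₀, hxU₀, hsep⟩ := H x
  obtain ⟨r, hr, hxr⟩ := hU₀.exists_basicOpen_le ⟨x, hxV⟩ hxU₀
  refine ⟨X'.basicOpen r, hxr, hr, fun t ht => ?_⟩
  obtain ⟨k, τ, hkτ⟩ := exists_pow_smul_eq_res_of_isQuasicoherent F' hU₀ r t
  have hunit : IsUnit (X'.presheaf.map (homOfLE (X'.basicOpen_le r)).op r) :=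
    RingedSpace.isUnit_res_basicOpen _ r
  have h1 : ∀ i, ∃ n : ℕ, r ^ n • appL (v i) U₀ τ = 0 := by
    intro i
    apply exists_pow_smul_eq_zero_of_isQuasicoherent (G' i) hU₀ r
    have e1 := hom_app_resLE (v i) (X'.basicOpen_le r) τ
    have e2 : (v i).app (X'.basicOpen r) (mres F' (X'.basicOpen_le r) τ) = 0 := by
      rw [← hkτ, Hom.app_smul, ht i, smul_zero]
    rw [appL_apply]
    exact e1.symm.trans e2
  obtain ⟨n, hn⟩ := hsep r τ h1
  have h2 : (X'.presheaf.map (homOfLE (X'.basicOpen_le r)).op r) ^ n •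
      mres F' (X'.basicOpen_le r) τ = 0 := by
    rw [← map_pow, ← mres_smul, hn, map_zero]
  rw [← hkτ, ← mul_smul, ← pow_add] at h2
  exact ((hunit.pow (n + k)).smul_eq_zero).mp h2

end Conv

section Transfer
variable {X X' : Scheme.{u}} (g : X' ⟶ X) (F : X.Modules) [F.IsQuasicoherent] {ι : Type u}
  (G : ι → X.Modules) [∀ i, (G i).IsQuasicoherent] (u : ∀ i, F ⟶ G i)
  {U' : X'.Opens} {U : X.Opens} (hU' : IsAffineOpen U') (hU : IsAffineOpen U) (e : U' ≤ g ⁻¹ᵁ U)

include hU' hU in
/-- separatedness of the pulled back family on an affine chart, from the algebraic one. -/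
theorem sep_appL_pullback
    (h : letI := (g.appLE U U' e).hom.toAlgebra
      Sep (fun i => (appL (u i) U).baseChange Γ(X', U'))) :
    Sep (fun i => appL ((pullback g).map (u i)) U') := by
  letI := (g.appLE U U' e).hom.toAlgebra
  intro c s hs
  obtain ⟨n, hn⟩ := h c (pullbackSectionsEquiv g F hU' hU e s) (fun i => by
    obtain ⟨n, hn⟩ := hs i
    refine ⟨n, ?_⟩
    have h1 := pullbackSectionsEquiv_naturality g (u i) hU' hU e s
    have h2 : (appL (u i) U).baseChange Γ(X', U') (pullbackSectionsEquiv g F hU' hU e s) =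
        pullbackSectionsEquiv g (G i) hU' hU e (((pullback g).map (u i)).app U' s) := h1.symm
    show c ^ n • (appL (u i) U).baseChange Γ(X', U') (pullbackSectionsEquiv g F hU' hU e s) = 0
    rw [h2, ← _root_.map_smul]
    have : c ^ n • ((pullback g).map (u i)).app U' s = 0 := hn
    rw [this, map_zero])
  refine ⟨n, (pullbackSectionsEquiv g F hU' hU e).injective ?_⟩
  rw [_root_.map_smul, map_zero]
  exact hn

end Transfer

section Chart
open CategoryTheory.Limits

variable {X Y S T : Scheme.{u}} {f : T ⟶ S} {g : Y ⟶ X} {iX : X ⟶ S} {iY : Y ⟶ T}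
  (H : IsPullback g iY iX f)
  {US : S.Opens} {UT : T.Opens} {UX : X.Opens} (hUST : UT ≤ f ⁻¹ᵁ US) (hUSX : UX ≤ iX ⁻¹ᵁ US)

include H hUST hUSX in
/-- the product chart of a fibre product of affine opens is affine. -/
theorem isAffineOpen_chart (hUS : IsAffineOpen US) (hUT : IsAffineOpen UT)
    (hUX : IsAffineOpen UX) : IsAffineOpen (g ⁻¹ᵁ UX ⊓ iY ⁻¹ᵁ UT) := by
  have : IsAffine _ := hUS
  have : IsAffine _ := hUT
  have : IsAffine _ := hUX
  exact .of_isIso (Scheme.Hom.isPullback_resLE H hUST hUSX rfl).isoPullback.hom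

/-- the coordinate ring of the product chart is the tensor product. -/
noncomputable def chartEquiv (hUS : IsAffineOpen US) (hUT : IsAffineOpen UT)
    (hUX : IsAffineOpen UX) :
    letI := (iX.appLE US UX hUSX).hom.toAlgebra
    letI := (f.appLE US UT hUST).hom.toAlgebra
    letI := (g.appLE UX (g ⁻¹ᵁ UX ⊓ iY ⁻¹ᵁ UT) inf_le_left).hom.toAlgebra
    Γ(Y, g ⁻¹ᵁ UX ⊓ iY ⁻¹ᵁ UT) ≃ₐ[Γ(X, UX)] Γ(X, UX) ⊗[Γ(S, US)] Γ(T, UT) :=
  letI := (iX.appLE US UX hUSX).hom.toAlgebra
  letI := (f.appLE US UT hUST).hom.toAlgebra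
  letI := (g.appLE UX (g ⁻¹ᵁ UX ⊓ iY ⁻¹ᵁ UT) inf_le_left).hom.toAlgebra
  have hiso := isIso_pushoutSection_of_isAffineOpen H hUST hUSX
    (UY := g ⁻¹ᵁ UX ⊓ iY ⁻¹ᵁ UT) rfl hUS hUT hUX
  have P := (isIso_pushoutSection_iff H hUST hUSX (UY := g ⁻¹ᵁ UX ⊓ iY ⁻¹ᵁ UT) rfl).mp hiso
  have Q := CommRingCat.isPushout_tensorProduct Γ(S, US) Γ(X, UX) Γ(T, UT)
  AlgEquiv.ofRingEquiv (f := (IsPushout.isoIsPushout _ _ P Q).commRingCatIsoToRingEquiv) (by
    intro a
    have h1 := IsPushout.inl_isoIsPushout_hom _ _ P Q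
    exact congr($h1 a))

end Chart

section FieldMain
open CategoryTheory.Limits

variable {k : Type u} [Field k] {X S' : Scheme.{u}} (p : X ⟶ Spec (CommRingCat.of k))
  (q : S' ⟶ Spec (CommRingCat.of k))
  (F : X.Modules) [F.IsQuasicoherent] {ι : Type u} (G : ι → X.Modules)
  [∀ i, (G i).IsQuasicoherent] (u : ∀ i, F ⟶ G i)

/-- the global sections of `Spec k` form a field. -/
@[instance_reducible]
noncomputable def fieldΓSpec : Field Γ(Spec (CommRingCat.of k), ⊤) :=
  (MulEquiv.isField (Field.toIsField k)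
    (Scheme.ΓSpecIso (CommRingCat.of k)).commRingCatIsoToRingEquiv.toMulEquiv).toField

/-- **Separating families of quasi-coherent modules over a field are stable under every base
change.** -/
theorem isSep_pullback_fst_of_field (h : IsSep F G u) :
    IsSep ((Scheme.Modules.pullback (pullback.fst p q)).obj F)
      (fun i => (Scheme.Modules.pullback (pullback.fst p q)).obj (G i))
      (fun i => (Scheme.Modules.pullback (pullback.fst p q)).map (u i)) := by
  have H := IsPullback.of_hasPullback p q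
  apply isSep_of_sep_affine
  intro x'
  obtain ⟨U, hU, hxU, -⟩ := exists_isAffineOpen_mem_and_subset
    (x := pullback.fst p q x') (U := ⊤) trivial
  obtain ⟨T, hT, hxT, -⟩ := exists_isAffineOpen_mem_and_subset
    (x := pullback.snd p q x') (U := ⊤) trivial
  have hS : IsAffineOpen (⊤ : (Spec (CommRingCat.of k)).Opens) := isAffineOpen_top _
  have hUST : T ≤ q ⁻¹ᵁ ⊤ := le_top
  have hUSX : U ≤ p ⁻¹ᵁ ⊤ := le_top
  have hU₀ := isAffineOpen_chart H hUST hUSX hS hT hU
  refine ⟨_, hU₀, ⟨hxU, hxT⟩, ?_⟩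
  apply sep_appL_pullback (pullback.fst p q) F G u hU₀ hU inf_le_left
  letI := fieldΓSpec (k := k)
  letI := (p.appLE ⊤ U hUSX).hom.toAlgebra
  letI := (q.appLE ⊤ T hUST).hom.toAlgebra
  letI := ((pullback.fst p q).appLE U ((pullback.fst p q) ⁻¹ᵁ U ⊓ (pullback.snd p q) ⁻¹ᵁ T)
    inf_le_left).hom.toAlgebra
  exact sep_baseChange_of_algEquiv (chartEquiv H hUST hUSX hS hT hU)
    (sep_baseChange_field Γ(S', T) (sep_of_isSep F G u h hU))

end FieldMain

end Groth.Agent.H25.SepFam
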