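import Groth.Agent.H25.SepV

set_option autoImplicit false
universe u v
open TensorProduct

namespace Groth.Agent.H25.SepV

open Groth.Agent.H25.SepFamAlg

section Bridge
variable {A R C S T : Type u} [CommRing A] [CommRing R] [CommRing C] [CommRing S]
  [Algebra A R] [Algebra R C] [Algebra A C] [IsScalarTower A R C]
  [Algebra R S] [Algebra A S] [IsScalarTower A R S]
  [AddCommGroup T] [Module A T]

/-- the comparison `(C ⊗[R] S) ⊗[C] X ≃ X ⊗[A] T` for a `C`-module `X`, when `A → R` is surjective
and `S ≃ T` as `A`-modules. -/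
noncomputable def theta (hσ : Function.Surjective (algebraMap A R)) (ε : S ≃ₗ[A] T)
    (X : Type u) [AddCommGroup X] [Module C X] [Module R X] [Module A X] [IsScalarTower R C X]
    [IsScalarTower A R X] [IsScalarTower A C X] :
    (C ⊗[R] S) ⊗[C] X ≃ₗ[C] X ⊗[A] T :=
  haveI : TensorProduct.CompatibleSMul A R X S := ⟨fun r m n => by
    obtain ⟨a, rfl⟩ := hσ r
    rw [algebraMap_smul, algebraMap_smul, TensorProduct.smul_tmul]⟩
  (TensorProduct.comm C (C ⊗[R] S) X) ≪≫ₗ
    (TensorProduct.AlgebraTensorModule.cancelBaseChange R C C X S) ≪≫ₗ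
    (TensorProduct.equivOfCompatibleSMul A R C X S) ≪≫ₗ
    (TensorProduct.AlgebraTensorModule.congr (LinearEquiv.refl C X) ε)

theorem theta_tmul (hσ : Function.Surjective (algebraMap A R)) (ε : S ≃ₗ[A] T)
    (X : Type u) [AddCommGroup X] [Module C X] [Module R X] [Module A X] [IsScalarTower R C X]
    [IsScalarTower A R X] [IsScalarTower A C X] (c : C) (s : S) (x : X) :
    theta hσ ε X ((c ⊗ₜ[R] s) ⊗ₜ[C] x) = (c • x) ⊗ₜ[A] ε s := by
  simp [theta, TensorProduct.equivOfCompatibleSMul]

theorem theta_baseChange (hσ : Function.Surjective (algebraMap A R)) (ε : S ≃ₗ[A] T)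
    {X Y : Type u} [AddCommGroup X] [Module C X] [Module R X] [Module A X] [IsScalarTower R C X]
    [IsScalarTower A R X] [IsScalarTower A C X]
    [AddCommGroup Y] [Module C Y] [Module R Y] [Module A Y] [IsScalarTower R C Y]
    [IsScalarTower A R Y] [IsScalarTower A C Y] (φ : X →ₗ[C] Y) (w : (C ⊗[R] S) ⊗[C] X) :
    theta hσ ε Y (φ.baseChange (C ⊗[R] S) w) =
      TensorProduct.AlgebraTensorModule.map φ (LinearMap.id : T →ₗ[A] T) (theta hσ ε X w) := by
  induction w using TensorProduct.induction_on with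
  | zero => simp
  | tmul d x =>
    induction d using TensorProduct.induction_on with
    | zero => simp
    | tmul c s => simp [theta_tmul]
    | add d₁ d₂ h₁ h₂ => simp only [add_tmul, map_add, h₁, h₂]
  | add w₁ w₂ h₁ h₂ => simp only [map_add, h₁, h₂]

/-- **Bridge**: separatedness of the base-changed family over `C ⊗[R] S` gives `IsSepV A v T`. -/
theorem isSepV_of_sep_baseChange (hσ : Function.Surjective (algebraMap A R)) (ε : S ≃ₗ[A] T)
    {M : Type u} [AddCommGroup M] [Module C M] [Module R M] [Module A M] [IsScalarTower R C M]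
    [IsScalarTower A R M] [IsScalarTower A C M]
    {ι : Type v} {N : ι → Type u} [∀ i, AddCommGroup (N i)] [∀ i, Module C (N i)]
    [∀ i, Module R (N i)] [∀ i, Module A (N i)] [∀ i, IsScalarTower R C (N i)]
    [∀ i, IsScalarTower A R (N i)] [∀ i, IsScalarTower A C (N i)]
    (v : ∀ i, M →ₗ[C] N i) (h : Sep (fun i => (v i).baseChange (C ⊗[R] S))) :
    IsSepV A v T := by
  intro g z hz
  obtain ⟨n, hn⟩ := h (algebraMap C (C ⊗[R] S) g) ((theta hσ ε M).symm z) (fun i => by
    obtain ⟨n, hn⟩ := hz i
    refine ⟨n, (theta hσ ε (N i)).injective ?_⟩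
    rw [map_zero, ← map_pow, algebraMap_smul, map_smul, theta_baseChange,
      LinearEquiv.apply_symm_apply]
    exact hn)
  refine ⟨n, ?_⟩
  have := congrArg (theta hσ ε M) hn
  rwa [← map_pow, algebraMap_smul, map_smul, LinearEquiv.apply_symm_apply, map_zero] at this

end Bridge

end Groth.Agent.H25.SepV
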