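import Groth.Agent.H25.SepVFibre
import Groth.Agent.H25.SepVBridge
import Groth.Agent.H25.SepFamFG
import Groth.Agent.H25.SepFamFieldSch
import Groth.Agent.H25.CompCount

set_option autoImplicit false
universe u v
open TensorProduct

namespace Groth.Agent.H25.SepVBC

open Groth.Agent.H25.SepFamAlg

section Equiv
variable {D : Type u} [CommRing D] {Q Q' : Type u} [AddCommGroup Q] [Module D Q]
  [AddCommGroup Q'] [Module D Q']
  {ι : Type v} {P P' : ι → Type u} [∀ i, AddCommGroup (P i)] [∀ i, Module D (P i)]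
  [∀ i, AddCommGroup (P' i)] [∀ i, Module D (P' i)]

/-- transfer of `Sep` along an injective comparison of families. -/
theorem sep_of_injective (e : Q →ₗ[D] Q') (he : Function.Injective e) (e' : ∀ i, P i →ₗ[D] P' i)
    {v : ∀ i, Q →ₗ[D] P i} {v' : ∀ i, Q' →ₗ[D] P' i}
    (hcomm : ∀ i q, e' i (v i q) = v' i (e q)) (h : Sep v') : Sep v := by
  intro g q hq
  obtain ⟨n, hn⟩ := h g (e q) (fun i => by
    obtain ⟨n, hn⟩ := hq i
    refine ⟨n, ?_⟩
    rw [← hcomm, ← map_smul, hn, map_zero])
  refine ⟨n, he ?_⟩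
  rw [map_smul, hn, map_zero]

end Equiv

section Double
variable {C : Type u} [CommRing C] {C₁ : Type u} [CommRing C₁] [Algebra C C₁]
  {E : Type u} [CommRing E] [Algebra C₁ E] [Algebra C E] [IsScalarTower C C₁ E]
  {M : Type u} [AddCommGroup M] [Module C M]
  {ι : Type v} {N : ι → Type u} [∀ i, AddCommGroup (N i)] [∀ i, Module C (N i)]

theorem cancel_baseChange {X Y : Type u} [AddCommGroup X] [Module C X] [AddCommGroup Y]
    [Module C Y] (φ : X →ₗ[C] Y) (z : E ⊗[C₁] (C₁ ⊗[C] X)) :
    TensorProduct.AlgebraTensorModule.cancelBaseChange C C₁ E E Y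
      ((φ.baseChange C₁).baseChange E z) =
    φ.baseChange E (TensorProduct.AlgebraTensorModule.cancelBaseChange C C₁ E E X z) := by
  induction z using TensorProduct.induction_on with
  | zero => simp
  | tmul e w =>
    induction w using TensorProduct.induction_on with
    | zero => simp
    | tmul c x => simp
    | add x y hx hy => simp only [tmul_add, map_add, hx, hy]
  | add x y hx hy => simp only [map_add, hx, hy]

/-- base change in two steps versus base change in one step. -/
theorem sep_baseChange_baseChange {v : ∀ i, M →ₗ[C] N i}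
    (h : Sep (fun i => (v i).baseChange E)) :
    Sep (fun i => ((v i).baseChange C₁).baseChange E) :=
  sep_of_injective
    (TensorProduct.AlgebraTensorModule.cancelBaseChange C C₁ E E M).toLinearMap
    (TensorProduct.AlgebraTensorModule.cancelBaseChange C C₁ E E M).injective
    (fun i => (TensorProduct.AlgebraTensorModule.cancelBaseChange C C₁ E E (N i)).toLinearMap)
    (fun i q => cancel_baseChange (v i) q) h

theorem sep_baseChange_of_baseChange_baseChange {v : ∀ i, M →ₗ[C] N i}
    (h : Sep (fun i => ((v i).baseChange C₁).baseChange E)) :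
    Sep (fun i => (v i).baseChange E) :=
  sep_of_injective
    (TensorProduct.AlgebraTensorModule.cancelBaseChange C C₁ E E M).symm.toLinearMap
    (TensorProduct.AlgebraTensorModule.cancelBaseChange C C₁ E E M).symm.injective
    (fun i => (TensorProduct.AlgebraTensorModule.cancelBaseChange C C₁ E E (N i)).symm.toLinearMap)
    (fun i q => by
      apply (TensorProduct.AlgebraTensorModule.cancelBaseChange C C₁ E E (N i)).injective
      simp only [LinearEquiv.coe_coe, LinearEquiv.apply_symm_apply]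
      rw [cancel_baseChange, LinearEquiv.apply_symm_apply]) h

end Double

section Descent
variable {k : Type u} [CommRing k] {A : Type u} [CommRing A] [Algebra k A]
  {B₁ B : Type u} [CommRing B₁] [Algebra k B₁] [CommRing B] [Algebra k B]
  (φ : B₁ →ₐ[k] B)

/-- the map `A ⊗ B₁ → A ⊗ B`. -/
noncomputable def rhoA : A ⊗[k] B₁ →ₐ[A] A ⊗[k] B :=
  Algebra.TensorProduct.map (AlgHom.id A A) φ

/-- the map `(A ⊗ B₁) ⊗_A X → (A ⊗ B) ⊗_A X`. -/
noncomputable def rhoM (X : Type u) [AddCommGroup X] [Module A X] :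
    (A ⊗[k] B₁) ⊗[A] X →ₗ[A] (A ⊗[k] B) ⊗[A] X :=
  LinearMap.rTensor X (rhoA (A := A) φ).toLinearMap

theorem rhoM_tmul (X : Type u) [AddCommGroup X] [Module A X]
    (r : A ⊗[k] B₁) (x : X) : rhoM φ X (r ⊗ₜ x) = rhoA φ r ⊗ₜ x := rfl

theorem rhoM_smul (X : Type u) [AddCommGroup X] [Module A X]
    (r : A ⊗[k] B₁) (z : (A ⊗[k] B₁) ⊗[A] X) :
    rhoM φ X (r • z) = rhoA φ r • rhoM φ X z := by
  induction z using TensorProduct.induction_on with
  | zero => simp
  | tmul s x => rw [smul_tmul', rhoM_tmul, rhoM_tmul, smul_tmul', smul_eq_mul, smul_eq_mul, map_mul]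
  | add x y hx hy => simp only [smul_add, map_add, hx, hy]

theorem rhoM_baseChange {X Y : Type u} [AddCommGroup X] [Module A X]
    [AddCommGroup Y] [Module A Y] (ψ : X →ₗ[A] Y) (z : (A ⊗[k] B₁) ⊗[A] X) :
    ψ.baseChange (A ⊗[k] B) (rhoM φ X z) = rhoM φ Y (ψ.baseChange (A ⊗[k] B₁) z) := by
  induction z using TensorProduct.induction_on with
  | zero => simp
  | tmul r x => simp [rhoM_tmul]
  | add x y hx hy => simp only [map_add, hx, hy]

/-- if `φ` has a `k`-linear retraction, `rhoM` is injective. -/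
theorem rhoM_injective (r : B →ₗ[k] B₁) (hr : ∀ b, r (φ b) = b)
    (X : Type u) [AddCommGroup X] [Module A X] : Function.Injective (rhoM (A := A) φ X) := by
  let s : A ⊗[k] B →ₗ[A] A ⊗[k] B₁ := TensorProduct.AlgebraTensorModule.map LinearMap.id r
  have hs : ∀ w, s (rhoA (A := A) φ w) = w := by
    intro w
    induction w using TensorProduct.induction_on with
    | zero => simp
    | tmul a b => simp [s, rhoA, hr]
    | add x y hx hy => simp only [map_add, hx, hy]
  have hs' : ∀ z, LinearMap.rTensor X s (rhoM φ X z) = z := by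
    intro z
    induction z using TensorProduct.induction_on with
    | zero => simp
    | tmul w x => rw [rhoM_tmul, LinearMap.rTensor_tmul, hs]
    | add x y hx hy => simp only [map_add, hx, hy]
  exact Function.LeftInverse.injective hs'

/-- **Descent along a split injection**. -/
theorem sep_baseChange_of_retraction (r : B →ₗ[k] B₁) (hr : ∀ b, r (φ b) = b)
    {M : Type u} [AddCommGroup M] [Module A M]
    {ι : Type v} {N : ι → Type u} [∀ i, AddCommGroup (N i)] [∀ i, Module A (N i)]
    {u : ∀ i, M →ₗ[A] N i} (h : Sep (fun i => (u i).baseChange (A ⊗[k] B))) :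
    Sep (fun i => (u i).baseChange (A ⊗[k] B₁)) := by
  intro g z hz
  obtain ⟨n, hn⟩ := h (rhoA φ g) (rhoM φ M z) (fun i => by
    obtain ⟨n, hn⟩ := hz i
    refine ⟨n, ?_⟩
    show rhoA φ g ^ n • (u i).baseChange (A ⊗[k] B) (rhoM φ M z) = 0
    rw [rhoM_baseChange, ← map_pow, ← rhoM_smul]
    have : g ^ n • (u i).baseChange (A ⊗[k] B₁) z = 0 := hn
    rw [this, map_zero])
  refine ⟨n, rhoM_injective φ r hr M ?_⟩
  rw [map_zero, rhoM_smul, map_pow]
  exact hn

end Descent

section Fields
variable {R : Type u} [CommRing R] {C : Type u} [CommRing C] [Algebra R C]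
  {M : Type u} [AddCommGroup M] [Module C M]
  {ι : Type v} {N : ι → Type u} [∀ i, AddCommGroup (N i)] [∀ i, Module C (N i)]
  (v : ∀ i, M →ₗ[C] N i)
  (K L : Type u) [Field K] [Field L] [Algebra R K] [Algebra R L] [Algebra K L] [IsScalarTower R K L]

/-- descent of separatedness along a field extension. -/
theorem sep_down (h : Sep (fun i => (v i).baseChange (C ⊗[R] L))) :
    Sep (fun i => (v i).baseChange (C ⊗[R] K)) := by
  obtain ⟨r, hr⟩ : ∃ r : L →ₗ[K] K, r.comp (Algebra.linearMap K L) = LinearMap.id :=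
    LinearMap.exists_leftInverse_of_injective _ (by
      rw [LinearMap.ker_eq_bot]; exact (algebraMap K L).injective)
  refine sep_baseChange_of_retraction (IsScalarTower.toAlgHom R K L) (r.restrictScalars R) ?_ h
  intro b
  exact LinearMap.congr_fun hr b

end Fields

open Groth.Agent.H25.SepFam

attribute [local instance] Algebra.TensorProduct.rightAlgebra

section Fields2
variable {R : Type u} [CommRing R] {C : Type u} [CommRing C] [Algebra R C]
  {M : Type u} [AddCommGroup M] [Module C M]
  {ι : Type v} {N : ι → Type u} [∀ i, AddCommGroup (N i)] [∀ i, Module C (N i)]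
  (v : ∀ i, M →ₗ[C] N i)

/-- separatedness goes up along an extension of the base field. -/
theorem sep_up (K L : Type u) [Field K] [CommRing L] [Algebra R K] [Algebra R L] [Algebra K L]
    [IsScalarTower R K L] (h : Sep (fun i => (v i).baseChange (C ⊗[R] K))) :
    Sep (fun i => (v i).baseChange (C ⊗[R] L)) := by
  have h1 := sep_baseChange_field (k := K) (A := C ⊗[R] K) L h
  have h2 := sep_baseChange_of_baseChange_baseChange (C := C) (C₁ := C ⊗[R] K)
    (E := (C ⊗[R] K) ⊗[K] L) (v := v) h1
  exact sep_baseChange_of_algEquiv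
    (Algebra.IsPushout.cancelBaseChangeAlg R C K (C ⊗[R] K) L).symm h2

/-- if for every prime `𝔭` of `R` the family is separating over *some* field with kernel `𝔭`,
it is separating over every `R`-field. -/
theorem sep_field_of_prime
    (H : ∀ (𝔭 : Ideal R) [𝔭.IsPrime], ∃ (K₀ : Type u) (_ : Field K₀) (_ : Algebra R K₀),
      RingHom.ker (algebraMap R K₀) = 𝔭 ∧ Sep (fun i => (v i).baseChange (C ⊗[R] K₀)))
    (K : Type u) [Field K] [Algebra R K] : Sep (fun i => (v i).baseChange (C ⊗[R] K)) := by
  let 𝔭 : Ideal R := RingHom.ker (algebraMap R K)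
  haveI : 𝔭.IsPrime := RingHom.ker_isPrime _
  obtain ⟨K₀, _, _, hker, hsep⟩ := H 𝔭
  have hlift : ∀ (F : Type u) [Field F] [Algebra R F] (hF : RingHom.ker (algebraMap R F) = 𝔭),
      𝔭.primeCompl ≤ (IsUnit.submonoid F).comap (algebraMap R F) := by
    intro F _ _ hF r hr
    show IsUnit (algebraMap R F r)
    rw [isUnit_iff_ne_zero]
    intro h0
    exact hr (hF ▸ (RingHom.mem_ker.mpr h0))
  letI a1 : Algebra 𝔭.ResidueField K :=
    (Ideal.ResidueField.lift 𝔭 (algebraMap R K) le_rfl (hlift K rfl)).toAlgebra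
  letI a2 : Algebra 𝔭.ResidueField K₀ :=
    (Ideal.ResidueField.lift 𝔭 (algebraMap R K₀) hker.ge (hlift K₀ hker)).toAlgebra
  haveI t1 : IsScalarTower R 𝔭.ResidueField K := IsScalarTower.of_algebraMap_eq (fun r =>
    (Ideal.ResidueField.lift_algebraMap 𝔭 (algebraMap R K) le_rfl (hlift K rfl) r).symm)
  haveI t2 : IsScalarTower R 𝔭.ResidueField K₀ := IsScalarTower.of_algebraMap_eq (fun r =>
    (Ideal.ResidueField.lift_algebraMap 𝔭 (algebraMap R K₀) hker.ge (hlift K₀ hker) r).symm)
  obtain ⟨L, _, _, _, _, _, _⟩ :=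
    Groth.Agent.H25.CompCount.exists_common_extension 𝔭.ResidueField K K₀
  letI : Algebra R L := ((algebraMap 𝔭.ResidueField L).comp (algebraMap R 𝔭.ResidueField)).toAlgebra
  haveI : IsScalarTower R 𝔭.ResidueField L := IsScalarTower.of_algebraMap_eq (fun r => rfl)
  haveI : IsScalarTower R K L := IsScalarTower.of_algebraMap_eq (fun r => by
    rw [IsScalarTower.algebraMap_apply R 𝔭.ResidueField L,
      IsScalarTower.algebraMap_apply 𝔭.ResidueField K L,
      ← IsScalarTower.algebraMap_apply R 𝔭.ResidueField K])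
  haveI : IsScalarTower R K₀ L := IsScalarTower.of_algebraMap_eq (fun r => by
    rw [IsScalarTower.algebraMap_apply R 𝔭.ResidueField L,
      IsScalarTower.algebraMap_apply 𝔭.ResidueField K₀ L,
      ← IsScalarTower.algebraMap_apply R 𝔭.ResidueField K₀])
  exact sep_down v K L (sep_up v K₀ L hsep)

end Fields2

open Groth.Agent.H25.SepV

section Main
variable {R : Type u} [CommRing R] {C : Type u} [CommRing C] [Algebra R C]
  {M : Type u} [AddCommGroup M] [Module C M]
  {ι : Type v} {N : ι → Type u} [∀ i, AddCommGroup (N i)] [∀ i, Module C (N i)]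
  [∀ i, Module R (N i)] [∀ i, IsScalarTower R C (N i)]
  (v : ∀ i, M →ₗ[C] N i)

theorem flat_baseChange (R₁ : Type u) [CommRing R₁] [Algebra R R₁] (X : Type u) [AddCommGroup X]
    [Module C X] [Module R X] [IsScalarTower R C X] [Module.Flat R X] :
    Module.Flat R₁ ((C ⊗[R] R₁) ⊗[C] X) :=
  Module.Flat.of_linearEquiv (Algebra.IsPushout.cancelBaseChange R R₁ C (C ⊗[R] R₁) X)

/-- the finite type case. -/
theorem sep_baseChange_of_fibres_ft [IsNoetherianRing C] [Module.Finite C M]
    [∀ i, Module.Flat R (N i)]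
    (H : ∀ (K : Type u) [Field K] [Algebra R K], Sep (fun i => (v i).baseChange (C ⊗[R] K)))
    (R₁ : Type u) [CommRing R₁] [Algebra R R₁] [Algebra.FiniteType R R₁] :
    Sep (fun i => (v i).baseChange (C ⊗[R] R₁)) := by
  haveI : IsNoetherianRing (C ⊗[R] R₁) := Algebra.FiniteType.isNoetherianRing C (C ⊗[R] R₁)
  haveI : ∀ i, Module.Flat R₁ ((C ⊗[R] R₁) ⊗[C] N i) := fun i => flat_baseChange R₁ (N i)
  refine sep_of_fibres (R := R₁) (C := C ⊗[R] R₁) (fun i => (v i).baseChange (C ⊗[R] R₁)) ?_
  intro 𝔮 _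
  letI : Field (Localization.AtPrime 𝔮 ⧸ IsLocalRing.maximalIdeal (Localization.AtPrime 𝔮)) :=
    Ideal.Quotient.field _
  refine isSepV_of_sep_baseChange (A := R₁) (R := R₁) (C := C ⊗[R] R₁)
    (S := Localization.AtPrime 𝔮 ⧸ IsLocalRing.maximalIdeal (Localization.AtPrime 𝔮))
    Function.surjective_id (LinearEquiv.refl R₁ _) _ ?_
  apply sep_baseChange_baseChange
  exact sep_baseChange_of_algEquiv
    (Algebra.IsPushout.cancelBaseChangeAlg R C R₁ (C ⊗[R] R₁)
      (Localization.AtPrime 𝔮 ⧸ IsLocalRing.maximalIdeal (Localization.AtPrime 𝔮))) (H _)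

/-- **Fibre criterion, algebraic form**: `C` Noetherian, `M` finite over `C`, the `N i` flat over
`R`. If for every prime `𝔭` of `R` the family is separating after base change to some field with
kernel `𝔭`, then it is separating after every base change `R → R'`. -/
theorem sep_baseChange_of_fibres [IsNoetherianRing C] [Module.Finite C M]
    [∀ i, Module.Flat R (N i)]
    (H : ∀ (𝔭 : Ideal R) [𝔭.IsPrime], ∃ (K₀ : Type u) (_ : Field K₀) (_ : Algebra R K₀),
      RingHom.ker (algebraMap R K₀) = 𝔭 ∧ Sep (fun i => (v i).baseChange (C ⊗[R] K₀)))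
    (R' : Type u) [CommRing R'] [Algebra R R'] :
    Sep (fun i => (v i).baseChange (C ⊗[R] R')) := by
  apply Groth.Agent.H25.SepFamFG.sep_baseChange_of_fg R'
  intro R₁ hfg
  haveI : Algebra.FiniteType R R₁ := (Subalgebra.fg_iff_finiteType R₁).mp hfg
  exact sep_baseChange_of_fibres_ft v (fun K _ _ => sep_field_of_prime v H K) R₁

end Main

end Groth.Agent.H25.SepVBC
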