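import Groth.Agent.H25.SepFamFGSch
import Groth.Agent.H25.SepVBC
import Groth.Agent.H44.FiniteSections

set_option autoImplicit false
universe u v
open CategoryTheory CategoryTheory.Limits AlgebraicGeometry Scheme.Modules TopologicalSpace Opposite
  TensorProduct

namespace Groth.Agent.H25.SepFam

open Groth.Agent.H44 Groth.Agent.H25.SepFamAlg

section Ker
variable {S : Scheme.{u}}

theorem appLE_fromSpecResidueField_eq_zero_iff {V : S.Opens} (s : S)
    (h : (⊤ : (Spec (S.residueField s)).Opens) ≤ (S.fromSpecResidueField s) ⁻¹ᵁ V) (f : Γ(S, V)) :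
    ((S.fromSpecResidueField s).appLE V ⊤ h) f = 0 ↔ s ∉ S.basicOpen f := by
  haveI : IsReduced (Spec (S.residueField s)) := inferInstance
  rw [← AlgebraicGeometry.basicOpen_eq_bot_iff, Scheme.basicOpen_appLE, top_inf_eq]
  constructor
  · intro h0 hsf
    have hne : Nonempty (Spec (S.residueField s)) := inferInstance
    obtain ⟨y⟩ := hne
    have hy : y ∈ (S.fromSpecResidueField s) ⁻¹ᵁ (S.basicOpen f) := by
      show S.fromSpecResidueField s y ∈ S.basicOpen f
      rw [Scheme.fromSpecResidueField_apply]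
      exact hsf
    rw [h0] at hy
    exact hy
  · intro hsf
    ext y
    simp only [Opens.coe_bot, Set.mem_empty_iff_false, iff_false]
    intro hy
    have : S.fromSpecResidueField s y ∈ S.basicOpen f := hy
    rw [Scheme.fromSpecResidueField_apply] at this
    exact hsf this

end Ker

section General
variable {X S S' : Scheme.{u}} (p : X ⟶ S) (g : S' ⟶ S) (F : X.Modules) [F.IsQuasicoherent]
  {ι : Type u} (G : ι → X.Modules) [∀ i, (G i).IsQuasicoherent] (u : ∀ i, F ⟶ G i)

/-- the family pulled back along `X ×_S S' ⟶ X` is separating. -/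
abbrev IsSepPB : Prop :=
  IsSep ((Scheme.Modules.pullback (pullback.fst p g)).obj F)
    (fun i => (Scheme.Modules.pullback (pullback.fst p g)).obj (G i))
    (fun i => (Scheme.Modules.pullback (pullback.fst p g)).map (u i))

theorem sep_tensor_of_isSepPB {V : S.Opens} {T : S'.Opens} {U : X.Opens} (hV : IsAffineOpen V)
    (hT : IsAffineOpen T) (hU : IsAffineOpen U) (hTV : T ≤ g ⁻¹ᵁ V) (hUV : U ≤ p ⁻¹ᵁ V)
    (h : IsSepPB p g F G u) :
    letI := (p.appLE V U hUV).hom.toAlgebra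
    letI := (g.appLE V T hTV).hom.toAlgebra
    Sep (fun i => (appL (u i) U).baseChange (Γ(X, U) ⊗[Γ(S, V)] Γ(S', T))) := by
  have H := IsPullback.of_hasPullback p g
  have hU₀ := isAffineOpen_chart H hTV hUV hV hT hU
  have h1 := sep_of_isSep _ _ _ h hU₀
  have h2 := sep_baseChange_of_sep_appL_pullback (pullback.fst p g) F G u hU₀ hU inf_le_left h1
  letI := (p.appLE V U hUV).hom.toAlgebra
  letI := (g.appLE V T hTV).hom.toAlgebra
  letI := ((pullback.fst p g).appLE U
    ((pullback.fst p g) ⁻¹ᵁ U ⊓ (pullback.snd p g) ⁻¹ᵁ T) inf_le_left).hom.toAlgebra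
  exact sep_baseChange_of_algEquiv (chartEquiv H hTV hUV hV hT hU).symm h2

theorem isSepPB_of_sep_tensor
    (h : ∀ x' : ↥(pullback p g), ∃ (V : S.Opens) (T : S'.Opens) (U : X.Opens)
      (_ : IsAffineOpen V) (_ : IsAffineOpen T) (_ : IsAffineOpen U)
      (hTV : T ≤ g ⁻¹ᵁ V) (hUV : U ≤ p ⁻¹ᵁ V),
      pullback.fst p g x' ∈ U ∧ pullback.snd p g x' ∈ T ∧
      letI := (p.appLE V U hUV).hom.toAlgebra
      letI := (g.appLE V T hTV).hom.toAlgebra
      Sep (fun i => (appL (u i) U).baseChange (Γ(X, U) ⊗[Γ(S, V)] Γ(S', T)))) :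
    IsSepPB p g F G u := by
  have H := IsPullback.of_hasPullback p g
  apply isSep_of_sep_affine
  intro x'
  obtain ⟨V, T, U, hV, hT, hU, hTV, hUV, hxU, hxT, hsep⟩ := h x'
  have hU₀ := isAffineOpen_chart H hTV hUV hV hT hU
  refine ⟨_, hU₀, ⟨hxU, hxT⟩, ?_⟩
  apply sep_appL_pullback (pullback.fst p g) F G u hU₀ hU inf_le_left
  letI := (p.appLE V U hUV).hom.toAlgebra
  letI := (g.appLE V T hTV).hom.toAlgebra
  letI := ((pullback.fst p g).appLE U
    ((pullback.fst p g) ⁻¹ᵁ U ⊓ (pullback.snd p g) ⁻¹ᵁ T) inf_le_left).hom.toAlgebra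
  exact sep_baseChange_of_algEquiv (chartEquiv H hTV hUV hV hT hU) hsep

end General

section Main
variable {X S S' : Scheme.{u}} (p : X ⟶ S) (g : S' ⟶ S) (F : X.Modules) [F.IsQuasicoherent]
  {ι : Type u} (G : ι → X.Modules) [∀ i, (G i).IsQuasicoherent] (u : ∀ i, F ⟶ G i)

/-- **Fibre criterion for separating families** (EGA IV 11.9.10, case `Z_λ = X`). -/
theorem isSepPB_of_fibres [IsLocallyNoetherian X]
    [SheafOfModules.IsFiniteType (R := X.ringCatSheaf) F]
    (hG : ∀ i, FlatMod.IsFlatOver p (G i))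
    (hfib : ∀ s : S, IsSepPB p (S.fromSpecResidueField s) F G u) :
    IsSepPB p g F G u := by
  apply isSepPB_of_sep_tensor
  intro x'
  have hcond : p (pullback.fst p g x') = g (pullback.snd p g x') := by
    have := pullback.condition (f := p) (g := g)
    exact congr($this x')
  obtain ⟨V, hV, hsV, -⟩ := exists_isAffineOpen_mem_and_subset
    (x := g (pullback.snd p g x')) (U := ⊤) trivial
  obtain ⟨T, hT, hxT, hTV⟩ := exists_isAffineOpen_mem_and_subset
    (x := pullback.snd p g x') (U := g ⁻¹ᵁ V) hsV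
  obtain ⟨U, hU, hxU, hUV⟩ := exists_isAffineOpen_mem_and_subset
    (x := pullback.fst p g x') (U := p ⁻¹ᵁ V) (by show p _ ∈ V; rw [hcond]; exact hsV)
  refine ⟨V, T, U, hV, hT, hU, hTV, hUV, hxU, hxT, ?_⟩
  letI := (p.appLE V U hUV).hom.toAlgebra
  letI := (g.appLE V T hTV).hom.toAlgebra
  letI : ∀ i, Module Γ(S, V) Γ(G i, U) := fun i => Module.compHom _ (p.appLE V U hUV).hom
  haveI : ∀ i, IsScalarTower Γ(S, V) Γ(X, U) Γ(G i, U) := fun i =>
    IsScalarTower.of_algebraMap_smul (fun r m => rfl)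
  haveI : ∀ i, Module.Flat Γ(S, V) Γ(G i, U) := fun i =>
    Groth.Agent.H71.QCoh.flat_sections_base_of_isFlatOverAt p (G i) hU hV hUV
      (fun x _ => hG i x)
  haveI : IsNoetherianRing Γ(X, U) := IsLocallyNoetherian.component_noetherian ⟨U, hU⟩
  haveI : Module.Finite Γ(X, U) Γ(F, U) := Groth.Agent.H44.finite_sections_of_isFiniteType F hU
  refine Groth.Agent.H25.SepVBC.sep_baseChange_of_fibres (R := Γ(S, V)) (C := Γ(X, U))
    (fun i => appL (u i) U) ?_ Γ(S', T)
  intro 𝔭 h𝔭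
  let s : S := hV.fromSpec ⟨𝔭, h𝔭⟩
  have hsV' : s ∈ V := by
    have := hV.opensRange_fromSpec
    rw [← this]
    exact ⟨_, rfl⟩
  have htop : (⊤ : (Spec (S.residueField s)).Opens) ≤ (S.fromSpecResidueField s) ⁻¹ᵁ V := by
    intro y _
    show S.fromSpecResidueField s y ∈ V
    rw [Scheme.fromSpecResidueField_apply]
    exact hsV'
  letI := fieldΓSpec (k := S.residueField s)
  refine ⟨Γ(Spec (S.residueField s), ⊤), inferInstance,
    ((S.fromSpecResidueField s).appLE V ⊤ htop).hom.toAlgebra, ?_, ?_⟩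
  · ext f
    rw [RingHom.mem_ker]
    show ((S.fromSpecResidueField s).appLE V ⊤ htop) f = 0 ↔ _
    rw [appLE_fromSpecResidueField_eq_zero_iff]
    have h1 : s ∈ S.basicOpen f ↔ f ∉ 𝔭 := by
      have h2 : s ∈ S.basicOpen f ↔ (⟨𝔭, h𝔭⟩ : Spec Γ(S, V)) ∈
          hV.fromSpec ⁻¹ᵁ (S.basicOpen f) := Iff.rfl
      rw [h2, hV.fromSpec_preimage_basicOpen]
      exact Iff.rfl
    rw [h1, not_not]
  · exact sep_tensor_of_isSepPB p (S.fromSpecResidueField s) F G u hV (isAffineOpen_top _) hU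
      htop hUV (hfib s)

end Main

end Groth.Agent.H25.SepFam
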