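import Groth.Agent.H25.SchDomField
import Groth.Agent.H25.SepFamFibre

set_option autoImplicit false
universe u v
open CategoryTheory CategoryTheory.Limits AlgebraicGeometry TopologicalSpace Opposite TensorProduct

namespace Groth.Agent.H25.SchDom

open Groth.Agent.H25.SepFamAlg Groth.Agent.H25.SepFam

section ToAlg
variable {X Y : Scheme.{u}} {ι : Type u} {Z Z' : ι → Scheme.{u}} (f : ∀ i, Z i ⟶ X) (q : Y ⟶ X)
  (b : ∀ i, Z' i ⟶ Y) (r : ∀ i, Z' i ⟶ Z i) (hcomm : ∀ i, b i ≫ q = r i ≫ f i)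

include hcomm in
/-- from schematic dominance of a family over `Y` lying over the family `f` to the algebraic
separatedness of the base-changed family on charts. -/
theorem sep_baseChange_of_isSchDom (h : IsSchDom Z' b) {U : X.Opens} {U' : Y.Opens}
    (hU' : IsAffineOpen U') (e : U' ≤ q ⁻¹ᵁ U) :
    letI := (q.appLE U U' e).hom.toAlgebra
    Sep (fun j : Idx Z f U => (Algebra.linearMap Γ(X, U) j.ring).baseChange Γ(Y, U')) := by
  letI := (q.appLE U U' e).hom.toAlgebra
  intro c z hz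
  obtain ⟨t, rfl⟩ : ∃ t : Γ(Y, U'), z = t ⊗ₜ[Γ(X, U)] (1 : Γ(X, U)) := by
    refine ⟨TensorProduct.rid Γ(X, U) Γ(Y, U') z, ?_⟩
    exact ((TensorProduct.rid Γ(X, U) Γ(Y, U')).symm_apply_apply z).symm
  have hloc := hU'.isLocalization_basicOpen c
  have h0 : algebraMap Γ(Y, U') Γ(Y, Y.basicOpen c) t = 0 := by
    apply h
    intro i
    refine (Z' i).IsSheaf.section_ext (fun z' hz' => ?_)
    have hz'U' : b i z' ∈ U' := Y.basicOpen_le c hz'
    have hrz : r i z' ∈ (f i) ⁻¹ᵁ U := by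
      show f i (r i z') ∈ U
      have h1 : (r i ≫ f i) z' = (b i ≫ q) z' := by rw [hcomm]
      have h2 : f i (r i z') = q (b i z') := h1
      rw [h2]
      exact e hz'U'
    obtain ⟨W, hW, hzW, hWle⟩ := exists_isAffineOpen_mem_and_subset hrz
    let j : Idx Z f U := ⟨i, W, hW, hWle⟩
    obtain ⟨n, hn⟩ := hz j
    set W'' : (Z' i).Opens := (r i) ⁻¹ᵁ W ⊓ (b i) ⁻¹ᵁ (Y.basicOpen c) with hW''
    refine ⟨W'', inf_le_right, ⟨hzW, hz'⟩, ?_⟩
    rw [map_zero]
    have eb : W'' ≤ (b i) ⁻¹ᵁ U' := inf_le_right.trans (fun y hy => Y.basicOpen_le c hy)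
    have er : W'' ≤ (r i) ⁻¹ᵁ W := inf_le_left
    have ebq : W'' ≤ (b i ≫ q) ⁻¹ᵁ U := fun y hy => e (eb hy)
    letI : Algebra Γ(X, U) Γ(Z' i, W'') := ((b i ≫ q).appLE U W'' ebq).hom.toAlgebra
    let φ₁ : Γ(Y, U') →ₐ[Γ(X, U)] Γ(Z' i, W'') :=
      { ((b i).appLE U' W'' eb).hom with
        commutes' := fun x => by
          show ((b i).appLE U' W'' eb).hom ((q.appLE U U' e).hom x) = ((b i ≫ q).appLE U W'' ebq).hom x
          rw [← Scheme.Hom.appLE_comp_appLE _ _ U U' W'' e eb]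
          rfl }
    letI : Algebra Γ(X, U) Γ(Z i, W) := ((f i).appLE U W hWle).hom.toAlgebra
    let φ₂ : Γ(Z i, W) →ₐ[Γ(X, U)] Γ(Z' i, W'') :=
      { ((r i).appLE W W'' er).hom with
        commutes' := fun x => by
          show ((r i).appLE W W'' er).hom (((f i).appLE U W hWle).hom x) =
            ((b i ≫ q).appLE U W'' ebq).hom x
          have h3 : (b i ≫ q).appLE U W'' ebq = (r i ≫ f i).appLE U W'' (by rw [← hcomm]; exact ebq) := by
            congr 1
            exact hcomm i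
          rw [h3, ← Scheme.Hom.appLE_comp_appLE _ _ U W W'' hWle er]
          rfl }
    let ψ := Algebra.TensorProduct.productMap φ₁ φ₂
    have h4 : ψ (c ^ n • (t ⊗ₜ[Γ(X, U)] (1 : Γ(Z i, W)))) = 0 := by
      have : c ^ n • (Algebra.linearMap Γ(X, U) j.ring).baseChange Γ(Y, U')
          (t ⊗ₜ[Γ(X, U)] (1 : Γ(X, U))) = 0 := hn
      rw [LinearMap.baseChange_tmul, Algebra.linearMap_apply, map_one] at this
      rw [this, map_zero]
    rw [smul_tmul', smul_eq_mul, Algebra.TensorProduct.productMap_apply_tmul, map_one, mul_one,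
      map_mul, map_pow] at h4
    have hunit : IsUnit (φ₁ c) := by
      have h5 : φ₁ c = (Z' i).presheaf.map (homOfLE (inf_le_right : W'' ≤ (b i) ⁻¹ᵁ (Y.basicOpen c))).op
          ((b i).app (Y.basicOpen c) (algebraMap Γ(Y, U') Γ(Y, Y.basicOpen c) c)) := by
        show ((b i).appLE U' W'' eb) c = _
        change _ = ((Y.presheaf.map (homOfLE (Y.basicOpen_le c)).op ≫ (b i).app (Y.basicOpen c)) ≫
          (Z' i).presheaf.map _) c
        rw [Category.assoc, ← Scheme.Hom.appLE, Scheme.Hom.map_appLE]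
      rw [h5]
      exact ((IsLocalization.Away.algebraMap_isUnit c).map _).map _
    have h6 : φ₁ t = 0 := ((hunit.pow n).mul_right_eq_zero).mp h4
    have h7 : φ₁ t = (Z' i).presheaf.map (homOfLE (inf_le_right : W'' ≤ (b i) ⁻¹ᵁ (Y.basicOpen c))).op
        ((b i).app (Y.basicOpen c) (algebraMap Γ(Y, U') Γ(Y, Y.basicOpen c) t)) := by
      show ((b i).appLE U' W'' eb) t = _
      change _ = ((Y.presheaf.map (homOfLE (Y.basicOpen_le c)).op ≫ (b i).app (Y.basicOpen c)) ≫
        (Z' i).presheaf.map _) t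
      rw [Category.assoc, ← Scheme.Hom.appLE, Scheme.Hom.map_appLE]
    rw [← h7]
    exact h6
  obtain ⟨⟨c', n, rfl⟩, hc⟩ := (IsLocalization.map_eq_zero_iff (Submonoid.powers c) _ t).mp h0
  refine ⟨n, ?_⟩
  rw [smul_tmul', smul_eq_mul]
  have : c ^ n * t = 0 := hc
  rw [this, zero_tmul]

end ToAlg

section General
variable {X S S' : Scheme.{u}} (p : X ⟶ S) (g : S' ⟶ S) {ι : Type u} {Z : ι → Scheme.{u}}
  (f : ∀ i, Z i ⟶ X)

/-- the base change of `f i` along `X ×_S S' ⟶ X`. -/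
noncomputable abbrev bcMapG (i : ι) : pullback (f i ≫ p) g ⟶ pullback p g :=
  pullback.map (f i ≫ p) g p g (f i) (𝟙 S') (𝟙 _) (Category.comp_id _)
    ((Category.comp_id _).trans (Category.id_comp _).symm)

theorem bcMapG_fst (i : ι) :
    bcMapG p g f i ≫ pullback.fst p g = pullback.fst (f i ≫ p) g ≫ f i := by
  rw [bcMapG, pullback.map, pullback.lift_fst]

theorem isPullback_bcMapG (i : ι) :
    IsPullback (pullback.fst (f i ≫ p) g) (bcMapG p g f i) (f i) (pullback.fst p g) := by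
  have hbig : IsPullback (pullback.fst (f i ≫ p) g) (pullback.snd (f i ≫ p) g) (f i ≫ p) g :=
    IsPullback.of_hasPullback _ _
  have hright : IsPullback (pullback.fst p g) (pullback.snd p g) p g :=
    IsPullback.of_hasPullback _ _
  have e1 : bcMapG p g f i ≫ pullback.snd p g = pullback.snd (f i ≫ p) g := by
    rw [bcMapG, pullback.map, pullback.lift_snd, Category.comp_id]
  have e2 := bcMapG_fst p g f i
  have hbig' : IsPullback (bcMapG p g f i ≫ pullback.snd p g) (pullback.fst (f i ≫ p) g) g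
      (f i ≫ p) := by
    rw [e1]; exact hbig.flip
  exact (IsPullback.of_right hbig' e2 hright.flip).flip

/-- the base-changed family is schematically dominant. -/
abbrev IsSchDomPB : Prop := IsSchDom (fun i => pullback (f i ≫ p) g) (bcMapG p g f)

/-- from schematic dominance of the base-changed family to the algebraic statement. -/
theorem sep_tensor_of_isSchDomPB {V : S.Opens} {T : S'.Opens} {U : X.Opens} (hV : IsAffineOpen V)
    (hT : IsAffineOpen T) (hU : IsAffineOpen U) (hTV : T ≤ g ⁻¹ᵁ V) (hUV : U ≤ p ⁻¹ᵁ V)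
    (h : IsSchDomPB p g f) :
    letI := (p.appLE V U hUV).hom.toAlgebra
    letI := (g.appLE V T hTV).hom.toAlgebra
    Sep (fun j : Idx Z f U => (Algebra.linearMap Γ(X, U) j.ring).baseChange
      (Γ(X, U) ⊗[Γ(S, V)] Γ(S', T))) := by
  have H := IsPullback.of_hasPullback p g
  have hU₀ := isAffineOpen_chart H hTV hUV hV hT hU
  have h2 := sep_baseChange_of_isSchDom f (pullback.fst p g) (bcMapG p g f)
    (fun i => pullback.fst (f i ≫ p) g) (fun i => bcMapG_fst p g f i) h (U := U) hU₀ inf_le_left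
  letI := (p.appLE V U hUV).hom.toAlgebra
  letI := (g.appLE V T hTV).hom.toAlgebra
  letI := ((pullback.fst p g).appLE U
    ((pullback.fst p g) ⁻¹ᵁ U ⊓ (pullback.snd p g) ⁻¹ᵁ T) inf_le_left).hom.toAlgebra
  exact sep_baseChange_of_algEquiv (chartEquiv H hTV hUV hV hT hU).symm h2

variable {f}

/-- from the algebraic statement on charts to schematic dominance of the base-changed family. -/
theorem isSchDomPB_of_sep_tensor
    (h : ∀ x' : ↥(pullback p g), ∃ (V : S.Opens) (T : S'.Opens) (U : X.Opens)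
      (_ : IsAffineOpen V) (_ : IsAffineOpen T) (_ : IsAffineOpen U)
      (hTV : T ≤ g ⁻¹ᵁ V) (hUV : U ≤ p ⁻¹ᵁ V),
      pullback.fst p g x' ∈ U ∧ pullback.snd p g x' ∈ T ∧
      letI := (p.appLE V U hUV).hom.toAlgebra
      letI := (g.appLE V T hTV).hom.toAlgebra
      Sep (fun j : Idx Z f U => (Algebra.linearMap Γ(X, U) j.ring).baseChange
        (Γ(X, U) ⊗[Γ(S, V)] Γ(S', T)))) :
    IsSchDomPB p g f := by
  intro V t ht
  have H := IsPullback.of_hasPullback p g
  refine (pullback p g).IsSheaf.section_ext (fun x' hx' => ?_)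
  obtain ⟨VS, T, U, hS, hT, hU, hUST, hUSX, hxU, hxT, hsep0⟩ := h x'
  have hU₀ := isAffineOpen_chart H hUST hUSX hS hT hU
  obtain ⟨c, hcle, hxc⟩ := hU₀.exists_basicOpen_le (V := V) ⟨x', hx'⟩ ⟨hxU, hxT⟩
  refine ⟨_, hcle, hxc, ?_⟩
  rw [map_zero]
  set D := (pullback p g).basicOpen c with hD
  have hDle : D ≤ (pullback.fst p g) ⁻¹ᵁ U ⊓ (pullback.snd p g) ⁻¹ᵁ T :=
    (pullback p g).basicOpen_le c
  have hDU : D ≤ (pullback.fst p g) ⁻¹ᵁ U := hDle.trans inf_le_left
  set t' : Γ(pullback p g, D) := (pullback p g).presheaf.map (homOfLE hcle).op t with ht'def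
  have ht' : ∀ i, (bcMapG p g f i).app D t' = 0 := by
    intro i
    have := (bcMapG p g f i).naturality (homOfLE hcle).op
    have h2 := congr($this t)
    rw [CommRingCat.comp_apply, CommRingCat.comp_apply, ht i, map_zero] at h2
    exact h2
  letI := (p.appLE VS U hUSX).hom.toAlgebra
  letI := (g.appLE VS T hUST).hom.toAlgebra
  letI := ((pullback.fst p g).appLE U ((pullback.fst p g) ⁻¹ᵁ U ⊓ (pullback.snd p g) ⁻¹ᵁ T)
    inf_le_left).hom.toAlgebra
  letI : Algebra Γ(X, U) Γ(pullback p g, D) := ((pullback.fst p g).appLE U D hDU).hom.toAlgebra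
  haveI : IsScalarTower Γ(X, U)
      Γ(pullback p g, (pullback.fst p g) ⁻¹ᵁ U ⊓ (pullback.snd p g) ⁻¹ᵁ T)
      Γ(pullback p g, D) := by
    refine IsScalarTower.of_algebraMap_eq' ?_
    show ((pullback.fst p g).appLE U D hDU).hom =
      ((pullback p g).presheaf.map (homOfLE hDle).op).hom.comp
        ((pullback.fst p g).appLE U _ inf_le_left).hom
    rw [← CommRingCat.hom_comp, Scheme.Hom.appLE_map]
  haveI : IsLocalization.Away c Γ(pullback p g, D) := hU₀.isLocalization_basicOpen c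
  have hsep : Sep (fun j : Idx Z f U => (Algebra.linearMap Γ(X, U) j.ring).baseChange
      Γ(pullback p g, (pullback.fst p g) ⁻¹ᵁ U ⊓ (pullback.snd p g) ⁻¹ᵁ T)) :=
    sep_baseChange_of_algEquiv (chartEquiv H hUST hUSX hS hT hU) hsep0
  have hz : (t' ⊗ₜ[Γ(X, U)] (1 : Γ(X, U)) : Γ(pullback p g, D) ⊗[Γ(X, U)] Γ(X, U)) = 0 := by
    refine eq_zero_of_sep_baseChange_away c hsep _ (fun j => ?_)
    rw [LinearMap.baseChange_tmul, Algebra.linearMap_apply, map_one]
    have h1 := one_tmul_eq_zero (isPullback_bcMapG p g f j.1) hU (hU₀.basicOpen c) j.2.2.1 hDU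
      j.2.2.2 t' (ht' j.1)
    have h2 := congrArg (TensorProduct.comm Γ(X, U) j.ring Γ(pullback p g, D)) h1
    rwa [TensorProduct.comm_tmul, map_zero] at h2
  have := congrArg (TensorProduct.rid Γ(X, U) Γ(pullback p g, D)) hz
  rwa [TensorProduct.rid_tmul, one_smul, map_zero] at this

end General

section Main
variable {X S S' : Scheme.{u}} (p : X ⟶ S) (g : S' ⟶ S) {ι : Type u} {Z : ι → Scheme.{u}}
  {f : ∀ i, Z i ⟶ X}

/-- **Fibre criterion for universally schematically dominant families** (EGA IV 11.10.9). -/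
theorem isSchDomPB_of_fibres [IsLocallyNoetherian X] [∀ i, Flat (f i ≫ p)]
    (hfib : ∀ s : S, IsSchDomPB p (S.fromSpecResidueField s) f) :
    IsSchDomPB p g f := by
  apply isSchDomPB_of_sep_tensor
  intro x'
  have hcond : p (pullback.fst p g x') = g (pullback.snd p g x') := by
    have := pullback.condition (f := p) (g := g)
    exact congr($this x')
  obtain ⟨V, hV, hsV, -⟩ := exists_isAffineOpen_mem_and_subset
    (x := g (pullback.snd p g x')) (U := ⊤) trivial
  obtain ⟨T, hT, hxT, hTV⟩ := exists_isAffineOpen_mem_and_subset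
    (x := pullback.snd p g x') (U := g ⁻¹ᵁ V) hsV
  obtain ⟨U, hU, hxU, hUV⟩ := exists_isAffineOpen_mem_and_subset
    (x := pullback.fst p g x') (U := p ⁻¹ᵁ V) (by show p _ ∈ V; rw [hcond]; exact hsV)
  refine ⟨V, T, U, hV, hT, hU, hTV, hUV, hxU, hxT, ?_⟩
  letI := (p.appLE V U hUV).hom.toAlgebra
  letI := (g.appLE V T hTV).hom.toAlgebra
  have hle : ∀ j : Idx Z f U, j.2.1 ≤ (f j.1 ≫ p) ⁻¹ᵁ V := fun j y hy => hUV (j.2.2.2 hy)
  letI : ∀ j : Idx Z f U, Algebra Γ(S, V) j.ring := fun j =>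
    ((f j.1 ≫ p).appLE V j.2.1 (hle j)).hom.toAlgebra
  haveI : ∀ j : Idx Z f U, IsScalarTower Γ(S, V) Γ(X, U) j.ring := fun j => by
    refine IsScalarTower.of_algebraMap_eq' ?_
    show ((f j.1 ≫ p).appLE V j.2.1 (hle j)).hom =
      ((f j.1).appLE U j.2.1 j.2.2.2).hom.comp (p.appLE V U hUV).hom
    rw [← CommRingCat.hom_comp, Scheme.Hom.appLE_comp_appLE]
  haveI : ∀ j : Idx Z f U, Module.Flat Γ(S, V) j.ring := fun j =>
    Flat.flat_appLE (f j.1 ≫ p) hV j.2.2.1 (hle j)
  haveI : IsNoetherianRing Γ(X, U) := IsLocallyNoetherian.component_noetherian ⟨U, hU⟩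
  refine Groth.Agent.H25.SepVBC.sep_baseChange_of_fibres (R := Γ(S, V)) (C := Γ(X, U))
    (fun j : Idx Z f U => Algebra.linearMap Γ(X, U) j.ring) ?_ Γ(S', T)
  intro 𝔭 h𝔭
  let s : S := hV.fromSpec ⟨𝔭, h𝔭⟩
  have hsV' : s ∈ V := by
    have := hV.opensRange_fromSpec
    rw [← this]
    exact ⟨_, rfl⟩
  have htop : (⊤ : (Spec (S.residueField s)).Opens) ≤ (S.fromSpecResidueField s) ⁻¹ᵁ V := by
    intro y _
    show S.fromSpecResidueField s y ∈ V
    rw [Scheme.fromSpecResidueField_apply]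
    exact hsV'
  letI := fieldΓSpec (k := S.residueField s)
  refine ⟨Γ(Spec (S.residueField s), ⊤), inferInstance,
    ((S.fromSpecResidueField s).appLE V ⊤ htop).hom.toAlgebra, ?_, ?_⟩
  · ext a
    rw [RingHom.mem_ker]
    show ((S.fromSpecResidueField s).appLE V ⊤ htop) a = 0 ↔ _
    rw [appLE_fromSpecResidueField_eq_zero_iff]
    have h1 : s ∈ S.basicOpen a ↔ a ∉ 𝔭 := by
      have h2 : s ∈ S.basicOpen a ↔ (⟨𝔭, h𝔭⟩ : Spec Γ(S, V)) ∈
          hV.fromSpec ⁻¹ᵁ (S.basicOpen a) := Iff.rfl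
      rw [h2, hV.fromSpec_preimage_basicOpen]
      exact Iff.rfl
    rw [h1, not_not]
  · exact sep_tensor_of_isSchDomPB p (S.fromSpecResidueField s) f hV (isAffineOpen_top _) hU
      htop hUV (hfib s)

end Main


section FiberMap
variable {X S : Scheme.{u}} (p : X ⟶ S) {Z : Scheme.{u}} (f : Z ⟶ X) (s : S)

theorem fiberMap_eq_pullback_map :
    @Eq ((f ≫ p).fiber s ⟶ p.fiber s) (MoreMor.fiberMap f p s)
      (pullback.map (f ≫ p) (S.fromSpecResidueField s) p
      (S.fromSpecResidueField s) f (𝟙 _) (𝟙 _) (Category.comp_id _)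
      ((Category.comp_id _).trans (Category.id_comp _).symm)) := by
  unfold MoreMor.fiberMap pullback.map
  congr 1

end FiberMap

end Groth.Agent.H25.SchDom
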