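import Groth.Agent.H25.SchDom
import Groth.Agent.H25.SepFamFieldSch

set_option autoImplicit false
universe u v
open CategoryTheory CategoryTheory.Limits AlgebraicGeometry TopologicalSpace Opposite TensorProduct

namespace Groth.Agent.H25.SchDom

open Groth.Agent.H25.SepFamAlg Groth.Agent.H25.SepFam

section Alg
variable {A : Type u} [CommRing A] {M : Type u} [AddCommGroup M] [Module A M]
  {ι : Type v} {N : ι → Type u} [∀ i, AddCommGroup (N i)] [∀ i, Module A (N i)]

/-- from separatedness of a base-changed family over `C₀` to joint injectivity over a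
localization `C₀[1/c]`. -/
theorem eq_zero_of_sep_baseChange_away {C₀ C : Type u} [CommRing C₀] [CommRing C] [Algebra A C₀]
    [Algebra C₀ C] [Algebra A C] [IsScalarTower A C₀ C] (c : C₀) [IsLocalization.Away c C]
    {u : ∀ i, M →ₗ[A] N i} (hsep : Sep (fun i => (u i).baseChange C₀))
    (z : C ⊗[A] M) (hz : ∀ i, (u i).baseChange C z = 0) : z = 0 := by
  let g := fun (X : Type u) [AddCommGroup X] [Module A X] =>
    TensorProduct.AlgebraTensorModule.rTensor A X (Algebra.linearMap C₀ C)
  have hloc : ∀ (X : Type u) [AddCommGroup X] [Module A X],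
      IsLocalizedModule (Submonoid.powers c) (g X) := fun X _ _ => inferInstance
  have hnat : ∀ i (x : C₀ ⊗[A] M), (u i).baseChange C (g M x) = g (N i) ((u i).baseChange C₀ x) := by
    intro i x
    induction x using TensorProduct.induction_on with
    | zero => simp
    | tmul a m => simp [g]
    | add x y hx hy => simp only [map_add, hx, hy]
  have hunit : ∀ (X : Type u) [AddCommGroup X] [Module A X] (n : ℕ) (w : C ⊗[A] X),
      c ^ n • w = 0 → w = 0 := by
    intro X _ _ n w hw
    have hu' : IsUnit (algebraMap C₀ C (c ^ n)) := by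
      rw [map_pow]; exact (IsLocalization.Away.algebraMap_isUnit c).pow n
    rw [← algebraMap_smul C (c ^ n)] at hw
    exact (hu'.smul_eq_zero).mp hw
  obtain ⟨⟨τ, s⟩, hτs⟩ := IsLocalizedModule.surj (Submonoid.powers c) (g M) z
  obtain ⟨m, hm⟩ := s.2
  rw [Submonoid.smul_def] at hτs
  obtain ⟨n, hn⟩ := hsep c τ (fun i => by
    have h1 : g (N i) ((u i).baseChange C₀ τ) = 0 := by
      rw [← hnat]
      show (u i).baseChange C (g M τ) = 0
      have : g M τ = algebraMap C₀ C (s : C₀) • z := by
        rw [algebraMap_smul]; exact hτs.symm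
      rw [this, map_smul, hz i, smul_zero]
    obtain ⟨c', hc'⟩ := (IsLocalizedModule.eq_zero_iff (Submonoid.powers c) (g (N i))).mp h1
    obtain ⟨n, hn⟩ := c'.2
    refine ⟨n, ?_⟩
    rw [Submonoid.smul_def, ← hn] at hc'
    exact hc')
  have h2 : g M τ = 0 := by
    apply hunit M n
    rw [← map_smul, hn, map_zero]
  apply hunit M m
  have : (s : C₀) • z = 0 := by
    have h3 : (s : C₀) • z = g M τ := hτs
    rw [h3, h2]
  rw [← hm] at this
  exact this

end Alg

section FieldMain
variable {k : Type u} [Field k] {X S' : Scheme.{u}} (p : X ⟶ Spec (CommRingCat.of k))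
  (q : S' ⟶ Spec (CommRingCat.of k)) {ι : Type u} {Z : ι → Scheme.{u}} (f : ∀ i, Z i ⟶ X)

/-- the base change of `f i` along `X ×_k S' ⟶ X`. -/
noncomputable abbrev bcMap (i : ι) : pullback (f i ≫ p) q ⟶ pullback p q :=
  pullback.map (f i ≫ p) q p q (f i) (𝟙 S') (𝟙 _) (Category.comp_id _)
    ((Category.comp_id _).trans (Category.id_comp _).symm)

theorem isPullback_bcMap (i : ι) :
    IsPullback (pullback.fst (f i ≫ p) q) (bcMap p q f i) (f i) (pullback.fst p q) := by
  have hbig : IsPullback (pullback.fst (f i ≫ p) q) (pullback.snd (f i ≫ p) q) (f i ≫ p) q :=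
    IsPullback.of_hasPullback _ _
  have hright : IsPullback (pullback.fst p q) (pullback.snd p q) p q :=
    IsPullback.of_hasPullback _ _
  have e1 : bcMap p q f i ≫ pullback.snd p q = pullback.snd (f i ≫ p) q := by
    rw [bcMap, pullback.map, pullback.lift_snd, Category.comp_id]
  have e2 : bcMap p q f i ≫ pullback.fst p q = pullback.fst (f i ≫ p) q ≫ f i := by
    rw [bcMap, pullback.map, pullback.lift_fst]
  have hbig' : IsPullback (bcMap p q f i ≫ pullback.snd p q) (pullback.fst (f i ≫ p) q) q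
      (f i ≫ p) := by
    rw [e1]; exact hbig.flip
  exact (IsPullback.of_right hbig' e2 hright.flip).flip

variable {f}

/-- **Schematic dominance over a field is stable under every base change.** -/
theorem isSchDom_pullback_of_field (h : IsSchDom Z f) (V : (pullback p q).Opens)
    (t : Γ(pullback p q, V)) (ht : ∀ i, (bcMap p q f i).app V t = 0) : t = 0 := by
  have H := IsPullback.of_hasPullback p q
  refine (pullback p q).IsSheaf.section_ext (fun x' hx' => ?_)
  obtain ⟨U, hU, hxU, -⟩ := exists_isAffineOpen_mem_and_subset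
    (x := pullback.fst p q x') (U := ⊤) trivial
  obtain ⟨T, hT, hxT, -⟩ := exists_isAffineOpen_mem_and_subset
    (x := pullback.snd p q x') (U := ⊤) trivial
  have hS : IsAffineOpen (⊤ : (Spec (CommRingCat.of k)).Opens) := isAffineOpen_top _
  have hUST : T ≤ q ⁻¹ᵁ ⊤ := le_top
  have hUSX : U ≤ p ⁻¹ᵁ ⊤ := le_top
  have hU₀ := isAffineOpen_chart H hUST hUSX hS hT hU
  obtain ⟨c, hcle, hxc⟩ := hU₀.exists_basicOpen_le (V := V) ⟨x', hx'⟩ ⟨hxU, hxT⟩
  refine ⟨_, hcle, hxc, ?_⟩
  rw [map_zero]
  set D := (pullback p q).basicOpen c with hD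
  have hDle : D ≤ (pullback.fst p q) ⁻¹ᵁ U ⊓ (pullback.snd p q) ⁻¹ᵁ T :=
    (pullback p q).basicOpen_le c
  have hDU : D ≤ (pullback.fst p q) ⁻¹ᵁ U := hDle.trans inf_le_left
  set t' : Γ(pullback p q, D) := (pullback p q).presheaf.map (homOfLE hcle).op t with ht'def
  have ht' : ∀ i, (bcMap p q f i).app D t' = 0 := by
    intro i
    have := (bcMap p q f i).naturality (homOfLE hcle).op
    have h2 := congr($this t)
    rw [CommRingCat.comp_apply, CommRingCat.comp_apply, ht i, map_zero] at h2
    exact h2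
  letI := fieldΓSpec (k := k)
  letI := (p.appLE ⊤ U hUSX).hom.toAlgebra
  letI := (q.appLE ⊤ T hUST).hom.toAlgebra
  letI := ((pullback.fst p q).appLE U ((pullback.fst p q) ⁻¹ᵁ U ⊓ (pullback.snd p q) ⁻¹ᵁ T)
    inf_le_left).hom.toAlgebra
  letI : Algebra Γ(X, U) Γ(pullback p q, D) := ((pullback.fst p q).appLE U D hDU).hom.toAlgebra
  haveI : IsScalarTower Γ(X, U)
      Γ(pullback p q, (pullback.fst p q) ⁻¹ᵁ U ⊓ (pullback.snd p q) ⁻¹ᵁ T)
      Γ(pullback p q, D) := by
    refine IsScalarTower.of_algebraMap_eq' ?_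
    show ((pullback.fst p q).appLE U D hDU).hom =
      ((pullback p q).presheaf.map (homOfLE hDle).op).hom.comp
        ((pullback.fst p q).appLE U _ inf_le_left).hom
    rw [← CommRingCat.hom_comp, Scheme.Hom.appLE_map]
  haveI : IsLocalization.Away c Γ(pullback p q, D) := hU₀.isLocalization_basicOpen c
  have hsep : Sep (fun j : Idx Z f U => (Algebra.linearMap Γ(X, U) j.ring).baseChange
      Γ(pullback p q, (pullback.fst p q) ⁻¹ᵁ U ⊓ (pullback.snd p q) ⁻¹ᵁ T)) :=
    sep_baseChange_of_algEquiv (chartEquiv H hUST hUSX hS hT hU)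
      (sep_baseChange_field Γ(S', T) (sep_of_isSchDom h hU))
  have hz : (t' ⊗ₜ[Γ(X, U)] (1 : Γ(X, U)) : Γ(pullback p q, D) ⊗[Γ(X, U)] Γ(X, U)) = 0 := by
    refine eq_zero_of_sep_baseChange_away c hsep _ (fun j => ?_)
    rw [LinearMap.baseChange_tmul, Algebra.linearMap_apply, map_one]
    have h1 := one_tmul_eq_zero (isPullback_bcMap p q f j.1) hU (hU₀.basicOpen c) j.2.2.1 hDU
      j.2.2.2 t' (ht' j.1)
    have h2 := congrArg (TensorProduct.comm Γ(X, U) j.ring Γ(pullback p q, D)) h1
    rwa [TensorProduct.comm_tmul, map_zero] at h2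
  have := congrArg (TensorProduct.rid Γ(X, U) Γ(pullback p q, D)) hz
  rwa [TensorProduct.rid_tmul, one_smul, map_zero] at this

end FieldMain

end Groth.Agent.H25.SchDom
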