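import Groth.Agent.H25.SepFamFG
import Groth.Agent.H25.SepFamFieldSch
import Groth.Agent.H71.QCoh.FlatOver

set_option autoImplicit false
universe u v
open CategoryTheory CategoryTheory.Limits AlgebraicGeometry Scheme.Modules TopologicalSpace Opposite
  TensorProduct

namespace Groth.Agent.H25.SepFam

open Groth.Agent.H44 Groth.Agent.H25.SepFamAlg

section Transfer
variable {X X' : Scheme.{u}} (g : X' ⟶ X) (F : X.Modules) [F.IsQuasicoherent] {ι : Type u}
  (G : ι → X.Modules) [∀ i, (G i).IsQuasicoherent] (u : ∀ i, F ⟶ G i)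
  {U' : X'.Opens} {U : X.Opens} (hU' : IsAffineOpen U') (hU : IsAffineOpen U) (e : U' ≤ g ⁻¹ᵁ U)

include hU' hU in
/-- the algebraic separatedness of the base-changed family, from the separatedness of the pulled
back family on an affine chart (converse of `sep_appL_pullback`). -/
theorem sep_baseChange_of_sep_appL_pullback
    (h : Sep (fun i => appL ((Scheme.Modules.pullback g).map (u i)) U')) :
    letI := (g.appLE U U' e).hom.toAlgebra
    Sep (fun i => (appL (u i) U).baseChange Γ(X', U')) := by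
  letI := (g.appLE U U' e).hom.toAlgebra
  intro c z hz
  obtain ⟨n, hn⟩ := h c ((pullbackSectionsEquiv g F hU' hU e).symm z) (fun i => by
    obtain ⟨n, hn⟩ := hz i
    refine ⟨n, ?_⟩
    apply (pullbackSectionsEquiv g (G i) hU' hU e).injective
    rw [_root_.map_smul, map_zero, appL_apply, pullbackSectionsEquiv_naturality,
      LinearEquiv.apply_symm_apply]
    exact hn)
  refine ⟨n, (pullbackSectionsEquiv g F hU' hU e).symm.injective ?_⟩
  rw [_root_.map_smul, map_zero]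
  exact hn

end Transfer

section Affine
variable {X : Scheme.{u}} {A : CommRingCat.{u}} (p : X ⟶ Spec A) (F : X.Modules)
  [F.IsQuasicoherent] {ι : Type u} (G : ι → X.Modules) [∀ i, (G i).IsQuasicoherent]
  (u : ∀ i, F ⟶ G i)

/-- the family pulled back along `X ×_A B ⟶ X`. -/
abbrev IsSepBC {B : CommRingCat.{u}} (a : A ⟶ B) : Prop :=
  IsSep ((Scheme.Modules.pullback (pullback.fst p (Spec.map a))).obj F)
    (fun i => (Scheme.Modules.pullback (pullback.fst p (Spec.map a))).obj (G i))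
    (fun i => (Scheme.Modules.pullback (pullback.fst p (Spec.map a))).map (u i))

theorem appLE_top_top {B : CommRingCat.{u}} (a : A ⟶ B) :
    (Spec.map a).appLE ⊤ ⊤ le_top = (Spec.map a).appTop := by
  rw [Scheme.Hom.appTop, Scheme.Hom.app_eq_appLE]
  rfl

/-- from separatedness on `X ×_A B` to the algebraic separatedness over `Γ(X,U) ⊗ Γ(Spec B)`. -/
theorem sep_tensor_of_isSepBC {B : CommRingCat.{u}} (a : A ⟶ B) {U : X.Opens}
    (hU : IsAffineOpen U) (h : IsSepBC p F G u a) :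
    letI := (p.appLE ⊤ U le_top).hom.toAlgebra
    letI := ((Spec.map a).appLE ⊤ ⊤ le_top).hom.toAlgebra
    Sep (fun i => (appL (u i) U).baseChange (Γ(X, U) ⊗[Γ(Spec A, ⊤)] Γ(Spec B, ⊤))) := by
  have H := IsPullback.of_hasPullback p (Spec.map a)
  have hS : IsAffineOpen (⊤ : (Spec A).Opens) := isAffineOpen_top _
  have hT : IsAffineOpen (⊤ : (Spec B).Opens) := isAffineOpen_top _
  have hUST : (⊤ : (Spec B).Opens) ≤ (Spec.map a) ⁻¹ᵁ ⊤ := le_top
  have hUSX : U ≤ p ⁻¹ᵁ ⊤ := le_top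
  have hU₀ := isAffineOpen_chart H hUST hUSX hS hT hU
  have h1 := sep_of_isSep _ _ _ h hU₀
  have h2 := sep_baseChange_of_sep_appL_pullback (pullback.fst p (Spec.map a)) F G u hU₀ hU
    inf_le_left h1
  letI := (p.appLE ⊤ U hUSX).hom.toAlgebra
  letI := ((Spec.map a).appLE ⊤ ⊤ hUST).hom.toAlgebra
  letI := ((pullback.fst p (Spec.map a)).appLE U
    ((pullback.fst p (Spec.map a)) ⁻¹ᵁ U ⊓ (pullback.snd p (Spec.map a)) ⁻¹ᵁ ⊤)
    inf_le_left).hom.toAlgebra
  exact sep_baseChange_of_algEquiv (chartEquiv H hUST hUSX hS hT hU).symm h2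

/-- from the algebraic separatedness over `Γ(X,U) ⊗ Γ(Spec B)` on an affine cover to the
separatedness on `X ×_A B`. -/
theorem isSepBC_of_sep_tensor {B : CommRingCat.{u}} (a : A ⟶ B)
    (h : ∀ x : X, ∃ U : X.Opens, ∃ _ : IsAffineOpen U, x ∈ U ∧
      letI := (p.appLE ⊤ U le_top).hom.toAlgebra
      letI := ((Spec.map a).appLE ⊤ ⊤ le_top).hom.toAlgebra
      Sep (fun i => (appL (u i) U).baseChange (Γ(X, U) ⊗[Γ(Spec A, ⊤)] Γ(Spec B, ⊤)))) :
    IsSepBC p F G u a := by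
  have H := IsPullback.of_hasPullback p (Spec.map a)
  apply isSep_of_sep_affine
  intro x'
  obtain ⟨U, hU, hxU, hsep⟩ := h (pullback.fst p (Spec.map a) x')
  have hS : IsAffineOpen (⊤ : (Spec A).Opens) := isAffineOpen_top _
  have hT : IsAffineOpen (⊤ : (Spec B).Opens) := isAffineOpen_top _
  have hUST : (⊤ : (Spec B).Opens) ≤ (Spec.map a) ⁻¹ᵁ ⊤ := le_top
  have hUSX : U ≤ p ⁻¹ᵁ ⊤ := le_top
  have hU₀ := isAffineOpen_chart H hUST hUSX hS hT hU
  refine ⟨_, hU₀, ⟨hxU, trivial⟩, ?_⟩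
  apply sep_appL_pullback (pullback.fst p (Spec.map a)) F G u hU₀ hU inf_le_left
  letI := (p.appLE ⊤ U hUSX).hom.toAlgebra
  letI := ((Spec.map a).appLE ⊤ ⊤ hUST).hom.toAlgebra
  letI := ((pullback.fst p (Spec.map a)).appLE U
    ((pullback.fst p (Spec.map a)) ⁻¹ᵁ U ⊓ (pullback.snd p (Spec.map a)) ⁻¹ᵁ ⊤)
    inf_le_left).hom.toAlgebra
  exact sep_baseChange_of_algEquiv (chartEquiv H hUST hUSX hS hT hU) hsep

/-- **Reduction to finitely generated subalgebras** for separating families of homomorphisms into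
modules flat over the base. -/
theorem isSepBC_of_fg {A' : CommRingCat.{u}} (φ : A ⟶ A')
    (hG : ∀ i, FlatMod.IsFlatOver p (G i))
    (hfg : ∀ (B : CommRingCat.{u}) (a : A ⟶ B) (b : B ⟶ A'), a ≫ b = φ →
      Function.Injective b.hom → a.hom.FiniteType → IsSepBC p F G u a) :
    IsSepBC p F G u φ := by
  apply isSepBC_of_sep_tensor
  intro x
  obtain ⟨U, hU, hxU, -⟩ := exists_isAffineOpen_mem_and_subset (x := x) (U := ⊤) trivial
  refine ⟨U, hU, hxU, ?_⟩
  have hS : IsAffineOpen (⊤ : (Spec A).Opens) := isAffineOpen_top _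
  letI := (p.appLE ⊤ U le_top).hom.toAlgebra
  letI := ((Spec.map φ).appLE ⊤ ⊤ le_top).hom.toAlgebra
  letI : ∀ i, Module Γ(Spec A, ⊤) Γ(G i, U) := fun i =>
    Module.compHom _ (p.appLE ⊤ U le_top).hom
  haveI : ∀ i, IsScalarTower Γ(Spec A, ⊤) Γ(X, U) Γ(G i, U) := fun i =>
    IsScalarTower.of_algebraMap_smul (fun r m => rfl)
  haveI : ∀ i, Module.Flat Γ(Spec A, ⊤) Γ(G i, U) := fun i =>
    Groth.Agent.H71.QCoh.flat_sections_base_of_isFlatOverAt p (G i) hU hS le_top
      (fun x _ => hG i x)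
  apply Groth.Agent.H25.SepFamFG.sep_baseChange_of_fg Γ(Spec A', ⊤)
  intro B₁ hB₁
  let B : CommRingCat.{u} := CommRingCat.of ↥B₁
  let a : A ⟶ B := (Scheme.ΓSpecIso A).inv ≫ CommRingCat.ofHom (algebraMap Γ(Spec A, ⊤) ↥B₁)
  let b : B ⟶ A' := CommRingCat.ofHom B₁.val.toRingHom ≫ (Scheme.ΓSpecIso A').hom
  have hab : a ≫ b = φ := by
    have h1 : CommRingCat.ofHom (algebraMap Γ(Spec A, ⊤) ↥B₁) ≫ CommRingCat.ofHom B₁.val.toRingHom
        = (Spec.map φ).appTop := by
      rw [← appLE_top_top]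
      rfl
    show ((Scheme.ΓSpecIso A).inv ≫ CommRingCat.ofHom (algebraMap Γ(Spec A, ⊤) ↥B₁)) ≫
      CommRingCat.ofHom B₁.val.toRingHom ≫ (Scheme.ΓSpecIso A').hom = φ
    calc ((Scheme.ΓSpecIso A).inv ≫ CommRingCat.ofHom (algebraMap Γ(Spec A, ⊤) ↥B₁)) ≫
          CommRingCat.ofHom B₁.val.toRingHom ≫ (Scheme.ΓSpecIso A').hom
        = (Scheme.ΓSpecIso A).inv ≫ (CommRingCat.ofHom (algebraMap Γ(Spec A, ⊤) ↥B₁) ≫
          CommRingCat.ofHom B₁.val.toRingHom) ≫ (Scheme.ΓSpecIso A').hom := by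
          simp only [Category.assoc]
      _ = (Scheme.ΓSpecIso A).inv ≫ (Spec.map φ).appTop ≫ (Scheme.ΓSpecIso A').hom :=
          congrArg (fun t => (Scheme.ΓSpecIso A).inv ≫ t ≫ (Scheme.ΓSpecIso A').hom) h1
      _ = φ := by rw [Scheme.ΓSpecIso_naturality, Iso.inv_hom_id_assoc]
  have hb : Function.Injective b.hom := by
    show Function.Injective ((Scheme.ΓSpecIso A').hom.hom.comp B₁.val.toRingHom)
    exact ((Scheme.ΓSpecIso A').commRingCatIsoToRingEquiv.injective).comp Subtype.val_injective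
  have ha : a.hom.FiniteType := by
    haveI : Algebra.FiniteType Γ(Spec A, ⊤) ↥B₁ := (Subalgebra.fg_iff_finiteType B₁).mp hB₁
    show ((algebraMap Γ(Spec A, ⊤) ↥B₁).comp (Scheme.ΓSpecIso A).inv.hom).FiniteType
    refine RingHom.FiniteType.comp ?_ ?_
    · exact RingHom.finiteType_algebraMap.mpr inferInstance
    · exact RingHom.FiniteType.of_surjective _
        (Scheme.ΓSpecIso A).symm.commRingCatIsoToRingEquiv.surjective
  have hsep := hfg B a b hab hb ha
  have h1 := sep_tensor_of_isSepBC p F G u a hU hsep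
  letI := ((Spec.map a).appLE ⊤ ⊤ le_top).hom.toAlgebra
  let eB : Γ(Spec B, ⊤) ≃ₐ[Γ(Spec A, ⊤)] ↥B₁ :=
    AlgEquiv.ofRingEquiv (f := (Scheme.ΓSpecIso B).commRingCatIsoToRingEquiv) (by
      intro r
      have h2 := Scheme.ΓSpecIso_naturality a
      have h3 := congr($h2 r)
      rw [CommRingCat.comp_apply, CommRingCat.comp_apply] at h3
      have h4 : a ((Scheme.ΓSpecIso A).hom r) = algebraMap Γ(Spec A, ⊤) ↥B₁ r := by
        show (algebraMap Γ(Spec A, ⊤) ↥B₁) ((Scheme.ΓSpecIso A).inv ((Scheme.ΓSpecIso A).hom r)) = _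
        rw [← CommRingCat.comp_apply, Iso.hom_inv_id]
        rfl
      rw [h4] at h3
      rw [← h3, ← appLE_top_top]
      rfl)
  exact sep_baseChange_of_algEquiv
    (Algebra.TensorProduct.congr (AlgEquiv.refl (R := Γ(X, U)) (A₁ := Γ(X, U))) eB).symm h1

end Affine

end Groth.Agent.H25.SepFam
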