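import Groth.Agent.H25.SepVBridge
import Groth.Agent.H25.SepFamFGSch

set_option autoImplicit false
universe u v
open CategoryTheory CategoryTheory.Limits AlgebraicGeometry Scheme.Modules TopologicalSpace Opposite
  TensorProduct

namespace Groth.Agent.H25.SepFam

open Groth.Agent.H44 Groth.Agent.H25.SepFamAlg Groth.Agent.H25.SepV

section Nilp
variable {X : Scheme.{u}} {A : CommRingCat.{u}} (p : X ⟶ Spec A) (F : X.Modules)
  [F.IsQuasicoherent] {ι : Type u} (G : ι → X.Modules) [∀ i, (G i).IsQuasicoherent]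
  (u : ∀ i, F ⟶ G i)

/-- **Nilpotent dévissage for separating families**: over `Spec A`, with `J ⊆ A` nilpotent with
free graded pieces and the `G i` flat over `A`, separatedness of the family restricted to
`X ×_A A/J` implies separatedness. -/
theorem isSep_of_nilpotent (J : Ideal ↑A) (hJ : IsNilpotent J)
    (hfree : ∀ k : ℕ, Module.Free (↑A ⧸ J) ((↑A ⧸ J) ⊗[↑A] ↥(J ^ k)))
    (hG : ∀ i, FlatMod.IsFlatOver p (G i))
    (h0 : IsSepBC p F G u (CommRingCat.ofHom (Ideal.Quotient.mk J))) : IsSep F G u := by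
  apply isSep_of_sep_affine
  intro x
  obtain ⟨U, hU, hxU, -⟩ := exists_isAffineOpen_mem_and_subset (x := x) (U := ⊤) trivial
  refine ⟨U, hU, hxU, ?_⟩
  have hS : IsAffineOpen (⊤ : (Spec A).Opens) := isAffineOpen_top _
  set a : A ⟶ CommRingCat.of (↑A ⧸ J) := CommRingCat.ofHom (Ideal.Quotient.mk J) with ha
  letI algAR : Algebra ↑A Γ(Spec A, ⊤) := (Scheme.ΓSpecIso A).inv.hom.toAlgebra
  letI algRC : Algebra Γ(Spec A, ⊤) Γ(X, U) := (p.appLE ⊤ U le_top).hom.toAlgebra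
  letI algAC : Algebra ↑A Γ(X, U) :=
    ((Scheme.ΓSpecIso A).inv ≫ p.appLE ⊤ U le_top).hom.toAlgebra
  haveI : IsScalarTower ↑A Γ(Spec A, ⊤) Γ(X, U) := IsScalarTower.of_algebraMap_eq (fun _ => rfl)
  letI algRS : Algebra Γ(Spec A, ⊤) Γ(Spec (CommRingCat.of (↑A ⧸ J)), ⊤) :=
    ((Spec.map a).appLE ⊤ ⊤ le_top).hom.toAlgebra
  letI algAS : Algebra ↑A Γ(Spec (CommRingCat.of (↑A ⧸ J)), ⊤) :=
    ((Scheme.ΓSpecIso A).inv ≫ (Spec.map a).appLE ⊤ ⊤ le_top).hom.toAlgebra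
  haveI : IsScalarTower ↑A Γ(Spec A, ⊤) Γ(Spec (CommRingCat.of (↑A ⧸ J)), ⊤) :=
    IsScalarTower.of_algebraMap_eq (fun _ => rfl)
  -- module structures
  letI : Module Γ(Spec A, ⊤) Γ(F, U) := Module.compHom _ (p.appLE ⊤ U le_top).hom
  letI : Module ↑A Γ(F, U) :=
    Module.compHom _ ((Scheme.ΓSpecIso A).inv ≫ p.appLE ⊤ U le_top).hom
  haveI : IsScalarTower Γ(Spec A, ⊤) Γ(X, U) Γ(F, U) :=
    IsScalarTower.of_algebraMap_smul (fun r m => rfl)
  haveI : IsScalarTower ↑A Γ(X, U) Γ(F, U) :=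
    IsScalarTower.of_algebraMap_smul (fun r m => rfl)
  haveI : IsScalarTower ↑A Γ(Spec A, ⊤) Γ(F, U) :=
    IsScalarTower.of_algebraMap_smul (fun r m => rfl)
  letI : ∀ i, Module Γ(Spec A, ⊤) Γ(G i, U) := fun i =>
    Module.compHom _ (p.appLE ⊤ U le_top).hom
  letI : ∀ i, Module ↑A Γ(G i, U) := fun i =>
    Module.compHom _ ((Scheme.ΓSpecIso A).inv ≫ p.appLE ⊤ U le_top).hom
  haveI : ∀ i, IsScalarTower Γ(Spec A, ⊤) Γ(X, U) Γ(G i, U) := fun i =>
    IsScalarTower.of_algebraMap_smul (fun r m => rfl)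
  haveI : ∀ i, IsScalarTower ↑A Γ(X, U) Γ(G i, U) := fun i =>
    IsScalarTower.of_algebraMap_smul (fun r m => rfl)
  haveI : ∀ i, IsScalarTower ↑A Γ(Spec A, ⊤) Γ(G i, U) := fun i =>
    IsScalarTower.of_algebraMap_smul (fun r m => rfl)
  have hbij : Function.Bijective (algebraMap ↑A Γ(Spec A, ⊤)) :=
    (Scheme.ΓSpecIso A).symm.commRingCatIsoToRingEquiv.bijective
  haveI : Module.Flat ↑A Γ(Spec A, ⊤) :=
    Module.Flat.of_linearEquiv (LinearEquiv.ofBijective (Algebra.linearMap ↑A Γ(Spec A, ⊤)) hbij).symm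
  haveI : ∀ i, Module.Flat ↑A Γ(G i, U) := fun i => by
    haveI : Module.Flat Γ(Spec A, ⊤) Γ(G i, U) :=
      Groth.Agent.H71.QCoh.flat_sections_base_of_isFlatOverAt p (G i) hU hS le_top
        (fun x _ => hG i x)
    exact Module.Flat.trans ↑A Γ(Spec A, ⊤) Γ(G i, U)
  have h1 := sep_tensor_of_isSepBC p F G u a hU h0
  -- the identification of `Γ(Spec A/J)` with `A/J`
  let ρ := (Scheme.ΓSpecIso (CommRingCat.of (↑A ⧸ J))).commRingCatIsoToRingEquiv
  have hρ : ∀ r : ↑A, ρ (algebraMap ↑A Γ(Spec (CommRingCat.of (↑A ⧸ J)), ⊤) r) =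
      Ideal.Quotient.mk J r := by
    intro r
    have h2 := Scheme.ΓSpecIso_inv_naturality a
    have h3 := congr($h2 r)
    rw [CommRingCat.comp_apply, CommRingCat.comp_apply, ← appLE_top_top] at h3
    show (Scheme.ΓSpecIso (CommRingCat.of (↑A ⧸ J))).hom
      ((Spec.map a).appLE ⊤ ⊤ le_top ((Scheme.ΓSpecIso A).inv r)) = _
    rw [← h3, ← CommRingCat.comp_apply, Iso.inv_hom_id]
    rfl
  let ε : Γ(Spec (CommRingCat.of (↑A ⧸ J)), ⊤) ≃ₗ[↑A] (↑A ⧸ J) :=
    { ρ.toAddEquiv with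
      map_smul' := fun r s => by
        show ρ (r • s) = r • ρ s
        rw [Algebra.smul_def, map_mul, hρ]
        rfl }
  have h2 := isSepV_of_sep_baseChange hbij.surjective ε (fun i => appL (u i) U) h1
  exact sep_of_nilpotent (R := ↑A) (fun i => appL (u i) U) J hJ hfree h2

end Nilp

end Groth.Agent.H25.SepFam
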