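import Groth.Agent.H25.SchDomFibre
import Groth.Agent.H25.SepVBridge
import Groth.Agent.H25.SepFamNilp

set_option autoImplicit false
universe u v
open CategoryTheory CategoryTheory.Limits AlgebraicGeometry TopologicalSpace Opposite TensorProduct

namespace Groth.Agent.H25.SchDom

open Groth.Agent.H25.SepFamAlg Groth.Agent.H25.SepFam Groth.Agent.H25.SepV

section Conv
variable {X : Scheme.{u}} {ι : Type u} {Z : ι → Scheme.{u}} {f : ∀ i, Z i ⟶ X}

/-- converse of `sep_of_isSchDom` on an affine cover. -/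
theorem isSchDom_of_sep
    (h : ∀ x : X, ∃ U : X.Opens, IsAffineOpen U ∧ x ∈ U ∧
      Sep (fun j : Idx Z f U => Algebra.linearMap Γ(X, U) j.ring)) : IsSchDom Z f := by
  intro V t ht
  refine X.IsSheaf.section_ext (fun x hx => ?_)
  obtain ⟨U, hU, hxU, hsep⟩ := h x
  obtain ⟨c, hcle, hxc⟩ := hU.exists_basicOpen_le (V := V) ⟨x, hx⟩ hxU
  refine ⟨_, hcle, hxc, ?_⟩
  rw [map_zero]
  set D := X.basicOpen c with hD
  have hDU : D ≤ U := X.basicOpen_le c
  set t' : Γ(X, D) := X.presheaf.map (homOfLE hcle).op t with ht'def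
  have ht' : ∀ i, (f i).app D t' = 0 := by
    intro i
    have := (f i).naturality (homOfLE hcle).op
    have h2 := congr($this t)
    rw [CommRingCat.comp_apply, CommRingCat.comp_apply, ht i, map_zero] at h2
    exact h2
  haveI hloc : IsLocalization.Away c Γ(X, D) := hU.isLocalization_basicOpen c
  obtain ⟨⟨a, s⟩, has⟩ := IsLocalization.surj (Submonoid.powers c) t'
  obtain ⟨k, hk⟩ := s.2
  -- `a` is killed by a power of `c` in every chart
  obtain ⟨n, hn⟩ := hsep c a (fun j => by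
    set i := j.1 with hi
    set W := j.2.1 with hWdef
    have hW : IsAffineOpen W := j.2.2.1
    have hWle : W ≤ (f i) ⁻¹ᵁ U := j.2.2.2
    have hlocW := hW.isLocalization_basicOpen ((f i).appLE U W hWle c)
    have hbo : (Z i).basicOpen ((f i).appLE U W hWle c) = W ⊓ (f i) ⁻¹ᵁ D :=
      Scheme.basicOpen_appLE (f i) W U hWle c
    have hle1 : (Z i).basicOpen ((f i).appLE U W hWle c) ≤ (f i) ⁻¹ᵁ D := by
      rw [hbo]; exact inf_le_right
    have h0 : algebraMap Γ(Z i, W) Γ(Z i, (Z i).basicOpen ((f i).appLE U W hWle c))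
        ((f i).appLE U W hWle a) = 0 := by
      have e1 : algebraMap Γ(Z i, W) Γ(Z i, (Z i).basicOpen ((f i).appLE U W hWle c))
          ((f i).appLE U W hWle a) =
          (Z i).presheaf.map (homOfLE hle1).op ((f i).app D (algebraMap Γ(X, U) Γ(X, D) a)) := by
        change ((f i).appLE U W hWle ≫ (Z i).presheaf.map _) a =
          ((X.presheaf.map (homOfLE hDU).op ≫ (f i).app D) ≫ (Z i).presheaf.map _) a
        rw [Scheme.Hom.appLE_map, Category.assoc, ← Scheme.Hom.appLE, Scheme.Hom.map_appLE]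
      rw [e1, ← has, map_mul, ht' i, zero_mul, map_zero]
    obtain ⟨⟨c', n, rfl⟩, hc⟩ := (IsLocalization.map_eq_zero_iff
      (Submonoid.powers ((f i).appLE U W hWle c)) _ _).mp h0
    refine ⟨n, ?_⟩
    show c ^ n • (algebraMap Γ(X, U) j.ring a) = 0
    rw [Algebra.smul_def, map_pow]
    exact hc)
  have h3 : algebraMap Γ(X, U) Γ(X, D) a = 0 := by
    have hu : IsUnit (algebraMap Γ(X, U) Γ(X, D) (c ^ n)) := by
      rw [map_pow]; exact (IsLocalization.Away.algebraMap_isUnit c).pow n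
    have : algebraMap Γ(X, U) Γ(X, D) (c ^ n • a) = 0 := by rw [hn, map_zero]
    rw [smul_eq_mul, map_mul] at this
    exact (hu.mul_right_eq_zero).mp this
  have hu2 : IsUnit (algebraMap Γ(X, U) Γ(X, D) (s : Γ(X, U))) :=
    IsLocalization.map_units _ s
  rw [h3] at has
  exact (hu2.mul_left_eq_zero).mp has

end Conv

section Nilp
variable {X : Scheme.{u}} {A : CommRingCat.{u}} (p : X ⟶ Spec A) {ι : Type u}
  {Z : ι → Scheme.{u}} (f : ∀ i, Z i ⟶ X)

/-- **Nilpotent dévissage for schematically dominant families**. -/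
theorem isSchDom_of_nilpotent [∀ i, Flat (f i ≫ p)] (J : Ideal ↑A) (hJ : IsNilpotent J)
    (hfree : ∀ k : ℕ, Module.Free (↑A ⧸ J) ((↑A ⧸ J) ⊗[↑A] ↥(J ^ k)))
    (h0 : IsSchDomPB p (Spec.map (CommRingCat.ofHom (Ideal.Quotient.mk J))) f) :
    IsSchDom Z f := by
  apply isSchDom_of_sep
  intro x
  obtain ⟨U, hU, hxU, -⟩ := exists_isAffineOpen_mem_and_subset (x := x) (U := ⊤) trivial
  refine ⟨U, hU, hxU, ?_⟩
  have hS : IsAffineOpen (⊤ : (Spec A).Opens) := isAffineOpen_top _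
  set a : A ⟶ CommRingCat.of (↑A ⧸ J) := CommRingCat.ofHom (Ideal.Quotient.mk J) with ha
  letI algAR : Algebra ↑A Γ(Spec A, ⊤) := (Scheme.ΓSpecIso A).inv.hom.toAlgebra
  letI algRC : Algebra Γ(Spec A, ⊤) Γ(X, U) := (p.appLE ⊤ U le_top).hom.toAlgebra
  letI algAC : Algebra ↑A Γ(X, U) :=
    ((Scheme.ΓSpecIso A).inv ≫ p.appLE ⊤ U le_top).hom.toAlgebra
  haveI : IsScalarTower ↑A Γ(Spec A, ⊤) Γ(X, U) := IsScalarTower.of_algebraMap_eq (fun _ => rfl)
  letI algRS : Algebra Γ(Spec A, ⊤) Γ(Spec (CommRingCat.of (↑A ⧸ J)), ⊤) :=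
    ((Spec.map a).appLE ⊤ ⊤ le_top).hom.toAlgebra
  letI algAS : Algebra ↑A Γ(Spec (CommRingCat.of (↑A ⧸ J)), ⊤) :=
    ((Scheme.ΓSpecIso A).inv ≫ (Spec.map a).appLE ⊤ ⊤ le_top).hom.toAlgebra
  haveI : IsScalarTower ↑A Γ(Spec A, ⊤) Γ(Spec (CommRingCat.of (↑A ⧸ J)), ⊤) :=
    IsScalarTower.of_algebraMap_eq (fun _ => rfl)
  -- module structures on the charts
  letI : ∀ j : Idx Z f U, Module Γ(Spec A, ⊤) j.ring := fun j =>
    Module.compHom _ (algebraMap Γ(Spec A, ⊤) Γ(X, U))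
  letI : ∀ j : Idx Z f U, Module ↑A j.ring := fun j =>
    Module.compHom _ (algebraMap ↑A Γ(X, U))
  haveI : ∀ j : Idx Z f U, IsScalarTower Γ(Spec A, ⊤) Γ(X, U) j.ring := fun j =>
    IsScalarTower.of_algebraMap_smul (fun r m => rfl)
  haveI : ∀ j : Idx Z f U, IsScalarTower ↑A Γ(X, U) j.ring := fun j =>
    IsScalarTower.of_algebraMap_smul (fun r m => rfl)
  haveI : ∀ j : Idx Z f U, IsScalarTower ↑A Γ(Spec A, ⊤) j.ring := fun j =>
    IsScalarTower.of_algebraMap_smul (fun r m => rfl)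
  have hbij : Function.Bijective (algebraMap ↑A Γ(Spec A, ⊤)) :=
    (Scheme.ΓSpecIso A).symm.commRingCatIsoToRingEquiv.bijective
  haveI : Module.Flat ↑A Γ(Spec A, ⊤) :=
    Module.Flat.of_linearEquiv (LinearEquiv.ofBijective (Algebra.linearMap ↑A Γ(Spec A, ⊤)) hbij).symm
  have hle : ∀ j : Idx Z f U, j.2.1 ≤ (f j.1 ≫ p) ⁻¹ᵁ ⊤ := fun j => le_top
  haveI : ∀ j : Idx Z f U, Module.Flat ↑A j.ring := fun j => by
    haveI : Module.Flat Γ(Spec A, ⊤) j.ring := by
      have h1 := Flat.flat_appLE (f j.1 ≫ p) hS j.2.2.1 (hle j)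
      have h2 : ((f j.1 ≫ p).appLE ⊤ j.2.1 (hle j)).hom =
          ((f j.1).appLE U j.2.1 j.2.2.2).hom.comp (p.appLE ⊤ U le_top).hom := by
        rw [← CommRingCat.hom_comp, Scheme.Hom.appLE_comp_appLE]
      rw [h2] at h1
      exact h1
    exact Module.Flat.trans ↑A Γ(Spec A, ⊤) j.ring
  have h1 := sep_tensor_of_isSchDomPB p (Spec.map a) f hS (isAffineOpen_top _) hU le_top le_top h0
  -- the identification of `Γ(Spec A/J)` with `A/J`
  let ρ := (Scheme.ΓSpecIso (CommRingCat.of (↑A ⧸ J))).commRingCatIsoToRingEquiv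
  have hρ : ∀ r : ↑A, ρ (algebraMap ↑A Γ(Spec (CommRingCat.of (↑A ⧸ J)), ⊤) r) =
      Ideal.Quotient.mk J r := by
    intro r
    have h2 := Scheme.ΓSpecIso_inv_naturality a
    have h3 := congr($h2 r)
    rw [CommRingCat.comp_apply, CommRingCat.comp_apply, ← appLE_top_top] at h3
    show (Scheme.ΓSpecIso (CommRingCat.of (↑A ⧸ J))).hom
      ((Spec.map a).appLE ⊤ ⊤ le_top ((Scheme.ΓSpecIso A).inv r)) = _
    rw [← h3, ← CommRingCat.comp_apply, Iso.inv_hom_id]
    rfl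
  let ε : Γ(Spec (CommRingCat.of (↑A ⧸ J)), ⊤) ≃ₗ[↑A] (↑A ⧸ J) :=
    { ρ.toAddEquiv with
      map_smul' := fun r s => by
        show ρ (r • s) = r • ρ s
        rw [Algebra.smul_def, map_mul, hρ]
        rfl }
  have h2 := isSepV_of_sep_baseChange hbij.surjective ε
    (fun j : Idx Z f U => Algebra.linearMap Γ(X, U) j.ring) h1
  exact sep_of_nilpotent (R := ↑A) (fun j : Idx Z f U => Algebra.linearMap Γ(X, U) j.ring) J hJ hfree h2

end Nilp

end Groth.Agent.H25.SchDom
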