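import Groth.Agent.H25.SchDom
import Groth.Prelude.Def_CInt

set_option autoImplicit false
universe u
open CategoryTheory CategoryTheory.Limits AlgebraicGeometry TopologicalSpace Opposite

namespace Groth.Agent.H25.SchDomOpen

open Groth.Agent.H25.SchDom

variable {X X' : Scheme.{u}}

/-- a schematically dense open gives a schematically dominant one-member family. -/
theorem isSchDom_of_isSchematicallyDense (V : X.Opens) (hV : CInt.IsSchematicallyDense V) :
    IsSchDom (ι := PUnit.{u+1}) (fun _ => (V : Scheme.{u})) (fun _ => V.ι) := by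
  intro W t ht
  have h0 := ht PUnit.unit
  rw [Scheme.Opens.ι_app] at h0
  apply hV W
  rw [map_zero]
  have hle : W ⊓ V ≤ V.ι ''ᵁ V.ι ⁻¹ᵁ W := by
    rintro x ⟨hxW, hxV⟩
    exact ⟨⟨x, hxV⟩, hxW, rfl⟩
  have hle2 : V.ι ''ᵁ V.ι ⁻¹ᵁ W ≤ W := by
    rintro _ ⟨y, hy, rfl⟩
    exact hy
  have h1 : X.presheaf.map (homOfLE (inf_le_left : W ⊓ V ≤ W)).op =
      X.presheaf.map (homOfLE hle2).op ≫ X.presheaf.map (homOfLE hle).op := by
    rw [← Functor.map_comp]
    rfl
  have h0' : (X.presheaf.map (homOfLE hle2).op) t = 0 := h0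
  rw [h1, CommRingCat.comp_apply, h0', map_zero]

/-- **Schematic density of an open is stable under flat base change locally of finite
presentation.** -/
theorem isSchematicallyDense_preimage (f : X' ⟶ X) [Flat f] [LocallyOfFinitePresentation f]
    (V : X.Opens) (hV : CInt.IsSchematicallyDense V) : CInt.IsSchematicallyDense (f ⁻¹ᵁ V) := by
  intro W'
  rw [injective_iff_map_eq_zero]
  intro t ht
  refine isSchDom_pullback_of_flat_of_locallyOfFinitePresentation f
    (isSchDom_of_isSchematicallyDense V hV) W' t (fun _ => ?_)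
  set s := pullback.snd V.ι f with hs
  have heq : s ⁻¹ᵁ (W' ⊓ f ⁻¹ᵁ V) = s ⁻¹ᵁ W' := by
    ext x
    constructor
    · exact fun hx => hx.1
    · intro hx
      refine ⟨hx, ?_⟩
      show f (s x) ∈ V
      have : f (s x) = V.ι (pullback.fst V.ι f x) := by
        rw [← Scheme.Hom.comp_apply, ← Scheme.Hom.comp_apply, pullback.condition]
      rw [this]
      exact (pullback.fst V.ι f x).2
  have hnat := s.naturality (homOfLE (inf_le_left : W' ⊓ f ⁻¹ᵁ V ≤ W')).op
  have h2 := congr($hnat t)
  rw [CommRingCat.comp_apply, CommRingCat.comp_apply, ht, map_zero] at h2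
  -- the restriction between equal opens is injective
  have hinj : Function.Injective ((pullback V.ι f).presheaf.map
      ((Opens.map s.base).map (homOfLE (inf_le_left : W' ⊓ f ⁻¹ᵁ V ≤ W'))).op) := by
    have : IsIso ((pullback V.ι f).presheaf.map
        ((Opens.map s.base).map (homOfLE (inf_le_left : W' ⊓ f ⁻¹ᵁ V ≤ W'))).op) := by
      have : (Opens.map s.base).map (homOfLE (inf_le_left : W' ⊓ f ⁻¹ᵁ V ≤ W')) =
          eqToHom heq := Subsingleton.elim _ _
      rw [this]
      infer_instance
    exact ((ConcreteCategory.isIso_iff_bijective _).mp this).1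
  apply hinj
  rw [map_zero]
  exact h2.symm

end Groth.Agent.H25.SchDomOpen
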