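import Groth.Agent.H17.Chev.SecUO

set_option autoImplicit false
set_option linter.unusedSectionVars false
set_option linter.style.haveILetI false
universe u
open CategoryTheory CategoryTheory.Limits AlgebraicGeometry Topology Order TopologicalSpace

namespace Groth.Agent.H25.SecBC

open Groth.Agent.H17.Chev

variable {X Y T : Scheme.{u}} (f : X ⟶ Y) [LocallyOfFiniteType f] (g : Y ⟶ X)
  (hg : g ≫ f = 𝟙 Y) (g₁ : T ⟶ Y)

/-- the section of the base change -/
noncomputable def sec : T ⟶ pullback f g₁ :=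
  pullback.lift (g₁ ≫ g) (𝟙 T) (by rw [Category.assoc, hg]; simp)

/-- the section component of the base change over `τ` -/
def E (τ : T) : Set ↥(pullback f g₁) :=
  (pullback.fst f g₁).base ⁻¹' (connectedComponentIn (f.base ⁻¹' {g₁.base τ}) (g.base (g₁.base τ))) ∩
    (pullback.snd f g₁).base ⁻¹' {τ}

include hg in
theorem f_g (z : Y) : f.base (g.base z) = z := by
  rw [← Scheme.Hom.comp_apply, hg]; rfl

theorem snd_sec (τ : T) : (pullback.snd f g₁).base ((sec f g hg g₁).base τ) = τ := by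
  rw [← Scheme.Hom.comp_apply]
  have : sec f g hg g₁ ≫ pullback.snd f g₁ = 𝟙 T := pullback.lift_snd _ _ _
  rw [this]; rfl

theorem fst_sec (τ : T) :
    (pullback.fst f g₁).base ((sec f g hg g₁).base τ) = g.base (g₁.base τ) := by
  rw [← Scheme.Hom.comp_apply]
  have : sec f g hg g₁ ≫ pullback.fst f g₁ = g₁ ≫ g := pullback.lift_fst _ _ _
  rw [this]; rfl

theorem f_fst (p : ↥(pullback f g₁)) :
    f.base ((pullback.fst f g₁).base p) = g₁.base ((pullback.snd f g₁).base p) := by
  rw [← Scheme.Hom.comp_apply, ← Scheme.Hom.comp_apply, pullback.condition]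

theorem sec_mem_E (τ : T) : (sec f g hg g₁).base τ ∈ E f g g₁ τ := by
  refine ⟨?_, snd_sec f g hg g₁ τ⟩
  change (pullback.fst f g₁).base ((sec f g hg g₁).base τ) ∈
    connectedComponentIn (f.base ⁻¹' {g₁.base τ}) (g.base (g₁.base τ))
  rw [fst_sec]
  exact mem_connectedComponentIn (f_g f g hg _)

variable (hgi : ∀ (y : Y) (K : Type u) [Field K]
      [Algebra (IsLocalRing.ResidueField (Y.presheaf.stalk y)) K],
      IsIrreducible ((FBase.bcπ (f.fiberToSpecResidueField y) K ≫ f.fiberι y).base ⁻¹'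
        (connectedComponentIn (f.base ⁻¹' {y}) (g.base y))))

include hgi in
theorem isIrreducible_E (τ : T) : IsIrreducible (E f g g₁ τ) :=
  isIrreducible_fibre_preimage f g₁ (pullback.fst f g₁) (pullback.snd f g₁)
    (IsPullback.of_hasPullback f g₁) τ _ (hgi (g₁.base τ))

include hgi in
theorem isIrreducible_X0 (z : Y) :
    IsIrreducible (connectedComponentIn (f.base ⁻¹' {z}) (g.base z)) :=
  isIrreducible_sectionComponent f z (g.base z) (hgi z)

include hg in
/-- `E τ` is cut out in the fibre by an open set and by a closed set -/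
theorem exists_open_closed_E (τ : T) :
    ∃ O C : Set ↥(pullback f g₁), IsOpen O ∧ IsClosed C ∧
      E f g g₁ τ = O ∩ (pullback.snd f g₁).base ⁻¹' {τ} ∧
      E f g g₁ τ = C ∩ (pullback.snd f g₁).base ⁻¹' {τ} := by
  set fst := pullback.fst f g₁
  set snd := pullback.snd f g₁
  obtain ⟨O, hO, hOC⟩ := exists_isOpen_inter_fibre_eq_connectedComponentIn f (g₁.base τ)
    (g.base (g₁.base τ)) (f_g f g hg _)
  have hcl : ∃ C : Set X, IsClosed C ∧ C ∩ f.base ⁻¹' {g₁.base τ} =
      connectedComponentIn (f.base ⁻¹' {g₁.base τ}) (g.base (g₁.base τ)) := by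
    let t₀ : ↥(f.base ⁻¹' {g₁.base τ}) := ⟨g.base (g₁.base τ), f_g f g hg _⟩
    have h1 : IsClosed (connectedComponent t₀) := isClosed_connectedComponent
    obtain ⟨C, hC, hCeq⟩ := isClosed_induced_iff.mp h1
    refine ⟨C, hC, ?_⟩
    rw [connectedComponentIn_eq_image (F := f.base ⁻¹' {g₁.base τ})
      (x := g.base (g₁.base τ)) (f_g f g hg _)]
    change _ = Subtype.val '' connectedComponent t₀
    rw [← hCeq, Subtype.image_preimage_coe, Set.inter_comm]
  obtain ⟨C, hC, hCC⟩ := hcl
  refine ⟨fst.base ⁻¹' O, fst.base ⁻¹' C, hO.preimage fst.continuous,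
    hC.preimage fst.continuous, ?_, ?_⟩
  · ext p
    simp only [E, Set.mem_inter_iff, Set.mem_preimage, Set.mem_singleton_iff]
    constructor
    · rintro ⟨h1, h2⟩
      refine ⟨?_, h2⟩
      have : fst.base p ∈ O ∩ f.base ⁻¹' {g₁.base τ} := hOC ▸ h1
      exact this.1
    · rintro ⟨h1, h2⟩
      refine ⟨?_, h2⟩
      have : fst.base p ∈ O ∩ f.base ⁻¹' {g₁.base τ} := ⟨h1, by
        change f.base (fst.base p) = _
        rw [f_fst, h2]⟩
      rw [hOC] at this
      exact this
  · ext p
    simp only [E, Set.mem_inter_iff, Set.mem_preimage, Set.mem_singleton_iff]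
    constructor
    · rintro ⟨h1, h2⟩
      refine ⟨?_, h2⟩
      have : fst.base p ∈ C ∩ f.base ⁻¹' {g₁.base τ} := hCC ▸ h1
      exact this.1
    · rintro ⟨h1, h2⟩
      refine ⟨?_, h2⟩
      have : fst.base p ∈ C ∩ f.base ⁻¹' {g₁.base τ} := ⟨h1, by
        change f.base (fst.base p) = _
        rw [f_fst, h2]⟩
      rw [hCC] at this
      exact this

include hg hgi in
theorem connectedComponentIn_eq_E (τ : T) :
    connectedComponentIn ((pullback.snd f g₁).base ⁻¹' {τ}) ((sec f g hg g₁).base τ) =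
      E f g g₁ τ := by
  obtain ⟨O, C, hO, hC, hEO, hEC⟩ := exists_open_closed_E f g hg g₁ τ
  exact connectedComponentIn_eq_of_clopen ((pullback.snd f g₁).base ⁻¹' {τ}) (E f g g₁ τ) O C hO hC
    hEO hEC (isIrreducible_E f g g₁ hgi τ).2.isPreconnected _ (sec_mem_E f g hg g₁ τ)

include hg hgi in
theorem dim_E (τ : T) :
    topologicalKrullDim ↥(E f g g₁ τ) = FlatMor.fibreDimAt f (g.base (g₁.base τ)) := by
  haveI : LocallyOfFiniteType (pullback.snd f g₁) := inferInstance
  have h1 := dim_connectedComponentIn_fibre_eq' (pullback.snd f g₁) τ ((sec f g hg g₁).base τ)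
    (snd_sec f g hg g₁ τ)
    ((connectedComponentIn_eq_E f g hg g₁ hgi τ).symm ▸ isIrreducible_E f g g₁ hgi τ)
  rw [connectedComponentIn_eq_E f g hg g₁ hgi τ] at h1
  rw [h1, Groth.Agent.H49.FibreDimAtBC.fibreDimAt_eq_of_isPullback f g₁ (pullback.snd f g₁)
    (pullback.fst f g₁) (IsPullback.of_hasPullback f g₁) ((sec f g hg g₁).base τ)]
  change FlatMor.fibreDimAt f ((pullback.fst f g₁).base ((sec f g hg g₁).base τ)) = _
  rw [fst_sec]

include hg hgi in
theorem dim_X0 (z : Y) :
    topologicalKrullDim ↥(connectedComponentIn (f.base ⁻¹' {z}) (g.base z)) =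
      FlatMor.fibreDimAt f (g.base z) :=
  dim_connectedComponentIn_fibre_eq' f z (g.base z) (f_g f g hg z) (isIrreducible_X0 f g hgi z)

end Groth.Agent.H25.SecBC
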