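import Groth.Agent.H25.SecBC
import Groth.Agent.H17.Chev.Equidim1

set_option autoImplicit false
set_option linter.unusedSectionVars false
set_option linter.style.haveILetI false
universe u
open CategoryTheory CategoryTheory.Limits AlgebraicGeometry Topology Order TopologicalSpace

namespace Groth.Agent.H25.SecBC

open Groth.Agent.H17.Chev

variable {X Y T : Scheme.{u}} (f : X ⟶ Y) [LocallyOfFiniteType f] (g : Y ⟶ X)
  (hg : g ≫ f = 𝟙 Y) (g₁ : T ⟶ Y)

/-- the section component of the base change, inside the scheme-theoretic fibre -/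
def Z (τ : T) : Set ↥((pullback.snd f g₁).fiber τ) :=
  ((pullback.snd f g₁).fiberι τ).base ⁻¹' (E f g g₁ τ)

theorem E_subset_range (τ : T) :
    E f g g₁ τ ⊆ Set.range ((pullback.snd f g₁).fiberι τ).base := by
  rw [Scheme.Hom.range_fiberι]
  exact fun p hp => hp.2

variable (hgi : ∀ (y : Y) (K : Type u) [Field K]
      [Algebra (IsLocalRing.ResidueField (Y.presheaf.stalk y)) K],
      IsIrreducible ((FBase.bcπ (f.fiberToSpecResidueField y) K ≫ f.fiberι y).base ⁻¹'
        (connectedComponentIn (f.base ⁻¹' {y}) (g.base y))))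

include hgi in
theorem isIrreducible_Z (τ : T) : IsIrreducible (Z f g g₁ τ) :=
  isIrreducible_preimage_of_isInducing ((pullback.snd f g₁).fiberι τ).isEmbedding.isInducing _
    (isIrreducible_E f g g₁ hgi τ) (E_subset_range f g g₁ τ)

include hg in
theorem isOpen_Z (τ : T) : IsOpen (Z f g g₁ τ) := by
  obtain ⟨O, C, hO, hC, hEO, hEC⟩ := exists_open_closed_E f g hg g₁ τ
  have : Z f g g₁ τ = ((pullback.snd f g₁).fiberι τ).base ⁻¹' O := by
    ext z
    simp only [Z, Set.mem_preimage]
    rw [hEO]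
    constructor
    · exact fun h => h.1
    · intro h
      refine ⟨h, ?_⟩
      have : ((pullback.snd f g₁).fiberι τ).base z ∈
          Set.range ((pullback.snd f g₁).fiberι τ).base := ⟨z, rfl⟩
      rw [Scheme.Hom.range_fiberι] at this
      exact this
  rw [this]
  exact hO.preimage ((pullback.snd f g₁).fiberι τ).continuous

include hg in
theorem isClosed_Z (τ : T) : IsClosed (Z f g g₁ τ) := by
  obtain ⟨O, C, hO, hC, hEO, hEC⟩ := exists_open_closed_E f g hg g₁ τ
  have : Z f g g₁ τ = ((pullback.snd f g₁).fiberι τ).base ⁻¹' C := by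
    ext z
    simp only [Z, Set.mem_preimage]
    rw [hEC]
    constructor
    · exact fun h => h.1
    · intro h
      refine ⟨h, ?_⟩
      have : ((pullback.snd f g₁).fiberι τ).base z ∈
          Set.range ((pullback.snd f g₁).fiberι τ).base := ⟨z, rfl⟩
      rw [Scheme.Hom.range_fiberι] at this
      exact this
  rw [this]
  exact hC.preimage ((pullback.snd f g₁).fiberι τ).continuous

include hg hgi in
theorem Z_mem_irreducibleComponents (τ : T) :
    Z f g g₁ τ ∈ irreducibleComponents ↥((pullback.snd f g₁).fiber τ) := by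
  refine ⟨isIrreducible_Z f g g₁ hgi τ, ?_⟩
  intro Z' hZ' hle
  intro z hz
  change ((pullback.snd f g₁).fiberι τ).base z ∈ E f g g₁ τ
  rw [← connectedComponentIn_eq_E f g hg g₁ hgi τ]
  have himg : _root_.IsPreconnected (((pullback.snd f g₁).fiberι τ).base '' Z') :=
    hZ'.2.isPreconnected.image _ ((pullback.snd f g₁).fiberι τ).continuous.continuousOn
  obtain ⟨z₀, hz₀⟩ : ∃ z₀, ((pullback.snd f g₁).fiberι τ).base z₀ = (sec f g hg g₁).base τ :=
    E_subset_range f g g₁ τ (sec_mem_E f g hg g₁ τ)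
  have hz₀Z : z₀ ∈ Z f g g₁ τ := by
    change ((pullback.snd f g₁).fiberι τ).base z₀ ∈ E f g g₁ τ
    rw [hz₀]; exact sec_mem_E f g hg g₁ τ
  refine himg.subset_connectedComponentIn ⟨z₀, hle hz₀Z, hz₀⟩ ?_ ⟨z, hz, rfl⟩
  rintro _ ⟨a, -, rfl⟩
  have : ((pullback.snd f g₁).fiberι τ).base a ∈
      Set.range ((pullback.snd f g₁).fiberι τ).base := ⟨a, rfl⟩
  rw [Scheme.Hom.range_fiberι] at this
  exact this

theorem dim_Z (τ : T) : topologicalKrullDim ↥(Z f g g₁ τ) = topologicalKrullDim ↥(E f g g₁ τ) := by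
  refine topologicalKrullDim_eq_of_isEmbedding
    (fun a : ↥(Z f g g₁ τ) => ((pullback.snd f g₁).fiberι τ).base a.1)
    (((pullback.snd f g₁).fiberι τ).isEmbedding.comp IsEmbedding.subtypeVal) (E f g g₁ τ) ?_
  ext p
  constructor
  · rintro ⟨a, rfl⟩
    exact a.2
  · intro hp
    obtain ⟨z, rfl⟩ := E_subset_range f g g₁ τ hp
    exact ⟨⟨z, hp⟩, rfl⟩

include hg in
/-- universal openness at the generic point of `X⁰` gives openness of the base change at the generic
point of `E τ` -/
theorem isOpenAt_generic (τ : T) (w' : ↥((pullback.snd f g₁).fiber τ))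
    (hw' : IsGenericPoint w' (Z f g g₁ τ))
    (hopen : ∀ ξ ∈ connectedComponentIn (f.base ⁻¹' {g₁.base τ}) (g.base (g₁.base τ)),
      connectedComponentIn (f.base ⁻¹' {g₁.base τ}) (g.base (g₁.base τ)) ⊆ closure {ξ} →
      EGA43.IsUnivOpenAt f ξ) :
    EGA43.IsOpenAt (pullback.snd f g₁).base (((pullback.snd f g₁).fiberι τ).base w') := by
  set ι := (pullback.snd f g₁).fiberι τ
  have hw'Z : w' ∈ Z f g g₁ τ := by
    rw [← hw'.def]; exact subset_closure rfl
  have hwE : ι.base w' ∈ E f g g₁ τ := hw'Z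
  refine hopen ((pullback.fst f g₁).base (ι.base w')) hwE.1 ?_ T g₁ (ι.base w') rfl
  intro x hx
  have hfx : f.base x = g₁.base τ :=
    connectedComponentIn_subset (f.base ⁻¹' {g₁.base τ}) (g.base (g₁.base τ)) hx
  obtain ⟨p, hp1, hp2⟩ := Scheme.Pullback.exists_preimage_pullback x τ hfx
  have hpE : p ∈ E f g g₁ τ := by
    refine ⟨?_, hp2⟩
    change (pullback.fst f g₁).base p ∈
      connectedComponentIn (f.base ⁻¹' {g₁.base τ}) (g.base (g₁.base τ))
    rw [hp1]; exact hx
  obtain ⟨p', rfl⟩ := E_subset_range f g g₁ τ hpE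
  have hp'Z : p' ∈ Z f g g₁ τ := hpE
  have h1 : w' ⤳ p' := by
    rw [specializes_iff_mem_closure, hw'.def]; exact hp'Z
  have h2 := (h1.map ι.continuous).map (pullback.fst f g₁).continuous
  rw [hp1] at h2
  exact h2.mem_closure

include hg hgi in
/-- the generic point of `Z τ` and the basic facts about it -/
theorem exists_generic_Z (τ : T) :
    ∃ w' : ↥((pullback.snd f g₁).fiber τ), IsGenericPoint w' (Z f g g₁ τ) ∧
      ((pullback.snd f g₁).fiberι τ).base w' ⤳ (sec f g hg g₁).base τ := by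
  have hirr := isIrreducible_Z f g g₁ hgi τ
  have hcl := isClosed_Z f g hg g₁ τ
  refine ⟨hirr.genericPoint, hirr.isGenericPoint_genericPoint hcl, ?_⟩
  obtain ⟨z₀, hz₀⟩ : ∃ z₀, ((pullback.snd f g₁).fiberι τ).base z₀ = (sec f g hg g₁).base τ :=
    E_subset_range f g g₁ τ (sec_mem_E f g hg g₁ τ)
  have hz₀Z : z₀ ∈ Z f g g₁ τ := by
    change ((pullback.snd f g₁).fiberι τ).base z₀ ∈ E f g g₁ τ
    rw [hz₀]; exact sec_mem_E f g hg g₁ τ
  have h1 : hirr.genericPoint ⤳ z₀ := by
    rw [specializes_iff_mem_closure, (hirr.isGenericPoint_genericPoint hcl).def]; exact hz₀Z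
  rw [← hz₀]
  exact h1.map ((pullback.snd f g₁).fiberι τ).continuous

include hg hgi in
/-- **Lifting the generic point** (EGA IV 14.2.2 applied to the base change): a maximal point
of the total space over the generic point of `T`, specializing to the section, whose closure in
the generic fibre has the dimension of `E τ`. -/
theorem exists_max_generization [IrreducibleSpace T] [IsLocallyNoetherian T] (τ : T)
    (hopen : ∀ ξ ∈ connectedComponentIn (f.base ⁻¹' {g₁.base τ}) (g.base (g₁.base τ)),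
      connectedComponentIn (f.base ⁻¹' {g₁.base τ}) (g.base (g₁.base τ)) ⊆ closure {ξ} →
      EGA43.IsUnivOpenAt f ξ) :
    ∃ ζ : ↥(pullback f g₁), IsMax ζ ∧ ζ ⤳ (sec f g hg g₁).base τ ∧
      (pullback.snd f g₁).base ζ = genericPoint T ∧
      topologicalKrullDim ↥(closure {ζ} ∩ (pullback.snd f g₁).base ⁻¹' {genericPoint T}) =
        topologicalKrullDim ↥(E f g g₁ τ) := by
  obtain ⟨w', hw', hw's⟩ := exists_generic_Z f g hg g₁ hgi τ
  haveI : LocallyOfFiniteType (pullback.snd f g₁) := inferInstance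
  obtain ⟨ζ, hζmax, hζw, hζη, hdim⟩ := exists_isMax_dim_eq_of_isOpenAt (pullback.snd f g₁) τ
    (Z f g g₁ τ) (Z_mem_irreducibleComponents f g hg g₁ hgi τ) w' hw'
    (isOpenAt_generic f g hg g₁ τ w' hw' hopen)
  exact ⟨ζ, hζmax, hζw.trans hw's, hζη, by rw [hdim, dim_Z]⟩

end Groth.Agent.H25.SecBC
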