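import Groth.Agent.H25.SecBC2
import Groth.Agent.H99.DVRFlatOpen

set_option autoImplicit false
set_option linter.unusedSectionVars false
set_option linter.style.haveILetI false
universe u
open CategoryTheory CategoryTheory.Limits AlgebraicGeometry Topology Order TopologicalSpace

namespace Groth.Agent.H25.SecBC

open Groth.Agent.H17.Chev

variable {X Y : Scheme.{u}} (f : X ⟶ Y) [LocallyOfFiniteType f] (g : Y ⟶ X)
  (hg : g ≫ f = 𝟙 Y)
  {A : Type u} [CommRing A] [IsDomain A] [IsDiscreteValuationRing A]
  (g₁ : Spec (CommRingCat.of A) ⟶ Y)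

variable (hgi : ∀ (y : Y) (K : Type u) [Field K]
      [Algebra (IsLocalRing.ResidueField (Y.presheaf.stalk y)) K],
      IsIrreducible ((FBase.bcπ (f.fiberToSpecResidueField y) K ≫ f.fiberι y).base ⁻¹'
        (connectedComponentIn (f.base ⁻¹' {y}) (g.base y))))

include hg hgi in
/-- flatness of the base change to a DVR at a point of the section component of the closed
fibre (via S4948) -/
theorem flat_stalkMap_snd (x : ↥(pullback f g₁))
    (hxE : x ∈ E f g g₁ ((pullback.snd f g₁).base x))
    (hx : (pullback.snd f g₁).base x = IsLocalRing.closedPoint A)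
    (hopen : ∀ ξ ∈ connectedComponentIn (f.base ⁻¹' {g₁.base ((pullback.snd f g₁).base x)})
        (g.base (g₁.base ((pullback.snd f g₁).base x))),
      connectedComponentIn (f.base ⁻¹' {g₁.base ((pullback.snd f g₁).base x)})
        (g.base (g₁.base ((pullback.snd f g₁).base x))) ⊆ closure {ξ} →
      EGA43.IsUnivOpenAt f ξ)
    (hred : _root_.IsReduced (((pullback.snd f g₁).fiber ((pullback.snd f g₁).base x)).presheaf.stalk
      ((pullback.snd f g₁).asFiber x))) :
    ((pullback.snd f g₁).stalkMap x).hom.Flat := by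
  haveI : LocallyOfFiniteType (pullback.snd f g₁) := inferInstance
  refine Groth.Agent.H99.DVRFlatOpen.flat_stalkMap_of_isOpenAt (pullback.snd f g₁) x hx ?_ hred
  intro z hz hzmax
  obtain ⟨w', hw', -⟩ := exists_generic_Z f g hg g₁ hgi ((pullback.snd f g₁).base x)
  have hasZ : (pullback.snd f g₁).asFiber x ∈ Z f g g₁ ((pullback.snd f g₁).base x) := by
    change ((pullback.snd f g₁).fiberι ((pullback.snd f g₁).base x)).base
      ((pullback.snd f g₁).asFiber x) ∈ E f g g₁ ((pullback.snd f g₁).base x)
    rw [(pullback.snd f g₁).fiberι_asFiber x]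
    exact hxE
  have hzZ : z ∈ Z f g g₁ ((pullback.snd f g₁).base x) := by
    have h1 : z ⤳ (pullback.snd f g₁).asFiber x := specializes_iff_mem_closure.mpr hz
    exact h1.mem_open (isOpen_Z f g hg g₁ _) hasZ
  have hw'z : w' = z := by
    apply hzmax
    rw [hw'.def]; exact hzZ
  rw [← hw'z]
  exact isOpenAt_generic f g hg g₁ _ w' hw' hopen

end Groth.Agent.H25.SecBC
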