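import Groth.Agent.H25.SecBC3
import Groth.Agent.H25.GeomRedFibreBC
import Groth.Agent.H25.DomainLift2
import Groth.Agent.H17.Chev.QFAff
import Groth.Agent.H50.DVRSp1

set_option autoImplicit false
set_option linter.unusedSectionVars false
set_option linter.style.haveILetI false
universe u
open CategoryTheory CategoryTheory.Limits AlgebraicGeometry Topology Order TopologicalSpace

namespace Groth.Agent.H25.SecBC

open Groth.Agent.H17.Chev

/-- the closure of a point inside its set-theoretic fibre has the dimension of the closure in the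
scheme-theoretic fibre -/
theorem dim_closure_inter_fibre {X Y : Scheme.{u}} (f : X ⟶ Y) (ξ : X) :
    topologicalKrullDim ↥(closure {ξ} ∩ f.base ⁻¹' {f.base ξ}) =
      topologicalKrullDim ↥(closure ({f.asFiber ξ} : Set ↥(f.fiber (f.base ξ)))) := by
  symm
  refine topologicalKrullDim_eq_of_isEmbedding
    (fun a : ↥(closure ({f.asFiber ξ} : Set ↥(f.fiber (f.base ξ)))) =>
      (f.fiberι (f.base ξ)).base a.1)
    ((f.fiberι (f.base ξ)).isEmbedding.comp IsEmbedding.subtypeVal) _ ?_
  ext p
  constructor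
  · rintro ⟨a, rfl⟩
    refine ⟨?_, ?_⟩
    · have h1 : f.asFiber ξ ⤳ a.1 := specializes_iff_mem_closure.mpr a.2
      have h2 := h1.map (f.fiberι (f.base ξ)).continuous
      rw [f.fiberι_asFiber] at h2
      exact h2.mem_closure
    · have : (f.fiberι (f.base ξ)).base a.1 ∈ Set.range (f.fiberι (f.base ξ)).base := ⟨a.1, rfl⟩
      rw [Scheme.Hom.range_fiberι] at this
      exact this
  · rintro ⟨hp1, hp2⟩
    obtain ⟨a, rfl⟩ : p ∈ Set.range (f.fiberι (f.base ξ)).base := by
      rw [Scheme.Hom.range_fiberι]; exact hp2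
    have h1 : ξ ⤳ (f.fiberι (f.base ξ)).base a := specializes_iff_mem_closure.mpr hp1
    have h2 : (f.fiberι (f.base ξ)).base (f.asFiber ξ) ⤳ (f.fiberι (f.base ξ)).base a := by
      rw [f.fiberι_asFiber]; exact h1
    have h3 : f.asFiber ξ ⤳ a :=
      (f.fiberι (f.base ξ)).isEmbedding.isInducing.specializes_iff.mp h2
    exact ⟨⟨a, h3.mem_closure⟩, rfl⟩

variable {X Y T : Scheme.{u}} (f : X ⟶ Y) [LocallyOfFiniteType f] (g : Y ⟶ X)
  (hg : g ≫ f = 𝟙 Y) (g₁ : T ⟶ Y)

variable (hgi : ∀ (y : Y) (K : Type u) [Field K]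
      [Algebra (IsLocalRing.ResidueField (Y.presheaf.stalk y)) K],
      IsIrreducible ((FBase.bcπ (f.fiberToSpecResidueField y) K ≫ f.fiberι y).base ⁻¹'
        (connectedComponentIn (f.base ⁻¹' {y}) (g.base y))))

include hg hgi in
/-- a maximal point of the base change generizing the section at `τ`, lying over the generic point
of `T`, and of local fibre dimension that of the section point over `τ`. -/
theorem exists_max_generization' [IrreducibleSpace T] [IsLocallyNoetherian T] (τ : T)
    (hopen : ∀ ξ ∈ connectedComponentIn (f.base ⁻¹' {g₁.base τ}) (g.base (g₁.base τ)),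
      connectedComponentIn (f.base ⁻¹' {g₁.base τ}) (g.base (g₁.base τ)) ⊆ closure {ξ} →
      EGA43.IsUnivOpenAt f ξ) :
    ∃ ζ : ↥(pullback f g₁), IsMax ζ ∧ ζ ⤳ (sec f g hg g₁).base τ ∧
      (pullback.snd f g₁).base ζ = genericPoint T ∧
      FlatMor.fibreDimAt (pullback.snd f g₁) ζ = FlatMor.fibreDimAt f (g.base (g₁.base τ)) := by
  obtain ⟨ζ, hζmax, hζs, hζη, hdim⟩ := exists_max_generization f g hg g₁ hgi τ hopen
  refine ⟨ζ, hζmax, hζs, hζη, ?_⟩
  haveI : LocallyOfFiniteType (pullback.snd f g₁) := inferInstance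
  rw [← dim_closure_asFiber_eq_fibreDimAt_of_isMax (pullback.snd f g₁) ζ hζmax,
    ← dim_closure_inter_fibre, hζη, hdim, dim_E f g hg g₁ hgi τ]

end Groth.Agent.H25.SecBC
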