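import Groth.Agent.H25.OpenAt

set_option autoImplicit false
set_option linter.unusedSectionVars false
universe u
open CategoryTheory CategoryTheory.Limits AlgebraicGeometry Topology

namespace Groth.Agent.H25

theorem exists_preimage_of_isPullback {P X Y S : Scheme.{u}} {fst : P ⟶ X} {snd : P ⟶ Y}
    {f : X ⟶ S} {g : Y ⟶ S} (sq : IsPullback fst snd f g) (x : X) (y : Y)
    (h : f.base x = g.base y) : ∃ p : P, fst.base p = x ∧ snd.base p = y := by
  obtain ⟨z, hz1, hz2⟩ := Scheme.Pullback.exists_preimage_pullback x y h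
  refine ⟨sq.isoPullback.inv.base z, ?_, ?_⟩
  · rw [← Scheme.Hom.comp_apply, sq.isoPullback_inv_fst]; exact hz1
  · rw [← Scheme.Hom.comp_apply, sq.isoPullback_inv_snd]; exact hz2

/-- if `j ≫ f` is universally open at `u` then `f` is universally open at `j u` -/
theorem isUnivOpenAt_of_comp_left {U X Y : Scheme.{u}} (j : U ⟶ X) (f : X ⟶ Y) (u : U)
    (h : EGA43.IsUnivOpenAt (j ≫ f) u) : EGA43.IsUnivOpenAt f (j.base u) := by
  intro Y' g p hp
  let l : pullback (j ≫ f) g ⟶ pullback f g :=
    pullback.lift (pullback.fst (j ≫ f) g ≫ j) (pullback.snd (j ≫ f) g)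
      (by rw [Category.assoc, pullback.condition])
  have e1 : l ≫ pullback.fst f g = pullback.fst (j ≫ f) g ≫ j := pullback.lift_fst _ _ _
  have e2 : l ≫ pullback.snd f g = pullback.snd (j ≫ f) g := pullback.lift_snd _ _ _
  have sqR : IsPullback (pullback.snd f g) (pullback.fst f g) g f :=
    (IsPullback.of_hasPullback f g).flip
  have sqO : IsPullback (l ≫ pullback.snd f g) (pullback.fst (j ≫ f) g) g (j ≫ f) := by
    rw [e2]
    exact (IsPullback.of_hasPullback (j ≫ f) g).flip
  have sqL : IsPullback l (pullback.fst (j ≫ f) g) (pullback.fst f g) j :=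
    IsPullback.of_right sqO e1 sqR
  obtain ⟨p', hp'1, hp'2⟩ := exists_preimage_of_isPullback sqL p u hp
  have h1 : EGA43.IsOpenAt (pullback.snd (j ≫ f) g).base p' := h Y' g p' hp'2
  have h2 : EGA43.IsOpenAt ((pullback.snd f g).base ∘ l.base) p' := by
    refine isOpenAt_congr ?_ h1
    funext a
    rw [Function.comp_apply, ← Scheme.Hom.comp_apply, e2]
  have h3 := isOpenAt_of_comp l.continuous h2
  rw [hp'1] at h3
  exact h3

end Groth.Agent.H25
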