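import Mathlib
import Groth.Agent.H84.GeomConn

set_option autoImplicit false
universe u
open CategoryTheory CategoryTheory.Limits AlgebraicGeometry Topology TopologicalSpace

namespace Groth.Agent.H25.Spread

/-- The exact statement of `S0420.result` (EGA IV 9.7.7 for connectedness). -/
def S0420Hyp : Prop :=
  ∀ {X Y : Scheme.{u}} (f : X ⟶ Y) [IrreducibleSpace ↑Y] [LocallyOfFiniteType f] [QuasiCompact f]
    (_ : GeometricallyConnected (f.fiberToSpecResidueField (genericPoint ↑Y))),
    ∃ V : Y.Opens, (V : Set ↑Y).Nonempty ∧ GeometricallyConnected (f ∣_ V)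

theorem geometricallyConnected_of_isIso {X Y : Scheme.{u}} (f : X ⟶ Y) [IsIso f] :
    GeometricallyConnected f := by
  refine ⟨fun K _ y Z fst snd hpb => ?_⟩
  haveI : IsIso snd := hpb.isIso_snd_of_isIso
  haveI : ConnectedSpace ↥(Spec (CommRingCat.of K)) :=
    inferInstanceAs (ConnectedSpace (PrimeSpectrum K))
  exact (Scheme.homeoOfIso (asIso snd)).symm.surjective.connectedSpace
    (Scheme.homeoOfIso (asIso snd)).symm.continuous

/-- **Lemma A.** For a morphism of finite type with a section over an irreducible base whose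
generic topological fibre is connected, the fibres over a nonempty open are connected. -/
theorem exists_open_preconnected_fibres (core : S0420Hyp.{u}) {X T : Scheme.{u}}
    [IrreducibleSpace ↑T] (h : X ⟶ T) [LocallyOfFiniteType h] [QuasiCompact h]
    (s : T ⟶ X) (hs : s ≫ h = 𝟙 T)
    (hconn : _root_.IsPreconnected (h.base ⁻¹' {genericPoint ↑T})) :
    ∃ V : T.Opens, (V : Set ↑T).Nonempty ∧ ∀ t ∈ V, _root_.IsPreconnected (h.base ⁻¹' {t}) := by
  set η := genericPoint ↑T with hη
  have hsη : h.base (s.base η) = η := by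
    rw [← Scheme.Hom.comp_apply, hs]; rfl
  haveI : ConnectedSpace ↥(h.base ⁻¹' {η}) :=
    Subtype.connectedSpace ⟨⟨s.base η, hsη⟩, hconn⟩
  haveI : ConnectedSpace ↥(h.fiber η) :=
    (h.fiberHomeo η).symm.surjective.connectedSpace (h.fiberHomeo η).symm.continuous
  let σ : Spec (T.residueField η) ⟶ h.fiber η :=
    pullback.lift (T.fromSpecResidueField η ≫ s) (𝟙 _) (by
      rw [Category.assoc, hs, Category.comp_id, Category.id_comp])
  have hσ : σ ≫ h.fiberToSpecResidueField η = 𝟙 _ := pullback.lift_snd _ _ _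
  haveI : GeometricallyConnected (σ ≫ h.fiberToSpecResidueField η) := by
    rw [hσ]; exact geometricallyConnected_of_isIso _
  have hgc : GeometricallyConnected (h.fiberToSpecResidueField η) :=
    Groth.Agent.H84.GeomConn.geometricallyConnected_of_hom (k := T.residueField η) σ
      (h.fiberToSpecResidueField η)
  obtain ⟨V, hV, hVgc⟩ := core h hgc
  refine ⟨V, hV, fun t ht => ?_⟩
  have h1 := (h ∣_ V).isConnected_preimage_singleton ⟨t, ht⟩
  have h2 : h.base ⁻¹' {t} = (h ⁻¹ᵁ V).ι.base '' ((h ∣_ V).base ⁻¹' {⟨t, ht⟩}) := by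
    ext x
    constructor
    · intro hx
      have hxV : x ∈ h ⁻¹ᵁ V := by
        change h.base x ∈ V
        rw [hx]; exact ht
      refine ⟨⟨x, hxV⟩, ?_, rfl⟩
      change (h ∣_ V).base ⟨x, hxV⟩ = ⟨t, ht⟩
      apply Subtype.ext
      have := congrArg (fun φ => φ.base ⟨x, hxV⟩) (morphismRestrict_ι h V)
      simp only [Scheme.Hom.comp_apply] at this
      exact this.trans hx
    · rintro ⟨x', hx', rfl⟩
      have := congrArg (fun φ => φ.base x') (morphismRestrict_ι h V)
      simp only [Scheme.Hom.comp_apply] at this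
      change h.base ((h ⁻¹ᵁ V).ι.base x') = t
      rw [← this]
      have hx'' : (h ∣_ V).base x' = ⟨t, ht⟩ := hx'
      rw [hx'']
      rfl
  rw [h2]
  exact h1.isPreconnected.image _ (Scheme.Hom.continuous _).continuousOn

end Groth.Agent.H25.Spread
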