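import Mathlib
import Groth.Prelude.Def_MoreMor
import Groth.Agent.H25.Spread1
import Groth.Agent.H25.ChainConn
import Groth.Agent.H25.CompDom

set_option autoImplicit false
set_option linter.style.haveILetI false
universe u
open CategoryTheory CategoryTheory.Limits AlgebraicGeometry Topology TopologicalSpace

namespace Groth.Agent.H25.Spread

/-- **Lemma B1.** Abstract form of the spreading step: an open Noetherian `U ⊆ X` and a
preimmersion `j : T' ⟶ Y` from an irreducible scheme with `g ∘ j` landing in `U`. -/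
theorem exists_open_preconnected_of_preimmersion (core : S0420Hyp.{u}) {X Y T' : Scheme.{u}}
    (f : X ⟶ Y) [LocallyOfFiniteType f] (g : Y ⟶ X) (hg : g ≫ f = 𝟙 Y)
    (U : X.Opens) [NoetherianSpace ↥(U : Set X)]
    (j : T' ⟶ Y) [IsPreimmersion j] [IrreducibleSpace ↑T']
    (hjU : ∀ t : T', g.base (j.base t) ∈ U)
    (hconn : _root_.IsPreconnected ((U : Set X) ∩ f.base ⁻¹' {j.base (genericPoint ↑T')})) :
    ∃ V : T'.Opens, (V : Set ↑T').Nonempty ∧ ∀ t ∈ V,
      _root_.IsPreconnected ((U : Set X) ∩ f.base ⁻¹' {j.base t}) := by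
  set f₂ : (U : Scheme.{u}) ⟶ Y := U.ι ≫ f with hf₂
  haveI : NoetherianSpace ↥(U : Scheme.{u}) := ‹NoetherianSpace ↥(U : Set X)›
  haveI : QuasiCompact f₂ := ⟨fun V _ _ => NoetherianSpace.isCompact _⟩
  -- the lift of `j ≫ g` to `U`
  have hrange : Set.range (j ≫ g).base ⊆ Set.range U.ι.base := by
    rintro _ ⟨t, rfl⟩
    rw [Scheme.Opens.range_ι]
    exact hjU t
  let a : T' ⟶ (U : Scheme.{u}) := IsOpenImmersion.lift U.ι (j ≫ g) hrange
  have ha : a ≫ U.ι = j ≫ g := IsOpenImmersion.lift_fac _ _ _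
  have ha2 : a ≫ f₂ = j := by
    rw [hf₂, ← Category.assoc, ha, Category.assoc, hg, Category.comp_id]
  let h : pullback f₂ j ⟶ T' := pullback.snd f₂ j
  let e₁ : pullback f₂ j ⟶ (U : Scheme.{u}) := pullback.fst f₂ j
  haveI : LocallyOfFiniteType h := inferInstanceAs (LocallyOfFiniteType (pullback.snd f₂ j))
  haveI : QuasiCompact h := inferInstanceAs (QuasiCompact (pullback.snd f₂ j))
  haveI : IsPreimmersion e₁ := inferInstanceAs (IsPreimmersion (pullback.fst f₂ j))
  let s : T' ⟶ pullback f₂ j := pullback.lift a (𝟙 _) (by rw [ha2, Category.id_comp])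
  have hs : s ≫ h = 𝟙 _ := pullback.lift_snd _ _ _
  let e : pullback f₂ j ⟶ X := e₁ ≫ U.ι
  have he : e ≫ f = h ≫ j := by
    change (e₁ ≫ U.ι) ≫ f = h ≫ j
    rw [Category.assoc]
    exact pullback.condition
  have hef : ∀ w, f.base (e.base w) = j.base (h.base w) := by
    intro w
    have := congrArg (fun φ => φ.base w) he
    simpa only [Scheme.Hom.comp_apply] using this
  have heU : ∀ w, e.base w ∈ U := by
    intro w
    change U.ι.base (e₁.base w) ∈ U
    exact (e₁.base w).2
  have hsurj : ∀ x ∈ U, ∀ t : T', f.base x = j.base t → ∃ w, e.base w = x ∧ h.base w = t := by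
    intro x hx t hxt
    obtain ⟨w, hw1, hw2⟩ := Scheme.Pullback.exists_preimage_pullback (f := f₂) (g := j)
      (⟨x, hx⟩ : ↥U) t hxt
    refine ⟨w, ?_, hw2⟩
    change U.ι.base (e₁.base w) = x
    have : e₁.base w = ⟨x, hx⟩ := hw1
    rw [this]
    rfl
  have himg : ∀ t : T', e.base '' (h.base ⁻¹' {t}) = (U : Set X) ∩ f.base ⁻¹' {j.base t} := by
    intro t
    ext x
    constructor
    · rintro ⟨w, hw, rfl⟩
      refine ⟨heU w, ?_⟩
      change f.base (e.base w) = j.base t
      rw [hef]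
      exact congrArg j.base hw
    · rintro ⟨hxU, hxt⟩
      obtain ⟨w, hw1, hw2⟩ := hsurj x hxU t hxt
      exact ⟨w, hw2, hw1⟩
  have hind : IsInducing e.base := by
    have h1 : IsInducing e₁.base := e₁.isEmbedding.isInducing
    have h2 : IsInducing U.ι.base := U.ι.isEmbedding.isInducing
    exact h2.comp h1
  have hconn' : _root_.IsPreconnected (h.base ⁻¹' {genericPoint ↑T'}) := by
    rw [← hind.isPreconnected_image, himg]
    exact hconn
  obtain ⟨V, hV, hVc⟩ := exists_open_preconnected_fibres core h s hs hconn'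
  refine ⟨V, hV, fun t ht => ?_⟩
  rw [← himg]
  exact (hVc t ht).image _ e.continuous.continuousOn

end Groth.Agent.H25.Spread
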