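import Mathlib
import Groth.Prelude.Def_MoreMor
import Groth.Agent.H25.Spread2

set_option autoImplicit false
set_option linter.style.haveILetI false
universe u
open CategoryTheory CategoryTheory.Limits AlgebraicGeometry Topology TopologicalSpace

namespace Groth.Agent.H25.Spread

theorem hloc_of_isLocallyNoetherian (X : Scheme.{u}) [IsLocallyNoetherian X] :
    ∀ x : X, ∃ U : Set X, IsOpen U ∧ x ∈ U ∧ NoetherianSpace ↥U := by
  intro x
  obtain ⟨_, ⟨(U : X.Opens), hU, rfl⟩, hxU, -⟩ :=
    X.isBasis_affineOpens.exists_subset_of_mem_open (Set.mem_univ x) isOpen_univ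
  replace hU : IsAffineOpen U := hU
  haveI : IsNoetherianRing Γ(X, U) := IsLocallyNoetherian.component_noetherian ⟨U, hU⟩
  exact ⟨(U : Set X), U.isOpen, hxU, noetherianSpace_of_isAffineOpen U hU⟩

/-- **Spreading step** of EGA IV 15.6.7: a point `ζ` of the union `X⁰` of the section components
has an open neighbourhood `O` in `X` with `O ∩ closure {ζ} ⊆ X⁰`. -/
theorem exists_open_inter_closure_subset (core : S0420Hyp.{u}) {X Y : Scheme.{u}}
    [IsLocallyNoetherian Y] (f : X ⟶ Y) [LocallyOfFiniteType f] (g : Y ⟶ X) (hg : g ≫ f = 𝟙 Y)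
    (ζ : X) (hζ : ζ ∈ MoreMor.sectionComponents f g) :
    ∃ O : Set X, IsOpen O ∧ ζ ∈ O ∧ O ∩ closure {ζ} ⊆ MoreMor.sectionComponents f g := by
  haveI : IsLocallyNoetherian X := LocallyOfFiniteType.isLocallyNoetherian f
  have hloc := hloc_of_isLocallyNoetherian X
  have hfg : ∀ y : Y, f.base (g.base y) = y := by
    intro y
    rw [← Scheme.Hom.comp_apply, hg]; rfl
  set η := f.base ζ with hη
  have hζ' : ζ ∈ connectedComponentIn (f.base ⁻¹' {η}) (g.base η) := hζ
  obtain ⟨U₀, hU₀o, hU₀n, hgU, hζU, hU₀c⟩ :=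
    ChainConn.exists_open_noetherian_preconnected hloc _ _ _ hζ'
  let U : X.Opens := ⟨U₀, hU₀o⟩
  haveI : NoetherianSpace ↥(U : Set X) := hU₀n
  let I := Scheme.IdealSheafData.vanishingIdeal (Closeds.closure {η})
  let ι : I.subscheme ⟶ Y := I.subschemeι
  haveI : IrreducibleSpace ↑I.subscheme := CompDom.irreducibleSpace_subscheme_closure η
  have hrι : Set.range ι.base = closure {η} := CompDom.range_subschemeι_closure η
  let T' : I.subscheme.Opens := (ι ≫ g) ⁻¹ᵁ U
  let j : (T' : Scheme.{u}) ⟶ Y := T'.ι ≫ ι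
  obtain ⟨η', hη'⟩ : η ∈ Set.range ι.base := by rw [hrι]; exact subset_closure rfl
  have hη'T' : η' ∈ T' := by
    change g.base (ι.base η') ∈ U
    rw [hη']; exact hgU
  haveI : IrreducibleSpace ↥(T' : Set ↑I.subscheme) :=
    Subtype.irreducibleSpace ⟨⟨η', hη'T'⟩,
      (IrreducibleSpace.isIrreducible_univ ↑I.subscheme).2.open_subset T'.isOpen
        (Set.subset_univ _)⟩
  haveI : IrreducibleSpace ↑(T' : Scheme.{u}) := ‹IrreducibleSpace ↥(T' : Set ↑I.subscheme)›
  haveI : IsPreimmersion j := inferInstanceAs (IsPreimmersion (T'.ι ≫ ι))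
  have hjU : ∀ t : (T' : Scheme.{u}), g.base (j.base t) ∈ U := fun t => t.2
  have hgen : j.base (genericPoint ↑(T' : Scheme.{u})) = η := by
    change ι.base (T'.ι.base (genericPoint ↑(T' : Scheme.{u}))) = η
    rw [genericPoint_eq_of_isOpenImmersion T'.ι]
    have h1 := (genericPoint_spec ↑I.subscheme).image ι.continuous
    rw [Set.image_univ] at h1
    have h1' : IsGenericPoint (ι.base (genericPoint ↑I.subscheme)) (closure {η}) := by
      have h2 : closure (Set.range ι.base) = closure {η} := by rw [hrι, closure_closure]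
      rw [← h2]; exact h1
    exact h1'.eq isGenericPoint_closure
  obtain ⟨V, hV, hVc⟩ := exists_open_preconnected_of_preimmersion core f g hg U j hjU
    (by rw [hgen]; exact hU₀c)
  have hjind : IsInducing j.base := j.isEmbedding.isInducing
  obtain ⟨V'', hV''o, hV''⟩ := hjind.isOpen_iff.mp V.isOpen
  have hιind : IsInducing ι.base := ι.isEmbedding.isInducing
  obtain ⟨W, hWo, hW⟩ := hιind.isOpen_iff.mp T'.isOpen
  have hgenV : genericPoint ↑(T' : Scheme.{u}) ∈ V := by
    have := ((genericPoint_spec ↑(T' : Scheme.{u})).mem_open_set_iff V.isOpen).mpr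
      (by rw [Set.univ_inter]; exact hV)
    exact this
  refine ⟨U₀ ∩ f.base ⁻¹' (V'' ∩ W), hU₀o.inter ((hV''o.inter hWo).preimage f.continuous),
    ⟨hζU, ?_, ?_⟩, ?_⟩
  · change η ∈ V''
    rw [← hgen]
    have : genericPoint ↑(T' : Scheme.{u}) ∈ j.base ⁻¹' V'' := by rw [hV'']; exact hgenV
    exact this
  · change η ∈ W
    rw [← hη']
    have : η' ∈ ι.base ⁻¹' W := by rw [hW]; exact hη'T'
    exact this
  · rintro x ⟨⟨hxU, hxV'', hxW⟩, hxcl⟩
    -- `f x ∈ closure {η}`
    have hfx : f.base x ∈ closure {η} := by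
      have h1 : f.base x ∈ f.base '' closure {ζ} := ⟨x, hxcl, rfl⟩
      have h2 := image_closure_subset_closure_image f.continuous h1
      rwa [Set.image_singleton] at h2
    rw [← hrι] at hfx
    obtain ⟨t₀, ht₀⟩ := hfx
    have ht₀T' : t₀ ∈ T' := by
      have : t₀ ∈ ι.base ⁻¹' W := by
        change ι.base t₀ ∈ W
        rw [ht₀]; exact hxW
      rw [hW] at this
      exact this
    let t : (T' : Scheme.{u}) := ⟨t₀, ht₀T'⟩
    have hjt : j.base t = f.base x := ht₀
    have htV : t ∈ V := by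
      have : t ∈ j.base ⁻¹' V'' := by
        change j.base t ∈ V''
        rw [hjt]; exact hxV''
      rw [hV''] at this
      exact this
    have hpre := hVc t htV
    rw [hjt] at hpre
    have hgz : g.base (f.base x) ∈ (U : Set X) ∩ f.base ⁻¹' {f.base x} := by
      refine ⟨?_, hfg _⟩
      rw [← hjt]; exact hjU t
    have hxQ : x ∈ (U : Set X) ∩ f.base ⁻¹' {f.base x} := ⟨hxU, rfl⟩
    have := hpre.subset_connectedComponentIn hgz Set.inter_subset_right hxQ
    exact this

end Groth.Agent.H25.Spread
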