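import Mathlib
import Groth.Prelude.Def_MoreMor
import Groth.Agent.H25.Spread3
import Groth.Agent.H25.GenConn4
import Groth.Agent.H25.NhdCrit
import Groth.Agent.H6.UnivOpenDVR2

set_option autoImplicit false
set_option linter.style.haveILetI false
universe u
open CategoryTheory CategoryTheory.Limits AlgebraicGeometry Topology TopologicalSpace

namespace Groth.Agent.H25.Spread

/-- EGA IV 15.6.7 (i), modulo `S0420`: `X⁰` is a neighbourhood of `X⁰_y`. -/
theorem sectionComponents_nhd (core : S0420Hyp.{u}) {X Y : Scheme.{u}} [IsLocallyNoetherian Y]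
    (f : X ⟶ Y) [LocallyOfFiniteType f] (g : Y ⟶ X) (hg : g ≫ f = 𝟙 Y) (y : Y)
    (H : ∀ x ∈ connectedComponentIn (f.base ⁻¹' {y}) (g.base y), EGA43.IsUnivOpenAt f x ∧
        FBase.IsGeomReducedAt (f.fiberToSpecResidueField (f.base x)) (f.asFiber x)) :
    connectedComponentIn (f.base ⁻¹' {y}) (g.base y) ⊆
      interior (MoreMor.sectionComponents f g) := by
  haveI : IsLocallyNoetherian X := LocallyOfFiniteType.isLocallyNoetherian f
  have hloc : ∀ x : X, ∃ U ∈ 𝓝 x, NoetherianSpace ↥U := by
    intro x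
    obtain ⟨U, hUo, hxU, hUn⟩ := hloc_of_isLocallyNoetherian X x
    exact ⟨U, hUo.mem_nhds hxU, hUn⟩
  intro x hx
  rw [mem_interior_iff_mem_nhds]
  apply Groth.Agent.H25.mem_nhds_of_forall_generization hloc
  intro ζ hζx
  have hζ0 := Groth.Agent.H25.GenConn.mem_sectionComponents_of_specializes f g hg y H x hx ζ hζx
  exact exists_open_inter_closure_subset core f g hg ζ hζ0

/-- EGA IV 15.6.7, modulo `S0420`: the exact statement of `S3420`. -/
theorem s3420_of (core : S0420Hyp.{u}) {X Y : Scheme.{u}} [IsLocallyNoetherian Y] (f : X ⟶ Y)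
    [LocallyOfFiniteType f] (g : Y ⟶ X) (hg : g ≫ f = 𝟙 Y) :
    (∀ y : Y, (∀ x ∈ connectedComponentIn (f.base ⁻¹' {y}) (g.base y), EGA43.IsUnivOpenAt f x ∧
        FBase.IsGeomReducedAt (f.fiberToSpecResidueField (f.base x)) (f.asFiber x)) →
      connectedComponentIn (f.base ⁻¹' {y}) (g.base y) ⊆
        interior (MoreMor.sectionComponents f g)) ∧
    (UniversallyOpen f → (∀ x ∈ MoreMor.sectionComponents f g,
        FBase.IsGeomReducedAt (f.fiberToSpecResidueField (f.base x)) (f.asFiber x)) →
      IsOpen (MoreMor.sectionComponents f g)) := by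
  refine ⟨fun y H => sectionComponents_nhd core f g hg y H, fun huo hred => ?_⟩
  rw [isOpen_iff_mem_nhds]
  intro x hx
  have hx' : x ∈ connectedComponentIn (f.base ⁻¹' {f.base x}) (g.base (f.base x)) := hx
  have H : ∀ x' ∈ connectedComponentIn (f.base ⁻¹' {f.base x}) (g.base (f.base x)),
      EGA43.IsUnivOpenAt f x' ∧
        FBase.IsGeomReducedAt (f.fiberToSpecResidueField (f.base x')) (f.asFiber x') := by
    intro x' hx'
    refine ⟨Groth.Agent.H6.UnivOpenDVR.isUnivOpenAt_of_universallyOpen f x', hred x' ?_⟩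
    have hfx' : f.base x' = f.base x := by
      have := connectedComponentIn_subset (f.base ⁻¹' {f.base x}) (g.base (f.base x)) hx'
      exact this
    change x' ∈ connectedComponentIn (f.base ⁻¹' {f.base x'}) (g.base (f.base x'))
    rw [hfx']
    exact hx'
  exact mem_interior_iff_mem_nhds.mp (sectionComponents_nhd core f g hg _ H hx')

end Groth.Agent.H25.Spread
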