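import Mathlib
import Groth.Agent.H25.Spread4
import Groth.Agent.H3.GenConnS0420
import Groth.Agent.S0419
import Groth.Agent.S1357

set_option autoImplicit false
universe u
open CategoryTheory CategoryTheory.Limits AlgebraicGeometry Topology TopologicalSpace

namespace Groth.Agent.H25.Spread

/-- The `S0420` statement (geometrically connected fibres near the generic point), obtained from
helper3's assembly `H3.GenConn.s0420_of` and the landed `S0419`, `S1357`. -/
theorem s0420Hyp : S0420Hyp.{u} := fun f _ _ _ h =>
  Groth.Agent.H3.GenConn.s0420_of (fun f => Groth.Agent.S0419.result f)
    (fun f => Groth.Agent.S1357.result f) f h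

end Groth.Agent.H25.Spread
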