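import Mathlib
import Groth.Agent.H25.GeomRedDescent
import Groth.Agent.H25.UnivOpenComp
import Groth.Agent.H87.SecComp
import Groth.Agent.H6.UnivOpenDVR2
import Groth.Agent.S3420

set_option autoImplicit false
set_option linter.unusedSectionVars false
set_option linter.style.haveILetI false
universe u
open CategoryTheory CategoryTheory.Limits AlgebraicGeometry Topology TopologicalSpace

namespace Groth.Agent.H25.SecModel

open Groth.Agent.H51 Groth.Agent.H25.GeomRedFibreBC Groth.Agent.H25.GeomRedDescent

/-- **Universal section trick** + EGA IV 15.6.7 on a Noetherian flat model: if `f` (with a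
section `g`) is a base change of a flat morphism locally of finite presentation `f₀` over a
locally Noetherian base, and the fibre of `f` over `y` is geometrically reduced at the points of
the section component `X⁰_y`, then the union `X⁰` of the section components is a neighbourhood of
`X⁰_y`. No section of `f₀` is needed: `(f, g)` is a base change of the second projection
`X₀ ×_{Y₀} X₀ ⟶ X₀` with its diagonal section. -/
theorem sectionComponents_nhd_of_model {X Y X₀ Y₀ : Scheme.{u}} [IsLocallyNoetherian Y₀]
    (f : X ⟶ Y) (g : Y ⟶ X) (hg : g ≫ f = 𝟙 Y)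
    (f₀ : X₀ ⟶ Y₀) [LocallyOfFinitePresentation f₀] [Flat f₀] (h' : X ⟶ X₀) (h : Y ⟶ Y₀)
    (hc : IsPullback h' f f₀ h) (y : Y)
    (hred : ∀ x' : ↥(f.fiber y),
      (f.fiberι y).base x' ∈ connectedComponentIn (f.base ⁻¹' {y}) (g.base y) →
      FBase.IsGeomReducedAt (f.fiberToSpecResidueField y) x') :
    connectedComponentIn (f.base ⁻¹' {y}) (g.base y) ⊆
      interior (MoreMor.sectionComponents f g) := by
  haveI : LocallyOfFiniteType f₀ := inferInstance
  haveI : IsLocallyNoetherian X₀ := LocallyOfFiniteType.isLocallyNoetherian f₀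
  let p₂ : pullback f₀ f₀ ⟶ X₀ := pullback.snd f₀ f₀
  let Δ : X₀ ⟶ pullback f₀ f₀ := pullback.diagonal f₀
  have hΔ : Δ ≫ p₂ = 𝟙 X₀ := pullback.diagonal_snd f₀
  haveI : LocallyOfFinitePresentation p₂ :=
    inferInstanceAs (LocallyOfFinitePresentation (pullback.snd f₀ f₀))
  haveI : Flat p₂ := inferInstanceAs (Flat (pullback.snd f₀ f₀))
  haveI : LocallyOfFiniteType p₂ := inferInstance
  haveI : UniversallyOpen p₂ := inferInstance
  let k : Y ⟶ X₀ := g ≫ h'
  have hk : k ≫ f₀ = h := by
    change (g ≫ h') ≫ f₀ = h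
    rw [Category.assoc, hc.w, ← Category.assoc, hg, Category.id_comp]
  let top : X ⟶ pullback f₀ f₀ := pullback.lift h' (f ≫ k) (by rw [hc.w, Category.assoc, hk])
  have htop1 : top ≫ pullback.fst f₀ f₀ = h' := pullback.lift_fst _ _ _
  have htop2 : top ≫ p₂ = f ≫ k := pullback.lift_snd _ _ _
  have hsq : IsPullback top f p₂ k := by
    have hr : IsPullback (pullback.fst f₀ f₀) p₂ f₀ f₀ := IsPullback.of_hasPullback f₀ f₀
    refine IsPullback.of_right ?_ htop2 hr
    rw [htop1, hk]; exact hc
  have hgtop : g ≫ top = k ≫ Δ := by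
    apply pullback.hom_ext
    · rw [Category.assoc, htop1, Category.assoc, pullback.diagonal_fst, Category.comp_id]
    · rw [Category.assoc]
      change g ≫ top ≫ p₂ = (k ≫ Δ) ≫ p₂
      rw [htop2, ← Category.assoc, hg, Category.id_comp, Category.assoc, hΔ, Category.comp_id]
  have hp₂top : ∀ x : X, p₂.base (top.base x) = k.base (f.base x) := by
    intro x
    have := congrArg (fun φ => φ.base x) htop2
    simpa only [Scheme.Hom.comp_apply] using this
  have hmem1 : ∀ x : X, x ∈ MoreMor.sectionComponents f g →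
      top.base x ∈ MoreMor.sectionComponents p₂ Δ := fun x hx =>
    Groth.Agent.H87.SecComp.map_mem_of_mem p₂ Δ f top k hsq g hg hgtop x hx
  have hmem2 : ∀ x : X, top.base x ∈ MoreMor.sectionComponents p₂ Δ →
      x ∈ MoreMor.sectionComponents f g := fun x hx =>
    Groth.Agent.H87.SecComp.mem_of_map_mem p₂ Δ hΔ f top k hsq g hg hgtop x hx
  -- the hypotheses of 15.6.7 at the point `k y`
  have H : ∀ x₀ ∈ connectedComponentIn (p₂.base ⁻¹' {k.base y}) (Δ.base (k.base y)),
      EGA43.IsUnivOpenAt p₂ x₀ ∧
        FBase.IsGeomReducedAt (p₂.fiberToSpecResidueField (p₂.base x₀)) (p₂.asFiber x₀) := by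
    intro x₀ hx₀
    refine ⟨Groth.Agent.H6.UnivOpenDVR.isUnivOpenAt_of_universallyOpen p₂ x₀, ?_⟩
    have hpx₀ : p₂.base x₀ = k.base y := by
      have := connectedComponentIn_subset (p₂.base ⁻¹' {k.base y}) (Δ.base (k.base y)) hx₀
      exact this
    obtain ⟨x, hx1, hx2⟩ := Groth.Agent.H25.exists_preimage_of_isPullback hsq x₀ y hpx₀
    have hx₀' : top.base x ∈ MoreMor.sectionComponents p₂ Δ := by
      rw [hx1]
      change x₀ ∈ connectedComponentIn (p₂.base ⁻¹' {p₂.base x₀}) (Δ.base (p₂.base x₀))
      rw [hpx₀]; exact hx₀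
    have hxX0 : x ∈ connectedComponentIn (f.base ⁻¹' {y}) (g.base y) := by
      have := hmem2 x hx₀'
      change x ∈ connectedComponentIn (f.base ⁻¹' {f.base x}) (g.base (f.base x)) at this
      rw [hx2] at this
      exact this
    obtain ⟨x', hx'⟩ : x ∈ Set.range (f.fiberι y).base := by
      rw [Scheme.Hom.range_fiberι]; exact hx2
    have h1 := hred x' (by rw [hx']; exact hxX0)
    have h2 := isGeomReducedAt_fibre_of_isPullback p₂ k f top hsq y x' h1
    rw [isGeomReducedAt_congr p₂ hpx₀ (p₂.asFiber x₀) ((fibreBC' p₂ k f top hsq y).base x')]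
    · exact h2
    · rw [Scheme.Hom.fiberι_asFiber]
      have := congrArg (fun φ => φ.base x') (fibreBC'_fiberι p₂ k f top hsq y)
      simp only [Scheme.Hom.comp_apply] at this
      rw [this, hx', hx1]
  have key := (Groth.Agent.S3420.result p₂ Δ hΔ).1 (k.base y) H
  intro x hx
  have hfx : f.base x = y := by
    have := connectedComponentIn_subset (f.base ⁻¹' {y}) (g.base y) hx
    exact this
  have hxX0 : x ∈ MoreMor.sectionComponents f g := by
    change x ∈ connectedComponentIn (f.base ⁻¹' {f.base x}) (g.base (f.base x))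
    rw [hfx]; exact hx
  have h1 : top.base x ∈ connectedComponentIn (p₂.base ⁻¹' {k.base y}) (Δ.base (k.base y)) := by
    have := hmem1 x hxX0
    change top.base x ∈ connectedComponentIn (p₂.base ⁻¹' {p₂.base (top.base x)})
      (Δ.base (p₂.base (top.base x))) at this
    rw [hp₂top, hfx] at this
    exact this
  have h2 : top.base x ∈ interior (MoreMor.sectionComponents p₂ Δ) := key h1
  have h3 : top.base ⁻¹' interior (MoreMor.sectionComponents p₂ Δ) ⊆
      MoreMor.sectionComponents f g := fun z hz => hmem2 z (interior_subset hz)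
  exact interior_maximal h3 (isOpen_interior.preimage top.continuous) h2

end Groth.Agent.H25.SecModel
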