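import Mathlib
import Groth.Agent.H25.SecModel1
import Groth.Agent.H25.GeomRedDescent2

set_option autoImplicit false
set_option linter.unusedSectionVars false
set_option linter.style.haveILetI false
universe u
open CategoryTheory CategoryTheory.Limits AlgebraicGeometry Topology TopologicalSpace

namespace Groth.Agent.H25.SecModel

open Groth.Agent.H51 Groth.Agent.H25.GeomRedFibreBC Groth.Agent.H25.GeomRedDescent

/-- Local form of `sectionComponents_nhd_of_model`: it suffices to have the flat Noetherian model
for a base change `f'` of `f` along a morphism `ιY : Y' ⟶ Y` for which `X' ⟶ X` is open (e.g. the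
restriction of `f` over an open subscheme of `Y`). -/
theorem sectionComponents_nhd_of_local_model {X Y X' Y' X₀ Y₀ : Scheme.{u}}
    [IsLocallyNoetherian Y₀]
    (f : X ⟶ Y) (g : Y ⟶ X) (hg : g ≫ f = 𝟙 Y)
    (f' : X' ⟶ Y') (g' : Y' ⟶ X') (hg' : g' ≫ f' = 𝟙 Y') (ιX : X' ⟶ X) (ιY : Y' ⟶ Y)
    (hsq : IsPullback ιX f' f ιY) (hgg : g' ≫ ιX = ιY ≫ g) (hopen : IsOpenMap ιX.base)
    (f₀ : X₀ ⟶ Y₀) [LocallyOfFinitePresentation f₀] [Flat f₀] (h' : X' ⟶ X₀) (h : Y' ⟶ Y₀)
    (hc : IsPullback h' f' f₀ h) (y' : Y')
    (hred : ∀ x' : ↥(f.fiber (ιY.base y')),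
      (f.fiberι (ιY.base y')).base x' ∈
        connectedComponentIn (f.base ⁻¹' {ιY.base y'}) (g.base (ιY.base y')) →
      FBase.IsGeomReducedAt (f.fiberToSpecResidueField (ιY.base y')) x') :
    connectedComponentIn (f.base ⁻¹' {ιY.base y'}) (g.base (ιY.base y')) ⊆
      interior (MoreMor.sectionComponents f g) := by
  have hfι : ∀ z : X', f.base (ιX.base z) = ιY.base (f'.base z) := by
    intro z
    have := congrArg (fun φ => φ.base z) hsq.w
    simpa only [Scheme.Hom.comp_apply] using this
  have hmem1 : ∀ x : X', x ∈ MoreMor.sectionComponents f' g' →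
      ιX.base x ∈ MoreMor.sectionComponents f g := fun x hx =>
    Groth.Agent.H87.SecComp.map_mem_of_mem f g f' ιX ιY hsq g' hg' hgg x hx
  have hmem2 : ∀ x : X', ιX.base x ∈ MoreMor.sectionComponents f g →
      x ∈ MoreMor.sectionComponents f' g' := fun x hx =>
    Groth.Agent.H87.SecComp.mem_of_map_mem f g hg f' ιX ιY hsq g' hg' hgg x hx
  have hred' : ∀ q : ↥(f'.fiber y'),
      (f'.fiberι y').base q ∈ connectedComponentIn (f'.base ⁻¹' {y'}) (g'.base y') →
      FBase.IsGeomReducedAt (f'.fiberToSpecResidueField y') q := by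
    intro q hq
    apply isGeomReducedAt_fibre_bc f ιY f' ιX hsq y' q
    apply hred
    have h1 := congrArg (fun φ => φ.base q) (fibreBC'_fiberι f ιY f' ιX hsq y')
    simp only [Scheme.Hom.comp_apply] at h1
    rw [h1]
    have hfq : f'.base ((f'.fiberι y').base q) = y' := by
      have := connectedComponentIn_subset (f'.base ⁻¹' {y'}) (g'.base y') hq
      exact this
    have h2 : (f'.fiberι y').base q ∈ MoreMor.sectionComponents f' g' := by
      change _ ∈ connectedComponentIn (f'.base ⁻¹' {f'.base ((f'.fiberι y').base q)})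
        (g'.base (f'.base ((f'.fiberι y').base q)))
      rw [hfq]; exact hq
    have h3 := hmem1 _ h2
    change _ ∈ connectedComponentIn (f.base ⁻¹' {f.base (ιX.base ((f'.fiberι y').base q))})
      (g.base (f.base (ιX.base ((f'.fiberι y').base q)))) at h3
    rw [hfι, hfq] at h3
    exact h3
  have key := sectionComponents_nhd_of_model f' g' hg' f₀ h' h hc y' hred'
  intro x hx
  have hfx : f.base x = ιY.base y' := by
    have := connectedComponentIn_subset (f.base ⁻¹' {ιY.base y'}) (g.base (ιY.base y')) hx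
    exact this
  obtain ⟨x', hx'1, hx'2⟩ := Groth.Agent.H25.exists_preimage_of_isPullback hsq x y' hfx
  have hxX0 : ιX.base x' ∈ MoreMor.sectionComponents f g := by
    rw [hx'1]
    change x ∈ connectedComponentIn (f.base ⁻¹' {f.base x}) (g.base (f.base x))
    rw [hfx]; exact hx
  have h1 : x' ∈ connectedComponentIn (f'.base ⁻¹' {y'}) (g'.base y') := by
    have := hmem2 x' hxX0
    change x' ∈ connectedComponentIn (f'.base ⁻¹' {f'.base x'}) (g'.base (f'.base x')) at this
    rw [hx'2] at this
    exact this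
  have h2 : x' ∈ interior (MoreMor.sectionComponents f' g') := key h1
  have h3 : ιX.base '' interior (MoreMor.sectionComponents f' g') ⊆
      MoreMor.sectionComponents f g := by
    rintro _ ⟨z, hz, rfl⟩
    exact hmem1 z (interior_subset hz)
  exact interior_maximal h3 (hopen _ isOpen_interior) ⟨x', h2, hx'1⟩

end Groth.Agent.H25.SecModel
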