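import Mathlib
import Groth.Agent.H24.DescFP7
import Groth.Agent.H24.LimitLocusFlat

set_option autoImplicit false
set_option linter.unusedSectionVars false
set_option linter.style.haveILetI false
universe u
open CategoryTheory CategoryTheory.Limits AlgebraicGeometry Topology TopologicalSpace

namespace Groth.Agent.H25.SecModel

/-- A flat morphism of finite presentation has, over every affine open of the target, a flat
model of finite presentation over a Noetherian base. -/
theorem exists_flat_noetherian_model {X Y : Scheme.{u}} (f : X ⟶ Y) [Flat f]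
    [LocallyOfFinitePresentation f] [QuasiCompact f] [QuasiSeparated f] (V : Y.Opens)
    (hV : IsAffineOpen V) :
    ∃ (X₀ Y₀ : Scheme.{u}) (_ : IsLocallyNoetherian Y₀) (f₀ : X₀ ⟶ Y₀)
      (_ : LocallyOfFinitePresentation f₀) (_ : Flat f₀) (h' : ↑(f ⁻¹ᵁ V) ⟶ X₀) (h : ↑V ⟶ Y₀),
      IsPullback h' (f ∣_ V) f₀ h := by
  let A : Type u := Γ(Y, V)
  let φ : ↑(f ⁻¹ᵁ V) ⟶ Spec (CommRingCat.of A) := (f ∣_ V) ≫ hV.isoSpec.hom
  haveI : Flat (f ∣_ V) := IsZariskiLocalAtTarget.restrict ‹Flat f› V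
  haveI : LocallyOfFinitePresentation (f ∣_ V) :=
    IsZariskiLocalAtTarget.restrict ‹LocallyOfFinitePresentation f› V
  haveI : QuasiCompact (f ∣_ V) := IsZariskiLocalAtTarget.restrict ‹QuasiCompact f› V
  haveI : QuasiSeparated (f ∣_ V) := IsZariskiLocalAtTarget.restrict ‹QuasiSeparated f› V
  haveI : Flat φ := inferInstanceAs (Flat ((f ∣_ V) ≫ hV.isoSpec.hom))
  haveI : LocallyOfFinitePresentation φ :=
    inferInstanceAs (LocallyOfFinitePresentation ((f ∣_ V) ≫ hV.isoSpec.hom))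
  haveI : QuasiCompact φ := inferInstanceAs (QuasiCompact ((f ∣_ V) ≫ hV.isoSpec.hom))
  haveI : QuasiSeparated φ := inferInstanceAs (QuasiSeparated ((f ∣_ V) ≫ hV.isoSpec.hom))
  obtain ⟨A₀, hA₀, X₀, f₀, g, hP, hfp, -, -, hpb⟩ :=
    Groth.Agent.H24.exists_model_over_fg_int (A := A) @Flat (fun j _ => inferInstance)
      Groth.Agent.H24.coreDescent_flat φ ‹Flat φ›
  haveI : Algebra.FiniteType ℤ ↥A₀ := (Subalgebra.fg_iff_finiteType A₀).mp hA₀
  haveI : IsNoetherianRing ↥A₀ := Algebra.FiniteType.isNoetherianRing ℤ ↥A₀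
  haveI : IsLocallyNoetherian (Spec (CommRingCat.of ↥A₀)) := inferInstance
  refine ⟨X₀, Spec (CommRingCat.of ↥A₀), inferInstance, f₀, hfp, hP, g,
    hV.isoSpec.hom ≫ Spec.map (CommRingCat.ofHom (algebraMap (↥A₀) A)), ?_⟩
  have h1 : IsPullback (𝟙 _) (f ∣_ V) φ hV.isoSpec.hom :=
    IsPullback.of_horiz_isIso ⟨by rw [Category.id_comp]⟩
  have h2 := h1.paste_horiz hpb
  rw [Category.id_comp] at h2
  exact h2

end Groth.Agent.H25.SecModel
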