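import Mathlib
import Groth.Agent.H25.SecModel2
import Groth.Agent.H25.SecModel3
import Groth.Agent.H25.GeomRedGlobal

set_option autoImplicit false
set_option linter.unusedSectionVars false
set_option linter.style.haveILetI false
universe u
open CategoryTheory CategoryTheory.Limits AlgebraicGeometry Topology TopologicalSpace

namespace Groth.Agent.H25.SecModel

/-- EGA IV 15.6.5: for a flat morphism of finite presentation `f` with a section `g`, if the fibre
over `y` is geometrically reduced at the points of the section component `X⁰_y`, then the union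
`X⁰` of the section components is a neighbourhood of `X⁰_y` (no Noetherian hypothesis). -/
theorem sectionComponents_nhd_of_flat {X Y : Scheme.{u}} (f : X ⟶ Y) [Flat f]
    [LocallyOfFinitePresentation f] [QuasiCompact f] [QuasiSeparated f] (g : Y ⟶ X)
    (hg : g ≫ f = 𝟙 Y) (y : Y)
    (hred : ∀ x' : ↥(f.fiber y),
      (f.fiberι y).base x' ∈ connectedComponentIn (f.base ⁻¹' {y}) (g.base y) →
      FBase.IsGeomReducedAt (f.fiberToSpecResidueField y) x') :
    connectedComponentIn (f.base ⁻¹' {y}) (g.base y) ⊆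
      interior (MoreMor.sectionComponents f g) := by
  obtain ⟨_, ⟨(V : Y.Opens), hV, rfl⟩, hyV, -⟩ :=
    Y.isBasis_affineOpens.exists_subset_of_mem_open (Set.mem_univ y) isOpen_univ
  replace hV : IsAffineOpen V := hV
  obtain ⟨X₀, Y₀, _, f₀, _, _, h', h, hc⟩ := exists_flat_noetherian_model f V hV
  have hfg : ∀ z : Y, f.base (g.base z) = z := by
    intro z
    rw [← Scheme.Hom.comp_apply, hg]; rfl
  have hrange : Set.range (V.ι ≫ g).base ⊆ Set.range (f ⁻¹ᵁ V).ι.base := by
    rintro _ ⟨t, rfl⟩
    rw [Scheme.Opens.range_ι]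
    change f.base (g.base (V.ι.base t)) ∈ V
    rw [hfg]
    exact t.2
  let g' : (V : Scheme.{u}) ⟶ ((f ⁻¹ᵁ V : X.Opens) : Scheme.{u}) := IsOpenImmersion.lift (f ⁻¹ᵁ V).ι (V.ι ≫ g) hrange
  have hgg : g' ≫ (f ⁻¹ᵁ V).ι = V.ι ≫ g := IsOpenImmersion.lift_fac _ _ _
  have hg' : g' ≫ (f ∣_ V) = 𝟙 _ := by
    rw [← cancel_mono V.ι, Category.assoc, morphismRestrict_ι, ← Category.assoc, hgg,
      Category.assoc, hg, Category.comp_id, Category.id_comp]
  have hsq : IsPullback (f ⁻¹ᵁ V).ι (f ∣_ V) f V.ι := (isPullback_morphismRestrict f V).flip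
  exact sectionComponents_nhd_of_local_model f g hg (f ∣_ V) g' hg' (f ⁻¹ᵁ V).ι V.ι hsq hgg
    (f ⁻¹ᵁ V).ι.isOpenEmbedding.isOpenMap f₀ h' h hc ⟨y, hyV⟩ hred

/-- variant with the whole fibre geometrically reduced -/
theorem sectionComponents_nhd_of_flat_of_geometricallyReduced {X Y : Scheme.{u}} (f : X ⟶ Y)
    [Flat f] [LocallyOfFinitePresentation f] [QuasiCompact f] [QuasiSeparated f] (g : Y ⟶ X)
    (hg : g ≫ f = 𝟙 Y) (y : Y) (hy : GeometricallyReduced (f.fiberToSpecResidueField y)) :
    connectedComponentIn (f.base ⁻¹' {y}) (g.base y) ⊆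
      interior (MoreMor.sectionComponents f g) := by
  apply sectionComponents_nhd_of_flat f g hg y
  intro x' _
  letI : (f.fiber y).Over (Spec (CommRingCat.of (Y.residueField y))) :=
    ⟨f.fiberToSpecResidueField y⟩
  haveI : GeometricallyReduced ((f.fiber y) ↘ Spec (CommRingCat.of (Y.residueField y))) := hy
  exact Groth.Agent.H25.GeomRedGlobal.isGeomReducedAt_of_geometricallyReduced
    (Y.residueField y) (f.fiber y) x'

end Groth.Agent.H25.SecModel
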