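import Mathlib
import Groth.Prelude.Def_MoreMor

set_option autoImplicit false
set_option linter.unusedSectionVars false
universe u
open CategoryTheory CategoryTheory.Limits AlgebraicGeometry Topology TopologicalSpace

namespace Groth.Agent.H25.SecOpen

/-- Section components are compatible with an arbitrary commutative square (not necessarily a
pullback): points of `X'⁰` map into `X⁰`. -/
theorem map_mem_sectionComponents_of_comm {X S X' S' : Scheme.{u}} (f : X ⟶ S) (e : S ⟶ X)
    (f' : X' ⟶ S') (e' : S' ⟶ X') (j : X' ⟶ X) (i : S' ⟶ S) (hji : j ≫ f = f' ≫ i)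
    (hej : e' ≫ j = i ≫ e) (z : X') (hz : z ∈ MoreMor.sectionComponents f' e') :
    j.base z ∈ MoreMor.sectionComponents f e := by
  have hfj : ∀ w : X', f.base (j.base w) = i.base (f'.base w) := by
    intro w
    have := congrArg (fun φ => φ.base w) hji
    simpa only [Scheme.Hom.comp_apply] using this
  have hje : ∀ t : S', j.base (e'.base t) = e.base (i.base t) := by
    intro t
    have := congrArg (fun φ => φ.base t) hej
    simpa only [Scheme.Hom.comp_apply] using this
  set t := f'.base z with ht
  have hz' : z ∈ connectedComponentIn (f'.base ⁻¹' {t}) (e'.base t) := hz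
  have het : e'.base t ∈ f'.base ⁻¹' {t} := by
    by_contra hcon
    rw [connectedComponentIn_eq_empty hcon] at hz'
    exact hz'
  have hpre : _root_.IsPreconnected (j.base '' connectedComponentIn (f'.base ⁻¹' {t}) (e'.base t)) :=
    isPreconnected_connectedComponentIn.image _ j.continuous.continuousOn
  have hsub : j.base '' connectedComponentIn (f'.base ⁻¹' {t}) (e'.base t) ⊆
      f.base ⁻¹' {i.base t} := by
    rintro _ ⟨w, hw, rfl⟩
    have hw' : f'.base w = t := by
      have := connectedComponentIn_subset (f'.base ⁻¹' {t}) (e'.base t) hw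
      exact this
    change f.base (j.base w) = i.base t
    rw [hfj, hw']
  have hmem : e.base (i.base t) ∈ j.base '' connectedComponentIn (f'.base ⁻¹' {t}) (e'.base t) :=
    ⟨e'.base t, mem_connectedComponentIn het, hje t⟩
  have := hpre.subset_connectedComponentIn hmem hsub ⟨z, hz', rfl⟩
  change j.base z ∈ connectedComponentIn (f.base ⁻¹' {f.base (j.base z)})
    (e.base (f.base (j.base z)))
  rw [hfj]
  exact this

/-- The fibre of `f'` over `t` is preconnected as soon as its image under an inducing map is. -/
theorem mem_connectedComponentIn_of_isPreconnected {X' S' : Scheme.{u}} (f' : X' ⟶ S')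
    (e' : S' ⟶ X') (he' : e' ≫ f' = 𝟙 S') (t : S')
    (hpre : _root_.IsPreconnected (f'.base ⁻¹' {t})) (z : X') (hz : f'.base z = t) :
    z ∈ connectedComponentIn (f'.base ⁻¹' {t}) (e'.base t) := by
  have het : e'.base t ∈ f'.base ⁻¹' {t} := by
    change f'.base (e'.base t) = t
    rw [← Scheme.Hom.comp_apply, he']; rfl
  exact hpre.subset_connectedComponentIn het subset_rfl hz

end Groth.Agent.H25.SecOpen
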