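import Mathlib
import Groth.Prelude.Def_MoreMor
import Groth.Agent.H25.ChainConn
import Groth.Agent.H25.Spread3
import Groth.Agent.H87.SecComp

set_option autoImplicit false
set_option linter.unusedSectionVars false
set_option linter.style.haveILetI false
universe u
open CategoryTheory CategoryTheory.Limits AlgebraicGeometry Topology TopologicalSpace

namespace Groth.Agent.H25.SecOpen

/-- a compact subset of a scheme contained in an open subset is contained in a quasi-compact open
subset of it (as in helper38's `GrpConnIrr`). -/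
theorem exists_isCompact_opens_between {X : Scheme.{u}} (Z V : Set ↥X) (hZ : IsCompact Z)
    (hV : IsOpen V) (hZV : Z ⊆ V) :
    ∃ U : X.Opens, IsCompact (U : Set ↥X) ∧ Z ⊆ (U : Set ↥X) ∧ (U : Set ↥X) ⊆ V := by
  have hcover : ∀ z ∈ Z, ∃ U : X.Opens, IsAffineOpen U ∧ z ∈ U ∧ (U : Set ↥X) ⊆ V := by
    intro z hz
    obtain ⟨_, ⟨U, hU, rfl⟩, hzU, hUV⟩ :=
      (X.isBasis_affineOpens).exists_subset_of_mem_open (hZV hz) hV
    exact ⟨U, hU, hzU, hUV⟩
  choose! U hU hzU hUV using hcover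
  obtain ⟨t, htZ, ht⟩ := hZ.elim_finite_subcover_image (b := Z) (c := fun z => (U z : Set ↥X))
    (fun z _ => (U z).isOpen) (fun z hz => Set.mem_iUnion₂.mpr ⟨z, hz, hzU z hz⟩)
  refine ⟨⨆ z ∈ t, U z, ?_, ?_, ?_⟩
  · have : ((⨆ z ∈ t, U z : X.Opens) : Set ↥X) = ⋃ z ∈ t, (U z : Set ↥X) := by
      simp
    rw [this]
    exact ht.1.isCompact_biUnion fun z hz => (hU z (htZ hz)).isCompact
  · intro z hz
    have := ht.2 hz
    simpa using this
  · intro z hz
    have hz' : z ∈ ⋃ z ∈ t, (U z : Set ↥X) := by simpa using hz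
    obtain ⟨w, hw, hzw⟩ := Set.mem_iUnion₂.mp hz'
    exact hUV w (htZ hw) hzw

/-- Two points in the same connected component of a fibre of a morphism locally of finite type lie
in a quasi-compact open `U` of the source (inside any given open neighbourhood of the fibre) whose
trace on the fibre is connected. -/
theorem exists_compact_open_fibre_preconnected {X S : Scheme.{u}} (f : X ⟶ S)
    [LocallyOfFiniteType f] (s : S) (p x : X)
    (hx : x ∈ connectedComponentIn (f.base ⁻¹' {s}) p) (W₀ : Set X) (hW₀ : IsOpen W₀)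
    (hsW₀ : f.base ⁻¹' {s} ⊆ W₀) :
    ∃ U : X.Opens, IsCompact (U : Set X) ∧ (U : Set X) ⊆ W₀ ∧ p ∈ U ∧ x ∈ U ∧
      _root_.IsPreconnected ((U : Set X) ∩ f.base ⁻¹' {s}) := by
  have hp : p ∈ f.base ⁻¹' {s} := by
    by_contra hcon
    rw [connectedComponentIn_eq_empty hcon] at hx
    exact hx
  haveI : LocallyOfFiniteType (f.fiberToSpecResidueField s) :=
    inferInstanceAs (LocallyOfFiniteType (pullback.snd f (S.fromSpecResidueField s)))
  haveI : IsLocallyNoetherian (f.fiber s) :=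
    LocallyOfFiniteType.isLocallyNoetherian (f.fiberToSpecResidueField s)
  have hloc := Groth.Agent.H25.Spread.hloc_of_isLocallyNoetherian (f.fiber s)
  let h := f.fiberHomeo s
  rw [connectedComponentIn_eq_image hp] at hx
  obtain ⟨w, hw, rfl⟩ := hx
  have hw' : h.symm w ∈ connectedComponent (h.symm ⟨p, hp⟩) := by
    rw [← Groth.Agent.H87.SecComp.homeo_image_connectedComponent h.symm]
    exact ⟨w, hw, rfl⟩
  obtain ⟨UF, hUFo, hUFn, hpUF, hwUF, hUFc⟩ :=
    Groth.Agent.H25.ChainConn.exists_open_noetherian_preconnected hloc Set.univ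
      (h.symm ⟨p, hp⟩) (h.symm w) (by rw [connectedComponentIn_univ]; exact hw')
  rw [Set.inter_univ] at hUFc
  have hι : ∀ q : ↥(f.fiber s), (f.fiberι s).base q = (h q).1 := fun q => rfl
  have hιp : (f.fiberι s).base (h.symm ⟨p, hp⟩) = p := by rw [hι, h.apply_symm_apply]
  have hιw : (f.fiberι s).base (h.symm w) = w.1 := by rw [hι, h.apply_symm_apply]
  obtain ⟨W, hWo, hW⟩ := (f.fiberι s).isEmbedding.isInducing.isOpen_iff.mp hUFo
  have hKc : IsCompact ((f.fiberι s).base '' UF) := by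
    have : IsCompact UF := by
      rw [isCompact_iff_isCompact_univ]
      exact NoetherianSpace.isCompact _
    exact this.image (f.fiberι s).continuous
  have hKs : (f.fiberι s).base '' UF ⊆ f.base ⁻¹' {s} := by
    rintro _ ⟨q, -, rfl⟩
    rw [← Scheme.Hom.range_fiberι]
    exact ⟨q, rfl⟩
  have hKW : (f.fiberι s).base '' UF ⊆ W ∩ W₀ := by
    intro z hz
    refine ⟨?_, hsW₀ (hKs hz)⟩
    obtain ⟨q, hq, rfl⟩ := hz
    have : q ∈ (f.fiberι s).base ⁻¹' W := by rw [hW]; exact hq
    exact this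
  obtain ⟨U, hUc, hKU, hUW⟩ := exists_isCompact_opens_between _ _ hKc (hWo.inter hW₀) hKW
  refine ⟨U, hUc, fun z hz => (hUW hz).2, hKU ⟨_, hpUF, hιp⟩, hKU ⟨_, hwUF, hιw⟩, ?_⟩
  have hUK : (U : Set X) ∩ f.base ⁻¹' {s} = (f.fiberι s).base '' UF := by
    apply Set.Subset.antisymm
    · rintro z ⟨hzU, hzs⟩
      rw [← Scheme.Hom.range_fiberι] at hzs
      obtain ⟨q, rfl⟩ := hzs
      refine ⟨q, ?_, rfl⟩
      rw [← hW]
      exact (hUW hzU).1
    · intro z hz
      exact ⟨hKU hz, hKs hz⟩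
  rw [hUK]
  exact hUFc.image _ (f.fiberι s).continuous.continuousOn

end Groth.Agent.H25.SecOpen
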