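import Mathlib
import Groth.Prelude.Def_MoreMor
import Groth.Agent.H25.SecOpen3

set_option autoImplicit false
set_option linter.unusedSectionVars false
set_option linter.style.haveILetI false
universe u
open CategoryTheory CategoryTheory.Limits AlgebraicGeometry Topology TopologicalSpace

namespace Groth.Agent.H25.SecOpen

/-- Variant of `isOpen_sectionComponents_of_smooth` for a quasi-separated smooth morphism
`f : X ⟶ S` and a section `e`, the union `X⁰` of the connected components of the
fibres containing the section is open in `X`. -/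
theorem isOpen_sectionComponents_of_smooth' {S X : Scheme.{u}}
    (f : X ⟶ S) [Smooth f] [QuasiSeparated f] (e : S ⟶ X) (he : e ≫ f = 𝟙 S) :
    IsOpen (MoreMor.sectionComponents f e) := by
  rw [isOpen_iff_mem_nhds]
  intro x hx
  have hfe : ∀ t : S, f.base (e.base t) = t := by
    intro t
    rw [← Scheme.Hom.comp_apply, he]; rfl
  set s := f.base x with hs
  have hx' : x ∈ connectedComponentIn (f.base ⁻¹' {s}) (e.base s) := hx
  -- (a) an affine open neighbourhood of `s`
  obtain ⟨_, ⟨(V : S.Opens), hV, rfl⟩, hsV, -⟩ :=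
    S.isBasis_affineOpens.exists_subset_of_mem_open (Set.mem_univ s) isOpen_univ
  replace hV : IsAffineOpen V := hV
  -- (b) a quasi-compact open with connected trace on the fibre
  obtain ⟨U, hUc, hUV, hesU, hxU, hUpre⟩ :=
    exists_compact_open_fibre_preconnected f s (e.base s) x hx' ((f ⁻¹ᵁ V : X.Opens) : Set X)
      (f ⁻¹ᵁ V).isOpen (by
        intro z hz
        change f.base z ∈ V
        rw [hz]; exact hsV)
  have hUV' : U ≤ f ⁻¹ᵁ V := hUV
  -- (c) the morphism `U ⟶ V`
  haveI : Smooth (f ∣_ V) := IsZariskiLocalAtTarget.restrict ‹Smooth f› V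
  let fU : (U : Scheme.{u}) ⟶ (V : Scheme.{u}) := X.homOfLE hUV' ≫ (f ∣_ V)
  have hfU : fU ≫ V.ι = U.ι ≫ f := by
    change (X.homOfLE hUV' ≫ (f ∣_ V)) ≫ V.ι = U.ι ≫ f
    rw [Category.assoc, morphismRestrict_ι, ← Category.assoc, Scheme.homOfLE_ι]
  haveI : Smooth fU := inferInstanceAs (Smooth (X.homOfLE hUV' ≫ (f ∣_ V)))
  haveI : CompactSpace ↥(U : Scheme.{u}) := isCompact_iff_compactSpace.mp hUc
  haveI : IsAffine (V : Scheme.{u}) := hV
  haveI : QuasiSeparated (f ∣_ V) := IsZariskiLocalAtTarget.restrict ‹QuasiSeparated f› V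
  haveI : QuasiSeparatedSpace ↥((f ⁻¹ᵁ V : X.Opens) : Scheme.{u}) :=
    quasiSeparatedSpace_of_quasiSeparated (f ∣_ V)
  haveI : QuasiSeparatedSpace ↥(U : Scheme.{u}) :=
    (X.homOfLE hUV').isOpenEmbedding.quasiSeparatedSpace
  haveI : QuasiCompact fU := inferInstance
  haveI : QuasiSeparated fU := inferInstance
  -- (d) the open part of `V` over which the section lands in `U`
  let T : (V : Scheme.{u}).Opens := (V.ι ≫ e) ⁻¹ᵁ U
  let sV : (V : Scheme.{u}) := ⟨s, hsV⟩
  have hsT : sV ∈ T := hesU
  let f'' := fU ∣_ T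
  haveI : Smooth f'' := IsZariskiLocalAtTarget.restrict ‹Smooth fU› T
  haveI : Flat f'' := inferInstance
  haveI : LocallyOfFinitePresentation f'' := inferInstance
  haveI : QuasiCompact f'' := inferInstance
  haveI : QuasiSeparated f'' := IsZariskiLocalAtTarget.restrict ‹QuasiSeparated fU› T
  -- (e) the section
  have hrange₁ : Set.range (T.ι ≫ V.ι ≫ e).base ⊆ Set.range U.ι.base := by
    rintro _ ⟨t, rfl⟩
    rw [Scheme.Opens.range_ι]
    exact t.2
  let eU : (T : Scheme.{u}) ⟶ (U : Scheme.{u}) :=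
    IsOpenImmersion.lift U.ι (T.ι ≫ V.ι ≫ e) hrange₁
  have heU : eU ≫ U.ι = T.ι ≫ V.ι ≫ e := IsOpenImmersion.lift_fac _ _ _
  have heUf : eU ≫ fU = T.ι := by
    rw [← cancel_mono V.ι, Category.assoc, hfU, ← Category.assoc, heU, Category.assoc,
      Category.assoc, he, Category.comp_id]
  have hrange₂ : Set.range eU.base ⊆ Set.range (fU ⁻¹ᵁ T).ι.base := by
    rintro _ ⟨t, rfl⟩
    rw [Scheme.Opens.range_ι]
    change fU.base (eU.base t) ∈ T
    have := congrArg (fun φ => φ.base t) heUf
    simp only [Scheme.Hom.comp_apply] at this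
    rw [this]
    exact t.2
  let e'' : (T : Scheme.{u}) ⟶ ((fU ⁻¹ᵁ T : (U : Scheme.{u}).Opens) : Scheme.{u}) :=
    IsOpenImmersion.lift (fU ⁻¹ᵁ T).ι eU hrange₂
  have he''ι : e'' ≫ (fU ⁻¹ᵁ T).ι = eU := IsOpenImmersion.lift_fac _ _ _
  have he'' : e'' ≫ f'' = 𝟙 _ := by
    rw [← cancel_mono T.ι, Category.assoc, morphismRestrict_ι, ← Category.assoc, he''ι, heUf,
      Category.id_comp]
  -- (g) the comparison square
  let j : ((fU ⁻¹ᵁ T : (U : Scheme.{u}).Opens) : Scheme.{u}) ⟶ X := (fU ⁻¹ᵁ T).ι ≫ U.ι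
  let i : (T : Scheme.{u}) ⟶ S := T.ι ≫ V.ι
  have hji : j ≫ f = f'' ≫ i := by
    change ((fU ⁻¹ᵁ T).ι ≫ U.ι) ≫ f = (fU ∣_ T) ≫ T.ι ≫ V.ι
    rw [Category.assoc, ← hfU, ← Category.assoc, ← morphismRestrict_ι, Category.assoc]
  have hej : e'' ≫ j = i ≫ e := by
    change e'' ≫ (fU ⁻¹ᵁ T).ι ≫ U.ι = (T.ι ≫ V.ι) ≫ e
    rw [← Category.assoc, he''ι, heU, Category.assoc]
  have hfj : ∀ w, f.base (j.base w) = i.base (f''.base w) := by
    intro w
    have := congrArg (fun φ => φ.base w) hji
    simpa only [Scheme.Hom.comp_apply] using this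
  have hiinj : Function.Injective i.base := by
    have : IsOpenImmersion i := inferInstanceAs (IsOpenImmersion (T.ι ≫ V.ι))
    exact i.isOpenEmbedding.injective
  haveI : IsOpenImmersion j := inferInstanceAs (IsOpenImmersion ((fU ⁻¹ᵁ T).ι ≫ U.ι))
  let s'' : (T : Scheme.{u}) := ⟨sV, hsT⟩
  have his : i.base s'' = s := rfl
  -- points of `U` over `s` lift
  have hlift : ∀ y : X, y ∈ U → f.base y = s → ∃ z, j.base z = y ∧ f''.base z = s'' := by
    intro y hyU hys
    let yU : (U : Scheme.{u}) := ⟨y, hyU⟩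
    have h1 : V.ι.base (fU.base yU) = s := by
      have := congrArg (fun φ => φ.base yU) hfU
      simp only [Scheme.Hom.comp_apply] at this
      rw [this]
      exact hys
    have h2 : fU.base yU = sV := V.ι.isOpenEmbedding.injective h1
    have h3 : yU ∈ fU ⁻¹ᵁ T := by
      change fU.base yU ∈ T
      rw [h2]; exact hsT
    refine ⟨⟨yU, h3⟩, rfl, ?_⟩
    apply hiinj
    rw [← hfj]
    exact hys
  -- (i) the fibre of `f''` over `s''` is connected
  have himg : j.base '' (f''.base ⁻¹' {s''}) = (U : Set X) ∩ f.base ⁻¹' {s} := by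
    apply Set.Subset.antisymm
    · rintro _ ⟨z, hz, rfl⟩
      refine ⟨(z.1).2, ?_⟩
      change f.base (j.base z) = s
      rw [hfj, hz]
      rfl
    · rintro y ⟨hyU, hys⟩
      obtain ⟨z, hz1, hz2⟩ := hlift y hyU hys
      exact ⟨z, hz2, hz1⟩
  have hpre'' : _root_.IsPreconnected (f''.base ⁻¹' {s''}) := by
    rw [← j.isOpenEmbedding.isInducing.isPreconnected_image, himg]
    exact hUpre
  obtain ⟨x'', hx''1, hx''2⟩ := hlift x hxU rfl
  have hx''cc : x'' ∈ connectedComponentIn (f''.base ⁻¹' {s''}) (e''.base s'') :=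
    mem_connectedComponentIn_of_isPreconnected f'' e'' he'' s'' hpre'' x'' hx''2
  -- (f) the flat finitely presented case
  have key := Groth.Agent.H25.SecModel.sectionComponents_nhd_of_flat f'' e'' he'' s''
    (fun q _ => isGeomReducedAt_fibre_of_smooth f'' s'' q)
  have h1 : x'' ∈ interior (MoreMor.sectionComponents f'' e'') := key hx''cc
  have h2 : j.base '' interior (MoreMor.sectionComponents f'' e'') ⊆
      MoreMor.sectionComponents f e := by
    rintro _ ⟨z, hz, rfl⟩
    exact map_mem_sectionComponents_of_comm f e f'' e'' j i hji hej z (interior_subset hz)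
  have h3 : IsOpen (j.base '' interior (MoreMor.sectionComponents f'' e'')) :=
    j.isOpenEmbedding.isOpenMap _ isOpen_interior
  exact Filter.mem_of_superset (h3.mem_nhds ⟨x'', h1, hx''1⟩) h2

end Groth.Agent.H25.SecOpen

namespace Groth.Agent.H25.SecOpen

open Groth.Agent.H51

/-- the embedding of a scheme-theoretic fibre carries connected components to the connected
components of the topological fibre -/
theorem fiberι_image_connectedComponent {X Y : Scheme.{u}} (f : X ⟶ Y) (y : Y) (q : ↥(f.fiber y)) :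
    (f.fiberι y).base '' connectedComponent q =
      connectedComponentIn (f.base ⁻¹' {y}) ((f.fiberι y).base q) := by
  let h := f.fiberHomeo y
  have hq : (f.fiberι y).base q ∈ f.base ⁻¹' {y} := (h q).2
  rw [connectedComponentIn_eq_image hq]
  have h1 := Groth.Agent.H87.SecComp.homeo_image_connectedComponent h q
  have h2 : (⟨(f.fiberι y).base q, hq⟩ : ↥(f.base ⁻¹' {y})) = h q := rfl
  rw [h2, ← h1, Set.image_image]
  rfl

/-- **Images of fibre components under base change**: in a pullback square, the image of the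
connected component of `x'` in its fibre is the connected component of the image of `x'`. -/
theorem image_connectedComponentIn_of_isPullback {X Y X' Y' : Scheme.{u}} (f : X ⟶ Y)
    (g : Y' ⟶ Y) (f' : X' ⟶ Y') (g' : X' ⟶ X) (hc : IsPullback g' f' f g) (y' : Y') (x' : X')
    (hx' : f'.base x' = y') :
    g'.base '' connectedComponentIn (f'.base ⁻¹' {y'}) x' =
      connectedComponentIn (f.base ⁻¹' {g.base y'}) (g'.base x') := by
  obtain ⟨q', hq'⟩ : x' ∈ Set.range (f'.fiberι y').base := by
    rw [Scheme.Hom.range_fiberι]; exact hx'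
  let φ := fibreBC' f g f' g' hc y'
  have hφ := fibreBC'_isPullback f g f' g' hc y'
  have hφι : ∀ z, (f.fiberι (g.base y')).base (φ.base z) = g'.base ((f'.fiberι y').base z) := by
    intro z
    have := congrArg (fun ψ => ψ.base z) (fibreBC'_fiberι f g f' g' hc y')
    simpa only [Scheme.Hom.comp_apply] using this
  letI : Algebra (Y.residueField (g.base y')) (Y'.residueField y') :=
    (g.residueFieldMap y').hom.toAlgebra
  have hICC := Groth.Agent.H87.SecComp.image_connectedComponent_of_isPullback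
    (Y.residueField (g.base y')) (Y'.residueField y')
    (f.fiberToSpecResidueField (g.base y')) φ (f'.fiberToSpecResidueField y') hφ q'
  rw [← hq', ← fiberι_image_connectedComponent, ← hφι, ← fiberι_image_connectedComponent]
  change _ = (f.fiberι (g.base y')).base '' connectedComponent (φ q')
  rw [← hICC, Set.image_image, Set.image_image]
  exact Set.image_congr (fun z _ => (hφι z).symm)

end Groth.Agent.H25.SecOpen

namespace Groth.Agent.H25.SecOpen

/-- Let `f : X ⟶ S` be smooth and quasi-separated, `g : S' ⟶ S` universally open and `e : S' ⟶ X`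
with `e ≫ f = g`. Then the union of the connected components of the fibres of `f` meeting `e(S')`
is open. -/
theorem exists_open_fibrewise_components {S S' X : Scheme.{u}} (f : X ⟶ S)
    [Smooth f] [QuasiSeparated f] (g : S' ⟶ S) [UniversallyOpen g] (e : S' ⟶ X)
    (he : e ≫ f = g) :
    ∃ U : X.Opens, ∀ s : S, (U : Set ↥X) ∩ f.base ⁻¹' {s} =
      ⋃ x ∈ Set.range e.base ∩ f.base ⁻¹' {s}, connectedComponentIn (f.base ⁻¹' {s}) x := by
  let f' : pullback f g ⟶ S' := pullback.snd f g
  let pr : pullback f g ⟶ X := pullback.fst f g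
  haveI : Smooth f' := inferInstanceAs (Smooth (pullback.snd f g))
  haveI : QuasiSeparated f' := inferInstanceAs (QuasiSeparated (pullback.snd f g))
  haveI : UniversallyOpen pr := inferInstanceAs (UniversallyOpen (pullback.fst f g))
  let e' : S' ⟶ pullback f g := pullback.lift e (𝟙 S') (by rw [he, Category.id_comp])
  have he' : e' ≫ f' = 𝟙 S' := pullback.lift_snd _ _ _
  have he'pr : e' ≫ pr = e := pullback.lift_fst _ _ _
  have hsq : IsPullback pr f' f g := IsPullback.of_hasPullback f g
  have hopen := isOpen_sectionComponents_of_smooth' f' e' he'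
  have hfpr : ∀ z, f.base (pr.base z) = g.base (f'.base z) := by
    intro z
    have := congrArg (fun ψ => ψ.base z) hsq.w
    simpa only [Scheme.Hom.comp_apply] using this
  have hpre' : ∀ t : S', pr.base (e'.base t) = e.base t := by
    intro t
    have := congrArg (fun ψ => ψ.base t) he'pr
    simpa only [Scheme.Hom.comp_apply] using this
  have hf'e' : ∀ t : S', f'.base (e'.base t) = t := by
    intro t
    rw [← Scheme.Hom.comp_apply, he']; rfl
  have hfe : ∀ t : S', f.base (e.base t) = g.base t := by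
    intro t
    rw [← Scheme.Hom.comp_apply, he]
  have himg : ∀ t : S', pr.base '' connectedComponentIn (f'.base ⁻¹' {t}) (e'.base t) =
      connectedComponentIn (f.base ⁻¹' {g.base t}) (e.base t) := by
    intro t
    rw [image_connectedComponentIn_of_isPullback f g f' pr hsq t (e'.base t) (hf'e' t), hpre']
  refine ⟨⟨pr.base '' MoreMor.sectionComponents f' e', pr.isOpenMap _ hopen⟩, fun s => ?_⟩
  apply Set.Subset.antisymm
  · rintro z ⟨⟨z', hz', rfl⟩, hzs⟩
    have hz'' : z' ∈ connectedComponentIn (f'.base ⁻¹' {f'.base z'}) (e'.base (f'.base z')) := hz'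
    have hgs : g.base (f'.base z') = s := by rw [← hfpr]; exact hzs
    have h1 : pr.base z' ∈ connectedComponentIn (f.base ⁻¹' {g.base (f'.base z')})
        (e.base (f'.base z')) := by
      rw [← himg]; exact ⟨z', hz'', rfl⟩
    rw [hgs] at h1
    refine Set.mem_iUnion₂.mpr ⟨e.base (f'.base z'), ⟨⟨_, rfl⟩, ?_⟩, h1⟩
    change f.base (e.base (f'.base z')) = s
    rw [hfe, hgs]
  · intro z hz
    obtain ⟨x, ⟨⟨t, rfl⟩, hxs⟩, hzx⟩ := Set.mem_iUnion₂.mp hz
    have hgt : g.base t = s := by rw [← hfe]; exact hxs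
    rw [← hgt, ← himg] at hzx
    obtain ⟨z', hz', rfl⟩ := hzx
    have hf'z' : f'.base z' = t := by
      have := connectedComponentIn_subset (f'.base ⁻¹' {t}) (e'.base t) hz'
      exact this
    refine ⟨⟨z', ?_, rfl⟩, ?_⟩
    · change z' ∈ connectedComponentIn (f'.base ⁻¹' {f'.base z'}) (e'.base (f'.base z'))
      rw [hf'z']; exact hz'
    · change f.base (pr.base z') = s
      rw [hfpr, hf'z', hgt]

end Groth.Agent.H25.SecOpen
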