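import Groth.Agent.H25.SepFamAlg
import Groth.Agent.H44.PullUnit
import Groth.Agent.H18.QCohLocalize
import Groth.Agent.H12.QCohIso

set_option autoImplicit false
universe u
open CategoryTheory AlgebraicGeometry Scheme.Modules TopologicalSpace Opposite TensorProduct

namespace Groth.Agent.H25.SepFam

open Groth.Agent.H44 Groth.Agent.H25.SepFamAlg

variable {X X' : Scheme.{u}}

/-- a family of homomorphisms of modules is separating. -/
def IsSep (F : X.Modules) {ι : Type u} (G : ι → X.Modules) (u : ∀ i, F ⟶ G i) : Prop :=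
  ∀ (V : X.Opens) (t : Γ(F, V)), (∀ i, (u i).app V t = 0) → t = 0

/-- the `Γ(X,U)`-linear map on sections. -/
noncomputable def appL {F G : X.Modules} (φ : F ⟶ G) (U : X.Opens) : Γ(F, U) →ₗ[Γ(X, U)] Γ(G, U) where
  toFun := φ.app U
  map_add' := map_add _
  map_smul' := Hom.app_smul φ

@[simp] theorem appL_apply {F G : X.Modules} (φ : F ⟶ G) (U : X.Opens) (x : Γ(F, U)) :
    appL φ U x = φ.app U x := rfl

section Nat
variable (g : X' ⟶ X) {F G : X.Modules} [F.IsQuasicoherent] [G.IsQuasicoherent] (φ : F ⟶ G)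
  {U' : X'.Opens} {U : X.Opens} (hU' : IsAffineOpen U') (hU : IsAffineOpen U) (e : U' ≤ g ⁻¹ᵁ U)

theorem pullbackSectionsEquiv_naturality (s : Γ((pullback g).obj F, U')) :
    letI := (g.appLE U U' e).hom.toAlgebra
    pullbackSectionsEquiv g G hU' hU e (((pullback g).map φ).app U' s) =
      LinearMap.lTensor Γ(X', U') (appL φ U) (pullbackSectionsEquiv g F hU' hU e s) := by
  letI := (g.appLE U U' e).hom.toAlgebra
  obtain ⟨z, rfl⟩ := (pullbackSectionsEquiv g F hU' hU e).symm.surjective s
  rw [LinearEquiv.apply_symm_apply]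
  induction z using TensorProduct.induction_on with
  | zero => simp
  | tmul a m =>
    have h1 : (pullbackSectionsEquiv g F hU' hU e).symm (a ⊗ₜ m) = a • pullSectLE g F U U' e m := by
      rw [LinearEquiv.symm_apply_eq, _root_.map_smul, pullbackSectionsEquiv_pullSectLE, smul_tmul', smul_eq_mul,
        mul_one]
    rw [h1, Hom.app_smul, pullSectLE_naturality, _root_.map_smul, pullbackSectionsEquiv_pullSectLE,
      smul_tmul', smul_eq_mul, mul_one, LinearMap.lTensor_tmul, appL_apply]
  | add x y hx hy => simp only [map_add, hx, hy]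

end Nat

section Local
variable (F : X.Modules) {ι : Type u} (G : ι → X.Modules) (u : ∀ i, F ⟶ G i)

/-- separatedness of a family can be checked on a basis. -/
theorem isSep_of_basis
    (H : ∀ (V : X.Opens) (x : X), x ∈ V → ∃ W : X.Opens, x ∈ W ∧ W ≤ V ∧
      ∀ t : Γ(F, W), (∀ i, (u i).app W t = 0) → t = 0) : IsSep F G u := by
  intro V t ht
  refine Groth.Agent.H12.QCohIso.modules_eq_of_locally_eq F t 0 (fun x hx => ?_)
  obtain ⟨W, hxW, hWV, hW⟩ := H V x hx
  refine ⟨W, hWV, hxW, ?_⟩
  rw [map_zero]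
  apply hW
  intro i
  have := hom_app_resLE (u i) hWV t
  rw [ht i, map_zero] at this
  exact this

theorem sep_of_isSep [F.IsQuasicoherent] (h : IsSep F G u) {U : X.Opens} (hU : IsAffineOpen U) :
    Sep (fun i => appL (u i) U) := by
  intro g m hm
  apply Groth.Agent.H18.exists_pow_smul_eq_zero_of_isQuasicoherent F hU g m
  apply h
  intro i
  obtain ⟨n, hn⟩ := hm i
  have h1 := hom_app_resLE (u i) (X.basicOpen_le g) m
  have h2 : (X.presheaf.map (homOfLE (X.basicOpen_le g)).op g) ^ n •
      (G i).presheaf.map (homOfLE (X.basicOpen_le g)).op ((u i).app U m) = 0 := by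
    rw [← map_pow, ← Scheme.Modules.map_smul]
    have : g ^ n • (u i).app U m = 0 := hn
    rw [this, map_zero]
  have hu : IsUnit ((X.presheaf.map (homOfLE (X.basicOpen_le g)).op g) ^ n) :=
    (RingedSpace.isUnit_res_basicOpen _ g).pow n
  rw [h1]
  exact (hu.smul_eq_zero).mp h2

end Local

section Pull
variable (g : X' ⟶ X) (F : X.Modules) [F.IsQuasicoherent] {ι : Type u} (G : ι → X.Modules)
  [∀ i, (G i).IsQuasicoherent] (u : ∀ i, F ⟶ G i)

/-- reduction of separatedness of a pulled back family to commutative algebra. -/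
theorem isSep_pullback
    (H : ∀ (V' : X'.Opens) (x' : X'), x' ∈ V' → ∃ (U' : X'.Opens) (U : X.Opens)
      (_ : IsAffineOpen U') (_ : IsAffineOpen U) (e : U' ≤ g ⁻¹ᵁ U), x' ∈ U' ∧ U' ≤ V' ∧
      letI := (g.appLE U U' e).hom.toAlgebra
      ∀ z : Γ(X', U') ⊗[Γ(X, U)] Γ(F, U),
        (∀ i, LinearMap.lTensor Γ(X', U') (appL (u i) U) z = 0) → z = 0) :
    IsSep ((pullback g).obj F) (fun i => (pullback g).obj (G i))
      (fun i => (pullback g).map (u i)) := by
  apply isSep_of_basis
  intro V' x' hx'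
  obtain ⟨U', U, hU', hU, e, hxU', hUV', hz⟩ := H V' x' hx'
  refine ⟨U', hxU', hUV', fun t ht => ?_⟩
  letI := (g.appLE U U' e).hom.toAlgebra
  apply (pullbackSectionsEquiv g F hU' hU e).injective
  rw [map_zero]
  apply hz
  intro i
  rw [← pullbackSectionsEquiv_naturality, ht i, map_zero]

/-- joint injectivity in the orientation `A' ⊗ M` from the one in the orientation `M ⊗ A'`. -/
theorem eq_zero_of_comm {A : Type u} [CommRing A] {M : Type u} [AddCommGroup M] [Module A M]
    {N : ι → Type u} [∀ i, AddCommGroup (N i)] [∀ i, Module A (N i)] (A' : Type u) [CommRing A']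
    [Algebra A A'] (v : ∀ i, M →ₗ[A] N i)
    (H : ∀ t : M ⊗[A] A', (∀ i, LinearMap.rTensor A' (v i) t = 0) → t = 0)
    (z : A' ⊗[A] M) (hz : ∀ i, LinearMap.lTensor A' (v i) z = 0) : z = 0 := by
  have h1 : (TensorProduct.comm A M A').symm z = 0 := by
    apply H
    intro i
    apply (TensorProduct.comm A (N i) A').injective
    rw [← comm_rTensor, LinearEquiv.apply_symm_apply, hz i, map_zero]
  exact (TensorProduct.comm A M A').symm.map_eq_zero_iff.mp h1

/-- **Separating families of quasi-coherent modules are stable under flat base change locally of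
finite presentation.** -/
theorem isSep_pullback_of_flat_of_locallyOfFinitePresentation [Flat g]
    [LocallyOfFinitePresentation g] (h : IsSep F G u) :
    IsSep ((pullback g).obj F) (fun i => (pullback g).obj (G i))
      (fun i => (pullback g).map (u i)) := by
  apply isSep_pullback
  intro V' x' hx'
  obtain ⟨U, hU, hxU, -⟩ := exists_isAffineOpen_mem_and_subset (x := g x') (U := ⊤) trivial
  have hx'' : x' ∈ V' ⊓ g ⁻¹ᵁ U := ⟨hx', hxU⟩
  obtain ⟨U', hU', hxU', hU'le⟩ := exists_isAffineOpen_mem_and_subset hx''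
  have e : U' ≤ g ⁻¹ᵁ U := fun y hy => (hU'le hy).2
  refine ⟨U', U, hU', hU, e, hxU', fun y hy => (hU'le hy).1, ?_⟩
  letI := (g.appLE U U' e).hom.toAlgebra
  haveI : Module.Flat Γ(X, U) Γ(X', U') := g.flat_appLE hU hU' e
  haveI : Algebra.FinitePresentation Γ(X, U) Γ(X', U') := g.finitePresentation_appLE hU hU' e
  exact eq_zero_of_comm Γ(X', U') _
    (fun t ht => eq_zero_of_flat_of_finitePresentation Γ(X', U') (sep_of_isSep F G u h hU) t ht)

end Pull
end Groth.Agent.H25.SepFam
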