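import Mathlib
import Groth.Agent.H25.SepFamAlg

set_option autoImplicit false
universe u v
open TensorProduct

namespace Groth.Agent.H25.SepFamAlg

section Art
variable {A : Type u} [CommRing A] {M : Type u} [AddCommGroup M] [Module A M]
  {ι : Type v} {N : ι → Type u} [∀ i, AddCommGroup (N i)] [∀ i, Module A (N i)]

theorem piLeft_apply' {κ : Type v} [Fintype κ] [DecidableEq κ] {P : κ → Type u}
    [∀ i, AddCommGroup (P i)] [∀ i, Module A (P i)] (A' : Type u) [AddCommGroup A']
    [Module A A'] (z : (∀ i, P i) ⊗[A] A') (a : κ) :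
    TensorProduct.piLeft A A' P z a =
      LinearMap.rTensor A' (LinearMap.proj a : (∀ i, P i) →ₗ[A] P a) z := by
  induction z using TensorProduct.induction_on with
  | zero => simp
  | tmul x y => simp
  | add x y hx hy => simp only [map_add, Pi.add_apply, hx, hy]

/-- over an Artinian ring, jointly injective families stay jointly injective after any flat base
change. -/
theorem eq_zero_of_flat_of_isArtinianRing [IsArtinianRing A] (A' : Type u) [CommRing A']
    [Algebra A A'] [Module.Flat A A'] (u : ∀ i, M →ₗ[A] N i)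
    (hu : ∀ m : M, (∀ i, u i m = 0) → m = 0)
    (t : M ⊗[A] A') (ht : ∀ i, LinearMap.rTensor A' (u i) t = 0) : t = 0 := by
  classical
  obtain ⟨M₀, hfin, hM₀⟩ := TensorProduct.exists_finite_submodule_left_of_setFinite
    ({t} : Set (M ⊗[A] A')) (Set.finite_singleton t)
  obtain ⟨t₀, ht₀⟩ := hM₀ (Set.mem_singleton t)
  let K : Finset ι → Submodule A M₀ := fun I => ⨅ i ∈ I, LinearMap.ker (u i ∘ₗ M₀.subtype)
  obtain ⟨K₀, ⟨I₀, rfl⟩, hmin⟩ := IsArtinian.set_has_minimal (Set.range K) ⟨_, ⟨∅, rfl⟩⟩
  have hbot : K I₀ = ⊥ := by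
    rw [eq_bot_iff]
    intro m hm
    rw [Submodule.mem_bot]
    apply Subtype.ext
    rw [ZeroMemClass.coe_zero]
    apply hu
    intro i
    have hle : K (insert i I₀) ≤ K I₀ := by
      intro x hx
      simp only [K, Submodule.mem_iInf] at hx ⊢
      exact fun j hj => hx j (Finset.mem_insert_of_mem hj)
    have heq : K (insert i I₀) = K I₀ :=
      eq_of_le_of_not_lt hle (hmin _ ⟨insert i I₀, rfl⟩)
    rw [← heq] at hm
    simp only [K, Submodule.mem_iInf] at hm
    exact hm i (Finset.mem_insert_self i I₀)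
  let ψ : M₀ →ₗ[A] ((i : I₀) → N i) := LinearMap.pi (fun i => u i ∘ₗ M₀.subtype)
  have hψ : Function.Injective ψ := by
    rw [← LinearMap.ker_eq_bot, eq_bot_iff, ← hbot]
    intro m hm
    simp only [K, Submodule.mem_iInf]
    intro i hi
    rw [LinearMap.mem_ker] at hm ⊢
    exact congrFun hm ⟨i, hi⟩
  have h1 : LinearMap.rTensor A' ψ t₀ = 0 := by
    apply (TensorProduct.piLeft A A' (fun i : I₀ => N i)).injective
    rw [map_zero]
    ext i
    rw [piLeft_apply', ← LinearMap.comp_apply, ← LinearMap.rTensor_comp]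
    have : (LinearMap.proj i : ((i : I₀) → N i) →ₗ[A] N i) ∘ₗ ψ = u i ∘ₗ M₀.subtype := by
      ext m; rfl
    rw [this, LinearMap.rTensor_comp, LinearMap.comp_apply, ht₀, ht i]
    rfl
  have h2 : t₀ = 0 :=
    (Module.Flat.rTensor_preserves_injective_linearMap (M := A') ψ hψ)
      (by rw [h1, map_zero])
  rw [← ht₀, h2, map_zero]

end Art
end Groth.Agent.H25.SepFamAlg
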