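import Groth.Agent.H25.SepFam
import Groth.Agent.H25.SepFamArt

set_option autoImplicit false
universe u
open CategoryTheory AlgebraicGeometry Scheme.Modules TopologicalSpace Opposite TensorProduct

namespace Groth.Agent.H25.SepFam

open Groth.Agent.H44 Groth.Agent.H25.SepFamAlg

variable {X X' : Scheme.{u}} (g : X' ⟶ X) (F : X.Modules) [F.IsQuasicoherent] {ι : Type u}
  (G : ι → X.Modules) [∀ i, (G i).IsQuasicoherent] (u : ∀ i, F ⟶ G i)

/-- **Separating families of quasi-coherent modules on an Artinian scheme are stable under every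
flat base change.** -/
theorem isSep_pullback_of_flat_of_artinian [IsLocallyNoetherian X] (hX : topologicalKrullDim X ≤ 0)
    [Flat g] (h : IsSep F G u) :
    IsSep ((pullback g).obj F) (fun i => (pullback g).obj (G i))
      (fun i => (pullback g).map (u i)) := by
  haveI : IsLocallyArtinian X := IsLocallyArtinian.of_topologicalKrullDim_le_zero hX
  apply isSep_pullback
  intro V' x' hx'
  obtain ⟨U, hU, hxU, -⟩ := exists_isAffineOpen_mem_and_subset (x := g x') (U := ⊤) trivial
  have hx'' : x' ∈ V' ⊓ g ⁻¹ᵁ U := ⟨hx', hxU⟩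
  obtain ⟨U', hU', hxU', hU'le⟩ := exists_isAffineOpen_mem_and_subset hx''
  have e : U' ≤ g ⁻¹ᵁ U := fun y hy => (hU'le hy).2
  refine ⟨U', U, hU', hU, e, hxU', fun y hy => (hU'le hy).1, ?_⟩
  letI := (g.appLE U U' e).hom.toAlgebra
  haveI : Module.Flat Γ(X, U) Γ(X', U') := g.flat_appLE hU hU' e
  haveI : IsArtinianRing Γ(X, U) := IsLocallyArtinian.isArtinianRing_presheaf_obj ⟨U, hU⟩
  exact eq_zero_of_comm Γ(X', U') _
    (fun t ht => eq_zero_of_flat_of_isArtinianRing Γ(X', U') (fun i => appL (u i) U)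
      (fun m hm => h U m hm) t ht)

end Groth.Agent.H25.SepFam
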