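import Groth.Agent.H25.SepFam

set_option autoImplicit false
universe u
open CategoryTheory AlgebraicGeometry Scheme.Modules TopologicalSpace Opposite TensorProduct

namespace Groth.Agent.H25.SepFam

open Groth.Agent.H44 Groth.Agent.H25.SepFamAlg

section Alg
variable {A B M : Type u} [CommRing A] [CommRing B] [Algebra A B] [Module.Flat A B]
  [AddCommGroup M] [Module A M]

/-- if `1 ⊗ m = 0` in `B ⊗ M` with `B` flat over `A`, the annihilator of `m` generates the unit
ideal of `B`: it is not contained in any proper ideal. -/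
theorem exists_smul_eq_zero_notMem (m : M) (h : (1 : B) ⊗ₜ[A] m = 0) (𝔮 : Ideal B)
    (h𝔮 : 𝔮 ≠ ⊤) : ∃ a : A, a • m = 0 ∧ algebraMap A B a ∉ 𝔮 := by
  by_contra hcon
  push Not at hcon
  let φ : A →ₗ[A] M := LinearMap.toSpanSingleton A M m
  let I : Ideal A := LinearMap.ker φ
  let φ' : (A ⧸ I) →ₗ[A] M := Submodule.liftQ I φ le_rfl
  have hφ' : Function.Injective φ' := by
    rw [← LinearMap.ker_eq_bot]
    exact Submodule.ker_liftQ_eq_bot _ _ _ le_rfl
  have hinj := Module.Flat.lTensor_preserves_injective_linearMap (M := B) φ' hφ'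
  have h1 : (1 : B) ⊗ₜ[A] (Ideal.Quotient.mk I 1) = 0 := by
    apply hinj
    rw [LinearMap.lTensor_tmul, map_zero]
    have : φ' (Ideal.Quotient.mk I 1) = m := by
      show φ 1 = m
      simp [φ]
    rw [this]
    exact h
  have h2 := congrArg (TensorProduct.tensorQuotEquivQuotSMul B I) h1
  rw [TensorProduct.tensorQuotEquivQuotSMul_tmul_mk, one_smul, map_zero,
    Submodule.Quotient.mk_eq_zero] at h2
  have hle : (I • ⊤ : Submodule A B) ≤ 𝔮.restrictScalars A := by
    rw [Submodule.smul_le]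
    intro r hr n _
    have hr' : r • m = 0 := by
      have : φ r = 0 := hr
      simpa [φ] using this
    have := hcon r hr'
    show r • n ∈ 𝔮
    rw [Algebra.smul_def]
    exact 𝔮.mul_mem_right _ this
  exact h𝔮 ((Ideal.eq_top_iff_one 𝔮).mpr (hle h2))

end Alg

section Descent
variable {X X' : Scheme.{u}} (g : X' ⟶ X) [Flat g] [Surjective g] (F : X.Modules)
  [F.IsQuasicoherent] {ι : Type u} (G : ι → X.Modules) [∀ i, (G i).IsQuasicoherent]
  (u : ∀ i, F ⟶ G i)

omit [Flat g] [Surjective g] in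
theorem pullSectLE_zero (M : X.Modules) (W : X.Opens) (W' : X'.Opens) (le : W' ≤ g ⁻¹ᵁ W) :
    pullSectLE g M W W' le 0 = 0 := by
  have := pullSectLE_smul g M W W' le 0 0
  rwa [zero_smul, map_zero, zero_smul] at this

omit [∀ i, (G i).IsQuasicoherent] in
/-- **Faithfully flat descent of separating families.** -/
theorem isSep_of_isSep_pullback_of_flat_of_surjective
    (h : IsSep ((pullback g).obj F) (fun i => (pullback g).obj (G i))
      (fun i => (pullback g).map (u i))) : IsSep F G u := by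
  apply isSep_of_basis
  intro V x hx
  obtain ⟨W, hW, hxW, hWV⟩ := exists_isAffineOpen_mem_and_subset hx
  refine ⟨W, hxW, hWV, fun m hm => ?_⟩
  let I : Ideal Γ(X, W) := LinearMap.ker (LinearMap.toSpanSingleton Γ(X, W) Γ(F, W) m)
  have hI : Ideal.span (I : Set Γ(X, W)) = ⊤ := by
    rw [← hW.self_le_iSup_basicOpen_iff]
    intro y hy
    obtain ⟨y', rfl⟩ := g.surjective y
    obtain ⟨W', hW', hyW', hW'le⟩ := exists_isAffineOpen_mem_and_subset (x := y')
      (U := g ⁻¹ᵁ W) hy
    letI := (g.appLE W W' hW'le).hom.toAlgebra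
    haveI : Module.Flat Γ(X, W) Γ(X', W') := g.flat_appLE hW hW' hW'le
    have h0 : pullSectLE g F W W' hW'le m = 0 := by
      apply h
      intro i
      rw [pullSectLE_naturality, hm i, pullSectLE_zero]
    have h1 : (1 : Γ(X', W')) ⊗ₜ[Γ(X, W)] m = 0 := by
      rw [← pullbackSectionsEquiv_pullSectLE g F hW' hW hW'le, h0, map_zero]
    let 𝔮 : Ideal Γ(X', W') := Ideal.comap (X'.presheaf.germ W' y' hyW').hom
      (IsLocalRing.maximalIdeal _)
    have h𝔮 : 𝔮 ≠ ⊤ := Ideal.comap_ne_top _ (IsLocalRing.maximalIdeal.isMaximal _).ne_top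
    obtain ⟨a, ha, ha𝔮⟩ := exists_smul_eq_zero_notMem m h1 𝔮 h𝔮
    have hy'D : y' ∈ X'.basicOpen (g.appLE W W' hW'le a) := by
      rw [Scheme.mem_basicOpen _ _ y' hyW']
      by_contra hnu
      exact ha𝔮 ((IsLocalRing.mem_maximalIdeal _).mpr hnu)
    rw [Scheme.basicOpen_appLE] at hy'D
    have haI : a ∈ I := by
      show LinearMap.toSpanSingleton Γ(X, W) Γ(F, W) m a = 0
      simpa using ha
    exact Opens.mem_iSup.mpr ⟨⟨a, haI⟩, hy'D.2⟩
  have h1 : (1 : Γ(X, W)) ∈ I := by
    rw [Ideal.span_eq] at hI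
    rw [hI]
    trivial
  have h2 : LinearMap.toSpanSingleton Γ(X, W) Γ(F, W) m 1 = 0 := h1
  simpa using h2

end Descent

end Groth.Agent.H25.SepFam
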