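import Groth.Agent.H25.SepFam

set_option autoImplicit false
universe u
open CategoryTheory AlgebraicGeometry Scheme.Modules TopologicalSpace Opposite TensorProduct

namespace Groth.Agent.H25.SepFam

open Groth.Agent.H44 Groth.Agent.H25.SepFamAlg

section Alg
variable {A : Type u} [CommRing A] {M : Type u} [AddCommGroup M] [Module A M]
  {ι : Type u} [Finite ι] {N : ι → Type u} [∀ i, AddCommGroup (N i)] [∀ i, Module A (N i)]

/-- a jointly injective finite family stays jointly injective after a flat base change. -/
theorem eq_zero_of_flat_of_finite (B : Type u) [CommRing B] [Algebra A B] [Module.Flat A B]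
    (v : ∀ i, M →ₗ[A] N i) (hv : ∀ m : M, (∀ i, v i m = 0) → m = 0)
    (z : B ⊗[A] M) (hz : ∀ i, LinearMap.lTensor B (v i) z = 0) : z = 0 := by
  classical
  haveI := Fintype.ofFinite ι
  have hinj : Function.Injective (LinearMap.pi v) := by
    rw [← LinearMap.ker_eq_bot, LinearMap.ker_eq_bot']
    intro m hm
    exact hv m (fun i => congrFun hm i)
  have hinj' := Module.Flat.lTensor_preserves_injective_linearMap (M := B) (LinearMap.pi v) hinj
  apply hinj'
  rw [map_zero]
  apply (TensorProduct.piRight A A B N).injective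
  rw [map_zero]
  funext i
  have key : ∀ w : B ⊗[A] M, TensorProduct.piRight A A B N (LinearMap.lTensor B (LinearMap.pi v) w) i
      = LinearMap.lTensor B (v i) w := by
    intro w
    induction w using TensorProduct.induction_on with
    | zero => simp
    | tmul b m => simp [TensorProduct.piRightHom_tmul]
    | add x y hx hy => simp only [map_add, Pi.add_apply, hx, hy]
  rw [key, hz i]
  rfl

end Alg

section Sch
variable {X X' : Scheme.{u}} (g : X' ⟶ X) [Flat g] (F : X.Modules) [F.IsQuasicoherent]
  {ι : Type u} [Finite ι] (G : ι → X.Modules) [∀ i, (G i).IsQuasicoherent] (u : ∀ i, F ⟶ G i)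

/-- **Finite separating families of quasi-coherent modules are stable under flat base change.** -/
theorem isSep_pullback_of_flat_of_finite (h : IsSep F G u) :
    IsSep ((pullback g).obj F) (fun i => (pullback g).obj (G i))
      (fun i => (pullback g).map (u i)) := by
  apply isSep_pullback
  intro V' x' hx'
  obtain ⟨U, hU, hxU, -⟩ := exists_isAffineOpen_mem_and_subset (x := g x') (U := ⊤) trivial
  have hx'' : x' ∈ V' ⊓ g ⁻¹ᵁ U := ⟨hx', hxU⟩
  obtain ⟨U', hU', hxU', hU'le⟩ := exists_isAffineOpen_mem_and_subset hx''
  have e : U' ≤ g ⁻¹ᵁ U := fun y hy => (hU'le hy).2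
  refine ⟨U', U, hU', hU, e, hxU', fun y hy => (hU'le hy).1, ?_⟩
  letI := (g.appLE U U' e).hom.toAlgebra
  haveI : Module.Flat Γ(X, U) Γ(X', U') := g.flat_appLE hU hU' e
  refine eq_zero_of_flat_of_finite Γ(X', U') (fun i => appL (u i) U) (fun m hm => ?_)
  exact h U m hm

end Sch

end Groth.Agent.H25.SepFam
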