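import Groth.Agent.H25.SepFamAlg

set_option autoImplicit false
universe u v
open TensorProduct

namespace Groth.Agent.H25.SepV

open Groth.Agent.H25.SepFamAlg

variable {R : Type u} [CommRing R] {C : Type u} [CommRing C] [Algebra R C]
  {M : Type u} [AddCommGroup M] [Module C M] [Module R M] [IsScalarTower R C M]
  {ι : Type v} {N : ι → Type u} [∀ i, AddCommGroup (N i)] [∀ i, Module C (N i)]
  [∀ i, Module R (N i)] [∀ i, IsScalarTower R C (N i)]
  (v : ∀ i, M →ₗ[C] N i)

variable (R) in
/-- the family tensored (over `R`) with an `R`-module `V`. -/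
noncomputable def tens (V : Type u) [AddCommGroup V] [Module R V] (i : ι) :
    M ⊗[R] V →ₗ[C] N i ⊗[R] V :=
  TensorProduct.AlgebraTensorModule.map (v i) LinearMap.id

variable (R) in
/-- the family `v ⊗ V` is separating. -/
def IsSepV (V : Type u) [AddCommGroup V] [Module R V] : Prop := Sep (tens R v V)

variable (R C) in
/-- functoriality in `V`. -/
noncomputable def mu (X : Type u) [AddCommGroup X] [Module C X] [Module R X] [IsScalarTower R C X]
    {V V' : Type u} [AddCommGroup V] [Module R V] [AddCommGroup V'] [Module R V']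
    (f : V →ₗ[R] V') : X ⊗[R] V →ₗ[C] X ⊗[R] V' :=
  TensorProduct.AlgebraTensorModule.map LinearMap.id f

theorem mu_eq_lTensor (X : Type u) [AddCommGroup X] [Module C X] [Module R X] [IsScalarTower R C X]
    {V V' : Type u} [AddCommGroup V] [Module R V] [AddCommGroup V'] [Module R V']
    (f : V →ₗ[R] V') (z : X ⊗[R] V) : mu R C X f z = LinearMap.lTensor X f z := rfl

theorem tens_mu {V V' : Type u} [AddCommGroup V] [Module R V] [AddCommGroup V'] [Module R V']
    (f : V →ₗ[R] V') (i : ι) (z : M ⊗[R] V) :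
    tens R v V' i (mu R C M f z) = mu R C (N i) f (tens R v V i z) := by
  induction z using TensorProduct.induction_on with
  | zero => simp
  | tmul m x => simp [tens, mu]
  | add x y hx hy => simp only [map_add, hx, hy]

/-- transfer of `SepV` along a map `V → V'` inducing an injection `M ⊗ V → M ⊗ V'`. -/
theorem sepV_of_injective {V V' : Type u} [AddCommGroup V] [Module R V] [AddCommGroup V']
    [Module R V'] (f : V →ₗ[R] V') (hf : Function.Injective (mu R C M f)) (h : IsSepV R v V') :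
    IsSepV R v V := by
  intro g z hz
  obtain ⟨n, hn⟩ := h g (mu R C M f z) (fun i => by
    obtain ⟨n, hn⟩ := hz i
    refine ⟨n, ?_⟩
    rw [tens_mu, ← map_smul, hn, map_zero])
  refine ⟨n, hf ?_⟩
  rw [map_smul, hn, map_zero]

theorem sepV_of_linearEquiv {V V' : Type u} [AddCommGroup V] [Module R V] [AddCommGroup V']
    [Module R V'] (e : V ≃ₗ[R] V') (h : IsSepV R v V') : IsSepV R v V := by
  refine sepV_of_injective v e.toLinearMap ?_ h
  intro z₁ z₂ hz
  have h1 : ∀ z, LinearMap.lTensor M e.symm.toLinearMap (LinearMap.lTensor M e.toLinearMap z) = z := by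
    intro z
    rw [← LinearMap.comp_apply, ← LinearMap.lTensor_comp]
    simp
  rw [mu_eq_lTensor, mu_eq_lTensor] at hz
  rw [← h1 z₁, hz, h1]

/-- `SepV` passes to direct sums. -/
theorem sepV_finsupp {T : Type u} [AddCommGroup T] [Module R T] (κ : Type u) (h : IsSepV R v T) :
    IsSepV R v (κ →₀ T) := by
  classical
  intro g z hz
  have hcomp : ∀ b : κ, ∃ n : ℕ, g ^ n • mu R C M (Finsupp.lapply (R := R) (M := T) b) z = 0 := by
    intro b
    apply h
    intro i
    obtain ⟨n, hn⟩ := hz i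
    refine ⟨n, ?_⟩
    rw [tens_mu, ← map_smul, hn, map_zero]
  choose nb hnb using hcomp
  let Φ := TensorProduct.finsuppRight R C M T κ
  let s := (Φ z).support
  refine ⟨s.sup nb, Φ.injective ?_⟩
  rw [map_smul, map_zero]
  ext b
  rw [Finsupp.smul_apply, Finsupp.zero_apply]
  by_cases hb : b ∈ s
  · have h1 : Φ z b = mu R C M (Finsupp.lapply (R := R) (M := T) b) z := by
      rw [mu_eq_lTensor]
      exact TensorProduct.finsuppRight_apply z b
    rw [h1]
    have h2 : s.sup nb = nb b + (s.sup nb - nb b) := by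
      have := Finset.le_sup (f := nb) hb
      omega
    rw [h2, pow_add, mul_comm, mul_smul, hnb b, smul_zero]
  · rw [Finsupp.notMem_support_iff.mp hb, smul_zero]

/-- `SepV` is stable under extensions (the modules `N i` being flat over `R`). -/
theorem sepV_of_exact [∀ i, Module.Flat R (N i)]
    {V' V V'' : Type u} [AddCommGroup V'] [Module R V'] [AddCommGroup V] [Module R V]
    [AddCommGroup V''] [Module R V''] (f : V' →ₗ[R] V) (p : V →ₗ[R] V'')
    (hf : Function.Injective f) (hfp : Function.Exact f p) (hp : Function.Surjective p)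
    (h' : IsSepV R v V') (h'' : IsSepV R v V'') : IsSepV R v V := by
  intro g z hz
  obtain ⟨n, hn⟩ := h'' g (mu R C M p z) (fun i => by
    obtain ⟨n, hn⟩ := hz i
    refine ⟨n, ?_⟩
    rw [tens_mu, ← map_smul, hn, map_zero])
  have hex := lTensor_exact M hfp hp
  have hmem : g ^ n • z ∈ Set.range (LinearMap.lTensor M f) := by
    rw [← hex (g ^ n • z)]
    have : LinearMap.lTensor M p (g ^ n • z) = mu R C M p (g ^ n • z) := rfl
    rw [this, map_smul, hn]
  obtain ⟨y, hy⟩ := hmem
  have hy' : mu R C M f y = g ^ n • z := hy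
  obtain ⟨n', hn'⟩ := h' g y (fun i => by
    obtain ⟨ni, hni⟩ := hz i
    refine ⟨ni, ?_⟩
    have hinj := Module.Flat.lTensor_preserves_injective_linearMap (M := N i) f hf
    apply hinj
    rw [map_zero]
    show mu R C (N i) f (g ^ ni • tens R v V' i y) = 0
    rw [map_smul, ← tens_mu, hy', map_smul, smul_comm, hni, smul_zero])
  refine ⟨n' + n, ?_⟩
  rw [pow_add, mul_smul, ← hy', ← map_smul, hn', map_zero]

theorem sepV_of_subsingleton (V : Type u) [AddCommGroup V] [Module R V] [Subsingleton V] :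
    IsSepV R v V := by
  intro g z _
  refine ⟨0, ?_⟩
  have : Subsingleton (M ⊗[R] V) := inferInstance
  exact Subsingleton.elim _ _

/-- from `SepV` for `V = R` to separatedness of the family. -/
theorem sep_of_sepV_self (h : IsSepV R v R) : Sep v := by
  intro g m hm
  obtain ⟨n, hn⟩ := h g (m ⊗ₜ[R] (1 : R)) (fun i => by
    obtain ⟨n, hn⟩ := hm i
    refine ⟨n, ?_⟩
    show g ^ n • ((v i m) ⊗ₜ[R] (1 : R)) = 0
    rw [smul_tmul', hn, zero_tmul])
  refine ⟨n, ?_⟩
  have := congrArg (TensorProduct.AlgebraTensorModule.rid R C M) hn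
  rwa [map_smul, map_zero, TensorProduct.AlgebraTensorModule.rid_tmul, one_smul] at this

section Nilpotent
variable [∀ i, Module.Flat R (N i)] (J : Ideal R)

theorem sepV_pow_step (hfree : ∀ k : ℕ, Module.Free (R ⧸ J) ((R ⧸ J) ⊗[R] ↥(J ^ k)))
    (h0 : IsSepV R v (R ⧸ J)) (j : ℕ) (h : IsSepV R v ↥(J ^ (j + 1))) : IsSepV R v ↥(J ^ j) := by
  have hle : J ^ (j + 1) ≤ J ^ j := Ideal.pow_le_pow_right (Nat.le_succ j)
  let f : ↥(J ^ (j + 1)) →ₗ[R] ↥(J ^ j) := Submodule.inclusion hle
  let p : ↥(J ^ j) →ₗ[R] (R ⧸ J) ⊗[R] ↥(J ^ j) := TensorProduct.mk R (R ⧸ J) ↥(J ^ j) 1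
  let e := TensorProduct.quotTensorEquivQuotSMul ↥(J ^ j) J
  have hep : ∀ x, e (p x) = Submodule.Quotient.mk x := by
    intro x
    show e ((1 : R ⧸ J) ⊗ₜ x) = _
    have : (1 : R ⧸ J) = Ideal.Quotient.mk J 1 := rfl
    rw [this, TensorProduct.quotTensorEquivQuotSMul_mk_tmul, one_smul]
  have hmem : ∀ x : ↥(J ^ j), x ∈ (J • ⊤ : Submodule R ↥(J ^ j)) ↔ (x : R) ∈ J ^ (j + 1) := by
    intro x
    have h1 : (J • ⊤ : Submodule R ↥(J ^ j)).map (J ^ j).subtype = J ^ (j + 1) := by
      rw [Submodule.map_smul'', Submodule.map_top, Submodule.range_subtype, pow_succ']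
      rfl
    rw [← h1]
    constructor
    · intro hx
      exact ⟨x, hx, rfl⟩
    · rintro ⟨y, hy, hyx⟩
      have : y = x := Subtype.ext hyx
      rw [← this]
      exact hy
  have hV'' : IsSepV R v ((R ⧸ J) ⊗[R] ↥(J ^ j)) := by
    haveI := hfree j
    let b := Module.Free.chooseBasis (R ⧸ J) ((R ⧸ J) ⊗[R] ↥(J ^ j))
    exact sepV_of_linearEquiv v (b.repr.restrictScalars R) (sepV_finsupp v _ h0)
  refine sepV_of_exact v f p (Submodule.inclusion_injective hle) ?_ ?_ h hV''
  · intro x
    constructor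
    · intro hx
      have h2 : (Submodule.Quotient.mk x : ↥(J ^ j) ⧸ (J • ⊤ : Submodule R ↥(J ^ j))) = 0 := by
        rw [← hep, hx, map_zero]
      rw [Submodule.Quotient.mk_eq_zero, hmem] at h2
      exact ⟨⟨x, h2⟩, rfl⟩
    · rintro ⟨y, rfl⟩
      apply e.injective
      rw [hep, map_zero, Submodule.Quotient.mk_eq_zero, hmem]
      exact y.2
  · intro w
    obtain ⟨x, hx⟩ := Submodule.Quotient.mk_surjective _ (e w)
    refine ⟨x, e.injective ?_⟩
    rw [hep, hx]

/-- **Nilpotent dévissage** for separating families of homomorphisms into flat modules. -/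
theorem sep_of_nilpotent (hJ : IsNilpotent J)
    (hfree : ∀ k : ℕ, Module.Free (R ⧸ J) ((R ⧸ J) ⊗[R] ↥(J ^ k)))
    (h0 : IsSepV R v (R ⧸ J)) : Sep v := by
  obtain ⟨n, hn⟩ := hJ
  have hself : IsSepV R v ↥(J ^ n) := by
    haveI : Subsingleton ↥(J ^ n) := by
      rw [hn]
      exact inferInstanceAs (Subsingleton ↥(⊥ : Ideal R))
    exact sepV_of_subsingleton v _
  have h1 : IsSepV R v ↥(J ^ 0) :=
    Nat.decreasingInduction (motive := fun k _ => IsSepV R v ↥(J ^ k))
      (fun k _ ih => sepV_pow_step v J hfree h0 k ih) hself (Nat.zero_le n)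
  apply sep_of_sepV_self (R := R)
  have e : R ≃ₗ[R] ↥(J ^ 0) := by
    rw [pow_zero, Ideal.one_eq_top]
    exact (Submodule.topEquiv (R := R) (M := R)).symm
  exact sepV_of_linearEquiv v e h1

end Nilpotent

end Groth.Agent.H25.SepV
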