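import Groth.Agent.H25.SepV

set_option autoImplicit false
universe u v
open TensorProduct

namespace Groth.Agent.H25.SepV

open Groth.Agent.H25.SepFamAlg

variable {R : Type u} [CommRing R] {C : Type u} [CommRing C] [Algebra R C]
  {M : Type u} [AddCommGroup M] [Module C M] [Module R M] [IsScalarTower R C M]
  {ι : Type v} {N : ι → Type u} [∀ i, AddCommGroup (N i)] [∀ i, Module C (N i)]
  [∀ i, Module R (N i)] [∀ i, IsScalarTower R C (N i)]
  (v : ∀ i, M →ₗ[C] N i)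

section Local
variable {T : Type u} [CommRing T] [IsLocalRing T] [Algebra R T]

/-- `IsSepV` for modules over the residue field of a local `R`-algebra. -/
theorem sepV_of_torsion (h : IsSepV R v (T ⧸ IsLocalRing.maximalIdeal T))
    (W : Type u) [AddCommGroup W] [Module T W] [Module R W] [IsScalarTower R T W]
    (hW : ∀ t ∈ IsLocalRing.maximalIdeal T, ∀ w : W, t • w = 0) : IsSepV R v W := by
  have htor : Module.IsTorsionBySet T W (IsLocalRing.maximalIdeal T : Set T) :=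
    fun w t => hW t.1 t.2 w
  letI : Module (T ⧸ IsLocalRing.maximalIdeal T) W := htor.module
  haveI : IsScalarTower R (T ⧸ IsLocalRing.maximalIdeal T) W :=
    IsScalarTower.of_algebraMap_smul (fun r w => by
      show (Ideal.Quotient.mk _ (algebraMap R T r)) • w = r • w
      rw [Module.IsTorsionBySet.mk_smul, algebraMap_smul])
  letI : Field (T ⧸ IsLocalRing.maximalIdeal T) := Ideal.Quotient.field _
  let b := Module.Free.chooseBasis (T ⧸ IsLocalRing.maximalIdeal T) W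
  exact sepV_of_linearEquiv v (b.repr.restrictScalars R) (sepV_finsupp v _ h)

/-- `IsSepV` for the quotients `E ⧸ 𝔫 ^ n` of a `T`-algebra `E` by the powers of an ideal
containing the image of the maximal ideal of `T`. -/
theorem sepV_quot_pow [∀ i, Module.Flat R (N i)] (h : IsSepV R v (T ⧸ IsLocalRing.maximalIdeal T))
    {E : Type u} [CommRing E] [Algebra T E] [Algebra R E] [IsScalarTower R T E] (𝔫 : Ideal E)
    (h𝔫 : ∀ t ∈ IsLocalRing.maximalIdeal T, algebraMap T E t ∈ 𝔫) (n : ℕ) :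
    IsSepV R v (E ⧸ 𝔫 ^ n) := by
  induction n with
  | zero =>
    haveI : Subsingleton (E ⧸ 𝔫 ^ 0) := by
      rw [pow_zero, Ideal.one_eq_top]
      exact Ideal.Quotient.subsingleton_iff.mpr rfl
    exact sepV_of_subsingleton v _
  | succ n ih =>
    have hle : 𝔫 ^ (n + 1) ≤ 𝔫 ^ n := Ideal.pow_le_pow_right (Nat.le_succ n)
    let pE : (E ⧸ 𝔫 ^ (n + 1)) →ₗ[E] (E ⧸ 𝔫 ^ n) := (Ideal.Quotient.factorₐ E hle).toLinearMap
    let K : Submodule E (E ⧸ 𝔫 ^ (n + 1)) := LinearMap.ker pE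
    have hK : IsSepV R v ↥K := by
      apply sepV_of_torsion v h
      intro t ht w
      obtain ⟨x, hx⟩ := Ideal.Quotient.mk_surjective (w : E ⧸ 𝔫 ^ (n + 1))
      have hxn : x ∈ 𝔫 ^ n := by
        have h1 : pE (w : E ⧸ 𝔫 ^ (n + 1)) = 0 := w.2
        rw [← hx] at h1
        exact Ideal.Quotient.eq_zero_iff_mem.mp h1
      apply Subtype.ext
      show t • (w : E ⧸ 𝔫 ^ (n + 1)) = 0
      rw [← hx, ← algebraMap_smul E t, Algebra.smul_def]
      show Ideal.Quotient.mk (𝔫 ^ (n + 1)) (algebraMap T E t) * Ideal.Quotient.mk _ x = 0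
      rw [← map_mul, Ideal.Quotient.eq_zero_iff_mem, pow_succ']
      exact Ideal.mul_mem_mul (h𝔫 t ht) hxn
    refine sepV_of_exact v (K.subtype.restrictScalars R) (pE.restrictScalars R)
      Subtype.val_injective ?_ ?_ hK ih
    · intro x
      constructor
      · intro hx
        exact ⟨⟨x, hx⟩, rfl⟩
      · rintro ⟨y, rfl⟩
        exact y.2
    · exact Ideal.Quotient.factor_surjective hle

end Local

section Fibre

/-- **Fibre criterion (algebraic core)**: `C` Noetherian, `M` a finite `C`-module, the `N i` flat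
over `R`. If the family is separating after `⊗_R κ(𝔭)` for every prime `𝔭` of `R`, it is
separating. -/
theorem sep_of_fibres [IsNoetherianRing C] [Module.Finite C M] [∀ i, Module.Flat R (N i)]
    (hfib : ∀ (𝔭 : Ideal R) [𝔭.IsPrime], IsSepV R v
      (Localization.AtPrime 𝔭 ⧸ IsLocalRing.maximalIdeal (Localization.AtPrime 𝔭))) : Sep v := by
  intro g m hm
  by_contra hcon
  push Not at hcon
  let I : Ideal C := LinearMap.ker (LinearMap.toSpanSingleton C M m)
  have hI : ∀ c : C, c ∈ I ↔ c • m = 0 := by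
    intro c
    show LinearMap.toSpanSingleton C M m c = 0 ↔ _
    simp
  have hgI : g ∉ I.radical := by
    rintro ⟨n, hn⟩
    exact hcon n ((hI _).mp hn)
  rw [Ideal.radical_eq_sInf, Submodule.mem_sInf] at hgI
  push Not at hgI
  obtain ⟨𝔮', ⟨hI𝔮', h𝔮'⟩, hg𝔮'⟩ := hgI
  obtain ⟨𝔮, h𝔮, hI𝔮, hg𝔮⟩ : ∃ 𝔮 : Ideal C, 𝔮.IsPrime ∧ I ≤ 𝔮 ∧ g ∉ 𝔮 := ⟨𝔮', h𝔮', hI𝔮', hg𝔮'⟩
  haveI := h𝔮
  let 𝔭 : Ideal R := Ideal.comap (algebraMap R C) 𝔮
  let T := Localization.AtPrime 𝔭
  let E := Localization.AtPrime 𝔮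
  letI : Algebra T E := (Localization.localRingHom 𝔭 𝔮 (algebraMap R C) rfl).toAlgebra
  haveI : IsScalarTower R T E := IsScalarTower.of_algebraMap_eq (fun r => by
    show algebraMap R E r = Localization.localRingHom 𝔭 𝔮 (algebraMap R C) rfl (algebraMap R T r)
    rw [Localization.localRingHom_to_map, IsScalarTower.algebraMap_apply R C E])
  let 𝔫 := IsLocalRing.maximalIdeal E
  have h𝔫 : ∀ t ∈ IsLocalRing.maximalIdeal T, algebraMap T E t ∈ 𝔫 := by
    intro t ht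
    haveI := Localization.isLocalHom_localRingHom 𝔭 𝔮 (algebraMap R C) rfl
    exact (IsLocalRing.mem_maximalIdeal _).mpr
      (fun hu => ((IsLocalRing.mem_maximalIdeal _).mp ht)
        ((isUnit_map_iff (Localization.localRingHom 𝔭 𝔮 (algebraMap R C) rfl) t).mp hu))
  have hgu : IsUnit (algebraMap C E g) := IsLocalization.map_units E (⟨g, hg𝔮⟩ : 𝔮.primeCompl)
  have key : ∀ n : ℕ, (1 : E) ⊗ₜ[C] m ∈ (𝔫 ^ n • ⊤ : Submodule E (E ⊗[C] M)) := by
    intro n
    have hW := sepV_quot_pow v (hfib 𝔭) 𝔫 h𝔫 n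
    obtain ⟨k, hk⟩ := hW g (m ⊗ₜ[R] (1 : E ⧸ 𝔫 ^ n)) (fun i => by
      obtain ⟨k, hk⟩ := hm i
      refine ⟨k, ?_⟩
      show g ^ k • ((v i m) ⊗ₜ[R] (1 : E ⧸ 𝔫 ^ n)) = 0
      rw [smul_tmul', hk, zero_tmul])
    rw [smul_tmul'] at hk
    have h1 := congrArg (TensorProduct.mapOfCompatibleSMul C R R M (E ⧸ 𝔫 ^ n)) hk
    rw [TensorProduct.mapOfCompatibleSMul_tmul, map_zero] at h1
    have h2 := congrArg (TensorProduct.comm C M (E ⧸ 𝔫 ^ n)) h1
    rw [TensorProduct.comm_tmul, map_zero, ← TensorProduct.smul_tmul] at h2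
    have hu : IsUnit (Ideal.Quotient.mk (𝔫 ^ n) (algebraMap C E (g ^ k))) := by
      rw [map_pow]
      exact (hgu.pow k).map _
    have h3 : (g ^ k • (1 : E ⧸ 𝔫 ^ n)) = Ideal.Quotient.mk (𝔫 ^ n) (algebraMap C E (g ^ k)) := by
      rw [Algebra.smul_def, mul_one]
      rfl
    rw [h3] at h2
    have h4 : (Ideal.Quotient.mk (𝔫 ^ n) (algebraMap C E (g ^ k))) ⊗ₜ[C] m =
        (Ideal.Quotient.mk (𝔫 ^ n) (algebraMap C E (g ^ k))) • ((1 : E ⧸ 𝔫 ^ n) ⊗ₜ[C] m) := by
      rw [smul_tmul', smul_eq_mul, mul_one]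
    rw [h4] at h2
    have h5 : (1 : E ⧸ 𝔫 ^ n) ⊗ₜ[C] m = 0 := (hu.smul_eq_zero).mp h2
    have h6 := congrArg
      (TensorProduct.AlgebraTensorModule.cancelBaseChange C E E (E ⧸ 𝔫 ^ n) M).symm h5
    rw [TensorProduct.AlgebraTensorModule.cancelBaseChange_symm_tmul, map_zero] at h6
    have h7 := congrArg (TensorProduct.quotTensorEquivQuotSMul (E ⊗[C] M) (𝔫 ^ n)) h6
    rw [TensorProduct.quotTensorEquivQuotSMul_mk_one_tmul, map_zero,
      Submodule.Quotient.mk_eq_zero] at h7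
    exact h7
  have hzero : (1 : E) ⊗ₜ[C] m = 0 := by
    have hK := Ideal.iInf_pow_smul_eq_bot_of_isLocalRing (M := E ⊗[C] M) 𝔫
      (IsLocalRing.maximalIdeal.isMaximal E).ne_top
    have : (1 : E) ⊗ₜ[C] m ∈ (⨅ i : ℕ, 𝔫 ^ i • ⊤ : Submodule E (E ⊗[C] M)) :=
      (Submodule.mem_iInf _).mpr key
    rw [hK] at this
    exact (Submodule.mem_bot E).mp this
  obtain ⟨s, hs⟩ := (IsLocalizedModule.eq_zero_iff 𝔮.primeCompl
    (TensorProduct.mk C E M 1)).mp hzero
  exact s.2 (hI𝔮 ((hI _).mpr hs))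

end Fibre

end Groth.Agent.H25.SepV
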