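import Mathlib.RingTheory.Etale.Field
import Mathlib.RingTheory.Unramified.Field
import Mathlib.RingTheory.Unramified.Finite

set_option autoImplicit false
universe u
open Polynomial

namespace Groth.Agent.H25

/-- An algebra all of whose elements have separable minimal polynomial is formally unramified. -/
theorem formallyUnramified_of_isSeparable (k A : Type*) [CommRing k] [CommRing A] [Algebra k A]
    [Algebra.IsSeparable k A] : Algebra.FormallyUnramified k A := by
  constructor
  have hD : ∀ x : A, KaehlerDifferential.D k A x = 0 := by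
    intro x
    have hsep : (minpoly k x).Separable := Algebra.IsSeparable.isSeparable k x
    obtain ⟨a, b, hab⟩ := hsep
    have h1 : aeval x a * aeval x (minpoly k x) + aeval x b * aeval x (derivative (minpoly k x)) = 1 := by
      rw [← map_mul, ← map_mul, ← map_add, hab, map_one]
    rw [minpoly.aeval, mul_zero, zero_add] at h1
    have h2 := (KaehlerDifferential.D k A).map_aeval (minpoly k x) x
    rw [minpoly.aeval, map_zero] at h2
    calc KaehlerDifferential.D k A x
        = (aeval x b * aeval x (derivative (minpoly k x))) • KaehlerDifferential.D k A x := by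
          rw [h1, one_smul]
      _ = 0 := by rw [mul_smul, ← h2, smul_zero]
  have htop : (⊤ : Submodule A Ω[A⁄k]) = ⊥ := by
    rw [← KaehlerDifferential.span_range_derivation, Submodule.span_eq_bot]
    rintro _ ⟨a, rfl⟩
    exact hD a
  exact (Submodule.subsingleton_iff A).1 (subsingleton_iff_bot_eq_top.1 htop.symm)

theorem isSeparable_pi (k : Type*) [Field k] {I : Type*} [Finite I] (Ai : I → Type*)
    [∀ i, Field (Ai i)] [∀ i, Algebra k (Ai i)] [∀ i, Algebra.IsSeparable k (Ai i)] :
    Algebra.IsSeparable k (Π i, Ai i) := by
  classical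
  have := Fintype.ofFinite I
  refine ⟨fun x => ?_⟩
  let s : Finset k[X] := Finset.univ.image (fun i => minpoly k (x i))
  let q : k[X] := ∏ p ∈ s, p
  have hint : ∀ i, IsIntegral k (x i) := fun i => (Algebra.IsSeparable.isSeparable k (x i)).isIntegral
  have hqsep : q.Separable := by
    refine separable_prod' ?_ ?_
    · intro p₁ hp₁ p₂ hp₂ hne
      obtain ⟨i, -, rfl⟩ := Finset.mem_image.1 hp₁
      obtain ⟨j, -, rfl⟩ := Finset.mem_image.1 hp₂
      refine ((minpoly.irreducible (hint i)).coprime_iff_not_dvd).2 fun hdvd => hne ?_
      exact eq_of_monic_of_associated (minpoly.monic (hint i)) (minpoly.monic (hint j))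
        ((minpoly.irreducible (hint i)).associated_of_dvd (minpoly.irreducible (hint j)) hdvd)
    · intro p hp
      obtain ⟨i, -, rfl⟩ := Finset.mem_image.1 hp
      exact Algebra.IsSeparable.isSeparable k (x i)
  have hq0 : aeval x q = 0 := by
    funext i
    have h1 : (aeval x q) i = aeval (x i) q := by
      have := Polynomial.aeval_algHom_apply (Pi.evalAlgHom k Ai i) x q
      exact this.symm
    rw [h1, Pi.zero_apply]
    have hdvd : minpoly k (x i) ∣ q :=
      Finset.dvd_prod_of_mem _ (Finset.mem_image.2 ⟨i, Finset.mem_univ _, rfl⟩)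
    obtain ⟨r, hr⟩ := hdvd
    rw [hr, map_mul, minpoly.aeval, zero_mul]
  exact hqsep.of_dvd (minpoly.dvd k x hq0)

end Groth.Agent.H25

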