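import Mathlib
import Groth.Agent.H25.SmoothLocusBC
import Groth.Agent.H25.FlatBCpt
import Groth.Agent.H47.SmoothLocusField
import Groth.Agent.Lead.RegularFlatDescent
import Groth.Agent.H40.FlatDesc

set_option autoImplicit false
universe u
open scoped TensorProduct
open CategoryTheory CategoryTheory.Limits AlgebraicGeometry

namespace Groth.Agent.H25.SmoothFlatTarget
open Groth.Agent.H25.FibreEtale Groth.Agent.H25.FibreSmoothScheme
  Groth.Agent.H25.SmoothDescentScheme Groth.Agent.H25.SmoothLocusBC Groth.Agent.H25.FlatBCpt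

/-- pointwise version: if `f` is flat at `g' x'` and `f'` (a base change of `f`) is smooth at
`x'`, then `f` is smooth at `g' x'`. -/
theorem mem_smoothLocus_of_flat_of_isPullback {X S X' S' : Scheme.{u}} {f : X ⟶ S} {g : S' ⟶ S}
    {f' : X' ⟶ S'} {g' : X' ⟶ X}
    (h : IsPullback g' f' f g) [LocallyOfFinitePresentation f] [LocallyOfFinitePresentation f']
    (x' : X') (hflat : (f.stalkMap (g' x')).hom.Flat) (hx' : x' ∈ f'.smoothLocus) :
    g' x' ∈ f.smoothLocus := by
  have hlfp : LocallyOfFinitePresentation (f'.fiberToSpecResidueField (f' x')) :=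
    MorphismProperty.pullback_snd (P := @LocallyOfFinitePresentation) _ _ inferInstance
  obtain ⟨-, hfib⟩ := FibreSmoothPt.flat_and_fibre_of_mem_smoothLocus f' x' hx'
  have hfib' : ((f'.fiberToSpecResidueField (f' x')).stalkMap
      (f'.asFiber x')).hom.FormallySmooth := hfib
  have Hfib := isPullback_fiberToSpecResidueField_of_isPullback h (f' x')
  have hlfp2 : LocallyOfFinitePresentation (f.fiberToSpecResidueField (g (f' x'))) :=
    MorphismProperty.pullback_snd (P := @LocallyOfFinitePresentation) _ _ inferInstance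
  have hfl : Flat (Spec.map (g.residueFieldMap (f' x'))) := by
    rw [HasRingHomProperty.Spec_iff (P := @Flat)]
    algebraize [(g.residueFieldMap (f' x')).hom]
    exact (inferInstance : Module.Flat (S.residueField (g (f' x'))) (S'.residueField (f' x')))
  have hz := @formallySmooth_stalkMap_of_flat_baseChange _ _ _ _ _ _ _ _ Hfib hlfp2 hfl
    (f'.asFiber x') hfib'
  have hφ1 : pullback.map f' (S'.fromSpecResidueField (f' x')) f
      (S.fromSpecResidueField (g (f' x'))) g'
      (Spec.map (g.residueFieldMap (f' x'))) g h.w.symm (by simp) ≫ f.fiberι (g (f' x')) =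
      f'.fiberι (f' x') ≫ g' := by
    unfold Scheme.Hom.fiberι
    exact pullback.lift_fst _ _ _
  have hzx : f.fiberι (g (f' x')) (pullback.map f' (S'.fromSpecResidueField (f' x')) f
      (S.fromSpecResidueField (g (f' x'))) g'
      (Spec.map (g.residueFieldMap (f' x'))) g h.w.symm (by simp) (f'.asFiber x')) = g' x' := by
    have e1 : (f'.fiberι (f' x') ≫ g') (f'.asFiber x') = g' x' := by
      rw [Scheme.Hom.comp_apply, f'.fiberι_asFiber]
    exact (congrArg (fun k : f'.fiber (f' x') ⟶ X => k (f'.asFiber x')) hφ1).trans e1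
  have := formallySmooth_stalkMap_of_flat_of_fibre f (g (f' x')) _
    ((flat_stalkMap_congr f hzx).mpr hflat) hz
  rw [hzx] at this
  exact this

/-- field case: over a perfect field, the image of a smooth point under a morphism flat at this
point is a smooth point. -/
theorem mem_smoothLocus_of_flat_of_perfectField (k : Type u) [Field k] [PerfectField k]
    {X₁ Y₁ : Scheme.{u}} (a : X₁ ⟶ Spec (CommRingCat.of k)) (b : Y₁ ⟶ Spec (CommRingCat.of k))
    [LocallyOfFinitePresentation a] [LocallyOfFinitePresentation b] (φ : X₁ ⟶ Y₁) (x₁ : X₁)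
    (hφ : (φ.stalkMap x₁).hom.Flat) (hx : x₁ ∈ a.smoothLocus) : φ x₁ ∈ b.smoothLocus := by
  rw [Groth.Agent.H47.SLF.mem_smoothLocus_iff_isRegularLocalRing_of_perfectField] at hx ⊢
  have : IsLocallyNoetherian Y₁ := LocallyOfFiniteType.isLocallyNoetherian b
  let _ : Algebra (Y₁.presheaf.stalk (φ x₁)) (X₁.presheaf.stalk x₁) := (φ.stalkMap x₁).hom.toAlgebra
  have h1 : IsLocalHom (algebraMap (Y₁.presheaf.stalk (φ x₁)) (X₁.presheaf.stalk x₁)) :=
    φ.toLRSHom.prop x₁
  have h2 : Module.Flat (Y₁.presheaf.stalk (φ x₁)) (X₁.presheaf.stalk x₁) := hφ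
  exact Groth.Agent.Lead.RLR.isRegularLocalRing_of_flat (Y₁.presheaf.stalk (φ x₁))
    (X₁.presheaf.stalk x₁)

/-- **smoothness descends to the target of a morphism flat at a point** (EGA IV 17.7.7, pointwise):
if `g : X ⟶ Y` is flat at `x` and `g ≫ f` is smooth at `x`, then `f` is smooth at `g x`. -/
theorem mem_smoothLocus_of_flat_source {X Y S : Scheme.{u}} (f : Y ⟶ S) (g : X ⟶ Y)
    [LocallyOfFinitePresentation f] [LocallyOfFinitePresentation (g ≫ f)] (x : X)
    (hg : (g.stalkMap x).hom.Flat) (hx : x ∈ (g ≫ f).smoothLocus) : g x ∈ f.smoothLocus := by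
  -- (1) `f` is flat at `g x`
  have hsmU : Smooth ((g ≫ f).smoothLocus.ι ≫ (g ≫ f)) :=
    FibreSmoothPt.smooth_smoothLocus_ι_comp (g ≫ f)
  have hhflat : ((g ≫ f).stalkMap x).hom.Flat :=
    flat_stalkMap_of_flat_nhd (g ≫ f) x (g ≫ f).smoothLocus hx
  have hfflat : (f.stalkMap (g x)).hom.Flat := by
    have hcomp : ((g.stalkMap x).hom.comp (f.stalkMap (g x)).hom).Flat := by
      rw [Scheme.Hom.stalkMap_comp] at hhflat
      exact hhflat
    haveI : IsLocalHom (g.stalkMap x).hom := g.toLRSHom.prop x
    exact Groth.Agent.H40.ringHom_flat_of_comp (f.stalkMap (g x)).hom (g.stalkMap x).hom hg hcomp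
  -- (2) the geometric fibre
  set s := f (g x) with hs
  let K := AlgebraicClosure (S.residueField s)
  let t : Spec (CommRingCat.of K) ⟶ S :=
    Spec.map (CommRingCat.ofHom (algebraMap (S.residueField s) K)) ≫ S.fromSpecResidueField s
  have Hbot : IsPullback (pullback.fst f t) (pullback.snd f t) f t := IsPullback.of_hasPullback f t
  have Htop : IsPullback (pullback.fst g (pullback.fst f t)) (pullback.snd g (pullback.fst f t)) g
      (pullback.fst f t) := IsPullback.of_hasPullback _ _
  have H := Htop.paste_vert Hbot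
  have hlfpb : LocallyOfFinitePresentation (pullback.snd f t) :=
    MorphismProperty.pullback_snd (P := @LocallyOfFinitePresentation) _ _ inferInstance
  have hlfpa : LocallyOfFinitePresentation (pullback.snd g (pullback.fst f t) ≫ pullback.snd f t) :=
    MorphismProperty.of_isPullback (P := @LocallyOfFinitePresentation) H inferInstance
  -- points
  let pt : Spec (CommRingCat.of K) := IsLocalRing.closedPoint K
  have htpt : t pt = s := by
    change S.fromSpecResidueField s _ = s
    exact Scheme.fromSpecResidueField_apply _ _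
  obtain ⟨yK, hyK1, hyK2⟩ := Scheme.Pullback.exists_preimage_pullback (f := f) (g := t) (g x) pt
    (by rw [htpt])
  obtain ⟨xK, hxK1, hxK2⟩ := Scheme.Pullback.exists_preimage_pullback (f := g)
    (g := pullback.fst f t) x yK (by rw [hyK1])
  -- smoothness upstairs
  have hxKsm : xK ∈ (pullback.snd g (pullback.fst f t) ≫ pullback.snd f t).smoothLocus :=
    mem_smoothLocus_of_isPullback H xK (by rw [hxK1]; exact hx)
  have hφflat : ((pullback.snd g (pullback.fst f t)).stalkMap xK).hom.Flat :=
    flat_stalkMap_of_isPullback Htop xK ((flat_stalkMap_congr g hxK1).mpr hg)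
  have hyKsm : (pullback.snd g (pullback.fst f t)) xK ∈ (pullback.snd f t).smoothLocus :=
    mem_smoothLocus_of_flat_of_perfectField K _ (pullback.snd f t) _ xK hφflat hxKsm
  rw [hxK2] at hyKsm
  have := mem_smoothLocus_of_flat_of_isPullback Hbot yK
    ((flat_stalkMap_congr f hyK1).mpr hfflat) hyKsm
  rw [hyK1] at this
  exact this

end Groth.Agent.H25.SmoothFlatTarget
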