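import Mathlib
import Groth.Agent.H25.Spread5
import Groth.Agent.S3458
import Groth.Agent.S5927
import Groth.Agent.S3420

set_option autoImplicit false
set_option linter.style.haveILetI false
universe u
open CategoryTheory CategoryTheory.Limits AlgebraicGeometry Topology TopologicalSpace

namespace Groth.Agent.H25.Spread

/-- The reducedness half of "geometrically integral section component" gives geometric
reducedness of the fibre at every point of the section component. -/
theorem isGeomReducedAt_of_hint {X Y : Scheme.{u}} (f : X ⟶ Y) (g : Y ⟶ X) (y : Y)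
    (hred : ∀ (K : Type u) [Field K] [Algebra (IsLocalRing.ResidueField (Y.presheaf.stalk y)) K],
        ∀ x' : ↥(FBase.bc (f.fiberToSpecResidueField y) K),
          (FBase.bcπ (f.fiberToSpecResidueField y) K ≫ f.fiberι y).base x' ∈
            connectedComponentIn (f.base ⁻¹' {y}) (g.base y) →
          _root_.IsReduced ((FBase.bc (f.fiberToSpecResidueField y) K).presheaf.stalk x'))
    (x : X) (hx : x ∈ connectedComponentIn (f.base ⁻¹' {y}) (g.base y)) :
    FBase.IsGeomReducedAt (f.fiberToSpecResidueField (f.base x)) (f.asFiber x) := by
  have hfx : f.base x = y := by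
    have := connectedComponentIn_subset (f.base ⁻¹' {y}) (g.base y) hx
    exact this
  obtain ⟨w', hw'⟩ : x ∈ Set.range (f.fiberι y).base := by
    rw [Scheme.Hom.range_fiberι]; exact hfx
  rw [Groth.Agent.H25.GeomRedFibreBC.isGeomReducedAt_congr f hfx (f.asFiber x) w'
    (by rw [hw']; exact Scheme.Hom.fiberι_asFiber f x)]
  intro K _ _ x' hx'
  apply hred K x'
  rw [Scheme.Hom.comp_apply, hx', hw']
  exact hx

end Groth.Agent.H25.Spread
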