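import Mathlib
import Groth.Prelude.Def_FDesc
import Groth.Agent.H25.MorBC

set_option autoImplicit false
universe u
open CategoryTheory CategoryTheory.Limits AlgebraicGeometry TensorProduct

namespace Groth.Agent.H25.SubBC

variable {k : Type u} [Field k] {X Y : Scheme.{u}}
  (f : X ⟶ Spec (CommRingCat.of k)) (h : Y ⟶ X) [IsClosedImmersion h]
  (K : Type u) [Field K] [Algebra k K]

instance isClosedImmersion_mapBC :
    IsClosedImmersion (Groth.Agent.H25.MorBC.mapBC f (h ≫ f) h rfl K) :=
  MorphismProperty.of_isPullback (P := @IsClosedImmersion)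
    (Groth.Agent.H25.MorBC.isPullback_mapBC f (h ≫ f) h rfl K).flip inferInstance

/-- base change of a closed subscheme is irreducible iff the preimage of its support is -/
theorem irreducibleSpace_bc_of_isIrreducible_preimage
    (hirr : IsIrreducible ((FBase.bcπ f K).base ⁻¹' Set.range h.base)) :
    IrreducibleSpace ↥(FBase.bc (h ≫ f) K) := by
  rw [← Groth.Agent.H25.MorBC.range_mapBC f (h ≫ f) h rfl K] at hirr
  have hemb : Topology.IsEmbedding (Groth.Agent.H25.MorBC.mapBC f (h ≫ f) h rfl K).base :=
    (Groth.Agent.H25.MorBC.mapBC f (h ≫ f) h rfl K).isEmbedding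
  haveI : IrreducibleSpace ↥(Set.range (Groth.Agent.H25.MorBC.mapBC f (h ≫ f) h rfl K).base) :=
    (isIrreducible_iff_irreducibleSpace).mp hirr
  exact hemb.toHomeomorph.irreducibleSpace_iff.mpr inferInstance

end Groth.Agent.H25.SubBC
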