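import Mathlib
import Groth.Agent.H19.QuasiReg
import Groth.Agent.H25.FlatExt

set_option autoImplicit false
universe u
open scoped TensorProduct
open Function (Injective Surjective Exact)

namespace Groth.Agent.H25.TransReg
open Groth.Agent.H19 MvPolynomial

section gr

variable {B : Type u} [CommRing B]

/-- the graded piece `I^n / I^(n+1)` -/
abbrev Gr (I : Ideal B) (n m : ℕ) : Type u :=
  ↥(I ^ n) ⧸ Submodule.comap (I ^ n).subtype (I ^ m)

theorem isTorsionBySet_gr (I : Ideal B) (n : ℕ) :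
    Module.IsTorsionBySet B (Gr I n (n + 1)) (I : Set B) := by
  intro g a
  obtain ⟨⟨y, hy⟩, rfl⟩ := Submodule.Quotient.mk_surjective _ g
  rw [← Submodule.Quotient.mk_smul, Submodule.Quotient.mk_eq_zero, Submodule.mem_comap]
  simp only [SetLike.mk_smul_mk, Submodule.subtype_apply, smul_eq_mul]
  rw [pow_succ']
  exact Ideal.mul_mem_mul a.2 hy

variable {c : ℕ} (x : Fin c → B)

/-- monomials in the family -/
def mon (d : Fin c →₀ ℕ) : B := ∏ i ∈ d.support, x i ^ d i

theorem mon_mem {d : Fin c →₀ ℕ} {n : ℕ} (h : d.degree = n) : mon x d ∈ QReg.J x ^ n :=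
  h ▸ QReg.prod_pow_mem x d

/-- classes of the monomials of degree `n` -/
def e (n : ℕ) (α : {d : Fin c →₀ ℕ // d.degree = n}) : Gr (QReg.J x) n (n + 1) :=
  Submodule.Quotient.mk ⟨mon x α.1, mon_mem x α.2⟩

theorem eval_eq_sum_mon (P : MvPolynomial (Fin c) B) :
    eval x P = ∑ d ∈ P.support, P.coeff d * mon x d := by
  rw [eval_eq]; rfl

end gr


section free

variable {B : Type u} [CommRing B] {c : ℕ} (x : Fin c → B)

theorem mk_mem_span (n : ℕ) (a : B) (ha : a ∈ QReg.J x ^ n) :
    letI := (isTorsionBySet_gr (QReg.J x) n).module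
    (Submodule.Quotient.mk ⟨a, ha⟩ : Gr (QReg.J x) n (n + 1)) ∈
      Submodule.span (B ⧸ QReg.J x) (Set.range (e x n)) := by
  let _ := (isTorsionBySet_gr (QReg.J x) n).module
  obtain ⟨P, hP, hPa⟩ := QReg.exists_homog_of_mem_pow x ha
  have hdeg : ∀ d ∈ P.support, d.degree = n := fun d hd =>
    (QReg.isHomogeneous_iff P n).mp hP d (mem_support_iff.mp hd)
  have h1 : (⟨a, ha⟩ : ↥(QReg.J x ^ n)) =
      ∑ d ∈ P.support.attach, P.coeff d.1 • (⟨mon x d.1, mon_mem x (hdeg d.1 d.2)⟩ :
        ↥(QReg.J x ^ n)) := by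
    apply Subtype.ext
    rw [Submodule.coe_sum]
    simp only [SetLike.mk_smul_mk, smul_eq_mul]
    rw [Finset.sum_attach P.support (fun d => P.coeff d * mon x d), ← eval_eq_sum_mon, hPa]
  rw [h1, ← Submodule.mkQ_apply, map_sum]
  refine Submodule.sum_mem _ fun d _ => ?_
  rw [Submodule.mkQ_apply, Submodule.Quotient.mk_smul]
  have h2 : P.coeff d.1 • (Submodule.Quotient.mk (⟨mon x d.1, mon_mem x (hdeg d.1 d.2)⟩ :
      ↥(QReg.J x ^ n)) : Gr (QReg.J x) n (n + 1)) =
      (Ideal.Quotient.mk (QReg.J x) (P.coeff d.1)) • e x n ⟨d.1, hdeg d.1 d.2⟩ := rfl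
  rw [h2]
  exact Submodule.smul_mem _ _ (Submodule.subset_span ⟨_, rfl⟩)

theorem linearIndependent_e (hqr : QReg.QR x) (n : ℕ) :
    letI := (isTorsionBySet_gr (QReg.J x) n).module
    LinearIndependent (B ⧸ QReg.J x) (e x n) := by
  let _ := (isTorsionBySet_gr (QReg.J x) n).module
  classical
  rw [linearIndependent_iff']
  intro s g hg α hα
  choose b hb using fun α => Ideal.Quotient.mk_surjective (g α)
  set P : MvPolynomial (Fin c) B := ∑ β ∈ s, monomial β.1 (b β) with hP
  have hPh : P.IsHomogeneous n :=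
    IsHomogeneous.sum _ _ _ fun β _ => isHomogeneous_monomial _ β.2
  have hev : eval x P = ∑ β ∈ s, b β * mon x β.1 := by
    rw [hP, map_sum]
    refine Finset.sum_congr rfl fun β _ => ?_
    rw [eval_monomial]; rfl
  have h1 : (∑ β ∈ s, g β • e x n β) =
      Submodule.Quotient.mk (⟨∑ β ∈ s, b β * mon x β.1,
        Ideal.sum_mem _ fun β _ => Ideal.mul_mem_left _ _ (mon_mem x β.2)⟩ : ↥(QReg.J x ^ n)) := by
    have : (⟨∑ β ∈ s, b β * mon x β.1,
        Ideal.sum_mem _ fun β _ => Ideal.mul_mem_left _ _ (mon_mem x β.2)⟩ : ↥(QReg.J x ^ n)) =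
        ∑ β ∈ s, b β • (⟨mon x β.1, mon_mem x β.2⟩ : ↥(QReg.J x ^ n)) := by
      apply Subtype.ext
      rw [Submodule.coe_sum]
      simp only [SetLike.mk_smul_mk, smul_eq_mul]
    rw [this, ← Submodule.mkQ_apply, map_sum]
    refine Finset.sum_congr rfl fun β _ => ?_
    rw [Submodule.mkQ_apply, Submodule.Quotient.mk_smul, ← hb β]
    rfl
  rw [h1, Submodule.Quotient.mk_eq_zero, Submodule.mem_comap] at hg
  simp only [Submodule.subtype_apply] at hg
  rw [← hev] at hg
  have h2 := hqr n P hPh hg α.1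
  have h3 : P.coeff α.1 = b α := by
    rw [hP, coeff_sum]
    simp only [coeff_monomial]
    rw [Finset.sum_eq_single α]
    · simp
    · intro β _ hβ
      rw [if_neg]
      intro h
      exact hβ (Subtype.ext h)
    · intro h; exact absurd hα h
  rw [h3] at h2
  rw [← hb α]
  exact Ideal.Quotient.eq_zero_iff_mem.mpr h2

theorem free_gr (hqr : QReg.QR x) (n : ℕ) :
    letI := (isTorsionBySet_gr (QReg.J x) n).module
    Module.Free (B ⧸ QReg.J x) (Gr (QReg.J x) n (n + 1)) := by
  let _ := (isTorsionBySet_gr (QReg.J x) n).module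
  refine Module.Free.of_basis (Module.Basis.mk (linearIndependent_e x hqr n) ?_)
  intro g _
  obtain ⟨⟨a, ha⟩, rfl⟩ := Submodule.Quotient.mk_surjective _ g
  exact mk_mem_span x n a ha

end free

section flat

variable {A B : Type u} [CommRing A] [CommRing B] [Algebra A B] {c : ℕ} (x : Fin c → B)

theorem flat_gr (hqr : QReg.QR x) (hfl : Module.Flat A (B ⧸ QReg.J x)) (n : ℕ) :
    Module.Flat A (Gr (QReg.J x) n (n + 1)) := by
  let _ := (isTorsionBySet_gr (QReg.J x) n).module
  have : IsScalarTower A (B ⧸ QReg.J x) (Gr (QReg.J x) n (n + 1)) := by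
    refine ⟨fun a b g => ?_⟩
    obtain ⟨b, rfl⟩ := Ideal.Quotient.mk_surjective b
    have h1 : a • (Ideal.Quotient.mk (QReg.J x) b) = Ideal.Quotient.mk (QReg.J x) (a • b) := rfl
    rw [h1, Module.IsTorsionBySet.mk_smul, Module.IsTorsionBySet.mk_smul, smul_assoc]
  have := free_gr x hqr n
  exact Module.Flat.trans A (B ⧸ QReg.J x) _

end flat

section exact

variable {A B : Type u} [CommRing A] [CommRing B] [Algebra A B]
  {P : Type u} [AddCommGroup P] [Module A P] [Module B P] [IsScalarTower A B P]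

/-- the inclusion `L / K → P / K` -/
def incl (K L : Submodule B P) : (↥L ⧸ Submodule.comap L.subtype K) →ₗ[A] (P ⧸ K) :=
  (Submodule.mapQ (Submodule.comap L.subtype K) K L.subtype le_rfl).restrictScalars A

/-- the projection `P / K → P / L` -/
def proj (K L : Submodule B P) (h : K ≤ L) : (P ⧸ K) →ₗ[A] (P ⧸ L) :=
  (Submodule.mapQ K L LinearMap.id h).restrictScalars A

theorem incl_injective (K L : Submodule B P) : Injective (incl (A := A) K L) := by
  rw [injective_iff_map_eq_zero]
  intro g hg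
  obtain ⟨y, rfl⟩ := Submodule.Quotient.mk_surjective _ g
  rw [Submodule.Quotient.mk_eq_zero, Submodule.mem_comap]
  have : incl (A := A) K L (Submodule.Quotient.mk y) = Submodule.Quotient.mk (y : P) := rfl
  rw [this, Submodule.Quotient.mk_eq_zero] at hg
  exact hg

theorem proj_surjective (K L : Submodule B P) (h : K ≤ L) : Surjective (proj (A := A) K L h) := by
  intro g
  obtain ⟨y, rfl⟩ := Submodule.Quotient.mk_surjective _ g
  exact ⟨Submodule.Quotient.mk y, rfl⟩

theorem exact_incl_proj (K L : Submodule B P) (h : K ≤ L) :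
    Exact (incl (A := A) K L) (proj (A := A) K L h) := by
  intro g
  obtain ⟨p, rfl⟩ := Submodule.Quotient.mk_surjective _ g
  have h1 : proj (A := A) K L h (Submodule.Quotient.mk p) = Submodule.Quotient.mk p := rfl
  rw [h1, Submodule.Quotient.mk_eq_zero]
  constructor
  · intro hp
    exact ⟨Submodule.Quotient.mk ⟨p, hp⟩, rfl⟩
  · rintro ⟨g', hg'⟩
    obtain ⟨y, rfl⟩ := Submodule.Quotient.mk_surjective _ g'
    have h2 : incl (A := A) K L (Submodule.Quotient.mk y) = Submodule.Quotient.mk (y : P) := rfl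
    rw [h2, Submodule.Quotient.eq] at hg'
    have h3 : p = (y : P) - ((y : P) - p) := by abel
    rw [h3]
    exact L.sub_mem y.2 (h hg')

end exact

section main

variable {A B : Type u} [CommRing A] [CommRing B] [Algebra A B] (I : Ideal B)

theorem flat_quot_pow (hgr : ∀ n, Module.Flat A (Gr I n (n + 1))) (m : ℕ) :
    Module.Flat A (B ⧸ I ^ m) := by
  induction m with
  | zero =>
    have : Subsingleton (B ⧸ I ^ 0) := by
      rw [pow_zero, Ideal.one_eq_top]
      exact Ideal.Quotient.subsingleton_iff.mpr rfl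
    infer_instance
  | succ m ih =>
    have := hgr m
    have := ih
    have hle : I ^ (m + 1) ≤ I ^ m := Ideal.pow_le_pow_right (Nat.le_succ m)
    exact FlatExt.flat_of_exact (incl (A := A) (P := B) (I ^ (m + 1)) (I ^ m))
      (proj (A := A) (P := B) (I ^ (m + 1)) (I ^ m) hle)
      (incl_injective _ _) (exact_incl_proj _ _ hle) (proj_surjective _ _ hle)

theorem flat_gr_of_lt (hgr : ∀ n, Module.Flat A (Gr I n (n + 1))) {n m : ℕ} (hnm : n ≤ m) :
    Module.Flat A (Gr I n m) := by
  have := flat_quot_pow (A := A) I hgr n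
  have := flat_quot_pow (A := A) I hgr m
  have hle : I ^ m ≤ I ^ n := Ideal.pow_le_pow_right hnm
  exact FlatExt.flat_ker_of_exact (incl (A := A) (P := B) (I ^ m) (I ^ n))
      (proj (A := A) (P := B) (I ^ m) (I ^ n) hle)
      (incl_injective _ _) (exact_incl_proj _ _ hle) (proj_surjective _ _ hle)

theorem flat_pow (hB : Module.Flat A B) (hgr : ∀ n, Module.Flat A (Gr I n (n + 1))) (n : ℕ) :
    Module.Flat A ↥(I ^ n) := by
  have := flat_quot_pow (A := A) I hgr n
  refine FlatExt.flat_ker_of_exact ((I ^ n).subtype.restrictScalars A)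
    ((I ^ n).mkQ.restrictScalars A) (Submodule.injective_subtype _) ?_
    (Submodule.mkQ_surjective _)
  intro b
  have : ((I ^ n).mkQ.restrictScalars A) b = Submodule.Quotient.mk b := rfl
  rw [this, Submodule.Quotient.mk_eq_zero]
  constructor
  · intro hb; exact ⟨⟨b, hb⟩, rfl⟩
  · rintro ⟨y, rfl⟩; exact y.2

end main

end Groth.Agent.H25.TransReg
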