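import Mathlib.RingTheory.IntegralClosure.GoingDown
import Mathlib.RingTheory.IntegralClosure.IntegrallyClosed
import Mathlib.RingTheory.Ideal.GoingUp
import Mathlib.RingTheory.LocalRing.MaximalIdeal.Basic
import Mathlib.RingTheory.Localization.FractionRing

set_option autoImplicit false
universe u

namespace Groth.Agent.H25

open Ideal

/-- surjectivity of `Spec B_n → Spec R` for an integral extension of a unibranch local domain -/
theorem exists_prime_le_comap_eq_of_unibranch {R B : Type u} [CommRing R] [IsDomain R]
    [IsLocalRing R] (hloc : IsLocalRing (integralClosure R (FractionRing R)))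
    [CommRing B] [IsDomain B] [Algebra R B]
    (hinj : Function.Injective (algebraMap R B)) [Algebra.IsIntegral R B] (n : Ideal B) [n.IsPrime]
    (hn : n.comap (algebraMap R B) = IsLocalRing.maximalIdeal R) (p : Ideal R) [p.IsPrime] :
    ∃ q : Ideal B, q.IsPrime ∧ q ≤ n ∧ q.comap (algebraMap R B) = p := by
  classical
  have : FaithfulSMul R B := (faithfulSMul_iff_algebraMap_injective R B).2 hinj
  have : FaithfulSMul R (FractionRing B) := by
    rw [faithfulSMul_iff_algebraMap_injective, IsScalarTower.algebraMap_eq R B (FractionRing B)]
    exact (IsFractionRing.injective B (FractionRing B)).comp hinj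
  let K := FractionRing R
  let L := FractionRing B
  letI algKL : Algebra K L := FractionRing.liftAlgebra R L
  have towerRKL : IsScalarTower R K L := FractionRing.isScalarTower_liftAlgebra R L
  let A' := integralClosure R K
  let C := integralClosure R L
  -- A' is integrally closed
  have hA'ic : IsIntegrallyClosed A' := integralClosure.isIntegrallyClosedOfFiniteExtension K (L := K)
  -- the map A' → C
  let φ₀ : K →ₐ[R] L := IsScalarTower.toAlgHom R K L
  let φ : A' →ₐ[R] C :=
    { toFun := fun x => ⟨φ₀ x.1, x.2.map φ₀⟩
      map_one' := by ext; simp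
      map_mul' := by intro x y; ext; simp
      map_zero' := by ext; simp
      map_add' := by intro x y; ext; simp
      commutes' := by intro r; ext; simp [φ₀] }
  let algA'C : Algebra A' C := φ.toRingHom.toAlgebra
  have towerRA'C : IsScalarTower R A' C := IsScalarTower.of_algebraMap_eq'
    (RingHom.ext fun r => (φ.commutes r).symm)
  have hφinj : Function.Injective φ := by
    intro x y hxy
    have : φ₀ x.1 = φ₀ y.1 := congrArg Subtype.val hxy
    exact Subtype.ext (φ₀.toRingHom.injective this)
  have : FaithfulSMul A' C := (faithfulSMul_iff_algebraMap_injective A' C).2 hφinj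
  have hCint : Algebra.IsIntegral R C := inferInstance
  have hCint' : Algebra.IsIntegral A' C := Algebra.IsIntegral.tower_top (R := R)
  -- the map B → C
  let ψ : B →ₐ[R] C :=
    { toFun := fun b => ⟨algebraMap B L b, (Algebra.IsIntegral.isIntegral b).map
        (IsScalarTower.toAlgHom R B L)⟩
      map_one' := by ext; simp
      map_mul' := by intro x y; ext; simp
      map_zero' := by ext; simp
      map_add' := by intro x y; ext; simp
      commutes' := by intro r; ext; simp [IsScalarTower.algebraMap_apply R B L] }
  let algBC : Algebra B C := ψ.toRingHom.toAlgebra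
  have towerRBC : IsScalarTower R B C := IsScalarTower.of_algebraMap_eq'
    (RingHom.ext fun r => (ψ.commutes r).symm)
  have hψinj : Function.Injective ψ := by
    intro x y hxy
    have : algebraMap B L x = algebraMap B L y := congrArg Subtype.val hxy
    exact IsFractionRing.injective B L this
  have hCintB : Algebra.IsIntegral B C := Algebra.IsIntegral.tower_top (R := R)
  -- a prime n' of C over n
  obtain ⟨n', -, hn'prime, hn'⟩ := exists_ideal_over_prime_of_isIntegral n (⊥ : Ideal C) (by
    rw [← RingHom.ker_eq_comap_bot]
    have : RingHom.ker (algebraMap B C) = ⊥ := (RingHom.injective_iff_ker_eq_bot _).1 hψinj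
    rw [this]; exact bot_le)
  -- its trace on A' is the maximal ideal
  have hm' : n'.comap (algebraMap A' C) = IsLocalRing.maximalIdeal A' := by
    apply IsLocalRing.eq_maximalIdeal
    apply isMaximal_of_isIntegral_of_isMaximal_comap (R := R)
    have : (n'.comap (algebraMap A' C)).comap (algebraMap R A') = IsLocalRing.maximalIdeal R := by
      rw [comap_comap, ← IsScalarTower.algebraMap_eq, IsScalarTower.algebraMap_eq R B C,
        ← comap_comap, hn', hn]
    rw [this]
    infer_instance
  -- a prime of A' over p
  have : FaithfulSMul R A' := inferInstance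
  obtain ⟨p', -, hp'prime, hp'⟩ := exists_ideal_over_prime_of_isIntegral p (⊥ : Ideal A') (by
    rw [← RingHom.ker_eq_comap_bot]
    have : RingHom.ker (algebraMap R A') = ⊥ :=
      (RingHom.injective_iff_ker_eq_bot _).1 (FaithfulSMul.algebraMap_injective R A')
    rw [this]; exact bot_le)
  have hp'le : p' ≤ n'.comap (algebraMap A' C) := by
    rw [hm']; exact IsLocalRing.le_maximalIdeal hp'prime.ne_top
  -- going down
  have : (n'.comap (algebraMap A' C)).IsPrime := Ideal.comap_isPrime _ _
  have : n'.LiesOver (n'.comap (algebraMap A' C)) := ⟨rfl⟩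
  obtain ⟨q', hq'le, hq'prime, hq'⟩ :=
    Ideal.exists_ideal_le_liesOver_of_le (p := p') (q := n'.comap (algebraMap A' C)) n' hp'le
  refine ⟨q'.comap (algebraMap B C), Ideal.comap_isPrime _ _, ?_, ?_⟩
  · rw [← hn']; exact Ideal.comap_mono hq'le
  · have e : q'.comap (algebraMap A' C) = p' := hq'.over.symm
    rw [comap_comap, ← IsScalarTower.algebraMap_eq, IsScalarTower.algebraMap_eq R A' C,
      ← comap_comap, e, hp']

end Groth.Agent.H25
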