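import Groth.Agent.H25.LocalLiftUnram
import Mathlib.RingTheory.Unramified.LocalRing
import Mathlib.RingTheory.RingHom.EssFiniteType

set_option autoImplicit false
universe u
open CategoryTheory CategoryTheory.Limits AlgebraicGeometry TopologicalSpace IsLocalRing

namespace Groth.Agent.H25

theorem finite_separable_quotient_iff {R S : Type*} [CommRing R] [CommRing S] [IsLocalRing R]
    [IsLocalRing S] [Algebra R S] [IsLocalHom (algebraMap R S)]
    (I : Ideal S) (hle : maximalIdeal R ≤ I.comap (algebraMap R S)) (hI : I = maximalIdeal S) :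
    (letI := (Ideal.quotientMap I (algebraMap R S) hle).toAlgebra
     Module.Finite (R ⧸ maximalIdeal R) (S ⧸ I) ∧
      Algebra.IsSeparable (R ⧸ maximalIdeal R) (S ⧸ I)) ↔
    (Module.Finite (ResidueField R) (ResidueField S) ∧
      Algebra.IsSeparable (ResidueField R) (ResidueField S)) := by
  subst hI
  have : (Ideal.quotientMap _ (algebraMap R S) hle).toAlgebra =
      (inferInstance : Algebra (ResidueField R) (ResidueField S)) :=
    Algebra.algebra_ext _ _ (fun r => rfl)
  rw [this]
  exact Iff.rfl

theorem formallyUnramified_iff_quotient {R S : Type*} [CommRing R] [CommRing S] [IsLocalRing R]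
    [IsLocalRing S] (φ : R →+* S) [IsLocalHom φ] (hφ : φ.EssFiniteType) :
    φ.FormallyUnramified ↔
      (letI := (Ideal.quotientMap ((maximalIdeal R).map φ) φ Ideal.le_comap_map).toAlgebra
      IsField (S ⧸ (maximalIdeal R).map φ) ∧
        Module.Finite (R ⧸ maximalIdeal R) (S ⧸ (maximalIdeal R).map φ) ∧
        Algebra.IsSeparable (R ⧸ maximalIdeal R) (S ⧸ (maximalIdeal R).map φ)) := by
  let := φ.toAlgebra
  have : IsLocalHom (algebraMap R S) := ‹IsLocalHom φ›
  have : Algebra.EssFiniteType R S := hφ
  change Algebra.FormallyUnramified R S ↔ _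
  constructor
  · intro h
    have hmap : (maximalIdeal R).map (algebraMap R S) = maximalIdeal S :=
      Algebra.FormallyUnramified.map_maximalIdeal
    refine ⟨?_, (finite_separable_quotient_iff _ Ideal.le_comap_map hmap).2
      ⟨inferInstance, inferInstance⟩⟩
    exact Algebra.FormallyUnramified.isField_quotient_map_maximalIdeal
  · rintro ⟨hfield, hfs⟩
    have hmax : ((maximalIdeal R).map (algebraMap R S)).IsMaximal :=
      Ideal.Quotient.maximal_of_isField _ hfield
    have hmap : (maximalIdeal R).map (algebraMap R S) = maximalIdeal S :=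
      IsLocalRing.eq_maximalIdeal hmax
    have := ((finite_separable_quotient_iff _ Ideal.le_comap_map hmap).1 hfs).2
    exact Algebra.FormallyUnramified.of_map_maximalIdeal hmap

end Groth.Agent.H25

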