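import Mathlib
import Groth.Agent.H7.LocalStd

set_option autoImplicit false
universe u
open CategoryTheory CategoryTheory.Limits AlgebraicGeometry

namespace Groth.Agent.H25.UnramLocalStr

theorem exists_etale_closedImmersion_nhd {X Y : Scheme.{u}} (f : X ⟶ Y) [LocallyOfFiniteType f]
    [FormallyUnramified f] (x : X) :
    ∃ (Y' : Scheme.{u}) (g : Y' ⟶ Y) (U : (pullback f g).Opens), Etale g ∧
      x ∈ (pullback.fst f g).base '' (U : Set ↥(pullback f g)) ∧
      IsClosedImmersion (U.ι ≫ pullback.snd f g) := by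
  obtain ⟨_, ⟨V, hV, rfl⟩, hxV, -⟩ :=
    Y.isBasis_affineOpens.exists_subset_of_mem_open (Set.mem_univ (f x)) isOpen_univ
  obtain ⟨_, ⟨W, hW, rfl⟩, hxW, hWV⟩ :=
    X.isBasis_affineOpens.exists_subset_of_mem_open (show x ∈ f ⁻¹ᵁ V from hxV)
      (V.2.preimage f.continuous)
  have hft := f.finiteType_appLE hV hW hWV
  have hun : (f.appLE V W hWV).hom.FormallyUnramified :=
    HasRingHomProperty.appLE (P := @FormallyUnramified) f inferInstance ⟨V, hV⟩ ⟨W, hW⟩ hWV
  algebraize [(f.appLE V W hWV).hom]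
  let q := (hW.primeIdealOf ⟨x, hxW⟩).asIdeal
  have hq : Algebra.IsUnramifiedAt Γ(Y, V) q := by
    have : Algebra.FormallyUnramified Γ(X, W) (Localization.AtPrime q) :=
      Algebra.FormallyUnramified.of_isLocalization q.primeCompl
    exact Algebra.FormallyUnramified.comp Γ(Y, V) Γ(X, W) _
  obtain ⟨s, hsq, P, φ, hφ⟩ :=
    Algebra.IsUnramifiedAt.exists_hasStandardEtaleSurjectionOn (R := Γ(Y, V)) q
  let D : X.Opens := X.basicOpen s
  have hD : IsAffineOpen D := hW.basicOpen s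
  have hDW : D ≤ W := X.basicOpen_le s
  have hxD : x ∈ D := (Groth.Agent.H7.mem_basicOpen_iff_notMem_primeIdealOf hW x hxW s).mpr hsq
  have hloc : IsLocalization.Away s Γ(X, D) := hW.isLocalization_basicOpen s
  let e : Localization.Away s ≃ₐ[Γ(X, W)] Γ(X, D) :=
    IsLocalization.algEquiv (Submonoid.powers s) (Localization.Away s) Γ(X, D)
  let ψ : P.Ring →+* Γ(X, D) := (e : Localization.Away s →+* Γ(X, D)).comp (φ : P.Ring →+* _)
  have hψ : Function.Surjective ψ := e.surjective.comp hφ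
  have hDV : D ≤ f ⁻¹ᵁ V := hDW.trans hWV
  have hψR : ψ.comp (algebraMap Γ(Y, V) P.Ring) = (f.appLE V D hDV).hom := by
    ext r
    change e (φ (algebraMap Γ(Y, V) P.Ring r)) = _
    rw [φ.commutes, IsScalarTower.algebraMap_apply Γ(Y, V) Γ(X, W) (Localization.Away s),
      e.commutes]
    change (X.presheaf.map (homOfLE hDW).op).hom ((f.appLE V W hWV).hom r) = _
    rw [← CommRingCat.comp_apply, Scheme.Hom.appLE_map]
  -- the étale neighbourhood
  let Y' : Scheme.{u} := Spec (CommRingCat.of P.Ring)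
  let g : Y' ⟶ Y := Spec.map (CommRingCat.ofHom (algebraMap Γ(Y, V) P.Ring)) ≫ hV.fromSpec
  have hg1 : Etale (Spec.map (CommRingCat.ofHom (algebraMap Γ(Y, V) P.Ring))) := by
    rw [HasRingHomProperty.Spec_iff (P := @Etale)]
    exact RingHom.etale_algebraMap.mpr inferInstance
  have hg : Etale g := inferInstance
  -- the closed immersion
  let c : D.toScheme ⟶ Y' := hD.isoSpec.hom ≫ Spec.map (CommRingCat.ofHom ψ)
  have hc1 : IsClosedImmersion (Spec.map (CommRingCat.ofHom ψ)) :=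
    IsClosedImmersion.spec_of_surjective _ hψ
  have hc : IsClosedImmersion c := inferInstance
  have hcg : D.ι ≫ f = c ≫ g := by
    simp only [c, g, Category.assoc]
    rw [← Spec.map_comp_assoc, ← CommRingCat.ofHom_comp, hψR, CommRingCat.ofHom_hom,
      IsAffineOpen.SpecMap_appLE_fromSpec f hV hD hDV, IsAffineOpen.isoSpec_hom_fromSpec_assoc]
  let γ : D.toScheme ⟶ pullback f g := pullback.lift D.ι c hcg
  have hγ1 : γ ≫ pullback.fst f g = D.ι := pullback.lift_fst _ _ _
  have hγ2 : γ ≫ pullback.snd f g = c := pullback.lift_snd _ _ _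
  have hγe : Etale γ := by
    have : Etale (γ ≫ pullback.fst f g) := by rw [hγ1]; infer_instance
    exact Etale.of_comp γ (pullback.fst f g)
  have hγm : Mono γ := mono_of_mono_fac hγ1
  have hγo : IsOpenImmersion γ := IsOpenImmersion.of_flat_of_mono γ
  refine ⟨Y', g, γ.opensRange, hg, ⟨γ ⟨x, hxD⟩, ⟨⟨x, hxD⟩, rfl⟩, ?_⟩, ?_⟩
  · rw [← Scheme.Hom.comp_apply, hγ1]
    rfl
  · have h1 : γ.opensRange.ι ≫ pullback.snd f g = γ.isoOpensRange.inv ≫ c := by
      rw [← cancel_epi γ.isoOpensRange.hom, Iso.hom_inv_id_assoc,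
        Scheme.Hom.isoOpensRange_hom_ι_assoc, hγ2]
    rw [h1]
    infer_instance

end Groth.Agent.H25.UnramLocalStr
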