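import Groth.Agent.H25.SchDomFibre
import Groth.Agent.H40.CD.EssFreeMain

set_option autoImplicit false
universe u v
open CategoryTheory CategoryTheory.Limits AlgebraicGeometry TopologicalSpace Opposite

namespace Groth.Agent.H25.WeilDense

open Groth.Agent.H25.SchDom Groth.Agent.H40.CD

section Factor
variable {X S S' : Scheme.{u}} (p : X ⟶ S) (g : S' ⟶ S) {ι : Type u} {Z : ι → Scheme.{u}}
  (f : ∀ i, Z i ⟶ X) {Y : Scheme.{u}} (y : Y ⟶ X) [IsClosedImmersion y]

/-- a closed immersion through which a schematically dominant family factors is an isomorphism. -/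
theorem isIso_of_isSchDom {X' Y' : Scheme.{u}} {Z' : ι → Scheme.{u}} (b : ∀ i, Z' i ⟶ X')
    (h : IsSchDom Z' b) (y' : Y' ⟶ X') [IsClosedImmersion y'] (w : ∀ i, Z' i ⟶ Y')
    (hw : ∀ i, w i ≫ y' = b i) : IsIso y' := by
  obtain rfl : b = fun i => w i ≫ y' := funext fun i => (hw i).symm
  rw [IsClosedImmersion.isIso_iff_ker_eq_bot, eq_bot_iff]
  intro U t ht
  have h1 := Scheme.Hom.ideal_ker_le y' U ht
  rw [RingHom.mem_ker] at h1
  have h2 : t = 0 := by
    apply h U.1 t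
    intro i
    change (y'.app U.1 ≫ (w i).app (y' ⁻¹ᵁ U.1)) t = 0
    rw [CommRingCat.comp_apply]
    have : (y'.app U.1) t = 0 := h1
    rw [this, map_zero]
  rw [h2]
  exact Submodule.zero_mem _

theorem factors_iff_of_isSchDomPB (h : IsSchDomPB p g f) :
    (∃ l : pullback p g ⟶ Y, l ≫ y = pullback.fst p g) ↔
      ∀ i, ∃ l : pullback (f i ≫ p) g ⟶ Y, l ≫ y = pullback.fst (f i ≫ p) g ≫ f i := by
  constructor
  · rintro ⟨l, hl⟩ i
    exact ⟨bcMapG p g f i ≫ l, by rw [Category.assoc, hl, bcMapG_fst]⟩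
  · intro H
    choose l hl using H
    haveI : IsIso (pullback.snd y (pullback.fst p g)) := by
      refine isIso_of_isSchDom (bcMapG p g f) h (pullback.snd y (pullback.fst p g))
        (fun i => pullback.lift (l i) (bcMapG p g f i) (by rw [hl, bcMapG_fst])) (fun i => ?_)
      rw [pullback.lift_snd]
    refine ⟨inv (pullback.snd y (pullback.fst p g)) ≫ pullback.fst y (pullback.fst p g), ?_⟩
    rw [Category.assoc, pullback.condition, IsIso.inv_hom_id_assoc]

end Factor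

section EssFree
variable {Z S : Scheme.{u}}

/-- a finite flat morphism to an affine Noetherian scheme has projective global sections. -/
theorem projective_appTop_of_finite_flat {W U : Scheme.{u}} [IsAffine U] [IsLocallyNoetherian U]
    (ψ : W ⟶ U) [IsFinite ψ] [Flat ψ] :
    letI := ψ.appTop.hom.toAlgebra
    Module.Projective Γ(U, ⊤) Γ(W, ⊤) := by
  letI := ψ.appTop.hom.toAlgebra
  haveI : IsAffine W := isAffine_of_isAffineHom ψ
  haveI : IsNoetherianRing Γ(U, ⊤) :=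
    IsLocallyNoetherian.component_noetherian ⟨⊤, isAffineOpen_top U⟩
  haveI : Module.Finite Γ(U, ⊤) Γ(W, ⊤) := ψ.finite_appTop
  haveI : Module.Flat Γ(U, ⊤) Γ(W, ⊤) := ψ.flat_appTop
  haveI : Module.FinitePresentation Γ(U, ⊤) Γ(W, ⊤) :=
    Module.finitePresentation_of_finite Γ(U, ⊤) Γ(W, ⊤)
  exact Module.Flat.projective_of_finitePresentation

theorem isEssentiallyFree_of_finite_flat [IsLocallyNoetherian S] (q : Z ⟶ S) [IsFinite q] [Flat q] :
    SGA3x.IsEssentiallyFree q := by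
  intro s
  obtain ⟨U, hU, hsU, -⟩ := exists_isAffineOpen_mem_and_subset (x := s) (U := ⊤) trivial
  haveI : IsAffine (U : Scheme.{u}) := hU
  haveI : IsLocallyNoetherian (U : Scheme.{u}) := inferInstance
  refine ⟨U, hsU, hU, (U : Scheme.{u}), inferInstance, 𝟙 _, inferInstance, inferInstance, ?_⟩
  intro x
  haveI : IsAffine (pullback q (𝟙 (U : Scheme.{u}) ≫ U.ι)) :=
    isAffine_of_isAffineHom (pullback.snd q (𝟙 (U : Scheme.{u}) ≫ U.ι))
  refine ⟨⊤, trivial, isAffineOpen_top _, ?_⟩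
  haveI : IsIso (⊤ : (pullback q (𝟙 (U : Scheme.{u}) ≫ U.ι)).Opens).ι :=
    (pullback q (𝟙 (U : Scheme.{u}) ≫ U.ι)).topIso.isIso_hom
  haveI : IsFinite (⊤ : (pullback q (𝟙 (U : Scheme.{u}) ≫ U.ι)).Opens).ι :=
    MorphismProperty.of_isIso @IsFinite _
  exact projective_appTop_of_finite_flat
    ((⊤ : (pullback q (𝟙 (U : Scheme.{u}) ≫ U.ι)).Opens).ι ≫ pullback.snd q (𝟙 (U : Scheme.{u}) ≫ U.ι))

end EssFree

section Core
variable {X S : Scheme.{u}} (p : X ⟶ S) {ι : Type u} {Z : ι → Scheme.{u}}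
  (f : ∀ i, Z i ⟶ X) {Y : Scheme.{u}} (y : Y ⟶ X) [IsClosedImmersion y]

theorem allIn_iff (i : ι) {S' : Scheme.{u}} (g : S' ⟶ S) :
    AllIn (f i ≫ p) (pullback.snd y (f i)) g ↔
      ∃ l : pullback (f i ≫ p) g ⟶ Y, l ≫ y = pullback.fst (f i ≫ p) g ≫ f i := by
  constructor
  · intro h
    obtain ⟨w, hw⟩ := h (pullback.fst (f i ≫ p) g) (pullback.snd (f i ≫ p) g) pullback.condition
    refine ⟨w ≫ pullback.fst y (f i), ?_⟩
    rw [Category.assoc, pullback.condition, ← Category.assoc, hw]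
  · rintro ⟨l, hl⟩ Q h t ht
    refine ⟨pullback.lift (pullback.lift h t ht ≫ l) h ?_, pullback.lift_snd _ _ _⟩
    rw [Category.assoc, hl, ← Category.assoc, pullback.lift_fst]

theorem factors_iff_ker_le {T S' : Scheme.{u}} (t : T ⟶ S) [IsClosedImmersion t] (g : S' ⟶ S) :
    (∃ g' : S' ⟶ T, g' ≫ t = g) ↔ t.ker ≤ g.ker := by
  constructor
  · rintro ⟨g', rfl⟩
    exact Scheme.Hom.le_ker_comp g' t
  · intro h
    exact ⟨IsClosedImmersion.lift t g h, IsClosedImmersion.lift_fac t g h⟩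

/-- the representing closed subschemes of the members. -/
theorem exists_closed_member [IsLocallyNoetherian S] [∀ i, IsFinite (f i ≫ p)]
    [∀ i, Flat (f i ≫ p)] (i : ι) :
    ∃ K : S.IdealSheafData, ∀ {S' : Scheme.{u}} (g : S' ⟶ S), K ≤ g.ker ↔
      ∃ l : pullback (f i ≫ p) g ⟶ Y, l ≫ y = pullback.fst (f i ≫ p) g ≫ f i := by
  obtain ⟨T, t, ht, hT⟩ := exists_closed_allIn_of_isEssentiallyFree (f i ≫ p)
    (pullback.snd y (f i)) (isEssentiallyFree_of_finite_flat (f i ≫ p))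
  refine ⟨t.ker, fun g => ?_⟩
  rw [← factors_iff_ker_le, ← hT, allIn_iff]

/-- **Representability** of the Weil restriction of a closed subscheme of `X` along `p`, when `X`
carries a fibrewise schematically dominant family of finite flat `S`-schemes. -/
theorem exists_ideal [IsLocallyNoetherian S] [LocallyOfFiniteType p] [∀ i, IsFinite (f i ≫ p)]
    [∀ i, Flat (f i ≫ p)] (hfib : ∀ s : S, IsSchDomPB p (S.fromSpecResidueField s) f) :
    ∃ K : ι → S.IdealSheafData,
      (∀ (i : ι) {S' : Scheme.{u}} (g : S' ⟶ S), K i ≤ g.ker ↔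
        ∃ l : pullback (f i ≫ p) g ⟶ Y, l ≫ y = pullback.fst (f i ≫ p) g ≫ f i) ∧
      ∀ {S' : Scheme.{u}} (g : S' ⟶ S), (⨆ i, K i) ≤ g.ker ↔
        ∃ l : pullback p g ⟶ Y, l ≫ y = pullback.fst p g := by
  haveI : IsLocallyNoetherian X := LocallyOfFiniteType.isLocallyNoetherian p
  choose K hK using fun i => exists_closed_member p f y i
  refine ⟨K, fun i S' g => hK i g, fun {S'} g => ?_⟩
  rw [factors_iff_of_isSchDomPB p g f y (isSchDomPB_of_fibres p g hfib), iSup_le_iff]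
  exact forall_congr' fun i => hK i g

end Core

section Stab
variable {S : Scheme.{u}}

/-- a directed family of ideal sheaves on a Noetherian scheme has a greatest member. -/
theorem exists_greatest_of_directed [IsNoetherian S] {ι : Type*} [Nonempty ι]
    (K : ι → S.IdealSheafData) (hdir : ∀ i j, ∃ k, K i ≤ K k ∧ K j ≤ K k) :
    ∃ i₀, ∀ i, K i ≤ K i₀ := by
  classical
  -- the local maximal indices
  have hloc : ∀ U : S.affineOpens, ∃ iU : ι, ∀ i, (K i).ideal U ≤ (K iU).ideal U := by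
    intro U
    haveI : IsNoetherianRing Γ(S, U.1) := IsLocallyNoetherian.component_noetherian U
    have hwf : WellFounded ((· > ·) : Ideal Γ(S, U.1) → Ideal Γ(S, U.1) → Prop) :=
      wellFounded_gt
    obtain ⟨_, ⟨iU, rfl⟩, hmax⟩ := hwf.has_min (Set.range fun i => (K i).ideal U)
      (Set.range_nonempty _)
    refine ⟨iU, fun i => ?_⟩
    obtain ⟨k, hik, hUk⟩ := hdir i iU
    have h1 : (K iU).ideal U ≤ (K k).ideal U := hUk U
    have h2 : ¬ (K k).ideal U > (K iU).ideal U := hmax _ ⟨k, rfl⟩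
    have h3 : (K k).ideal U = (K iU).ideal U := by
      by_contra hne
      exact h2 (lt_of_le_of_ne h1 (Ne.symm hne))
    exact (hik U).trans h3.le
  choose iU hiU using hloc
  -- a finite affine cover
  have hcov : (Set.univ : Set S) ⊆ ⋃ U : S.affineOpens, ((U.1 : S.Opens) : Set S) := by
    intro x _
    obtain ⟨U, hU, hxU, -⟩ := exists_isAffineOpen_mem_and_subset (x := x) (U := ⊤) trivial
    exact Set.mem_iUnion.mpr ⟨⟨U, hU⟩, hxU⟩
  obtain ⟨F, hF⟩ := isCompact_univ.elim_finite_subcover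
    (fun U : S.affineOpens => ((U.1 : S.Opens) : Set S)) (fun U => U.1.2) hcov
  -- an upper bound
  have hub : ∀ F' : Finset S.affineOpens, ∃ i₀, ∀ U ∈ F', K (iU U) ≤ K i₀ := by
    intro F'
    induction F' using Finset.induction_on with
    | empty => exact ⟨Classical.arbitrary ι, fun U hU => absurd hU (Finset.notMem_empty U)⟩
    | insert a s _ ih =>
      obtain ⟨i₁, hi₁⟩ := ih
      obtain ⟨k, hk1, hk2⟩ := hdir i₁ (iU a)
      refine ⟨k, fun U hU => ?_⟩
      rcases Finset.mem_insert.mp hU with rfl | hU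
      · exact hk2
      · exact (hi₁ U hU).trans hk1
  obtain ⟨i₀, hi₀⟩ := hub F
  refine ⟨i₀, fun i => ?_⟩
  refine Scheme.IdealSheafData.le_of_iSup_eq_top (fun U : F => U.1) ?_ (fun U => ?_)
  · apply top_unique
    intro x _
    obtain ⟨U, hU⟩ := Set.mem_iUnion.mp (hF (Set.mem_univ x))
    obtain ⟨hUF, hxU⟩ := Set.mem_iUnion.mp hU
    exact Opens.mem_iSup.mpr ⟨⟨U, hUF⟩, hxU⟩
  · exact (hiU U.1 i).trans (hi₀ U.1 U.2 U.1)

end Stab

section Mono
variable {X S : Scheme.{u}} (p : X ⟶ S) {ι : Type u} {Z : ι → Scheme.{u}}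
  (f : ∀ i, Z i ⟶ X) {Y : Scheme.{u}} (y : Y ⟶ X)

theorem ker_le_of_hom (K : ι → S.IdealSheafData)
    (hK : ∀ (i : ι) {S' : Scheme.{u}} (g : S' ⟶ S), K i ≤ g.ker ↔
      ∃ l : pullback (f i ≫ p) g ⟶ Y, l ≫ y = pullback.fst (f i ≫ p) g ≫ f i)
    {i k : ι} (φ : Z i ⟶ Z k) (hφ : φ ≫ f k = f i) : K i ≤ K k := by
  have h1 : K k ≤ (K k).subschemeι.ker := by rw [Scheme.IdealSheafData.ker_subschemeι]
  obtain ⟨l, hl⟩ := (hK k (K k).subschemeι).mp h1
  have h2 : K i ≤ (K k).subschemeι.ker := by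
    rw [hK i]
    refine ⟨pullback.lift (pullback.fst (f i ≫ p) (K k).subschemeι ≫ φ)
      (pullback.snd (f i ≫ p) (K k).subschemeι) ?_ ≫ l, ?_⟩
    · rw [Category.assoc, ← Category.assoc φ, hφ, pullback.condition]
    · rw [Category.assoc, hl, ← Category.assoc, pullback.lift_fst, Category.assoc, hφ]
  rwa [Scheme.IdealSheafData.ker_subschemeι] at h2

end Mono

section Grp
open MonoidalCategory CartesianMonoidalCategory MonObj GrpObj
variable {S : Scheme.{u}} (H : Over S) [GrpObj H]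

theorem pow_mul_left (m n : ℕ) :
    ((𝟙 H ^ (m * n) : H ⟶ H)).left = ((𝟙 H ^ m : H ⟶ H)).left ≫ ((𝟙 H ^ n : H ⟶ H)).left := by
  rw [← Over.comp_left, MonObj.comp_pow, Category.comp_id, pow_mul]

theorem unit_pow_left (n : ℕ) : η[H].left ≫ ((𝟙 H ^ n : H ⟶ H)).left = η[H].left := by
  rw [← Over.comp_left, MonObj.comp_pow, Category.comp_id]
  have h1 : (η[H] : 𝟙_ (Over S) ⟶ H) = 1 := MonObj.one_eq_one H
  rw [h1, one_pow]

/-- the inclusion of the `m`-torsion in the `m * n`-torsion. -/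
theorem exists_torsion_hom (m k : ℕ) (hmk : m ∣ k) :
    ∃ φ : pullback η[H].left (𝟙 H ^ m : H ⟶ H).left ⟶ pullback η[H].left (𝟙 H ^ k : H ⟶ H).left,
      φ ≫ pullback.snd η[H].left (𝟙 H ^ k : H ⟶ H).left =
        pullback.snd η[H].left (𝟙 H ^ m : H ⟶ H).left := by
  obtain ⟨n, rfl⟩ := hmk
  refine ⟨pullback.lift (pullback.fst _ _) (pullback.snd _ _) ?_, pullback.lift_snd _ _ _⟩
  rw [pow_mul_left, ← Category.assoc, ← pullback.condition, Category.assoc, unit_pow_left]

end Grp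

end Groth.Agent.H25.WeilDense
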