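import Groth.Agent.H25.WeilDense

set_option autoImplicit false
universe u v
open CategoryTheory CategoryTheory.Limits AlgebraicGeometry TopologicalSpace Opposite

namespace Groth.Agent.H25.WeilDense

open Groth.Agent.H25.SchDom Groth.Agent.H40.CD

section Transfer
variable {ι : Type u} {X' X'' : Scheme.{u}} {Z' Z'' : ι → Scheme.{u}}

/-- transfer of schematic dominance along an isomorphism of the target. -/
theorem isSchDom_of_iso (b : ∀ i, Z' i ⟶ X') (b'' : ∀ i, Z'' i ⟶ X'') (e : X' ⟶ X'') [IsIso e]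
    (r : ∀ i, Z' i ⟶ Z'' i) (hr : ∀ i, r i ≫ b'' i = b i ≫ e) (h : IsSchDom Z' b) :
    IsSchDom Z'' b'' := by
  intro V t ht
  have key : ∀ (i : ι) (φ ψ : Z' i ⟶ X'') (_ : φ = ψ), φ.app V t = 0 → ψ.app V t = 0 := by
    rintro i φ _ rfl h
    exact h
  have h1 : e.app V t = 0 := by
    apply h (e ⁻¹ᵁ V) (e.app V t)
    intro i
    have h2 : (r i ≫ b'' i).app V t = 0 := by
      change ((b'' i).app V ≫ (r i).app ((b'' i) ⁻¹ᵁ V)) t = 0
      rw [CommRingCat.comp_apply, ht i, map_zero]
    exact key i _ _ (hr i) h2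
  have hinj : Function.Injective (e.app V) := by
    haveI : IsIso (e.app V) := inferInstance
    exact ((ConcreteCategory.isIso_iff_bijective (e.app V)).mp inferInstance).1
  exact hinj (h1.trans (map_zero _).symm)

end Transfer

section Paste
variable {X S G S' : Scheme.{u}} (p : X ⟶ S) (q : G ⟶ S) (g' : S' ⟶ G) {ι : Type u}
  {Z : ι → Scheme.{u}} (f : ∀ i, Z i ⟶ X)

theorem bcMapG_snd (i : ι) :
    bcMapG p q f i ≫ pullback.snd p q = pullback.snd (f i ≫ p) q := by
  rw [bcMapG, pullback.map, pullback.lift_snd, Category.comp_id]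

/-- the comparison map for pasting. -/
noncomputable def pasteMap (i : ι) :
    pullback (f i ≫ p) (g' ≫ q) ⟶ pullback (bcMapG p q f i ≫ pullback.snd p q) g' :=
  pullback.lift
    (pullback.lift (pullback.fst (f i ≫ p) (g' ≫ q)) (pullback.snd (f i ≫ p) (g' ≫ q) ≫ g')
      (by rw [Category.assoc]; exact pullback.condition))
    (pullback.snd (f i ≫ p) (g' ≫ q))
    (by rw [bcMapG_snd, pullback.lift_snd])

theorem bcMapG_fst_assoc' {S'' : Scheme.{u}} (g : S'' ⟶ S) (i : ι) {W : Scheme.{u}} (h : X ⟶ W) :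
    bcMapG p g f i ≫ pullback.fst p g ≫ h = pullback.fst (f i ≫ p) g ≫ f i ≫ h := by
  rw [← Category.assoc, bcMapG_fst, Category.assoc]

theorem bcMapG_snd_assoc' {S'' : Scheme.{u}} (g : S'' ⟶ S) (i : ι) {W : Scheme.{u}} (h : S'' ⟶ W) :
    bcMapG p g f i ≫ pullback.snd p g ≫ h = pullback.snd (f i ≫ p) g ≫ h := by
  rw [← Category.assoc, bcMapG_snd]

theorem pasteMap_comm (i : ι) :
    pasteMap p q g' f i ≫ bcMapG (pullback.snd p q) g' (bcMapG p q f) i =
      bcMapG p (g' ≫ q) f i ≫ (pullbackLeftPullbackSndIso p q g').inv := by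
  apply pullback.hom_ext
  · apply pullback.hom_ext
    · simp only [Category.assoc, pasteMap, pullback.lift_fst,
        pullback.lift_fst_assoc, pullbackLeftPullbackSndIso_inv_fst]
    · simp only [Category.assoc, pasteMap, Category.comp_id,
        pullback.lift_fst, pullback.lift_snd, pullback.lift_snd_assoc,
        pullback.lift_fst_assoc, pullbackLeftPullbackSndIso_inv_fst_snd, bcMapG_snd_assoc']
  · simp only [Category.assoc, pasteMap, pullback.lift_snd, Category.comp_id,
      pullback.lift_snd_assoc, pullbackLeftPullbackSndIso_inv_snd_snd]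

/-- pasting: schematic dominance of the base change along `g' ≫ q` gives that of the base change
along `g'` of the family base-changed along `q`. -/
theorem isSchDomPB_paste (h : IsSchDomPB p (g' ≫ q) f) :
    IsSchDomPB (pullback.snd p q) g' (bcMapG p q f) :=
  isSchDom_of_iso (bcMapG p (g' ≫ q) f) (bcMapG (pullback.snd p q) g' (bcMapG p q f))
    (pullbackLeftPullbackSndIso p q g').inv (pasteMap p q g' f) (pasteMap_comm p q g' f) h

end Paste

open MonoidalCategory CartesianMonoidalCategory MonObj GrpObj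

section Transp
variable {S : Scheme.{u}} (H G K : Over S) [GrpObj H] [GrpObj G] [GrpObj K] (u : H ⟶ G)
  (k : K ⟶ G)

/-- the conjugation morphism `H × G ⟶ G`, `(h, g) ↦ g u(h) g⁻¹`. -/
noncomputable def conjMap : H ⊗ G ⟶ G := snd H G * (fst H G ≫ u) * (snd H G)⁻¹

theorem lift_conjMap {X' : Over S} (h : X' ⟶ H) (g : X' ⟶ G) :
    lift h g ≫ conjMap H G u = g * (h ≫ u) * g⁻¹ := by
  simp [conjMap, MonObj.comp_mul, GrpObj.comp_inv]

variable {H G K}

/-- the test point of `H` attached to a morphism `w : W ⟶ H ×_S G`. -/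
noncomputable abbrev testObj {W : Scheme.{u}} (w : W ⟶ pullback H.hom G.hom) : Over S :=
  Over.mk (w ≫ pullback.fst H.hom G.hom ≫ H.hom)

noncomputable abbrev testH {W : Scheme.{u}} (w : W ⟶ pullback H.hom G.hom) : testObj w ⟶ H :=
  Over.homMk (w ≫ pullback.fst H.hom G.hom) (by simp)

/-- from the transporter condition to a factorisation through the preimage of `K`. -/
theorem lift_of_transp {X₁ : Over S} (g : X₁ ⟶ G) {W : Scheme.{u}}
    (w : W ⟶ pullback H.hom G.hom) (v : W ⟶ X₁.left)
    (hwv : w ≫ pullback.snd H.hom G.hom = v ≫ g.left)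
    (P : ∀ {X' : Over S}, (X' ⟶ H) → Prop) (hP : P (testH w))
    (hT : ∀ (X' : Over S) (x : X' ⟶ X₁) (h : X' ⟶ H), P h →
      ∃ κ : X' ⟶ K, (x ≫ g) * (h ≫ u) * (x ≫ g)⁻¹ = κ ≫ k) :
    ∃ l : W ⟶ pullback k.left (conjMap H G u).left,
      l ≫ pullback.snd k.left (conjMap H G u).left = w := by
  have hx : v ≫ X₁.hom = (testObj w).hom := by
    have h1 := Over.w g
    show v ≫ X₁.hom = w ≫ pullback.fst H.hom G.hom ≫ H.hom
    rw [← h1, ← Category.assoc, ← hwv, Category.assoc, pullback.condition]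
  let x : testObj w ⟶ X₁ := Over.homMk v hx
  obtain ⟨κ, hκ⟩ := hT (testObj w) x (testH w) hP
  rw [← lift_conjMap] at hκ
  have h2 : (lift (testH w) (x ≫ g)).left = w := by
    rw [Over.lift_left]
    apply pullback.hom_ext
    · rw [pullback.lift_fst]
      rfl
    · rw [pullback.lift_snd, hwv]
      rfl
  have h3 := congrArg (fun φ => φ.left) hκ
  simp only [Over.comp_left] at h3
  rw [h2] at h3
  exact ⟨pullback.lift κ.left w h3.symm, pullback.lift_snd _ _ _⟩

/-- from a factorisation through the preimage of `K` to the transporter condition. -/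
theorem transp_of_lift {X₁ : Over S} (g : X₁ ⟶ G)
    (l : pullback (pullback.snd H.hom G.hom) g.left ⟶ pullback k.left (conjMap H G u).left)
    (hl : l ≫ pullback.snd k.left (conjMap H G u).left =
      pullback.fst (pullback.snd H.hom G.hom) g.left)
    (X' : Over S) (x : X' ⟶ X₁) (h : X' ⟶ H) :
    ∃ κ : X' ⟶ K, (x ≫ g) * (h ≫ u) * (x ≫ g)⁻¹ = κ ≫ k := by
  -- the point of `H × G`
  let a : X' ⟶ H ⊗ G := lift h (x ≫ g)
  have ha : a.left ≫ pullback.snd H.hom G.hom = x.left ≫ g.left := by
    have := congrArg (fun φ => φ.left) (lift_snd h (x ≫ g))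
    exact this
  let a' : X'.left ⟶ pullback (pullback.snd H.hom G.hom) g.left := pullback.lift a.left x.left ha
  have hκ' : (a' ≫ l ≫ pullback.fst k.left (conjMap H G u).left) ≫ k.left =
      (a ≫ conjMap H G u).left := by
    rw [Category.assoc, Category.assoc, pullback.condition, ← Category.assoc l, hl,
      ← Category.assoc, pullback.lift_fst]
    rfl
  refine ⟨Over.homMk (a' ≫ l ≫ pullback.fst k.left (conjMap H G u).left) ?_, ?_⟩
  · have h1 := Over.w k
    have h2 := Over.w (a ≫ conjMap H G u)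
    rw [← h1, ← Category.assoc, hκ', h2]
  · rw [← lift_conjMap]
    ext
    exact hκ'.symm

end Transp

end Groth.Agent.H25.WeilDense
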