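import Groth.Agent.H25.WeilDensePaste

set_option autoImplicit false
universe u v
open CategoryTheory CategoryTheory.Limits AlgebraicGeometry TopologicalSpace Opposite

namespace Groth.Agent.H25.WeilDense

open Groth.Agent.H25.SchDom Groth.Agent.H40.CD

section Fam
variable {X S G : Scheme.{u}} (p : X ⟶ S) (q : G ⟶ S) {J : Type u} {Z : J → Scheme.{u}}
  (f : ∀ i, Z i ⟶ X)

/-- a morphism between members of the family induces one between the base-changed members. -/
theorem exists_bc_hom {i k : J} (φ : Z i ⟶ Z k) (hφ : φ ≫ f k = f i) :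
    ∃ ψ : pullback (f i ≫ p) q ⟶ pullback (f k ≫ p) q,
      ψ ≫ bcMapG p q f k = bcMapG p q f i := by
  refine ⟨pullback.lift (pullback.fst _ _ ≫ φ) (pullback.snd _ _) ?_, ?_⟩
  · rw [Category.assoc, ← Category.assoc φ, hφ, pullback.condition]
  · apply pullback.hom_ext
    · simp only [Category.assoc, bcMapG_fst, pullback.lift_fst_assoc, hφ]
    · simp only [Category.assoc, Category.comp_id, pullback.lift_snd]

end Fam

open MonoidalCategory CartesianMonoidalCategory MonObj GrpObj

section Tors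
variable {S : Scheme.{u}} {H : Over S} [GrpObj H]

/-- a point of `H` factoring through the `n`-torsion has `n`-th power `1`. -/
theorem pow_eq_one_of_factors {X' : Over S} (h : X' ⟶ H) (n : ℕ)
    (c : X'.left ⟶ pullback η[H].left (𝟙 H ^ n : H ⟶ H).left)
    (hc : c ≫ pullback.snd η[H].left (𝟙 H ^ n : H ⟶ H).left = h.left) : h ^ n = 1 := by
  have h1 : h ^ n = h ≫ (𝟙 H ^ n : H ⟶ H) := by
    rw [MonObj.comp_pow, Category.comp_id]
  rw [h1, Hom.one_def]
  ext
  rw [Over.comp_left, Over.comp_left, ← hc, Category.assoc, ← pullback.condition,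
    Over.toUnit_left]
  have h2 := Over.w (η[H] : 𝟙_ (Over S) ⟶ H)
  have h3 := Over.w (𝟙 H ^ n : H ⟶ H)
  have h4 := Over.w h
  have h5 : (𝟙_ (Over S)).hom = 𝟙 S := rfl
  have h6 : c ≫ pullback.fst η[H].left (𝟙 H ^ n : H ⟶ H).left = X'.hom := by
    have e1 : c ≫ pullback.fst η[H].left (𝟙 H ^ n : H ⟶ H).left
        = c ≫ pullback.fst η[H].left (𝟙 H ^ n : H ⟶ H).left ≫ η[H].left ≫ H.hom := by
      rw [h2, h5]
      exact (congrArg (c ≫ ·) (Category.comp_id _)).symm
    have e2 : c ≫ pullback.fst η[H].left (𝟙 H ^ n : H ⟶ H).left ≫ η[H].left ≫ H.hom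
        = c ≫ pullback.snd η[H].left (𝟙 H ^ n : H ⟶ H).left ≫
          (𝟙 H ^ n : H ⟶ H).left ≫ H.hom := by
      rw [← Category.assoc (pullback.fst _ _), pullback.condition, Category.assoc]
    have e3 : c ≫ pullback.snd η[H].left (𝟙 H ^ n : H ⟶ H).left ≫
          (𝟙 H ^ n : H ⟶ H).left ≫ H.hom = X'.hom := by
      rw [h3, ← Category.assoc, hc, h4]
    exact e1.trans (e2.trans e3)
  rw [← Category.assoc, h6]

end Tors

end Groth.Agent.H25.WeilDense
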