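import Groth.Agent.H25.WeilDenseTors

set_option autoImplicit false
universe u v
open CategoryTheory CategoryTheory.Limits AlgebraicGeometry TopologicalSpace Opposite

namespace Groth.Agent.H25.WeilDense

open Groth.Agent.H25.SchDom Groth.Agent.H40.CD
open MonoidalCategory CartesianMonoidalCategory MonObj GrpObj

section Main
variable {S : Scheme.{u}} (H : Over S) [GrpObj H] [LocallyOfFiniteType H.hom]
  [IsLocallyNoetherian H.left]

/-- **Representability of the transporter** (SGA 3 IX 6.8-type statement): the transporter of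
`u : H ⟶ G` into a closed subgroup `K` is a closed subscheme of `G`, when `H` carries a
fibrewise schematically dense family of finite flat torsion subgroups. -/
theorem transporter_main (E : Set ℕ) (hE : E.Nonempty) (hEmul : ∀ m ∈ E, ∀ n ∈ E, m * n ∈ E)
    (hfin : ∀ i : ULift.{u} ↥E, IsFinite
      ((fun i : ULift.{u} ↥E => pullback.snd η[H].left (𝟙 H ^ (i.down.1) : H ⟶ H).left) i ≫ H.hom))
    (hfl : ∀ i : ULift.{u} ↥E, Flat
      ((fun i : ULift.{u} ↥E => pullback.snd η[H].left (𝟙 H ^ (i.down.1) : H ⟶ H).left) i ≫ H.hom))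
    (hfib₀ : ∀ s : S, IsSchDomPB H.hom (S.fromSpecResidueField s)
      (fun i : ULift.{u} ↥E => pullback.snd η[H].left (𝟙 H ^ (i.down.1) : H ⟶ H).left))
    (G K : Over S) [GrpObj G] [GrpObj K] [IsLocallyNoetherian G.left] (u : H ⟶ G)
    (k : K ⟶ G) [IsClosedImmersion k.left] :
    (∃ (T : Over S) (j : T ⟶ G), IsClosedImmersion j.left ∧
      ∀ (X : Over S) (g : X ⟶ G), (∃ t : X ⟶ T, t ≫ j = g) ↔
        ∀ (X' : Over S) (x : X' ⟶ X) (h : X' ⟶ H),
          ∃ κ : X' ⟶ K, (x ≫ g) * (h ≫ u) * (x ≫ g)⁻¹ = κ ≫ k) ∧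
    (AlgebraicGeometry.IsNoetherian G.left → ∃ n ∈ E, ∀ (X : Over S) (g : X ⟶ G),
      (∀ (X' : Over S) (x : X' ⟶ X) (h : X' ⟶ H),
          ∃ κ : X' ⟶ K, (x ≫ g) * (h ≫ u) * (x ≫ g)⁻¹ = κ ≫ k) ↔
        ∀ (X' : Over S) (x : X' ⟶ X) (h : X' ⟶ H), h ^ n = 1 →
          ∃ κ : X' ⟶ K, (x ≫ g) * (h ≫ u) * (x ≫ g)⁻¹ = κ ≫ k) := by
  classical
  -- the family over `G`
  haveI hfin' : ∀ i : ULift.{u} ↥E, IsFinite
      (bcMapG H.hom G.hom
        (fun i : ULift.{u} ↥E => pullback.snd η[H].left (𝟙 H ^ (i.down.1) : H ⟶ H).left) i ≫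
        pullback.snd H.hom G.hom) := by
    intro i
    rw [bcMapG_snd]
    haveI := hfin i
    infer_instance
  haveI hfl' : ∀ i : ULift.{u} ↥E, Flat
      (bcMapG H.hom G.hom
        (fun i : ULift.{u} ↥E => pullback.snd η[H].left (𝟙 H ^ (i.down.1) : H ⟶ H).left) i ≫
        pullback.snd H.hom G.hom) := by
    intro i
    rw [bcMapG_snd]
    haveI := hfl i
    infer_instance
  have hfib : ∀ z : G.left, IsSchDomPB (pullback.snd H.hom G.hom)
      (G.left.fromSpecResidueField z) (bcMapG H.hom G.hom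
        (fun i : ULift.{u} ↥E => pullback.snd η[H].left (𝟙 H ^ (i.down.1) : H ⟶ H).left)) := by
    intro z
    apply isSchDomPB_paste
    haveI := hfl
    exact isSchDomPB_of_fibres H.hom _ hfib₀
  obtain ⟨K', hK, hsup⟩ := exists_ideal (pullback.snd H.hom G.hom)
    (bcMapG H.hom G.hom
      (fun i : ULift.{u} ↥E => pullback.snd η[H].left (𝟙 H ^ (i.down.1) : H ⟶ H).left))
    (pullback.snd k.left (conjMap H G u).left :
      pullback k.left (conjMap H G u).left ⟶ pullback H.hom G.hom) hfib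
  -- the key equivalence
  have key : ∀ (X : Over S) (g : X ⟶ G), (⨆ i, K' i) ≤ g.left.ker ↔
      ∀ (X' : Over S) (x : X' ⟶ X) (h : X' ⟶ H),
        ∃ κ : X' ⟶ K, (x ≫ g) * (h ≫ u) * (x ≫ g)⁻¹ = κ ≫ k := by
    intro X g
    rw [hsup]
    constructor
    · rintro ⟨l, hl⟩
      exact transp_of_lift u k g l hl
    · intro hT
      exact lift_of_transp u k g (pullback.fst (pullback.snd H.hom G.hom) g.left)
        (pullback.snd (pullback.snd H.hom G.hom) g.left) pullback.condition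
        (fun _ => True) trivial (fun X' x h _ => hT X' x h)
  refine ⟨⟨Over.mk ((⨆ i, K' i).subschemeι ≫ G.hom), Over.homMk (⨆ i, K' i).subschemeι rfl,
    ?_, fun X g => ?_⟩, fun hN => ?_⟩
  · show IsClosedImmersion (⨆ i, K' i).subschemeι
    infer_instance
  · have h1 : (∃ t : X ⟶ Over.mk ((⨆ i, K' i).subschemeι ≫ G.hom),
        t ≫ Over.homMk (⨆ i, K' i).subschemeι rfl = g) ↔
        ∃ t' : X.left ⟶ (⨆ i, K' i).subscheme, t' ≫ (⨆ i, K' i).subschemeι = g.left := by
      constructor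
      · rintro ⟨t, rfl⟩
        exact ⟨t.left, rfl⟩
      · rintro ⟨t', ht'⟩
        refine ⟨Over.homMk t' ?_, ?_⟩
        · show t' ≫ ((⨆ i, K' i).subschemeι ≫ G.hom) = X.hom
          rw [← Category.assoc, ht', Over.w g]
        · ext
          exact ht'
    rw [h1, factors_iff_ker_le, Scheme.IdealSheafData.ker_subschemeι]
    exact key X g
  · haveI := hN
    haveI : Nonempty (ULift.{u} ↥E) := ⟨⟨⟨hE.some, hE.some_mem⟩⟩⟩
    have hmono : ∀ (i j : ULift.{u} ↥E), i.down.1 ∣ j.down.1 → K' i ≤ K' j := by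
      intro i j hij
      obtain ⟨φ, hφ⟩ := exists_torsion_hom H i.down.1 j.down.1 hij
      obtain ⟨ψ, hψ⟩ := exists_bc_hom H.hom G.hom
        (fun i : ULift.{u} ↥E => pullback.snd η[H].left (𝟙 H ^ (i.down.1) : H ⟶ H).left)
        (i := i) (k := j) φ hφ
      exact ker_le_of_hom (pullback.snd H.hom G.hom) _ _ K' hK (i := i) (k := j) ψ hψ
    obtain ⟨i₀, hi₀⟩ := exists_greatest_of_directed K' (fun i j =>
      ⟨⟨⟨i.down.1 * j.down.1, hEmul _ i.down.2 _ j.down.2⟩⟩,
        hmono i _ (Dvd.intro _ rfl), hmono j _ (Dvd.intro_left _ rfl)⟩)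
    refine ⟨i₀.down.1, i₀.down.2, fun X g => ⟨fun hT X' x h _ => hT X' x h, fun hTn => ?_⟩⟩
    rw [← key X g]
    refine iSup_le fun i => (hi₀ i).trans ?_
    rw [hK i₀ g.left]
    refine lift_of_transp u k g
      (pullback.fst _ g.left ≫ bcMapG H.hom G.hom
        (fun i : ULift.{u} ↥E => pullback.snd η[H].left (𝟙 H ^ (i.down.1) : H ⟶ H).left) i₀)
      (pullback.snd _ g.left) ?_ (fun h => h ^ i₀.down.1 = 1) ?_ hTn
    · rw [Category.assoc]
      exact pullback.condition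
    · refine pow_eq_one_of_factors _ i₀.down.1
        (pullback.fst _ g.left ≫ pullback.fst _ G.hom) ?_
      show _ = (pullback.fst _ g.left ≫ bcMapG H.hom G.hom
        (fun i : ULift.{u} ↥E => pullback.snd η[H].left (𝟙 H ^ (i.down.1) : H ⟶ H).left) i₀) ≫
          pullback.fst H.hom G.hom
      rw [Category.assoc, Category.assoc, bcMapG_fst]

end Main

end Groth.Agent.H25.WeilDense
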